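import Groth.Prelude.Def_SGA3b
import Mathlib.RingTheory.Flat.FaithfullyFlat.Algebra
import Mathlib.RingTheory.Flat.Stability
import Mathlib.RingTheory.Localization.Away.Basic
import Mathlib.RingTheory.Spectrum.Prime.Topology
import Mathlib.RingTheory.LocalRing.Basic
import Mathlib.RingTheory.Localization.AtPrime.Basic
import Mathlib.RingTheory.TensorProduct.MonoidAlgebra

/-!
# Splitting a group of multiplicative type around a prime
-/

open TensorProduct

universe u v

namespace Groth.Agent.MultType.Split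

noncomputable section

section Cancel

variable {R S T : Type u} [CommRing R] [CommRing S] [CommRing T] [Algebra R S] [Algebra R T] [Algebra S T]
  [IsScalarTower R S T] {A : Type v} [CommRing A] [HopfAlgebra R A]

/-- `T ⊗_S (S ⊗_R A) ≅ T ⊗_R A` as bialgebras over `T` -/
def cancel : T ⊗[S] (S ⊗[R] A) ≃ₐc[T] T ⊗[R] A :=
  BialgEquiv.ofAlgEquiv (Algebra.TensorProduct.cancelBaseChange R S T T A)
    (Algebra.TensorProduct.ext (by ext) (by ext a; simp [Algebra.algebraMap_eq_smul_one, smul_assoc]))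
    (Algebra.TensorProduct.ext (by ext) (by
      ext a
      simp [← (Coalgebra.Repr.arbitrary R a).eq, TensorProduct.tmul_sum]))

theorem cancel_tmul (t : T) (s : S) (a : A) :
    (cancel (R := R) (S := S) (T := T) (A := A)) (t ⊗ₜ[S] (s ⊗ₜ[R] a)) = (s • t) ⊗ₜ[R] a := rfl

@[simp] theorem cancel_symm_one_tmul (a : A) :
    (cancel (R := R) (S := S) (T := T)).symm (1 ⊗ₜ[R] a) = 1 ⊗ₜ[S] ((1 : S) ⊗ₜ[R] a) := rfl

end Cancel

section GroupAlgebra

variable (T : Type u) [CommRing T] (T' : Type u) [CommRing T'] [Algebra T T'] (M : Type v) [CommMonoid M]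

/-- `T' ⊗ T[M] ≅ T'[M]` as bialgebras -/
def scalarBialgEquiv : T' ⊗[T] MonoidAlgebra T M ≃ₐc[T'] MonoidAlgebra T' M :=
  BialgEquiv.ofAlgEquiv (MonoidAlgebra.scalarTensorEquiv T T')
    (Algebra.TensorProduct.ext (by ext) (by ext m; simp))
    (Algebra.TensorProduct.ext (by ext) (by ext m; simp))

end GroupAlgebra

/-- a splitting around a prime -/
structure SplitAt (R : Type u) [CommRing R] (A : Type u) [CommRing A] [HopfAlgebra R A] (p : PrimeSpectrum R) where
  T : Type u
  [commRing : CommRing T]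
  [algebra : Algebra R T]
  [flat : Module.Flat R T]
  q : PrimeSpectrum T
  comap_q : q.comap (algebraMap R T) = p
  M : Type u
  [commGroup : CommGroup M]
  equiv : T ⊗[R] A ≃ₐc[T] MonoidAlgebra T M

attribute [instance] SplitAt.commRing SplitAt.algebra SplitAt.flat SplitAt.commGroup

variable {R : Type u} [CommRing R] {A : Type u} [CommRing A] [HopfAlgebra R A]

theorem exists_splitAt (h : SGA3b.IsMultType R A) (p : PrimeSpectrum R) : Nonempty (SplitAt R A p) := by
  obtain ⟨s, hs, hloc⟩ := h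
  obtain ⟨f, hf, hfp⟩ : ∃ f ∈ s, f ∉ p.asIdeal := by
    by_contra! hcon
    exact p.isPrime.ne_top (top_le_iff.mp (hs ▸ Ideal.span_le.mpr hcon))
  obtain ⟨T, _, _, hff, M, _, ⟨e⟩⟩ := hloc f hf
  let S := Localization.Away f
  let algRT : Algebra R T := ((algebraMap S T).comp (algebraMap R S)).toAlgebra
  have : IsScalarTower R S T := IsScalarTower.of_algebraMap_eq' rfl
  have : Module.Flat R T := Module.Flat.trans R S T
  obtain ⟨q', hq'⟩ : ∃ q' : PrimeSpectrum S, q'.comap (algebraMap R S) = p := by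
    have : p ∈ Set.range (PrimeSpectrum.comap (algebraMap R S)) := by
      rw [PrimeSpectrum.localization_away_comap_range S f]; exact hfp
    exact this
  obtain ⟨q, hq⟩ := PrimeSpectrum.comap_surjective_of_faithfullyFlat (B := T) q'
  exact ⟨{ T := T, q := q, comap_q := by rw [IsScalarTower.algebraMap_eq R S T, ← hq', ← hq]; rfl,
           M := M, equiv := (cancel (R := R) (S := S) (T := T) (A := A)).symm.trans e }⟩

/-- the base change of a splitting isomorphism -/
def extendEquiv {T : Type u} [CommRing T] [Algebra R T] {M : Type u} [CommGroup M]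
    (e : T ⊗[R] A ≃ₐc[T] MonoidAlgebra T M) (T' : Type u) [CommRing T'] [Algebra R T'] [Algebra T T']
    [IsScalarTower R T T'] : T' ⊗[R] A ≃ₐc[T'] MonoidAlgebra T' M :=
  ((cancel (R := R) (S := T) (T := T') (A := A)).symm.trans
    { Bialgebra.TensorProduct.map (BialgHom.id T' T') (e : T ⊗[R] A →ₐc[T] MonoidAlgebra T M),
      Algebra.TensorProduct.congr (AlgEquiv.refl : T' ≃ₐ[T'] T') e.toAlgEquiv with }).trans
    (scalarBialgEquiv T T' M)

/-- refine a splitting along an algebra over its ring -/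
def SplitAt.extend {p : PrimeSpectrum R} (S : SplitAt R A p) (T' : Type u) [CommRing T'] [Algebra R T']
    [Algebra S.T T'] [IsScalarTower R S.T T'] [Module.Flat S.T T'] (q' : PrimeSpectrum T')
    (hq' : q'.comap (algebraMap S.T T') = S.q) : SplitAt R A p :=
  have : Module.Flat R T' := Module.Flat.trans R S.T T'
  { T := T', q := q', M := S.M
    comap_q := by
      rw [IsScalarTower.algebraMap_eq R S.T T']
      exact (congrArg (PrimeSpectrum.comap (algebraMap R S.T)) hq').trans S.comap_q
    equiv := extendEquiv S.equiv T' }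

theorem exists_splitAt_local (h : SGA3b.IsMultType R A) (p : PrimeSpectrum R) :
    ∃ S : SplitAt R A p, IsLocalRing S.T ∧ (∀ x, algebraMap R S.T x ∈ S.q.asIdeal → x ∈ p.asIdeal) ∧
      ∀ I : Ideal R, I ≤ p.asIdeal → Ideal.map (algebraMap R S.T) I ≤ Ideal.jacobson ⊥ := by
  obtain ⟨S⟩ := exists_splitAt h p
  let T' := Localization.AtPrime S.q.asIdeal
  let S' := S.extend T' (IsLocalRing.closedPoint T') (PrimeSpectrum.ext (IsLocalization.AtPrime.under_maximalIdeal T' S.q.asIdeal))
  refine ⟨S', inferInstanceAs (IsLocalRing T'), ?_, fun I hI => ?_⟩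
  · intro x hx
    have := congrArg PrimeSpectrum.asIdeal S'.comap_q
    rw [← this]
    exact hx
  · change Ideal.map (algebraMap R T') I ≤ Ideal.jacobson (⊥ : Ideal T')
    refine le_trans ?_ (le_of_eq (IsLocalRing.jacobson_eq_maximalIdeal (⊥ : Ideal T') bot_ne_top).symm)
    rw [Ideal.map_le_iff_le_comap]
    have h2 := congrArg PrimeSpectrum.asIdeal S'.comap_q
    exact hI.trans (le_of_eq h2.symm)

/-- elements killed at every prime by a flat base change vanish -/
theorem eq_zero_of_forall_flat {N : Type v} [AddCommGroup N] [Module R N] (x : N)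
    (h : ∀ p : PrimeSpectrum R, ∃ (T : Type u) (_ : CommRing T) (_ : Algebra R T) (_ : Module.Flat R T),
      (∃ q : PrimeSpectrum T, q.comap (algebraMap R T) = p) ∧ (1 : T) ⊗ₜ[R] x = 0) : x = 0 := by
  let f := LinearMap.toSpanSingleton R N x
  suffices hker : LinearMap.ker f = ⊤ by
    have h1 : (1 : R) ∈ LinearMap.ker f := hker ▸ Submodule.mem_top
    simpa [f] using h1
  by_contra hne
  obtain ⟨m, hm, hle⟩ := Ideal.exists_le_maximal (LinearMap.ker f : Ideal R) hne
  obtain ⟨T, _, _, _, ⟨q, hq⟩, hx⟩ := h ⟨m, hm.isPrime⟩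
  have hinj := Module.Flat.lTensor_preserves_injective_linearMap (M := T)
    ((LinearMap.ker f).liftQ f le_rfl) (LinearMap.ker_eq_bot.mp (Submodule.ker_liftQ_eq_bot' _ _ rfl))
  have h0 : (1 : T) ⊗ₜ[R] (Submodule.Quotient.mk (1 : R) : R ⧸ LinearMap.ker f) = 0 := by
    apply hinj
    rw [map_zero, LinearMap.lTensor_tmul]
    exact (congrArg ((1 : T) ⊗ₜ[R] ·) (show (LinearMap.ker f).liftQ f le_rfl (Submodule.Quotient.mk 1) = x from one_smul R x)).trans hx
  have h1 := congrArg (TensorProduct.tensorQuotEquivQuotSMul T (LinearMap.ker f : Ideal R)) h0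
  rw [map_zero] at h1
  have h2 : (1 : T) ∈ ((LinearMap.ker f : Ideal R) • ⊤ : Submodule R T) := by
    rw [← Submodule.Quotient.mk_eq_zero]
    refine Eq.trans ?_ h1
    exact (TensorProduct.tensorQuotEquivQuotSMul_tmul_mk (LinearMap.ker f : Ideal R) (1 : T) 1).symm.trans rfl |>.trans rfl |> fun h => by simpa using h
  rw [Ideal.smul_top_eq_map, Submodule.restrictScalars_mem] at h2
  have h3 : Ideal.map (algebraMap R T) (LinearMap.ker f : Ideal R) ≤ q.asIdeal := by
    rw [Ideal.map_le_iff_le_comap]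
    exact hle.trans (le_of_eq (congrArg PrimeSpectrum.asIdeal hq).symm)
  exact q.isPrime.ne_top ((Ideal.eq_top_iff_one _).mpr (h3 h2))

/-- flatness of a group of multiplicative type is not needed: equality is detected on splittings -/
theorem eq_of_forall_split (h : SGA3b.IsMultType R A) {x y : A}
    (hxy : ∀ (p : PrimeSpectrum R) (S : SplitAt R A p), S.equiv ((1 : S.T) ⊗ₜ[R] x) = S.equiv ((1 : S.T) ⊗ₜ[R] y)) : x = y := by
  rw [← sub_eq_zero]
  refine eq_zero_of_forall_flat (R := R) (x - y) fun p => ?_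
  obtain ⟨S⟩ := exists_splitAt h p
  refine ⟨S.T, inferInstance, inferInstance, inferInstance, ⟨S.q, S.comap_q⟩, ?_⟩
  rw [TensorProduct.tmul_sub, sub_eq_zero]
  exact S.equiv.injective (hxy p S)

variable {C : Type u} [CommRing C] [HopfAlgebra R C]

/-- the base change of a homomorphism to a splitting -/
def push {p : PrimeSpectrum R} (S : SplitAt R A p) (φ : C →ₐc[R] A) :
    S.T ⊗[R] C →ₐc[S.T] MonoidAlgebra S.T S.M :=
  (S.equiv : S.T ⊗[R] A →ₐc[S.T] MonoidAlgebra S.T S.M).comp
    (Bialgebra.TensorProduct.map (BialgHom.id S.T S.T) φ)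

@[simp] theorem push_tmul {p : PrimeSpectrum R} (S : SplitAt R A p) (φ : C →ₐc[R] A) (t : S.T) (c : C) :
    push S φ (t ⊗ₜ c) = S.equiv (t ⊗ₜ φ c) := rfl

theorem bialgHom_eq_of_forall_split (h : SGA3b.IsMultType R A) {φ ψ : C →ₐc[R] A}
    (hh : ∀ (p : PrimeSpectrum R) (S : SplitAt R A p), push S φ = push S ψ) : φ = ψ := by
  apply BialgHom.coe_toAlgHom_injective
  apply AlgHom.ext
  intro c
  exact eq_of_forall_split h fun p S => by
    have := DFunLike.congr_fun (hh p S) ((1 : S.T) ⊗ₜ[R] c)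
    simpa using this

theorem push_sub_mem {p : PrimeSpectrum R} (S : SplitAt R A p) {φ ψ : C →ₐc[R] A} {I : Ideal R}
    (h : ∀ c, φ c - ψ c ∈ Ideal.map (algebraMap R A) I) (z : S.T ⊗[R] C) (m : S.M) :
    (push S φ z).coeff m - (push S ψ z).coeff m ∈ Ideal.map (algebraMap R S.T) I := by
  induction z using TensorProduct.induction_on with
  | zero => simp
  | add z z' hz hz' =>
    simp only [map_add, MonoidAlgebra.coeff_add, Finsupp.add_apply]
    rw [add_sub_add_comm]
    exact add_mem hz hz'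
  | tmul t c =>
    rw [push_tmul, push_tmul]
    let q : MonoidAlgebra S.T S.M →+* MonoidAlgebra (S.T ⧸ Ideal.map (algebraMap R S.T) I) S.M :=
      MonoidAlgebra.mapRingHom S.M (Ideal.Quotient.mk _)
    let g : A →+* MonoidAlgebra S.T S.M :=
      (S.equiv : S.T ⊗[R] A →ₐ[S.T] MonoidAlgebra S.T S.M).toRingHom.comp
        Algebra.TensorProduct.includeRight.toRingHom
    have key : ∀ a ∈ Ideal.map (algebraMap R A) I, ∀ t : S.T, ∀ m : S.M,
        (S.equiv (t ⊗ₜ a)).coeff m ∈ Ideal.map (algebraMap R S.T) I := by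
      intro a ha t m
      have hle : Ideal.map (algebraMap R A) I ≤ RingHom.ker (q.comp g) := by
        rw [Ideal.map_le_iff_le_comap]
        intro i hi
        rw [Ideal.mem_comap, RingHom.mem_ker]
        have h1 : g (algebraMap R A i) = algebraMap S.T _ (algebraMap R S.T i) := by
          have h2 : (1 : S.T) ⊗ₜ[R] algebraMap R A i = algebraMap S.T (S.T ⊗[R] A) (algebraMap R S.T i) := by
            simp [Algebra.algebraMap_eq_smul_one, TensorProduct.tmul_smul, Algebra.TensorProduct.one_def]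
          change S.equiv ((1 : S.T) ⊗ₜ[R] algebraMap R A i) = _
          rw [h2, AlgHomClass.commutes]
        rw [RingHom.comp_apply, h1]
        simp [q, MonoidAlgebra.coe_algebraMap, Ideal.Quotient.eq_zero_iff_mem.mpr (Ideal.mem_map_of_mem _ hi)]
      have h3 : (S.equiv ((1 : S.T) ⊗ₜ a)).coeff m ∈ Ideal.map (algebraMap R S.T) I := by
        rw [← Ideal.Quotient.eq_zero_iff_mem]
        have := congrArg (fun z => MonoidAlgebra.coeff z m) (hle ha)
        simpa [q, g] using this
      have h4 : t ⊗ₜ[R] a = t • ((1 : S.T) ⊗ₜ[R] a) := by simp [TensorProduct.smul_tmul']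
      rw [h4, map_smul, MonoidAlgebra.coeff_smul, Finsupp.smul_apply, smul_eq_mul]
      exact Ideal.mul_mem_left _ _ h3
    rw [← Finsupp.sub_apply, ← MonoidAlgebra.coeff_sub, ← map_sub, ← TensorProduct.tmul_sub]
    exact key _ (h c) t m

end

end Groth.Agent.MultType.Split
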