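import Groth.Agent.MultType.Coef
import Groth.Agent.MultType.Split
import Mathlib.RingTheory.Idempotents
import Mathlib.RingTheory.HopfAlgebra.GroupLike
import Mathlib.RingTheory.Flat.Stability

/-!
# Group-like elements of group algebras over arbitrary rings
-/

open Coalgebra TensorProduct

universe u v w

namespace Groth.Agent.MultType.GroupLike

open Coef

noncomputable section

variable {T : Type u} [CommRing T] {M : Type w} [CommMonoid M]

omit [CommMonoid M] in
theorem coeff_mul_coeff [DecidableEq M] {x : MonoidAlgebra T M} (hx : IsGroupLikeElem T x) (m n : M) :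
    x.coeff m * x.coeff n = if m = n then x.coeff m else 0 := by
  have key : ∀ y : MonoidAlgebra T M,
      LinearMap.mul' T T (TensorProduct.map (coeffLin m) (coeffLin n) (comul y)) =
        if m = n then y.coeff m else 0 := by
    intro y
    induction y using MonoidAlgebra.induction_linear with
    | zero => simp
    | add y z hy hz =>
      rw [map_add, map_add, map_add, hy, hz]
      split_ifs <;> simp
    | single k r =>
      simp only [MonoidAlgebra.comul_single, CommSemiring.comul_apply, TensorProduct.map_tmul,
        MonoidAlgebra.lsingle_apply, LinearMap.mul'_apply, coeffLin_apply, MonoidAlgebra.coeff_single]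
      by_cases hm : k = m
      · subst hm
        by_cases hn : k = n
        · subst hn; simp
        · simp [Finsupp.single_eq_of_ne (Ne.symm hn), hn]
      · simp [Finsupp.single_eq_of_ne (Ne.symm hm)]
  have h := key x
  rwa [hx.comul_eq_tmul_self, TensorProduct.map_tmul, LinearMap.mul'_apply] at h

omit [CommMonoid M] in
theorem isIdempotentElem_coeff {x : MonoidAlgebra T M} (hx : IsGroupLikeElem T x) (m : M) :
    IsIdempotentElem (x.coeff m) := by
  classical
  have := coeff_mul_coeff hx m m
  rwa [if_pos rfl] at this

omit [CommMonoid M] in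
/-- group-like elements congruent modulo a nil ideal are equal -/
theorem eq_of_sub_nilpotent {x y : MonoidAlgebra T M} (hx : IsGroupLikeElem T x) (hy : IsGroupLikeElem T y)
    (h : ∀ m, IsNilpotent (x.coeff m - y.coeff m)) : x = y := by
  ext m
  exact eq_of_isNilpotent_sub_of_isIdempotentElem (isIdempotentElem_coeff hx m) (isIdempotentElem_coeff hy m) (h m)

theorem eq_of_map_eq {T' : Type v} [CommRing T'] (f : T →+* T') (hf : ∀ t ∈ RingHom.ker f, IsNilpotent t)
    {x y : MonoidAlgebra T M} (hx : IsGroupLikeElem T x) (hy : IsGroupLikeElem T y)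
    (h : MonoidAlgebra.mapRingHom M f x = MonoidAlgebra.mapRingHom M f y) : x = y := by
  refine eq_of_sub_nilpotent hx hy fun m => hf _ ?_
  rw [RingHom.mem_ker, map_sub, sub_eq_zero]
  simpa using congrArg (fun z => MonoidAlgebra.coeff z m) h

omit [CommMonoid M] in
/-- over a domain the group-like elements are the monomials -/
theorem exists_eq_single [IsDomain T] {x : MonoidAlgebra T M} (hx : IsGroupLikeElem T x) :
    ∃ m, x = MonoidAlgebra.single m 1 :=
  let ⟨m, hm⟩ := MonoidAlgebra.isGroupLikeElem_iff_mem_range_single_one.mp hx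
  ⟨m, hm.symm⟩

end

section BaseChange

noncomputable section

variable {R : Type u} [CommRing R] {A : Type v} [CommRing A] [Bialgebra R A]

theorem isGroupLikeElem_one_tmul (T : Type w) [CommRing T] [Algebra R T] {a : A} (ha : IsGroupLikeElem R a) :
    IsGroupLikeElem T ((1 : T) ⊗ₜ[R] a) where
  counit_eq_one := by simp [ha.counit_eq_one]
  comul_eq_tmul_self := by simp [ha.comul_eq_tmul_self]

variable (R A) in
/-- `T ⊗ (A ⊗ A)`-valued product of an element with itself -/
def sq (T : Type w) [CommRing T] [Algebra R T] (z : T ⊗[R] A) : T ⊗[R] (A ⊗[R] A) :=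
  Algebra.TensorProduct.map (AlgHom.id T T) (Algebra.TensorProduct.includeLeft : A →ₐ[R] A ⊗[R] A) z *
    Algebra.TensorProduct.map (AlgHom.id T T) (Algebra.TensorProduct.includeRight : A →ₐ[R] A ⊗[R] A) z

variable (R A) in
/-- base-changed counit -/
def cou (T : Type w) [CommRing T] [Algebra R T] : T ⊗[R] A →ₗ[T] T ⊗[R] R :=
  ((Bialgebra.counitAlgHom R A).toLinearMap).baseChange T

theorem iff_sq {T : Type w} [CommRing T] [Algebra R T] (z : T ⊗[R] A) :
    IsGroupLikeElem T z ↔ counit (R := T) z = 1 ∧
      (Algebra.TensorProduct.map (AlgHom.id T T) (Bialgebra.comulAlgHom R A)) z = sq R A T z := by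
  let θ := (TensorProduct.AlgebraTensorModule.distribBaseChange R T A A).symm
  have h1 : ∀ z : T ⊗[R] A, θ (comul z) = Algebra.TensorProduct.map (AlgHom.id T T) (Bialgebra.comulAlgHom R A) z := by
    intro z
    induction z using TensorProduct.induction_on with
    | zero => simp
    | add x y hx hy => simp only [map_add, hx, hy]
    | tmul t a =>
      rw [Algebra.TensorProduct.map_tmul, AlgHom.id_apply, Bialgebra.comulAlgHom_apply, TensorProduct.comul_tmul,
        ← (ℛ R a).eq]
      simp [TensorProduct.tmul_sum, θ]
  have h2 : ∀ x y : T ⊗[R] A, θ (x ⊗ₜ[T] y) =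
      Algebra.TensorProduct.map (AlgHom.id T T) (Algebra.TensorProduct.includeLeft : A →ₐ[R] A ⊗[R] A) x *
        Algebra.TensorProduct.map (AlgHom.id T T) (Algebra.TensorProduct.includeRight : A →ₐ[R] A ⊗[R] A) y := by
    intro x y
    induction x using TensorProduct.induction_on with
    | zero => simp
    | add x x' hx hx' => simp only [TensorProduct.add_tmul, map_add, hx, hx', add_mul]
    | tmul t a =>
      induction y using TensorProduct.induction_on with
      | zero => simp
      | add y y' hy hy' => simp only [TensorProduct.tmul_add, map_add, hy, hy', mul_add]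
      | tmul t' b => simp [θ]
  constructor
  · intro hz
    refine ⟨hz.counit_eq_one, ?_⟩
    rw [← h1, hz.comul_eq_tmul_self, h2]
    rfl
  · intro hz
    refine ⟨hz.1, θ.injective ?_⟩
    rw [h1, h2, hz.2]
    rfl

/-- the base change of elements along a map of coefficient rings -/
def bcMap {T : Type w} [CommRing T] [Algebra R T] {T' : Type w} [CommRing T'] [Algebra R T'] (h : T →ₐ[R] T')
    (N : Type v) [CommRing N] [Algebra R N] : T ⊗[R] N →ₐ[R] T' ⊗[R] N :=
  Algebra.TensorProduct.map h (AlgHom.id R N)

theorem bcMap_sq {T : Type w} [CommRing T] [Algebra R T] {T' : Type w} [CommRing T'] [Algebra R T'] (h : T →ₐ[R] T')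
    (z : T ⊗[R] A) : bcMap h (A ⊗[R] A) (sq R A T z) = sq R A T' (bcMap h A z) := by
  have key : ∀ (g : A →ₐ[R] A ⊗[R] A) (z : T ⊗[R] A),
      bcMap h (A ⊗[R] A) (Algebra.TensorProduct.map (AlgHom.id T T) g z) =
        Algebra.TensorProduct.map (AlgHom.id T' T') g (bcMap h A z) := by
    intro g z
    induction z using TensorProduct.induction_on with
    | zero => simp
    | add x y hx hy => simp only [map_add, hx, hy]
    | tmul t a => simp [bcMap]
  rw [sq, map_mul, key, key]
  rfl

theorem bcMap_counit {T : Type w} [CommRing T] [Algebra R T] {T' : Type w} [CommRing T'] [Algebra R T']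
    (h : T →ₐ[R] T') (z : T ⊗[R] A) : counit (R := T') (bcMap h A z) = h (counit (R := T) z) := by
  induction z using TensorProduct.induction_on with
  | zero => simp
  | add x y hx hy => simp only [map_add, hx, hy]
  | tmul t a => simp [bcMap]

theorem bcMap_comul {T : Type w} [CommRing T] [Algebra R T] {T' : Type w} [CommRing T'] [Algebra R T']
    (h : T →ₐ[R] T') (z : T ⊗[R] A) :
    bcMap h (A ⊗[R] A) (Algebra.TensorProduct.map (AlgHom.id T T) (Bialgebra.comulAlgHom R A) z) =
      Algebra.TensorProduct.map (AlgHom.id T' T') (Bialgebra.comulAlgHom R A) (bcMap h A z) := by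
  induction z using TensorProduct.induction_on with
  | zero => simp
  | add x y hx hy => simp only [map_add, hx, hy]
  | tmul t a => simp [bcMap]

theorem map_isGroupLikeElem {T : Type w} [CommRing T] [Algebra R T] {T' : Type w} [CommRing T'] [Algebra R T']
    (h : T →ₐ[R] T') {z : T ⊗[R] A} (hz : IsGroupLikeElem T z) : IsGroupLikeElem T' (bcMap h A z) := by
  rw [iff_sq] at hz ⊢
  exact ⟨by rw [bcMap_counit, hz.1, map_one], by rw [← bcMap_comul, hz.2, bcMap_sq]⟩

theorem isGroupLikeElem_of_map {T : Type w} [CommRing T] [Algebra R T] {T' : Type w} [CommRing T'] [Algebra R T']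
    [Module.Flat R A] (h : T →ₐ[R] T') (hh : Function.Injective h) {z : T ⊗[R] A}
    (hz : IsGroupLikeElem T' (bcMap h A z)) : IsGroupLikeElem T z := by
  rw [iff_sq] at hz ⊢
  have hinj : Function.Injective (bcMap h (A ⊗[R] A)) :=
    Module.Flat.rTensor_preserves_injective_linearMap h.toLinearMap hh
  refine ⟨hh ?_, hinj ?_⟩
  · rw [← bcMap_counit, hz.1, map_one]
  · rw [bcMap_comul, bcMap_sq, hz.2]

end

end BaseChange

end Groth.Agent.MultType.GroupLike
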