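import Groth.Agent.MultType.Mono
import Groth.Agent.MultType.GroupLike
import Mathlib.GroupTheory.Finiteness
import Mathlib.RingTheory.FiniteType
import Mathlib.RingTheory.RingHom.FaithfullyFlat
import Mathlib.RingTheory.LocalRing.ResidueField.Ideal
import Mathlib.RingTheory.TensorProduct.Nontrivial
import Mathlib.RingTheory.Flat.FaithfullyFlat.Basic

/-!
# Diagonalisable Hopf algebras over fields
-/

open Coalgebra TensorProduct

universe u v w

namespace Groth.Agent.MultType.Diag

open Coef Split

noncomputable section

section Field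

variable {k : Type u} [Field k] {B : Type v} [CommRing B] [HopfAlgebra k B]

/-- spanned by group-likes: a group algebra on them -/
def equivOfSpan (h : Submodule.span k {b : B | IsGroupLikeElem k b} = ⊤) :
    MonoidAlgebra k (GroupLike k B) ≃ₐc[k] B :=
  BialgEquiv.ofBijective MonoidAlgebra.liftGroupLikeBialgHom <| by
    have hlin : ∀ x : MonoidAlgebra k (GroupLike k B), MonoidAlgebra.liftGroupLikeBialgHom x =
        Finsupp.linearCombination k (GroupLike.val (R := k) (A := B)) x.coeff := by
      intro x
      induction x using MonoidAlgebra.induction_linear with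
      | zero => simp
      | add x y hx hy => rw [map_add, MonoidAlgebra.coeff_add, map_add, hx, hy]
      | single g r => simp [MonoidAlgebra.liftGroupLikeBialgHom]
    refine ⟨fun x y hxy => ?_, fun b => ?_⟩
    · rw [hlin, hlin] at hxy
      exact MonoidAlgebra.coeff_injective (linearIndep_groupLikeVal hxy)
    · have hb : b ∈ Submodule.span k (Set.range (GroupLike.val (R := k) (A := B))) := by
        have : Set.range (GroupLike.val (R := k) (A := B)) = {b : B | IsGroupLikeElem k b} :=
          Set.ext fun b => ⟨fun ⟨g, hg⟩ => hg ▸ g.isGroupLikeElem_val, fun hb => ⟨⟨b, hb⟩, rfl⟩⟩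
        rw [this, h]; trivial
      rw [← Finsupp.range_linearCombination] at hb
      obtain ⟨c, hc⟩ := hb
      exact ⟨MonoidAlgebra.coeffEquiv.symm c, (hlin _).trans (by rw [← hc]; simp)⟩

/-- a Hopf subalgebra of a group algebra is spanned by group-likes -/
theorem span_eq_top_of_injective {M : Type w} [CommGroup M] (f : B →ₐc[k] MonoidAlgebra k M)
    (hf : Function.Injective f) : Submodule.span k {b : B | IsGroupLikeElem k b} = ⊤ := by
  classical
  rw [eq_top_iff]
  intro b _
  have hz : ∀ m, (f b).coeff m ≠ 0 → ∃ g : B, IsGroupLikeElem k g ∧ f g = MonoidAlgebra.single m 1 := by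
    intro m hm
    obtain ⟨z, hz⟩ := Mono.single_mem_range f (r := (f b).coeff m) ⟨b, rfl⟩
    have hg : f (((f b).coeff m)⁻¹ • z) = MonoidAlgebra.single m 1 := by
      rw [map_smul, hz, MonoidAlgebra.smul_single, smul_eq_mul, inv_mul_cancel₀ hm]
    refine ⟨_, ⟨?_, ?_⟩, hg⟩
    · rw [← CoalgHomClass.counit_comp_apply f, hg]; simp
    · have hinj : Function.Injective
          (TensorProduct.map (f : B →ₐ[k] MonoidAlgebra k M).toLinearMap (f : B →ₐ[k] MonoidAlgebra k M).toLinearMap) :=
        by
          rw [← LinearMap.lTensor_comp_rTensor]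
          exact (Module.Flat.lTensor_preserves_injective_linearMap _ hf).comp
            (Module.Flat.rTensor_preserves_injective_linearMap _ hf)
      apply hinj
      refine (CoalgHomClass.map_comp_comul_apply f _).trans ?_
      rw [hg, TensorProduct.map_tmul]
      simp only [AlgHom.toLinearMap_apply]
      change _ = f _ ⊗ₜ f _
      rw [hg]
      simp
  choose! g hg hfg using hz
  have hb : b = ∑ m ∈ (f b).coeff.support, (f b).coeff m • g m := by
    apply hf
    rw [map_sum]
    conv_lhs => rw [← MonoidAlgebra.sum_coeff_single (f b), Finsupp.sum]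
    refine Finset.sum_congr rfl fun m hm => ?_
    rw [map_smul, hfg m (Finsupp.mem_support_iff.mp hm), MonoidAlgebra.smul_single, smul_eq_mul, mul_one]
  rw [hb]
  exact Submodule.sum_mem _ fun m hm =>
    Submodule.smul_mem _ _ (Submodule.subset_span (hg m (Finsupp.mem_support_iff.mp hm)))

end Field

theorem isDiag_of_span {k : Type u} [Field k] {A : Type u} [CommRing A] [HopfAlgebra k A]
    (h : Submodule.span k {a : A | IsGroupLikeElem k a} = ⊤) : SGA3b.IsDiag k A :=
  ⟨GroupLike k A, inferInstance, ⟨(equivOfSpan h).symm⟩⟩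

theorem group_fg_of_finiteType {R : Type u} [CommRing R] [Nontrivial R] {A : Type v} [CommRing A] [Algebra R A]
    {M : Type w} [CommGroup M] (e : A ≃ₐ[R] MonoidAlgebra R M) [Algebra.FiniteType R A] : Group.FG M :=
  MonoidAlgebra.finiteType_iff_group_fg.mp (Algebra.FiniteType.equiv inferInstance e)

theorem isDiagFT_of_span {k : Type u} [Field k] {A : Type u} [CommRing A] [HopfAlgebra k A]
    [Algebra.FiniteType k A] (h : Submodule.span k {a : A | IsGroupLikeElem k a} = ⊤) : SGA3b.IsDiagFT k A :=
  ⟨GroupLike k A, inferInstance, group_fg_of_finiteType ((equivOfSpan h).symm : A ≃ₐc[k] _).toAlgEquiv,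
    ⟨(equivOfSpan h).symm⟩⟩

theorem span_of_equiv {R : Type u} [CommRing R] {A : Type v} [CommRing A] [HopfAlgebra R A] {M : Type w}
    [CommGroup M] (e : A ≃ₐc[R] MonoidAlgebra R M) : Submodule.span R {a : A | IsGroupLikeElem R a} = ⊤ := by
  have h := congrArg (Submodule.map (e.symm : MonoidAlgebra R M →ₐ[R] A).toLinearMap)
    (MonoidAlgebra.span_isGroupLikeElem (R := R) (A := R) (G := M))
  rw [Submodule.map_span, Submodule.map_top,
    LinearMap.range_eq_top.mpr (show Function.Surjective (e.symm : MonoidAlgebra R M →ₐ[R] A).toLinearMap from e.symm.surjective)] at h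
  refine eq_top_mono (Submodule.span_mono ?_) h
  rintro _ ⟨x, hx, rfl⟩
  exact hx.map e.symm

theorem span_quotient {R : Type u} [CommRing R] {A : Type v} [CommRing A] [HopfAlgebra R A]
    (h : Submodule.span R {a : A | IsGroupLikeElem R a} = ⊤) {B : Type w} [CommRing B] [HopfAlgebra R B]
    (f : A →ₐc[R] B) (hf : Function.Surjective f) : Submodule.span R {b : B | IsGroupLikeElem R b} = ⊤ := by
  have h' := congrArg (Submodule.map (f : A →ₐ[R] B).toLinearMap) h
  rw [Submodule.map_span, Submodule.map_top,
    LinearMap.range_eq_top.mpr (show Function.Surjective (f : A →ₐ[R] B).toLinearMap from hf)] at h'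
  refine eq_top_mono (Submodule.span_mono ?_) h'
  rintro _ ⟨x, hx, rfl⟩
  exact hx.map f

section MultType

variable {R : Type u} [CommRing R] {A : Type u} [CommRing A] [HopfAlgebra R A]

/-- diagonalisable after one faithfully flat base change: of multiplicative type -/
theorem isMultType_of_diag (T : Type u) [CommRing T] [Algebra R T] [Module.FaithfullyFlat R T]
    (h : SGA3b.IsDiag T (T ⊗[R] A)) : SGA3b.IsMultType R A := by
  refine ⟨{1}, Ideal.span_singleton_one, ?_⟩
  rintro f (rfl : f = 1)
  let S := Localization.Away (1 : R)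
  let eS : R ≃ₐ[R] S := IsLocalization.atUnits R (Submonoid.powers (1 : R)) (by simp)
  let algST : Algebra S T := ((algebraMap R T).comp (eS.symm : S →+* R)).toAlgebra
  have : IsScalarTower R S T := IsScalarTower.of_algebraMap_eq' (RingHom.ext fun r => by
    change algebraMap R T r = algebraMap R T (eS.symm (algebraMap R S r))
    rw [AlgEquiv.commutes]
    rfl)
  have hff : Module.FaithfullyFlat S T := by
    rw [← RingHom.faithfullyFlat_algebraMap_iff]
    refine (RingHom.FaithfullyFlat.iff_flat_and_comap_surjective).mpr ?_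
    have h1 := (RingHom.FaithfullyFlat.iff_flat_and_comap_surjective).mp
      (RingHom.faithfullyFlat_algebraMap_iff.mpr ‹Module.FaithfullyFlat R T›)
    refine ⟨(RingHom.Flat.of_bijective eS.symm.bijective).comp h1.1, fun q => ?_⟩
    obtain ⟨q', hq'⟩ := h1.2 (q.comap (eS : R →+* S))
    refine ⟨q', ?_⟩
    apply PrimeSpectrum.ext
    ext s
    obtain ⟨r, rfl⟩ := eS.surjective s
    have h2 := congrArg (fun P => r ∈ PrimeSpectrum.asIdeal P) hq'
    simpa [RingHom.algebraMap_toAlgebra, algST] using h2
  obtain ⟨M, _, ⟨e⟩⟩ := h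
  exact ⟨T, inferInstance, inferInstance, hff, M, inferInstance, ⟨(cancel (R := R) (S := S) (T := T) (A := A)).trans e⟩⟩

theorem exists_field_split {k : Type u} [Field k] {A : Type u} [CommRing A] [HopfAlgebra k A]
    (h : SGA3b.IsMultType k A) :
    ∃ (K : Type u) (_ : Field K) (_ : Algebra k K) (M : Type u) (_ : CommGroup M),
      Nonempty (K ⊗[k] A ≃ₐc[K] MonoidAlgebra K M) := by
  obtain ⟨S⟩ := exists_splitAt h (⊥ : PrimeSpectrum k)
  let K := S.q.asIdeal.ResidueField
  let algK : Algebra k K := ((algebraMap S.T K).comp (algebraMap k S.T)).toAlgebra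
  have : IsScalarTower k S.T K := IsScalarTower.of_algebraMap_eq' rfl
  exact ⟨K, inferInstance, algK, S.M, inferInstance, ⟨extendEquiv S.equiv K⟩⟩

end MultType

end

end Groth.Agent.MultType.Diag
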