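import Groth.Prelude.Def_SGA3b
import Mathlib.RingTheory.Nakayama
import Mathlib.RingTheory.Noetherian.Basic

/-!
# Bialgebra maps to a group algebra: the coefficient functionals
-/

open Coalgebra Bialgebra TensorProduct WithConv
open scoped Pointwise

universe u v w

namespace Groth.Agent.MultType.Coef

noncomputable section

variable {R : Type u} [CommRing R] {C : Type v} [CommRing C] [Bialgebra R C] {M : Type w} [CommMonoid M]

/-- the coefficient at `m` as a linear form on the group algebra -/
def coeffLin (m : M) : MonoidAlgebra R M →ₗ[R] R where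
  toFun x := x.coeff m
  map_add' x y := by simp
  map_smul' r x := by simp

omit [CommMonoid M] in
@[simp] theorem coeffLin_apply (m : M) (x : MonoidAlgebra R M) : coeffLin m x = x.coeff m := rfl

/-- the `m`-th coefficient functional of `φ` -/
def coef (φ : C →ₐc[R] MonoidAlgebra R M) (m : M) : WithConv (C →ₗ[R] R) :=
  toConv (coeffLin m ∘ₗ (φ : C →ₐ[R] MonoidAlgebra R M).toLinearMap)

@[simp] theorem coef_apply (φ : C →ₐc[R] MonoidAlgebra R M) (m : M) (c : C) :
    coef φ m c = (φ c).coeff m := rfl

variable (φ ψ : C →ₐc[R] MonoidAlgebra R M)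

theorem coef_mul_coef [DecidableEq M] (m n : M) :
    coef φ m * coef φ n = if m = n then coef φ m else 0 := by
  apply WithConv.ext
  ext c
  have key : ∀ x : MonoidAlgebra R M,
      LinearMap.mul' R R (TensorProduct.map (coeffLin m) (coeffLin n) (comul x)) =
        if m = n then x.coeff m else 0 := by
    intro x
    induction x using MonoidAlgebra.induction_linear with
    | zero => simp
    | add x y hx hy =>
      rw [map_add, map_add, map_add, hx, hy]
      split_ifs <;> simp
    | single k r =>
      simp only [MonoidAlgebra.comul_single, CommSemiring.comul_apply, TensorProduct.map_tmul,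
        MonoidAlgebra.lsingle_apply, LinearMap.mul'_apply, coeffLin_apply, MonoidAlgebra.coeff_single]
      by_cases hm : k = m
      · subst hm
        by_cases hn : k = n
        · subst hn; simp
        · simp [Finsupp.single_eq_of_ne (Ne.symm hn), hn]
      · simp [Finsupp.single_eq_of_ne (Ne.symm hm)]
  have h := key (φ c)
  rw [← CoalgHomClass.map_comp_comul_apply φ c, TensorProduct.map_map] at h
  rw [LinearMap.convMul_apply]
  refine Eq.trans ?_ (h.trans ?_)
  · rfl
  · split_ifs <;> simp

theorem coef_mul_self (m : M) : coef φ m * coef φ m = coef φ m := by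
  classical rw [coef_mul_coef, if_pos rfl]

theorem coef_one (m : M) [DecidableEq M] : coef φ m 1 = if m = 1 then 1 else 0 := by
  rw [coef_apply, map_one, MonoidAlgebra.one_def, MonoidAlgebra.coeff_single, Finsupp.single_apply]
  simp [eq_comm]

/-- the ideal of values of the difference of two maps -/
def values : Ideal R := Ideal.span (Set.range fun x : C × M => (φ x.1).coeff x.2 - (ψ x.1).coeff x.2)

theorem coeff_sub_mem (c : C) (m : M) : (φ c).coeff m - (ψ c).coeff m ∈ values φ ψ :=
  Ideal.subset_span ⟨(c, m), rfl⟩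

theorem values_le_iff {I : Ideal R} :
    values φ ψ ≤ I ↔ ∀ c m, (φ c).coeff m - (ψ c).coeff m ∈ I := by
  rw [values, Ideal.span_le]
  exact ⟨fun h c m => h ⟨(c, m), rfl⟩, fun h x ⟨⟨c, m⟩, hx⟩ => hx ▸ h c m⟩

theorem eq_of_values_eq_bot (h : values φ ψ = ⊥) : φ = ψ := by
  apply BialgHom.coe_toAlgHom_injective
  apply AlgHom.ext
  intro c
  ext m
  have := coeff_sub_mem φ ψ c m
  rwa [h, Ideal.mem_bot, sub_eq_zero] at this

theorem convMul_mem {I J : Ideal R} {f g : WithConv (C →ₗ[R] R)} (hf : ∀ c, f c ∈ I) (hg : ∀ c, g c ∈ J)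
    (c : C) : (f * g) c ∈ I * J := by
  rw [LinearMap.convMul_apply, ← (ℛ R c).eq]
  simp only [map_sum, TensorProduct.map_tmul, LinearMap.mul'_apply]
  exact sum_mem fun i _ => Ideal.mul_mem_mul (hf _) (hg _)

/-- commuting idempotents: the difference is the cube of itself -/
theorem sub_pow_three {S : Type*} [Ring S] {a b : S} (ha : a * a = a) (hb : b * b = b) (hab : a * b = b * a) :
    (a - b) * (a - b) * (a - b) = a - b := by
  have h1 : b * a = a * b := hab.symm
  have h2 : a * b * a = a * b := by rw [mul_assoc, h1, ← mul_assoc, ha]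
  have h3 : a * b * b = a * b := by rw [mul_assoc, hb]
  simp only [sub_mul, mul_sub, ha, hb, h1, h2, h3]
  abel

/-- Commutation of all coefficient functionals. -/
def Comm : Prop := ∀ m, coef φ m * coef ψ m = coef ψ m * coef φ m

theorem comm_of_isCocomm [Coalgebra.IsCocomm R C] : Comm φ ψ := fun _ => mul_comm _ _

theorem comm_of_coef_trivial (h : ∀ m, coef ψ m = 1 ∨ coef ψ m = 0) : Comm φ ψ := fun m => by
  rcases h m with h | h <;> simp [h]

variable {φ ψ}

theorem values_le_sq (hc : Comm φ ψ) : values φ ψ ≤ values φ ψ * values φ ψ := by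
  rw [values_le_iff]
  intro c m
  have h : ∀ x, (coef φ m - coef ψ m) x ∈ values φ ψ := fun x => coeff_sub_mem φ ψ x m
  have h2 : ∀ x, ((coef φ m - coef ψ m) * (coef φ m - coef ψ m)) x ∈ values φ ψ :=
    fun x => Ideal.mul_le_left (convMul_mem h h x)
  have h3 := convMul_mem h2 h c
  rwa [sub_pow_three (coef_mul_self φ m) (coef_mul_self ψ m) (hc m)] at h3

theorem values_le_pow (hc : Comm φ ψ) (n : ℕ) : values φ ψ ≤ values φ ψ ^ (n + 1) := by
  induction n with
  | zero => simp
  | succ n ih =>
    refine (values_le_sq hc).trans ?_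
    rw [pow_succ _ (n + 1)]
    exact Ideal.mul_mono_left ih

theorem eq_of_nilpotent (hc : Comm φ ψ) {I : Ideal R} (hI : IsNilpotent I)
    (h : ∀ c m, (φ c).coeff m - (ψ c).coeff m ∈ I) : φ = ψ := by
  obtain ⟨n, hn⟩ := hI
  apply eq_of_values_eq_bot
  rw [eq_bot_iff]
  calc values φ ψ ≤ values φ ψ ^ (n + 1) := values_le_pow hc n
    _ ≤ I ^ (n + 1) := Ideal.pow_right_mono ((values_le_iff φ ψ).mpr h) _
    _ ≤ ⊥ := by rw [pow_succ, hn]; simp

theorem values_fg [Algebra.FiniteType R C] : (values φ ψ).FG := by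
  classical
  obtain ⟨s, hs⟩ := ‹Algebra.FiniteType R C›.out
  let G : Finset R := s.biUnion fun c =>
    ((φ c).coeff.support ∪ (ψ c).coeff.support).image fun m => (φ c).coeff m - (ψ c).coeff m
  refine ⟨G, le_antisymm (Ideal.span_le.mpr fun x hx => ?_) ?_⟩
  · obtain ⟨c, -, hx⟩ := Finset.mem_biUnion.mp hx
    obtain ⟨m, -, rfl⟩ := Finset.mem_image.mp hx
    exact coeff_sub_mem φ ψ c m
  · rw [values_le_iff]
    let q := (MonoidAlgebra.mapRingHom M (Ideal.Quotient.mk (Ideal.span (G : Set R))))
    suffices h : ∀ c, q (φ c) = q (ψ c) by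
      intro c m
      rw [← Ideal.Quotient.eq]
      have := congrArg (fun x => MonoidAlgebra.coeff x m) (h c)
      simpa [q] using this
    intro c
    have hc : c ∈ Algebra.adjoin R (s : Set C) := by rw [hs]; trivial
    induction hc using Algebra.adjoin_induction with
    | mem x hx =>
      ext m
      simp only [q, MonoidAlgebra.coeff_mapRingHom, Finsupp.mapRange_apply]
      rw [Ideal.Quotient.eq]
      by_cases hm : m ∈ (φ x).coeff.support ∪ (ψ x).coeff.support
      · exact Ideal.subset_span (Finset.mem_biUnion.mpr ⟨x, hx, Finset.mem_image.mpr ⟨m, hm, rfl⟩⟩)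
      · simp only [Finset.mem_union, Finsupp.mem_support_iff, not_or, ne_eq, not_not] at hm
        simp [hm.1, hm.2]
    | algebraMap r =>
      simp [AlgHomClass.commutes]
    | add x y _ _ hx hy => simp [map_add, hx, hy]
    | mul x y _ _ hx hy => simp [map_mul, hx, hy]

theorem eq_of_jacobson [Algebra.FiniteType R C] (hc : Comm φ ψ) {I : Ideal R}
    (hI : I ≤ Ideal.jacobson ⊥) (h : ∀ c m, (φ c).coeff m - (ψ c).coeff m ∈ I) : φ = ψ := by
  apply eq_of_values_eq_bot
  refine Submodule.eq_bot_of_le_smul_of_le_jacobson_bot (values φ ψ) _ values_fg ?_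
    (((values_le_iff φ ψ).mpr h).trans hI)
  exact values_le_sq hc

theorem eq_of_jacobson_of_fg (hc : Comm φ ψ) (hfg : (values φ ψ).FG) {I : Ideal R}
    (hI : I ≤ Ideal.jacobson ⊥) (h : ∀ c m, (φ c).coeff m - (ψ c).coeff m ∈ I) : φ = ψ := by
  apply eq_of_values_eq_bot
  exact Submodule.eq_bot_of_le_smul_of_le_jacobson_bot (values φ ψ) _ hfg (values_le_sq hc)
    (((values_le_iff φ ψ).mpr h).trans hI)

end

end Groth.Agent.MultType.Coef
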