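import Groth.Agent.MultType.Lift
import Groth.Agent.MultType.Coef
import Groth.Agent.MultType.Diag
import Groth.Agent.Adic.Basic
import Groth.Agent.S2978
import Mathlib.RingTheory.Flat.EquationalCriterion

/-!
# Formal homomorphisms out of an isotrivial group of multiplicative type are algebraic
-/

open Coalgebra Bialgebra TensorProduct WithConv

universe u

namespace Groth.Agent.MultType.FormalLift

open Groth.Agent.FinHopf.Deligne Groth.Agent.MultType.SqZero Groth.Agent.MultType.Lift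

noncomputable section

variable {A : Type u} [CommRing A] {R' : Type u} [CommRing R'] [Algebra A R']

/-- a linear retraction of a faithfully flat finite projective algebra -/
theorem exists_retraction [Module.FaithfullyFlat A R'] [Module.Finite A R'] [Module.Projective A R'] :
    ∃ s : R' →ₗ[A] A, s 1 = 1 := by
  let ev : (R' →ₗ[A] A) →ₗ[A] A := LinearMap.applyₗ (1 : R')
  suffices h : (LinearMap.range ev : Ideal A) = ⊤ by
    obtain ⟨s, hs⟩ := (show (1 : A) ∈ LinearMap.range ev by rw [h]; trivial)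
    exact ⟨s, hs⟩
  by_contra hne
  obtain ⟨m, hm, hle⟩ := Ideal.exists_le_maximal _ hne
  obtain ⟨t, ht⟩ := (Module.projective_def').mp ‹Module.Projective A R'›
  have h1 : (1 : R') ∈ m • (⊤ : Submodule A R') := by
    have h2 : Finsupp.linearCombination A id (t 1) = (1 : R') := LinearMap.congr_fun ht 1
    rw [← h2, Finsupp.linearCombination_apply]
    exact Submodule.sum_mem _ fun k _ =>
      Submodule.smul_mem_smul (hle ⟨(Finsupp.lapply k).comp t, rfl⟩) Submodule.mem_top
  refine Module.FaithfullyFlat.submodule_ne_top (R := A) (M := R') hm ?_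
  rw [Ideal.smul_top_eq_map] at h1 ⊢
  rw [Submodule.restrictScalars_eq_top_iff, Ideal.eq_top_iff_one]
  exact h1

theorem lin_mem {S : Type u} [CommRing S] [Algebra A S] {N : Type u} [AddCommGroup N] [Module A N]
    (g : S →ₗ[A] N) {J : Ideal A} {x : S} (hx : x ∈ Ideal.map (algebraMap A S) J) : g x ∈ J • (⊤ : Submodule A N) := by
  have hx' : x ∈ J • (⊤ : Submodule A S) := by rw [Ideal.smul_top_eq_map]; exact hx
  exact Submodule.smul_top_le_comap_smul_top J g hx'

/-- separatedness for modules embedded in free ones -/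
theorem eq_zero_of_haus (I : Ideal A) [IsHausdorff I R'] {S : Type u} [AddCommGroup S] [Module A S]
    {N : Type u} [AddCommGroup N] [Module R' N] [Module A N] [IsScalarTower A R' N] [Module.Free R' N]
    (g : S →ₗ[A] N) (hg : Function.Injective g) {x : S} (h : ∀ n, x ∈ I ^ n • (⊤ : Submodule A S)) : x = 0 := by
  apply hg
  rw [map_zero]
  let b := Module.Free.chooseBasis R' N
  apply b.repr.injective
  ext i
  rw [map_zero, Finsupp.zero_apply]
  refine IsHausdorff.haus ‹IsHausdorff I R'› _ fun n => ?_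
  rw [SModEq.zero]
  exact Submodule.smul_top_le_comap_smul_top (I ^ n)
    ((((Finsupp.lapply i).comp b.repr.toLinearMap).restrictScalars A).comp g) (h n)

variable {B : Type u} [CommRing B] [HopfAlgebra A B] {C : Type u} [CommRing C] [HopfAlgebra A C]
  {M : Type u} [CommGroup M] (e : R' ⊗[A] B ≃ₐc[R'] MonoidAlgebra R' M)

/-- coordinates -/
def ω (m : M) : B →ₗ[A] R' :=
  ((Coef.coeffLin (R := R') m).restrictScalars A) ∘ₗ
    ((e : R' ⊗[A] B →ₐ[R'] MonoidAlgebra R' M).toLinearMap.restrictScalars A) ∘ₗ TensorProduct.mk A R' B 1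

theorem ω_apply (m : M) (b : B) : ω e m b = (e ((1 : R') ⊗ₜ b)).coeff m := rfl

/-- pairing of two coordinates -/
def ω₂ (m k : M) : B ⊗[A] B →ₗ[A] R' := LinearMap.mul' A R' ∘ₗ TensorProduct.map (ω e m) (ω e k)

theorem ω₂_tmul (m k : M) (a b : B) : ω₂ e m k (a ⊗ₜ b) = ω e m a * ω e k b := by simp [ω₂]

theorem ω₂_comul [DecidableEq M] (m k : M) (b : B) : ω₂ e m k (comul b) = if m = k then ω e m b else 0 := by
  have h := congrArg (fun f : WithConv (R' ⊗[A] B →ₗ[R'] R') => f ((1 : R') ⊗ₜ[A] b))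
    (Coef.coef_mul_coef (e : R' ⊗[A] B →ₐc[R'] MonoidAlgebra R' M) m k)
  simp only [LinearMap.convMul_apply, comul_red] at h
  have key : ∀ t : B ⊗[A] B, LinearMap.mul' R' R' (TensorProduct.map
      (Coef.coef (e : R' ⊗[A] B →ₐc[R'] MonoidAlgebra R' M) m).ofConv
      (Coef.coef (e : R' ⊗[A] B →ₐc[R'] MonoidAlgebra R' M) k).ofConv (red₂ R' B t)) = ω₂ e m k t := by
    intro t
    induction t using TensorProduct.induction_on with
    | zero => simp
    | add p q hp hq => simp only [map_add, hp, hq]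
    | tmul p q => simp [red₂_tmul, ω₂_tmul]; rfl
  rw [key] at h
  rw [h]
  split_ifs <;> rfl

variable [IsNoetherianRing A] [Module.Finite A R'] [Module.FaithfullyFlat A R'] [Module.Projective A R']
  (I : Ideal A) [IsAdicComplete I A]

include e in
theorem eq_of_forall_mem {x y : B} (h : ∀ n, x - y ∈ Ideal.map (algebraMap A B) (I ^ n)) : x = y := by
  have := Adic.isAdicComplete_of_finite (A := A) (M := R') I
  obtain ⟨s, hs⟩ := exists_retraction (A := A) (R' := R')
  let N := MonoidAlgebra R' M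
  have hfree : Module.Free R' N := Module.Free.of_basis (MonoidAlgebra.basis M R')
  rw [← sub_eq_zero]
  refine eq_zero_of_haus (R' := R') I
    (((e : R' ⊗[A] B →ₐ[R'] N).toLinearMap.restrictScalars A) ∘ₗ TensorProduct.mk A R' B 1) ?_
    (fun n => by rw [Ideal.smul_top_eq_map]; exact h n)
  intro a b hab
  have h1 : (1 : R') ⊗ₜ[A] a = (1 : R') ⊗ₜ[A] b := e.toAlgEquiv.injective hab
  have h2 := congrArg (fun z => TensorProduct.lid A B (s.rTensor B z)) h1
  simpa [hs] using h2

include e in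
theorem eq_of_forall_mem₂ {x y : B ⊗[A] B} (h : ∀ n, x - y ∈ Ideal.map (algebraMap A (B ⊗[A] B)) (I ^ n)) :
    x = y := by
  have := Adic.isAdicComplete_of_finite (A := A) (M := R') I
  obtain ⟨s, hs⟩ := exists_retraction (A := A) (R' := R')
  let N := R' ⊗[A] B
  have hfree : Module.Free R' N :=
    Module.Free.of_equiv' (Module.Free.of_basis (MonoidAlgebra.basis M R')) e.toAlgEquiv.toLinearEquiv.symm
  rw [← sub_eq_zero]
  refine eq_zero_of_haus (R' := R') I (red₂ R' B).toLinearMap ?_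
    (fun n => by rw [Ideal.smul_top_eq_map]; exact h n)
  intro a b hab
  have key : ∀ t : B ⊗[A] B,
      TensorProduct.AlgebraTensorModule.distribBaseChange A R' B B ((1 : R') ⊗ₜ[A] t) = red₂ R' B t := by
    intro t
    induction t using TensorProduct.induction_on with
    | zero => simp
    | add p q hp hq => simp only [TensorProduct.tmul_add, map_add, hp, hq]
    | tmul p q => simp [red₂_tmul, TensorProduct.AlgebraTensorModule.distribBaseChange_tmul]
  have h1 : (1 : R') ⊗ₜ[A] a = (1 : R') ⊗ₜ[A] b :=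
    (TensorProduct.AlgebraTensorModule.distribBaseChange A R' B B).injective
      ((key a).trans ((hab : red₂ R' B a = red₂ R' B b).trans (key b).symm))
  have h2 := congrArg (fun z => TensorProduct.lid A (B ⊗[A] B) (s.rTensor (B ⊗[A] B) z)) h1
  simpa [hs] using h2

include e in
/-- a compatible system of homomorphisms comes from one homomorphism -/
theorem exists_hom (f : ℕ → C → B)
    (hcompat : ∀ n c, f (n + 1) c - f n c ∈ Ideal.map (algebraMap A B) (I ^ (n + 1)))
    (hφ : ∀ n, ∃ φn : (A ⧸ I ^ (n + 1)) ⊗[A] C →ₐc[A ⧸ I ^ (n + 1)] (A ⧸ I ^ (n + 1)) ⊗[A] B,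
      ∀ c, φn (1 ⊗ₜ c) = (1 : A ⧸ I ^ (n + 1)) ⊗ₜ f n c) :
    ∃ φ : C →ₐc[A] B, ∀ n c, φ c - f n c ∈ Ideal.map (algebraMap A B) (I ^ (n + 1)) := by
  classical
  have := Adic.isAdicComplete_of_finite (A := A) (M := R') I
  have : IsNoetherianRing R' := IsNoetherianRing.of_finite A R'
  obtain ⟨s, hs⟩ := exists_retraction (A := A) (R' := R')
  choose φn hφn using hφ
  -- Cauchy
  have hcauchy : ∀ c, ∀ {p q : ℕ}, p ≤ q → f q c - f p c ∈ Ideal.map (algebraMap A B) (I ^ (p + 1)) := by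
    intro c p q hpq
    induction hpq with
    | refl => simp
    | step hpq ih =>
      rw [← sub_add_sub_cancel _ (f _ c)]
      exact add_mem (Ideal.map_mono (Ideal.pow_le_pow_right (Nat.succ_le_succ hpq)) (hcompat _ c)) ih
  have hL : ∀ (c : C) (m : M), ∃ L : R', ∀ n, ω e m (f n c) ≡ L [SMOD (I ^ n • ⊤ : Submodule A R')] := by
    intro c m
    refine IsPrecomplete.prec (IsAdicComplete.toIsPrecomplete : IsPrecomplete I R') fun {p q} hpq => ?_
    rw [SModEq.sub_mem, ← neg_sub, ← map_sub, Submodule.neg_mem_iff]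
    exact lin_mem (ω e m) (Ideal.map_mono (Ideal.pow_le_pow_right (Nat.le_succ p)) (hcauchy c hpq))
  choose L hL using hL
  -- orthogonality modulo `I ^ n`
  have hcom : ∀ n c, (∑ i ∈ (ℛ A c).index, f n ((ℛ A c).left i) ⊗ₜ[A] f n ((ℛ A c).right i)) - comul (f n c) ∈
      Ideal.map (algebraMap A (B ⊗[A] B)) (I ^ (n + 1)) := by
    intro n c
    have hker : RingHom.ker (algebraMap A (A ⧸ I ^ (n + 1))) = I ^ (n + 1) := Ideal.mk_ker
    rw [← hker]
    apply red₂_ker Ideal.Quotient.mk_surjective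
    rw [map_sub, sub_eq_zero, ← comul_red, ← hφn, ← CoalgHomClass.map_comp_comul_apply (φn n), comul_red,
      ← (ℛ A c).eq]
    simp [red₂_tmul, hφn]
  have horth : ∀ c m k, (if m = k then L c m else 0) =
      ∑ i ∈ (ℛ A c).index, L ((ℛ A c).left i) m * L ((ℛ A c).right i) k := by
    intro c m k
    refine sub_eq_zero.mp (IsHausdorff.haus (IsAdicComplete.toIsHausdorff : IsHausdorff I R') _ fun n => ?_)
    rw [SModEq.zero]
    have hle : I ^ (n + 1) • (⊤ : Submodule A R') ≤ I ^ n • ⊤ :=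
      Submodule.smul_mono_left (Ideal.pow_le_pow_right (Nat.le_succ n))
    have h1 := hle (lin_mem (ω₂ e m k) (hcom n c))
    rw [map_sub, map_sum, ω₂_comul] at h1
    simp only [ω₂_tmul] at h1
    have h2 : ∑ i ∈ (ℛ A c).index, ω e m (f n ((ℛ A c).left i)) * ω e k (f n ((ℛ A c).right i)) -
        ∑ i ∈ (ℛ A c).index, L ((ℛ A c).left i) m * L ((ℛ A c).right i) k ∈ I ^ n • (⊤ : Submodule A R') := by
      rw [← Finset.sum_sub_distrib]
      refine Submodule.sum_mem _ fun i _ => ?_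
      have ha := SModEq.sub_mem.mp (hL ((ℛ A c).left i) m n)
      have hb := SModEq.sub_mem.mp (hL ((ℛ A c).right i) k n)
      rw [Ideal.smul_top_eq_map, Submodule.restrictScalars_mem] at ha hb ⊢
      have hring : ∀ p q r t : R', p * q - r * t = p * (q - t) + (p - r) * t := fun p q r t => by ring
      rw [hring]
      exact add_mem (Ideal.mul_mem_left _ _ hb) (Ideal.mul_mem_right _ _ ha)
    have h3 : (if m = k then ω e m (f n c) else 0) - (if m = k then L c m else 0) ∈ I ^ n • (⊤ : Submodule A R') := by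
      split_ifs with hmk
      · exact SModEq.sub_mem.mp (hL c m n)
      · simp
    convert sub_mem (sub_mem h2 h1) h3 using 1
    abel
  -- finite support
  have hfin : ∀ c, {m : M | L c m ≠ 0}.Finite := by
    intro c
    have h1 := Groth.Agent.S2978.result R' M (fun p => if p.1 = p.2 then L c p.1 else 0)
      (fun m m' h => if_neg h) (ℛ A c).index (fun i m => L ((ℛ A c).left i) m) (fun i m => L ((ℛ A c).right i) m)
      (fun m m' => (horth c m m').trans (Finset.sum_coe_sort _ _).symm)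
    exact (h1.image Prod.fst).subset fun m hm => ⟨(m, m), by simpa using hm, rfl⟩
  -- the limit in `R' ⊗ B`
  let sng : M → R' →ₗ[A] R' ⊗[A] B := fun m =>
    (e.symm : MonoidAlgebra R' M →ₐ[R'] R' ⊗[A] B).toLinearMap.restrictScalars A ∘ₗ
      (MonoidAlgebra.lsingle (R := R') (S := R') m).restrictScalars A
  let x : C → R' ⊗[A] B := fun c => ∑ m ∈ (hfin c).toFinset, sng m (L c m)
  let g : C → B := fun c => TensorProduct.lid A B (s.rTensor B (x c))
  have hg : ∀ c n, g c - f n c ∈ I ^ n • (⊤ : Submodule A B) := by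
    intro c n
    let T := (hfin c).toFinset ∪ (e ((1 : R') ⊗ₜ[A] f n c)).coeff.support
    have hx : x c = ∑ m ∈ T, sng m (L c m) := by
      refine Finset.sum_subset Finset.subset_union_left fun m _ hm => ?_
      rw [Set.Finite.mem_toFinset] at hm
      simp [show L c m = 0 by simpa using hm]
    have hfn : (1 : R') ⊗ₜ[A] f n c = ∑ m ∈ T, sng m (ω e m (f n c)) := by
      apply e.toAlgEquiv.injective
      rw [map_sum]
      have h4 : ∀ m r, e.toAlgEquiv (sng m r) = MonoidAlgebra.single m r := fun m r =>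
        e.toAlgEquiv.apply_symm_apply _
      simp only [h4, ω_apply]
      refine (MonoidAlgebra.sum_coeff_single (e ((1 : R') ⊗ₜ[A] f n c))).symm.trans ?_
      exact Finsupp.sum_of_support_subset _ Finset.subset_union_right _ (fun _ _ => MonoidAlgebra.single_zero _)
    have hd : x c - (1 : R') ⊗ₜ[A] f n c ∈ I ^ n • (⊤ : Submodule A (R' ⊗[A] B)) := by
      rw [hx, hfn, ← Finset.sum_sub_distrib]
      refine Submodule.sum_mem _ fun m _ => ?_
      rw [← map_sub]
      exact Submodule.smul_top_le_comap_smul_top _ (sng m)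
        (by rw [← neg_sub, Submodule.neg_mem_iff]; exact SModEq.sub_mem.mp (hL c m n))
    have := Submodule.smul_top_le_comap_smul_top _ ((TensorProduct.lid A B).toLinearMap ∘ₗ s.rTensor B) hd
    simpa [g, hs] using this
  have hg' : ∀ c n, g c - f n c ∈ Ideal.map (algebraMap A B) (I ^ (n + 1)) := by
    intro c n
    have h1 := hg c (n + 1)
    rw [Ideal.smul_top_eq_map, Submodule.restrictScalars_mem] at h1
    rw [← sub_add_sub_cancel (g c) (f (n + 1) c)]
    exact add_mem h1 (hcompat n c)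
  -- reductions of `g`
  have hq : ∀ n c, (1 : A ⧸ I ^ (n + 1)) ⊗ₜ[A] g c = φn n (1 ⊗ₜ c) := fun n c => by
    rw [hφn]
    exact (red_eq_iff (R' := A ⧸ I ^ (n + 1)) Ideal.Quotient.mk_surjective).mpr
      (by rw [Ideal.Quotient.algebraMap_eq, Ideal.mk_ker]; exact hg' c n)
  have hext : ∀ {x y : B}, (∀ n, (1 : A ⧸ I ^ (n + 1)) ⊗ₜ[A] x = (1 : A ⧸ I ^ (n + 1)) ⊗ₜ[A] y) → x = y := by
    intro x y h
    refine eq_of_forall_mem e I fun n => ?_
    have h1 := (red_eq_iff (R' := A ⧸ I ^ (n + 1)) Ideal.Quotient.mk_surjective).mp (h n)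
    rw [Ideal.Quotient.algebraMap_eq, Ideal.mk_ker] at h1
    exact Ideal.map_mono (Ideal.pow_le_pow_right (Nat.le_succ n)) h1
  let F : C →ₐ[A] B :=
    { toFun := g
      map_one' := hext fun n => by
        rw [hq, ← Algebra.TensorProduct.one_def, map_one, Algebra.TensorProduct.one_def]
      map_mul' := fun a b => hext fun n => by
        rw [hq, ← one_mul (1 : A ⧸ I ^ (n + 1)), ← Algebra.TensorProduct.tmul_mul_tmul, map_mul,
          ← Algebra.TensorProduct.tmul_mul_tmul, hq, hq]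
      map_zero' := hext fun n => by rw [hq, TensorProduct.tmul_zero, map_zero, TensorProduct.tmul_zero]
      map_add' := fun a b => hext fun n => by
        rw [hq, TensorProduct.tmul_add, map_add, TensorProduct.tmul_add, hq, hq]
      commutes' := fun a => hext fun n => by
        change (1 : A ⧸ I ^ (n + 1)) ⊗ₜ[A] g (algebraMap A C a) = _
        rw [hq, Algebra.algebraMap_eq_smul_one, Algebra.algebraMap_eq_smul_one (A := B), TensorProduct.tmul_smul,
          TensorProduct.tmul_smul, ← Algebra.TensorProduct.one_def, ← Algebra.TensorProduct.one_def,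
          ← algebraMap_smul (A ⧸ I ^ (n + 1)), map_smul, map_one, algebraMap_smul] }
  have hF : ∀ c, Algebra.TensorProduct.map F F (comul c) = comul (F c) := by
    intro c
    refine eq_of_forall_mem₂ e I fun n => ?_
    refine Ideal.map_mono (Ideal.pow_le_pow_right (Nat.le_succ n)) ?_
    have hker : RingHom.ker (algebraMap A (A ⧸ I ^ (n + 1))) = I ^ (n + 1) := Ideal.mk_ker
    rw [← hker]
    exact isHomMod_of_lift Ideal.Quotient.mk_surjective (φn n) F (hq n) c
  refine ⟨toHom (toConv F) (WithConv.ext (AlgHom.ext fun c => ?_)), fun n c => hg' c n⟩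
  exact (conv_ι_apply (toConv F) c).trans (hF c)

/-- a homomorphism at level `n` -/
def IsLevel (I : Ideal A) (n : ℕ) (f : C → B) : Prop :=
  ∃ φn : (A ⧸ I ^ (n + 1)) ⊗[A] C →ₐc[A ⧸ I ^ (n + 1)] (A ⧸ I ^ (n + 1)) ⊗[A] B,
    ∀ c, φn (1 ⊗ₜ c) = (1 : A ⧸ I ^ (n + 1)) ⊗ₜ f c

theorem isLevel_succ [Algebra.FormallySmooth A C] {l : B →ₗ[A] A} (hl : Integral.IsIntegral A B l) (I : Ideal A)
    (n : ℕ) (f : C → B) (hf : IsLevel I n f) :
    ∃ f' : C → B, IsLevel I (n + 1) f' ∧ ∀ c, f' c - f c ∈ Ideal.map (algebraMap A B) (I ^ (n + 1)) := by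
  obtain ⟨φn, hφn⟩ := hf
  let S := A ⧸ I ^ (n + 1 + 1)
  let T := A ⧸ I ^ (n + 1)
  letI : Algebra S T := (Ideal.Quotient.factor (Ideal.pow_le_pow_right (Nat.le_succ (n + 1)))).toAlgebra
  haveI : IsScalarTower A S T := IsScalarTower.of_algebraMap_eq fun a => rfl
  have hs : Function.Surjective (algebraMap S T) := Ideal.Quotient.factor_surjective _
  have hn : IsNilpotent (RingHom.ker (algebraMap S T)) := by
    refine ⟨2, ?_⟩
    have hk : RingHom.ker (algebraMap S T) = Ideal.map (algebraMap A S) (I ^ (n + 1)) :=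
      Ideal.Quotient.factor_ker _
    rw [hk, ← Ideal.map_pow, ← pow_mul, Ideal.zero_eq_bot, eq_bot_iff]
    refine le_trans (Ideal.map_mono (Ideal.pow_le_pow_right (show n + 1 + 1 ≤ (n + 1) * 2 by omega))) ?_
    exact le_of_eq (Ideal.map_quotient_self _)
  let φ₀ : T ⊗[S] (S ⊗[A] C) →ₐc[T] T ⊗[S] (S ⊗[A] B) :=
    ((Split.cancel (R := A) (S := S) (T := T) (A := B)).symm : T ⊗[A] B →ₐc[T] T ⊗[S] (S ⊗[A] B)).comp
      (φn.comp (Split.cancel (R := A) (S := S) (T := T) (A := C) : T ⊗[S] (S ⊗[A] C) →ₐc[T] T ⊗[A] C))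
  obtain ⟨ψ, hψ⟩ := Lift.exists_lift hs hn (hl.baseChange S) φ₀
  choose f' hf' using fun c : C => red_surjective (R := A) (R' := S) (S := B) Ideal.Quotient.mk_surjective (ψ (1 ⊗ₜ c))
  refine ⟨f', ⟨ψ, fun c => (hf' c).symm⟩, fun c => ?_⟩
  have h1 := congrArg (Split.cancel (R := A) (S := S) (T := T) (A := B)) (hψ ((1 : S) ⊗ₜ[A] c))
  have h2 : (Split.cancel (R := A) (S := S) (T := T) (A := B)) (φ₀ ((1 : T) ⊗ₜ[S] ((1 : S) ⊗ₜ[A] c))) =
      φn ((1 : T) ⊗ₜ[A] c) := by
    refine ((Split.cancel (R := A) (S := S) (T := T) (A := B)).toAlgEquiv.apply_symm_apply _).trans ?_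
    exact congrArg φn ((Split.cancel_tmul (R := A) (S := S) (T := T) (1 : T) (1 : S) c).trans (by rw [one_smul]))
  have h3 : (Split.cancel (R := A) (S := S) (T := T) (A := B)) ((1 : T) ⊗ₜ[S] ((1 : S) ⊗ₜ[A] f' c)) =
      (1 : T) ⊗ₜ[A] f' c := (Split.cancel_tmul (R := A) (S := S) (T := T) (1 : T) (1 : S) (f' c)).trans (by rw [one_smul])
  rw [h2, ← hf'] at h1
  replace h1 := h1.trans h3
  rw [hφn] at h1
  have h4 := (red_eq_iff (R := A) (R' := T) Ideal.Quotient.mk_surjective).mp h1.symm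
  rwa [Ideal.Quotient.algebraMap_eq, Ideal.mk_ker] at h4

include e in
/-- **formal lifting**: a homomorphism modulo `I` lifts -/
theorem exists_lift_adic [Algebra.FormallySmooth A C] {l : B →ₗ[A] A} (hl : Integral.IsIntegral A B l)
    (φ₀ : (A ⧸ I) ⊗[A] C →ₐc[A ⧸ I] (A ⧸ I) ⊗[A] B) :
    ∃ φ : C →ₐc[A] B, ∀ c, φ₀ (1 ⊗ₜ c) = (1 : A ⧸ I) ⊗ₜ φ c := by
  choose f₀ hf₀ using fun c : C =>
    red_surjective (R := A) (R' := A ⧸ I) (S := B) Ideal.Quotient.mk_surjective (φ₀ (1 ⊗ₜ c))
  have h0 : ∀ J : Ideal A, J = I → ∃ φJ : (A ⧸ J) ⊗[A] C →ₐc[A ⧸ J] (A ⧸ J) ⊗[A] B,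
      ∀ c, φJ (1 ⊗ₜ c) = (1 : A ⧸ J) ⊗ₜ f₀ c := by
    rintro J rfl
    exact ⟨φ₀, fun c => (hf₀ c).symm⟩
  choose nxt hnxt hnxt' using fun (n : ℕ) (f : {f : C → B // IsLevel I n f}) => isLevel_succ hl I n f.1 f.2
  let seq : ∀ n, {f : C → B // IsLevel I n f} := fun n =>
    Nat.rec ⟨f₀, h0 _ (pow_one I)⟩ (fun n f => ⟨nxt n f, hnxt n f⟩) n
  obtain ⟨φ, hφ⟩ := exists_hom e I (fun n => (seq n).1) (fun n c => hnxt' n (seq n) c) (fun n => (seq n).2)
  refine ⟨φ, fun c => ?_⟩
  rw [← hf₀]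
  refine ((red_eq_iff (R' := A ⧸ I) Ideal.Quotient.mk_surjective).mpr ?_).symm
  rw [Ideal.Quotient.algebraMap_eq, Ideal.mk_ker]
  exact Ideal.map_mono (le_of_eq (by rw [zero_add, pow_one])) (hφ 0 c)

end

end Groth.Agent.MultType.FormalLift
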