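import Groth.Agent.MultType.Integral
import Mathlib.RingTheory.TensorProduct.Quotient
import Mathlib.RingTheory.Smooth.Basic

/-!
# Lifting homomorphisms out of a group of multiplicative type along nilpotent ideals
-/

open Coalgebra Bialgebra TensorProduct WithConv

universe u

namespace Groth.Agent.MultType.Lift

open Groth.Agent.FinHopf.Deligne Groth.Agent.MultType.SqZero Groth.Agent.MultType.Integral

noncomputable section

section Reduction

variable {R : Type u} [CommRing R] {R' : Type u} [CommRing R'] [Algebra R R']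
  (hs : Function.Surjective (algebraMap R R'))

/-- reduction of an algebra -/
abbrev red (R' : Type u) [CommRing R'] [Algebra R R'] (S : Type u) [CommRing S] [Algebra R S] : S →ₐ[R] R' ⊗[R] S :=
  Algebra.TensorProduct.includeRight

variable {S : Type u} [CommRing S] [Algebra R S]

include hs in
theorem red_surjective : Function.Surjective (red (R := R) R' S) := by
  intro z
  induction z using TensorProduct.induction_on with
  | zero => exact ⟨0, map_zero _⟩
  | tmul r s =>
    obtain ⟨r, rfl⟩ := hs r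
    exact ⟨r • s, by simp [Algebra.algebraMap_eq_smul_one, TensorProduct.smul_tmul']⟩
  | add x y hx hy =>
    obtain ⟨a, rfl⟩ := hx
    obtain ⟨b, rfl⟩ := hy
    exact ⟨a + b, map_add _ a b⟩

include hs in
theorem red_ker : RingHom.ker (red (R := R) R' S) = Ideal.map (algebraMap R S) (RingHom.ker (algebraMap R R')) := by
  have h := Algebra.TensorProduct.rTensor_ker (R := R) (S := R) (C := S) (f := Algebra.ofId R R') hs
  apply le_antisymm
  · intro x hx
    have h1 : (1 : R) ⊗ₜ[R] x ∈ RingHom.ker (Algebra.TensorProduct.map (Algebra.ofId R R') (AlgHom.id R S)) := by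
      rw [RingHom.mem_ker, Algebra.TensorProduct.map_tmul, map_one]
      exact hx
    rw [h] at h1
    have h2 : Ideal.map (Algebra.TensorProduct.includeLeft : R →ₐ[R] R ⊗[R] S)
        (RingHom.ker (Algebra.ofId R R')) ≤
        (Ideal.map (algebraMap R S) (RingHom.ker (algebraMap R R'))).comap (Algebra.TensorProduct.lid R S) := by
      rw [Ideal.map_le_iff_le_comap]
      intro r hr
      rw [Ideal.mem_comap, Ideal.mem_comap, Algebra.TensorProduct.includeLeft_apply, Algebra.TensorProduct.lid_tmul,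
        ← Algebra.algebraMap_eq_smul_one]
      exact Ideal.mem_map_of_mem _ hr
    simpa using h2 h1
  · rw [Ideal.map_le_iff_le_comap]
    intro r hr
    rw [Ideal.mem_comap, RingHom.mem_ker, AlgHom.commutes, Algebra.TensorProduct.algebraMap_apply,
      show algebraMap R R' r = 0 from hr, TensorProduct.zero_tmul]

include hs in
theorem red_eq_iff {x y : S} :
    red (R := R) R' S x = red R' S y ↔ x - y ∈ Ideal.map (algebraMap R S) (RingHom.ker (algebraMap R R')) := by
  rw [← red_ker hs, RingHom.mem_ker, map_sub, sub_eq_zero]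

end Reduction

section Restrict

variable {R : Type u} [CommRing R] {R' : Type u} [CommRing R'] [Algebra R R']
  {A : Type u} [CommRing A] [HopfAlgebra R A] {C : Type u} [CommRing C] [HopfAlgebra R C]

variable (R' A) in
/-- reduction on `A ⊗ A` -/
def red₂ : A ⊗[R] A →ₐ[R] (R' ⊗[R] A) ⊗[R'] (R' ⊗[R] A) :=
  Algebra.TensorProduct.lift
    ((Algebra.TensorProduct.includeLeft : R' ⊗[R] A →ₐ[R'] (R' ⊗[R] A) ⊗[R'] (R' ⊗[R] A)).restrictScalars R |>.comp
      (red R' A))
    ((Algebra.TensorProduct.includeRight : R' ⊗[R] A →ₐ[R'] (R' ⊗[R] A) ⊗[R'] (R' ⊗[R] A)).restrictScalars R |>.comp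
      (red R' A))
    fun _ _ => Commute.all _ _

theorem red₂_tmul (a b : A) : red₂ R' A (a ⊗ₜ b) = ((1 : R') ⊗ₜ[R] a) ⊗ₜ[R'] ((1 : R') ⊗ₜ[R] b) := by
  simp [red₂]

theorem comul_red (a : A) : comul (R := R') ((1 : R') ⊗ₜ[R] a) = red₂ R' A (comul a) := by
  have key : ∀ s : A ⊗[R] A,
      TensorProduct.AlgebraTensorModule.tensorTensorTensorComm R R' R R' R' R' A A ((1 : R') ⊗ₜ[R'] (1 : R') ⊗ₜ[R] s) =
        red₂ R' A s := by
    intro s
    induction s using TensorProduct.induction_on with
    | zero => simp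
    | add p q hp hq => simp only [TensorProduct.tmul_add, map_add, hp, hq]
    | tmul p q => simp [red₂_tmul]
  rw [TensorProduct.comul_def]
  simp only [LinearMap.comp_apply, TensorProduct.AlgebraTensorModule.map_tmul, CommSemiring.comul_apply,
    LinearEquiv.coe_coe]
  exact key _

variable (hs : Function.Surjective (algebraMap R R'))

include hs in
theorem red₂_ker {x : A ⊗[R] A} (hx : red₂ R' A x = 0) :
    x ∈ Ideal.map (algebraMap R (A ⊗[R] A)) (RingHom.ker (algebraMap R R')) := by
  rw [← red_ker hs, RingHom.mem_ker]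
  apply (TensorProduct.AlgebraTensorModule.distribBaseChange R R' A A).injective
  rw [map_zero]
  refine Eq.trans ?_ hx
  clear hx
  change TensorProduct.AlgebraTensorModule.distribBaseChange R R' A A ((1 : R') ⊗ₜ[R] x) = _
  induction x using TensorProduct.induction_on with
  | zero => simp
  | add p q hp hq => simp only [TensorProduct.tmul_add, map_add, hp, hq]
  | tmul p q => simp [red₂_tmul, TensorProduct.AlgebraTensorModule.distribBaseChange_tmul]

theorem red₂_mem {I : Ideal R} {x : A ⊗[R] A} (hx : x ∈ Ideal.map (algebraMap R (A ⊗[R] A)) I) :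
    red₂ R' A x ∈ Ideal.map (algebraMap R' ((R' ⊗[R] A) ⊗[R'] (R' ⊗[R] A))) (Ideal.map (algebraMap R R') I) := by
  have : Ideal.map (algebraMap R (A ⊗[R] A)) I ≤
      (Ideal.map (algebraMap R' ((R' ⊗[R] A) ⊗[R'] (R' ⊗[R] A))) (Ideal.map (algebraMap R R') I)).comap (red₂ R' A) := by
    rw [Ideal.map_le_iff_le_comap]
    intro r hr
    rw [Ideal.mem_comap, Ideal.mem_comap, AlgHom.commutes, IsScalarTower.algebraMap_apply R R']
    exact Ideal.mem_map_of_mem _ (Ideal.mem_map_of_mem _ hr)
  exact this hx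

/-- restrict points along `C → R' ⊗ C` -/
def restrict (S : Type u) [CommRing S] [Algebra R S] [Algebra R' S] [IsScalarTower R R' S] :
    WithConv (R' ⊗[R] C →ₐ[R'] S) →* WithConv (C →ₐ[R] S) where
  toFun x := toConv ((x.ofConv.restrictScalars R).comp (red R' C))
  map_one' := by
    apply WithConv.ext; ext c
    change (1 : WithConv (R' ⊗[R] C →ₐ[R'] S)) ((1 : R') ⊗ₜ[R] c) = (1 : WithConv (C →ₐ[R] S)) c
    rw [AlgHom.convOne_apply, AlgHom.convOne_apply, TensorProduct.counit_tmul]
    simp [Algebra.smul_def, ← IsScalarTower.algebraMap_apply]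
  map_mul' x y := by
    apply WithConv.ext; ext c
    change (x * y) ((1 : R') ⊗ₜ[R] c) = _
    rw [AlgHom.convMul_apply, AlgHom.convMul_apply, comul_red]
    induction comul (R := R) c using TensorProduct.induction_on with
    | zero => simp
    | add p q hp hq => simp only [map_add, hp, hq]
    | tmul p q => simp [red₂_tmul]

theorem restrict_apply {S : Type u} [CommRing S] [Algebra R S] [Algebra R' S] [IsScalarTower R R' S]
    (x : WithConv (R' ⊗[R] C →ₐ[R'] S)) (c : C) : restrict (R := R) S x c = x ((1 : R') ⊗ₜ[R] c) := rfl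

end Restrict

section Hom

variable {R : Type u} [CommRing R] {A : Type u} [CommRing A] [HopfAlgebra R A] {C : Type u} [CommRing C]
  [HopfAlgebra R C]

theorem conv_ι_apply (f : WithConv (C →ₐ[R] A)) (c : C) :
    (postHom ι₁ f * postHom ι₂ f) c = Algebra.TensorProduct.map f.ofConv f.ofConv (comul c) := by
  rw [AlgHom.convMul_apply]
  induction comul (R := R) c using TensorProduct.induction_on with
  | zero => simp
  | add p q hp hq => simp only [map_add, hp, hq]
  | tmul p q => simp [postHom]

/-- `f` respects the comultiplication modulo `I` -/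
def IsHomMod (I : Ideal R) (f : C →ₐ[R] A) : Prop :=
  ∀ c, Algebra.TensorProduct.map f f (comul c) - comul (f c) ∈ Ideal.map (algebraMap R (A ⊗[R] A)) I

theorem IsHomMod.cong_defect {I : Ideal R} {f : C →ₐ[R] A} (h : IsHomMod I f) :
    Cong I (defect (toConv f)) 1 := by
  have h1 : Cong I (postHom ι₁ (toConv f) * postHom ι₂ (toConv f)) (postHom μΔ (toConv f)) := fun c => by
    rw [conv_ι_apply]; exact h c
  have h2 := h1.mul (Cong.refl (inv' (postHom μΔ (toConv f))))
  rw [mul_inv'] at h2
  exact h2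

/-- a multiplicative point is a bialgebra map -/
def toHom (F : WithConv (C →ₐ[R] A)) (hF : postHom ι₁ F * postHom ι₂ F = postHom μΔ F) : C →ₐc[R] A :=
  BialgHom.ofAlgHom F.ofConv
    (by
      set e := postHom (Bialgebra.counitAlgHom R A) F with he
      have h1 : e * e = e := by
        have h2 := congrArg (postHom (Algebra.TensorProduct.lift (Bialgebra.counitAlgHom R A)
          (Bialgebra.counitAlgHom R A) fun _ _ => Commute.all _ _)) hF
        rw [map_mul] at h2
        refine Eq.trans (congrArg₂ (· * ·) ?_ ?_) (h2.trans ?_)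
        · apply WithConv.ext; ext c; simp [e, postHom]
        · apply WithConv.ext; ext c; simp [e, postHom]
        · apply WithConv.ext; ext c
          simp only [e, postHom, MonoidHom.coe_mk, OneHom.coe_mk, ofConv_toConv, AlgHom.comp_apply,
            Bialgebra.comulAlgHom_apply]
          generalize F.ofConv c = a
          conv_rhs => rw [Bialgebra.counitAlgHom_apply, ← Coalgebra.sum_counit_smul (ℛ R a), map_sum]
          conv_lhs => rw [← (ℛ R a).eq, map_sum]
          simp [smul_eq_mul]
      have h3 : e = 1 := by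
        have h4 := congrArg (inv' e * ·) h1
        replace h4 : inv' e * (e * e) = inv' e * e := h4
        rwa [← mul_assoc, inv'_mul, one_mul] at h4
      ext c
      exact congrFun (congrArg (fun z : WithConv (C →ₐ[R] R) => (fun d => z d)) h3) c)
    (by
      ext c
      exact (conv_ι_apply F c).symm.trans (AlgHom.congr_fun (congrArg WithConv.ofConv hF) c))

@[simp] theorem toHom_apply (F : WithConv (C →ₐ[R] A)) (hF : postHom ι₁ F * postHom ι₂ F = postHom μΔ F) (c : C) :
    toHom F hF c = F c := rfl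

theorem hom_eq (φ : C →ₐc[R] A) :
    postHom ι₁ (toConv (φ : C →ₐ[R] A)) * postHom ι₂ (toConv (φ : C →ₐ[R] A)) =
      postHom μΔ (toConv (φ : C →ₐ[R] A)) := by
  apply WithConv.ext; ext c
  change _ = comul (φ c)
  rw [conv_ι_apply, ← CoalgHomClass.map_comp_comul_apply φ c]
  rfl

/-- a lift of a homomorphism is a homomorphism modulo the kernel -/
theorem isHomMod_of_lift {R' : Type u} [CommRing R'] [Algebra R R'] (hs : Function.Surjective (algebraMap R R'))
    (φ₀ : R' ⊗[R] C →ₐc[R'] R' ⊗[R] A) (f : C →ₐ[R] A) (hf : ∀ c, (1 : R') ⊗ₜ[R] f c = φ₀ (1 ⊗ₜ c)) :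
    IsHomMod (RingHom.ker (algebraMap R R')) f := by
  intro c
  apply red₂_ker hs
  rw [map_sub, sub_eq_zero]
  have key : ∀ t : C ⊗[R] C, red₂ R' A (Algebra.TensorProduct.map f f t) =
      TensorProduct.map (φ₀ : R' ⊗[R] C →ₐ[R'] R' ⊗[R] A).toLinearMap (φ₀ : R' ⊗[R] C →ₐ[R'] R' ⊗[R] A).toLinearMap
        (red₂ R' C t) := by
    intro t
    induction t using TensorProduct.induction_on with
    | zero => simp
    | add p q hp hq => simp only [map_add, hp, hq]
    | tmul p q => simp [red₂_tmul, hf]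
  rw [key, ← comul_red, ← comul_red, hf]
  exact CoalgHomClass.map_comp_comul_apply φ₀ ((1 : R') ⊗ₜ[R] c)

/-- base change of an approximate homomorphism -/
theorem IsHomMod.baseChange {I : Ideal R} {f : C →ₐ[R] A} (h : IsHomMod I f) (R' : Type u) [CommRing R']
    [Algebra R R'] :
    IsHomMod (Ideal.map (algebraMap R R') I) (Algebra.TensorProduct.map (AlgHom.id R' R') f) := by
  intro z
  induction z using TensorProduct.induction_on with
  | zero => simp
  | add p q hp hq => simp only [map_add]; rw [add_sub_add_comm]; exact add_mem hp hq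
  | tmul r c =>
    have hrc : r ⊗ₜ[R] c = r • ((1 : R') ⊗ₜ[R] c) := by simp [TensorProduct.smul_tmul']
    have key : ∀ t : C ⊗[R] C, Algebra.TensorProduct.map (Algebra.TensorProduct.map (AlgHom.id R' R') f)
        (Algebra.TensorProduct.map (AlgHom.id R' R') f) (red₂ R' C t) = red₂ R' A (Algebra.TensorProduct.map f f t) := by
      intro t
      induction t using TensorProduct.induction_on with
      | zero => simp
      | add p q hp hq => simp only [map_add, hp, hq]
      | tmul p q => simp [red₂_tmul]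
    rw [hrc, LinearMap.map_smul, map_smul, map_smul, map_smul, comul_red, key, Algebra.TensorProduct.map_tmul,
      AlgHom.id_apply, comul_red, ← smul_sub, ← map_sub, Algebra.smul_def]
    exact Ideal.mul_mem_left _ _ (red₂_mem (h c))

/-- square zero step -/
theorem exists_hom_of_sq {l : A →ₗ[R] R} (hl : IsIntegral R A l) {J : Ideal R} (hJ : J * J = ⊥) (f : C →ₐ[R] A)
    (hf : IsHomMod J f) : ∃ φ : C →ₐc[R] A, ∀ c, φ c - f c ∈ Ideal.map (algebraMap R A) J := by
  obtain ⟨F, hF, hF'⟩ := SqZero.exists_hom (hl.toMod ⊥) hJ (by simp) (toConv f) hf.cong_defect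
  exact ⟨toHom F hF', fun c => hF c⟩

variable [Algebra.FormallySmooth R C]

/-- algebra maps to a reduction lift -/
theorem exists_algHom_lift {R' : Type u} [CommRing R'] [Algebra R R'] (hs : Function.Surjective (algebraMap R R'))
    (hn : IsNilpotent (RingHom.ker (algebraMap R R'))) {S : Type u} [CommRing S] [Algebra R S]
    (g : C →ₐ[R] R' ⊗[R] S) : ∃ f : C →ₐ[R] S, ∀ c, (1 : R') ⊗ₜ[R] f c = g c := by
  have hn' : IsNilpotent (RingHom.ker (red (R := R) R' S : S →+* R' ⊗[R] S)) := by
    change IsNilpotent (RingHom.ker (red (R := R) R' S))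
    rw [red_ker hs]
    obtain ⟨n, hn⟩ := hn
    exact ⟨n, by rw [← Ideal.map_pow, hn, Ideal.zero_eq_bot, Ideal.map_bot, Ideal.zero_eq_bot]⟩
  exact ⟨Algebra.FormallySmooth.liftOfSurjective g (red R' S) (red_surjective hs) hn',
    fun c => Algebra.FormallySmooth.liftOfSurjective_apply g (red R' S) (red_surjective hs) hn' c⟩

end Hom

theorem exists_hom_of_pow : ∀ (n : ℕ) (R : Type u) [CommRing R] (I : Ideal R), I ^ (n + 1) = ⊥ →
    ∀ (A : Type u) [CommRing A] [HopfAlgebra R A] (l : A →ₗ[R] R), IsIntegral R A l →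
    ∀ (C : Type u) [CommRing C] [HopfAlgebra R C] [Algebra.FormallySmooth R C] (f : C →ₐ[R] A), IsHomMod I f →
    ∃ φ : C →ₐc[R] A, ∀ c, φ c - f c ∈ Ideal.map (algebraMap R A) I := by
  intro n
  induction n with
  | zero =>
    intro R _ I hI A _ _ l hl C _ _ _ f hf
    rw [zero_add, pow_one] at hI
    subst hI
    exact exists_hom_of_sq hl (by simp) f hf
  | succ n ih =>
    intro R _ I hI A _ _ l hl C _ _ _ f hf
    let J := I ^ (n + 1)
    have hJ : J * J = ⊥ := by
      rw [eq_bot_iff, ← hI, ← pow_add]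
      exact Ideal.pow_le_pow_right (by omega)
    have hJle : J ≤ I := Ideal.pow_le_self (Nat.succ_ne_zero n)
    have hs : Function.Surjective (algebraMap R (R ⧸ J)) := Ideal.Quotient.mk_surjective
    have hker : RingHom.ker (algebraMap R (R ⧸ J)) = J := Ideal.mk_ker
    obtain ⟨φ', hφ'⟩ := ih (R ⧸ J) (Ideal.map (algebraMap R (R ⧸ J)) I)
      (by rw [← Ideal.map_pow]; exact Ideal.map_quotient_self J)
      ((R ⧸ J) ⊗[R] A) (SqZero.Λ l (R ⧸ J)) (hl.baseChange (R ⧸ J))
      ((R ⧸ J) ⊗[R] C) _ (hf.baseChange (R ⧸ J))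
    obtain ⟨g, hg⟩ := exists_algHom_lift (C := C) hs (by rw [hker]; exact ⟨2, by rw [pow_two, hJ]; rfl⟩)
      (((φ' : (R ⧸ J) ⊗[R] C →ₐ[R ⧸ J] (R ⧸ J) ⊗[R] A).restrictScalars R).comp (red (R ⧸ J) C))
    have hg' : IsHomMod J g := hker ▸ isHomMod_of_lift hs φ' g hg
    obtain ⟨φ, hφ⟩ := exists_hom_of_sq hl hJ g hg'
    refine ⟨φ, fun c => ?_⟩
    rw [← sub_add_sub_cancel (φ c) (g c) (f c)]
    refine add_mem (Ideal.map_mono hJle (hφ c)) ?_
    obtain ⟨x, hx, hxe⟩ : ∃ x ∈ Ideal.map (algebraMap R A) I,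
        red (R ⧸ J) A x = red (R ⧸ J) A (g c - f c) := by
      have h1 : red (R ⧸ J) A (g c - f c) ∈ Ideal.map (red (R := R) (R ⧸ J) A) (Ideal.map (algebraMap R A) I) := by
        have hle : Ideal.map (algebraMap (R ⧸ J) ((R ⧸ J) ⊗[R] A)) (Ideal.map (algebraMap R (R ⧸ J)) I) ≤
            Ideal.map (red (R := R) (R ⧸ J) A) (Ideal.map (algebraMap R A) I) := by
          rw [Ideal.map_map, ← IsScalarTower.algebraMap_eq, Ideal.map_le_iff_le_comap]
          intro i hi
          rw [Ideal.mem_comap, ← (red (R := R) (R ⧸ J) A).commutes i]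
          exact Ideal.mem_map_of_mem _ (Ideal.mem_map_of_mem _ hi)
        refine hle ?_
        rw [map_sub]
        have h2 := hφ' ((1 : R ⧸ J) ⊗ₜ[R] c)
        rw [Algebra.TensorProduct.map_tmul, AlgHom.id_apply] at h2
        change (1 : R ⧸ J) ⊗ₜ[R] g c - (1 : R ⧸ J) ⊗ₜ[R] f c ∈ _
        rw [hg]
        exact h2
      exact (Ideal.mem_map_iff_of_surjective _ (red_surjective hs)).mp h1
    have h3 := (red_eq_iff hs).mp hxe.symm
    rw [hker] at h3
    rw [← sub_add_cancel (g c - f c) x]
    exact add_mem (Ideal.map_mono hJle h3) hx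

variable {R : Type u} [CommRing R] {A : Type u} [CommRing A] [HopfAlgebra R A] {C : Type u} [CommRing C]
  [HopfAlgebra R C] [Algebra.FormallySmooth R C]

/-- **lifting homomorphisms** -/
theorem exists_lift {R' : Type u} [CommRing R'] [Algebra R R'] (hs : Function.Surjective (algebraMap R R'))
    (hn : IsNilpotent (RingHom.ker (algebraMap R R'))) {l : A →ₗ[R] R} (hl : IsIntegral R A l)
    (φ₀ : R' ⊗[R] C →ₐc[R'] R' ⊗[R] A) :
    ∃ φ : C →ₐc[R] A, ∀ c, φ₀ (1 ⊗ₜ c) = (1 : R') ⊗ₜ[R] φ c := by
  obtain ⟨f, hf⟩ := exists_algHom_lift (C := C) hs hn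
    (((φ₀ : R' ⊗[R] C →ₐ[R'] R' ⊗[R] A).restrictScalars R).comp (red R' C))
  obtain ⟨n, hn⟩ := hn
  obtain ⟨φ, hφ⟩ := exists_hom_of_pow n R (RingHom.ker (algebraMap R R'))
    (by rw [pow_succ, hn]; simp) A l hl C f (isHomMod_of_lift hs φ₀ f hf)
  exact ⟨φ, fun c => (hf c).symm.trans ((red_eq_iff hs).mpr (hφ c)).symm⟩

end

end Groth.Agent.MultType.Lift
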