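import Groth.Agent.MultType.GLLift
import Groth.Agent.MultType.Lift

/-!
# Homomorphisms between groups of multiplicative type lift uniquely along maps bijective on idempotents
-/

open TensorProduct Coalgebra Bialgebra WithConv

universe u

namespace Groth.Agent.MultType.HomLift

open Groth.Agent.MultType.GLLift
open Groth.Agent.MultType.GroupLike (bcMap)

noncomputable section

variable {R : Type u} [CommRing R] {B : Type u} [CommRing B] [HopfAlgebra R B] {C : Type u} [CommRing C]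
  [HopfAlgebra R C]

theorem bcMap_smul {T T' : Type u} [CommRing T] [Algebra R T] [CommRing T'] [Algebra R T'] (h : T →ₐ[R] T') (t : T)
    (z : T ⊗[R] B) : bcMap h B (t • z) = h t • bcMap h B z := by
  induction z using TensorProduct.induction_on with
  | zero => simp
  | add x y hx hy => simp only [smul_add, map_add, hx, hy]
  | tmul s a => simp [bcMap, TensorProduct.smul_tmul']

/-- base change of a bialgebra map -/
def bcHom {U V : Type u} [CommRing U] [Algebra R U] [CommRing V] [Algebra R V] (g : U →ₐ[R] V)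
    (φ : U ⊗[R] C →ₐc[U] U ⊗[R] B) : V ⊗[R] C →ₐc[V] V ⊗[R] B :=
  letI := g.toRingHom.toAlgebra
  haveI : IsScalarTower R U V := IsScalarTower.of_algebraMap_eq fun r => (g.commutes r).symm
  (Split.cancel (R := R) (S := U) (T := V) (A := B) : V ⊗[U] (U ⊗[R] B) →ₐc[V] V ⊗[R] B).comp
    ((Bialgebra.TensorProduct.map (BialgHom.id V V) φ).comp
      ((Split.cancel (R := R) (S := U) (T := V) (A := C)).symm : V ⊗[R] C →ₐc[V] V ⊗[U] (U ⊗[R] C)))

theorem bcHom_one_tmul {U V : Type u} [CommRing U] [Algebra R U] [CommRing V] [Algebra R V] (g : U →ₐ[R] V)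
    (φ : U ⊗[R] C →ₐc[U] U ⊗[R] B) (c : C) : bcHom g φ (1 ⊗ₜ c) = bcMap g B (φ (1 ⊗ₜ c)) := by
  letI := g.toRingHom.toAlgebra
  haveI : IsScalarTower R U V := IsScalarTower.of_algebraMap_eq fun r => (g.commutes r).symm
  change Split.cancel (R := R) (S := U) (T := V) (A := B)
    (Bialgebra.TensorProduct.map (BialgHom.id V V) φ
      ((Split.cancel (R := R) (S := U) (T := V) (A := C)).symm ((1 : V) ⊗ₜ[R] c))) = _
  rw [Split.cancel_symm_one_tmul]
  change Split.cancel (R := R) (S := U) (T := V) (A := B) ((1 : V) ⊗ₜ[U] φ ((1 : U) ⊗ₜ[R] c)) = _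
  generalize φ ((1 : U) ⊗ₜ[R] c) = w
  induction w using TensorProduct.induction_on with
  | zero => simp
  | add x y hx hy => simp only [TensorProduct.tmul_add, map_add, hx, hy]
  | tmul s b =>
    refine (Split.cancel_tmul (R := R) (S := U) (T := V) (1 : V) s b).trans ?_
    rw [Algebra.smul_def, mul_one]
    rfl

variable {R₀ : Type u} [CommRing R₀] [Algebra R R₀] {Q : ∀ (U : Type u) [CommRing U] [Algebra R U], Prop}
  (φ₀ : R₀ ⊗[R] C →ₐc[R₀] R₀ ⊗[R] B)

/-- `φ` reduces to `φ₀` -/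
def Red (U : Type u) [CommRing U] [Algebra R U] (φ : U ⊗[R] C →ₐc[U] U ⊗[R] B) : Prop :=
  ∀ c, bcMap (ρ R₀ U) B (φ (1 ⊗ₜ c)) =
    bcMap (Algebra.TensorProduct.includeLeft : R₀ →ₐ[R] R₀ ⊗[R] U) B (φ₀ (1 ⊗ₜ c))

variable {φ₀} in
theorem Red.baseChange {U V : Type u} [CommRing U] [Algebra R U] [CommRing V] [Algebra R V]
    {φ : U ⊗[R] C →ₐc[U] U ⊗[R] B} (h : Red φ₀ U φ) (g : U →ₐ[R] V) : Red φ₀ V (bcHom g φ) := by
  intro c
  have h1 : (ρ R₀ V).comp g = (Algebra.TensorProduct.map (AlgHom.id R R₀) g).comp (ρ R₀ U) :=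
    AlgHom.ext fun u => rfl
  have h2 : (Algebra.TensorProduct.map (AlgHom.id R R₀) g).comp
      (Algebra.TensorProduct.includeLeft : R₀ →ₐ[R] R₀ ⊗[R] U) =
      (Algebra.TensorProduct.includeLeft : R₀ →ₐ[R] R₀ ⊗[R] V) := AlgHom.ext fun r => by simp
  rw [bcHom_one_tmul, bcMap_bcMap, h1, ← bcMap_bcMap, h c, bcMap_bcMap, h2]

variable {φ₀} in
theorem Red.map_eq {U : Type u} [CommRing U] [Algebra R U] {φ ψ : U ⊗[R] C →ₐc[U] U ⊗[R] B} (h : Red φ₀ U φ)
    (h' : Red φ₀ U ψ) (z : U ⊗[R] C) : bcMap (ρ R₀ U) B (φ z) = bcMap (ρ R₀ U) B (ψ z) := by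
  induction z using TensorProduct.induction_on with
  | zero => simp
  | add x y hx hy => simp only [map_add, hx, hy]
  | tmul u c =>
    rw [show u ⊗ₜ[R] c = u • ((1 : U) ⊗ₜ[R] c) by rw [TensorProduct.smul_tmul', smul_eq_mul, mul_one], map_smul φ,
      map_smul ψ, bcMap_smul, bcMap_smul, h c, h' c]

/-- homomorphisms out of a split group with the same reduction are equal -/
theorem eq_of_red (D : LiftData R R₀ Q) (SB : Splitting R B Q) {T : Type u} [CommRing T] [Algebra R T] {M : Type u}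
    [CommGroup M] (e : T ⊗[R] C ≃ₐc[T] MonoidAlgebra T M) {V : Type u} [CommRing V] [Algebra R V] (hV : Q V)
    (g : T →ₐ[R] V) {φ ψ : V ⊗[R] C →ₐc[V] V ⊗[R] B}
    (h : ∀ z, bcMap (ρ R₀ V) B (φ z) = bcMap (ρ R₀ V) B (ψ z)) : φ = ψ := by
  let eV := extend e g
  apply DFunLike.ext
  intro z
  rw [← show eV.symm (eV z) = z from eV.toAlgEquiv.symm_apply_apply z]
  generalize eV z = x
  induction x using MonoidAlgebra.induction_linear with
  | zero => simp
  | add x y hx hy => simp only [map_add, hx, hy]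
  | single m r =>
    rw [show MonoidAlgebra.single m r = r • MonoidAlgebra.single m (1 : V) by simp, map_smul, map_smul, map_smul]
    congr 1
    have hgl : IsGroupLikeElem V (eV.symm (MonoidAlgebra.single m 1)) :=
      (MonoidAlgebra.isGroupLikeElem_single_one m).map eV.symm
    exact GLLift.eq_of_bcMap D SB V hV (hgl.map φ) (hgl.map ψ) (h _)

/-- a character with group-like values as a bialgebra map -/
def ofChar {U : Type u} [CommRing U] {D : Type u} [CommRing D] [Bialgebra U D] {M : Type u} [CommMonoid M] (χ : M →* D)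
    (hχ : ∀ m, IsGroupLikeElem U (χ m)) : MonoidAlgebra U M →ₐc[U] D :=
  BialgHom.ofAlgHom (MonoidAlgebra.lift U D M χ)
    (by
      apply MonoidAlgebra.algHom_ext'
      case single_one_left => exact Subsingleton.elim _ _
      ext m
      simp [(hχ m).counit_eq_one])
    (by
      apply MonoidAlgebra.algHom_ext'
      case single_one_left => exact Subsingleton.elim _ _
      ext m
      simp [(hχ m).comul_eq_tmul_self])

theorem ofChar_single {U : Type u} [CommRing U] {D : Type u} [CommRing D] [Bialgebra U D] {M : Type u} [CommMonoid M]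
    (χ : M →* D) (hχ : ∀ m, IsGroupLikeElem U (χ m)) (m : M) :
    ofChar χ hχ (MonoidAlgebra.single m 1) = χ m :=
  (MonoidAlgebra.lift_single _ _ _).trans (one_smul _ _)

theorem exists_red_local (D : LiftData R R₀ Q) (SB : Splitting R B Q) {U : Type u} [CommRing U] [Algebra R U] (hU : Q U)
    {M : Type u} [CommGroup M] (e : U ⊗[R] C ≃ₐc[U] MonoidAlgebra U M) :
    ∃ φ : U ⊗[R] C →ₐc[U] U ⊗[R] B, Red φ₀ U φ := by
  let Ψ : (R₀ ⊗[R] U) ⊗[R] C →ₐc[R₀ ⊗[R] U] (R₀ ⊗[R] U) ⊗[R] B :=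
    bcHom (Algebra.TensorProduct.includeLeft : R₀ →ₐ[R] R₀ ⊗[R] U) φ₀
  have hgl : ∀ m, IsGroupLikeElem U (e.symm (MonoidAlgebra.single m 1)) := fun m =>
    (MonoidAlgebra.isGroupLikeElem_single_one m).map e.symm
  choose x hx hx' using fun m => GLLift.exists_bcMap D SB U hU
    ((GroupLike.map_isGroupLikeElem (ρ R₀ U) (hgl m)).map Ψ)
  have huniq : ∀ z m, IsGroupLikeElem U z →
      bcMap (ρ R₀ U) B z = Ψ (bcMap (ρ R₀ U) C (e.symm (MonoidAlgebra.single m 1))) → z = x m := fun z m hz h =>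
    GLLift.eq_of_bcMap D SB U hU hz (hx m) (h.trans (hx' m).symm)
  let χ : M →* U ⊗[R] B :=
    { toFun := x
      map_one' := (huniq 1 1 IsGroupLikeElem.one (by
        rw [_root_.map_one, ← MonoidAlgebra.one_def, show e.symm 1 = 1 from e.toAlgEquiv.symm.map_one,
          _root_.map_one, _root_.map_one])).symm
      map_mul' := fun a b => (huniq (x a * x b) (a * b) ((hx a).mul (hx b)) (by
        rw [_root_.map_mul, hx', hx', ← _root_.map_mul, ← _root_.map_mul,
          ← show e.symm (MonoidAlgebra.single a 1 * MonoidAlgebra.single b 1) =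
            e.symm (MonoidAlgebra.single a 1) * e.symm (MonoidAlgebra.single b 1) from
            e.toAlgEquiv.symm.map_mul _ _, MonoidAlgebra.single_mul_single, mul_one])).symm }
  refine ⟨(ofChar χ hx).comp (e : U ⊗[R] C →ₐc[U] MonoidAlgebra U M), fun c => ?_⟩
  rw [← bcHom_one_tmul (Algebra.TensorProduct.includeLeft : R₀ →ₐ[R] R₀ ⊗[R] U) φ₀ c]
  change bcMap (ρ R₀ U) B (ofChar χ hx (e ((1 : U) ⊗ₜ[R] c))) = Ψ _
  rw [show ((1 : R₀ ⊗[R] U) ⊗ₜ[R] c) = bcMap (ρ R₀ U) C ((1 : U) ⊗ₜ[R] c) by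
    simp [bcMap, Algebra.TensorProduct.one_def]]
  conv_rhs => rw [← show e.symm (e ((1 : U) ⊗ₜ[R] c)) = (1 : U) ⊗ₜ[R] c from e.toAlgEquiv.symm_apply_apply _]
  generalize e ((1 : U) ⊗ₜ[R] c) = y
  induction y using MonoidAlgebra.induction_linear with
  | zero => simp
  | add y y' hy hy' => simp only [map_add, hy, hy']
  | single m r =>
    rw [show MonoidAlgebra.single m r = r • MonoidAlgebra.single m (1 : U) by simp, map_smul (ofChar χ hx),
      map_smul e.symm, bcMap_smul, bcMap_smul, map_smul Ψ, ofChar_single]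
    exact congrArg _ (hx' m)

/-- **uniqueness** -/
theorem hom_ext (D : LiftData R R₀ Q) (SB : Splitting R B Q) (SC : Splitting R C Q) {φ ψ : C →ₐc[R] B}
    (h : ∀ c, (1 : R₀) ⊗ₜ[R] φ c = (1 : R₀) ⊗ₜ[R] ψ c) : φ = ψ := by
  apply DFunLike.ext
  intro c
  refine Family.eq_of_family (R := R) SC.T fun i => ?_
  have hred : ∀ χ : C →ₐc[R] B, ∀ z : SC.T i ⊗[R] C,
      bcMap (ρ R₀ (SC.T i)) B (Bialgebra.TensorProduct.map (BialgHom.id (SC.T i) (SC.T i)) χ z) =
        Algebra.TensorProduct.map (AlgHom.id R (R₀ ⊗[R] SC.T i)) (χ : C →ₐ[R] B) (bcMap (ρ R₀ (SC.T i)) C z) := by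
    intro χ z
    induction z using TensorProduct.induction_on with
    | zero => simp
    | add x y hx hy => simp only [map_add, hx, hy]
    | tmul t d => rfl
  have key : Bialgebra.TensorProduct.map (BialgHom.id (SC.T i) (SC.T i)) φ =
      Bialgebra.TensorProduct.map (BialgHom.id (SC.T i) (SC.T i)) ψ := by
    refine eq_of_red D SB (SC.equiv i) (SC.mem i) (AlgHom.id R _) fun z => ?_
    rw [hred, hred]
    generalize bcMap (ρ R₀ (SC.T i)) C z = w
    induction w using TensorProduct.induction_on with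
    | zero => simp
    | add x y hx hy => simp only [map_add, hx, hy]
    | tmul t d =>
      rw [Algebra.TensorProduct.map_tmul, Algebra.TensorProduct.map_tmul,
        show (AlgHom.id R (R₀ ⊗[R] SC.T i)) t = t from rfl]
      have h1 := congrArg (bcMap (Algebra.TensorProduct.includeLeft : R₀ →ₐ[R] R₀ ⊗[R] SC.T i) B) (h d)
      rw [bcMap_tmul, bcMap_tmul, _root_.map_one] at h1
      have h2 := congrArg (fun w => t • w) h1
      simp only [TensorProduct.smul_tmul', smul_eq_mul, mul_one] at h2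
      exact h2
  exact DFunLike.congr_fun key ((1 : SC.T i) ⊗ₜ[R] c)

/-- **existence** -/
theorem exists_lift (D : LiftData R R₀ Q) (SB : Splitting R B Q) (SC : Splitting R C Q) :
    ∃ φ : C →ₐc[R] B, ∀ c, φ₀ (1 ⊗ₜ c) = (1 : R₀) ⊗ₜ[R] φ c := by
  haveI := flat_of_splitting D SB
  choose Φ hΦ using fun i => exists_red_local φ₀ D SB (SC.mem i) (SC.equiv i)
  have hc : ∀ c i j, Family.inl SC.T i j (Φ i (1 ⊗ₜ c)) = Family.inr SC.T i j (Φ j (1 ⊗ₜ c)) := by
    intro c i j
    have h1 : bcHom (Algebra.TensorProduct.includeLeft : SC.T i →ₐ[R] SC.T i ⊗[R] SC.T j) (Φ i) =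
        bcHom (Algebra.TensorProduct.includeRight : SC.T j →ₐ[R] SC.T i ⊗[R] SC.T j) (Φ j) :=
      eq_of_red D SB (SC.equiv i) (D.tensor _ _ (SC.mem i) (SC.mem j))
        (Algebra.TensorProduct.includeLeft : SC.T i →ₐ[R] SC.T i ⊗[R] SC.T j)
        (Red.map_eq ((hΦ i).baseChange _) ((hΦ j).baseChange _))
    have h2 := DFunLike.congr_fun h1 ((1 : SC.T i ⊗[R] SC.T j) ⊗ₜ[R] c)
    rw [bcHom_one_tmul, bcHom_one_tmul] at h2
    exact h2
  choose f hf using fun c => Family.exists_of_family SC.T (fun i => Φ i (1 ⊗ₜ c)) (hc c)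
  let F : C →ₐ[R] B :=
    { toFun := f
      map_one' := Family.eq_of_family (R := R) SC.T fun i => by
        rw [hf, ← Algebra.TensorProduct.one_def, _root_.map_one, Algebra.TensorProduct.one_def]
      map_mul' := fun a b => Family.eq_of_family (R := R) SC.T fun i => by
        rw [hf, ← one_mul (1 : SC.T i), ← Algebra.TensorProduct.tmul_mul_tmul, _root_.map_mul,
          ← Algebra.TensorProduct.tmul_mul_tmul, hf, hf]
      map_zero' := Family.eq_of_family (R := R) SC.T fun i => by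
        rw [hf, TensorProduct.tmul_zero, map_zero, TensorProduct.tmul_zero]
      map_add' := fun a b => Family.eq_of_family (R := R) SC.T fun i => by
        rw [hf, TensorProduct.tmul_add, map_add, TensorProduct.tmul_add, hf, hf]
      commutes' := fun r => Family.eq_of_family (R := R) SC.T fun i => by
        change (1 : SC.T i) ⊗ₜ[R] f (algebraMap R C r) = _
        rw [hf, Algebra.algebraMap_eq_smul_one, Algebra.algebraMap_eq_smul_one (A := B), TensorProduct.tmul_smul,
          TensorProduct.tmul_smul, ← Algebra.TensorProduct.one_def, ← Algebra.TensorProduct.one_def,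
          ← algebraMap_smul (SC.T i), map_smul (Φ i), _root_.map_one, algebraMap_smul] }
  have hF : ∀ c, Algebra.TensorProduct.map F F (comul c) = comul (F c) := by
    intro c
    refine Family.eq_of_family (R := R) SC.T fun i => ?_
    apply (TensorProduct.AlgebraTensorModule.distribBaseChange R (SC.T i) B B).injective
    have key : ∀ t : B ⊗[R] B, TensorProduct.AlgebraTensorModule.distribBaseChange R (SC.T i) B B ((1 : SC.T i) ⊗ₜ[R] t) =
        Lift.red₂ (SC.T i) B t := by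
      intro t
      induction t using TensorProduct.induction_on with
      | zero => simp
      | add p q hp hq => simp only [TensorProduct.tmul_add, map_add, hp, hq]
      | tmul p q => simp [Lift.red₂_tmul, TensorProduct.AlgebraTensorModule.distribBaseChange_tmul]
    have hFt : ∀ t : C ⊗[R] C, Lift.red₂ (SC.T i) B (Algebra.TensorProduct.map F F t) =
        TensorProduct.map (Φ i : SC.T i ⊗[R] C →ₐ[SC.T i] SC.T i ⊗[R] B).toLinearMap
          (Φ i : SC.T i ⊗[R] C →ₐ[SC.T i] SC.T i ⊗[R] B).toLinearMap (Lift.red₂ (SC.T i) C t) := by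
      intro t
      induction t using TensorProduct.induction_on with
      | zero => simp
      | add p q hp hq => simp only [map_add, hp, hq]
      | tmul p q => simp [Lift.red₂_tmul, F, hf]
    rw [key, key, hFt, ← Lift.comul_red, ← Lift.comul_red, show (1 : SC.T i) ⊗ₜ[R] F c = Φ i (1 ⊗ₜ c) from hf c i]
    exact CoalgHomClass.map_comp_comul_apply (Φ i) ((1 : SC.T i) ⊗ₜ[R] c)
  refine ⟨Lift.toHom (toConv F) (WithConv.ext (AlgHom.ext fun c => (Lift.conv_ι_apply (toConv F) c).trans (hF c))),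
    fun c => ?_⟩
  refine GLLift.eq_of_family (R := R) SC.T fun i => ?_
  rw [← hΦ i c, bcMap_tmul]
  change bcMap (ρ R₀ (SC.T i)) B (Φ i (1 ⊗ₜ c)) = _
  rw [← hf c i, bcMap_tmul, _root_.map_one, _root_.map_one]
  rfl

/-- isomorphisms lift -/
theorem exists_equiv_lift (D : LiftData R R₀ Q) (SB : Splitting R B Q) (SC : Splitting R C Q)
    (e₀ : R₀ ⊗[R] C ≃ₐc[R₀] R₀ ⊗[R] B) :
    ∃ e : C ≃ₐc[R] B, ∀ c, e₀ (1 ⊗ₜ c) = (1 : R₀) ⊗ₜ[R] e c := by
  obtain ⟨φ, hφ⟩ := exists_lift (e₀ : R₀ ⊗[R] C →ₐc[R₀] R₀ ⊗[R] B) D SB SC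
  obtain ⟨ψ, hψ⟩ := exists_lift (e₀.symm : R₀ ⊗[R] B →ₐc[R₀] R₀ ⊗[R] C) D SC SB
  have h1 : φ.comp ψ = BialgHom.id R B := hom_ext D SB SB fun b => by
    change (1 : R₀) ⊗ₜ[R] φ (ψ b) = 1 ⊗ₜ[R] b
    rw [← hφ, ← hψ]
    exact e₀.toAlgEquiv.apply_symm_apply _
  have h2 : ψ.comp φ = BialgHom.id R C := hom_ext D SC SC fun c => by
    change (1 : R₀) ⊗ₜ[R] ψ (φ c) = 1 ⊗ₜ[R] c
    rw [← hψ, ← hφ]
    exact e₀.toAlgEquiv.symm_apply_apply _
  have hbij : Function.Bijective φ := Function.bijective_iff_has_inverse.mpr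
    ⟨ψ, DFunLike.congr_fun h2, DFunLike.congr_fun h1⟩
  exact ⟨BialgEquiv.ofBijective φ hbij, fun c => hφ c⟩

end

end Groth.Agent.MultType.HomLift
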