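import Groth.Agent.MultType.Deform
import Groth.Agent.MultType.Split
import Groth.Agent.IndAlg.EtaleLift
import Mathlib.RingTheory.Etale.Basic
import Mathlib.RingTheory.RingHom.Etale
import Mathlib.RingTheory.Smooth.Flat

/-!
# Quasi-isotriviality passes through nilpotent thickenings
-/

open TensorProduct

universe u

namespace Groth.Agent.MultType.QIT

noncomputable section

variable {R : Type u} [CommRing R] {A : Type u} [CommRing A] [HopfAlgebra R A]

theorem isDiag_of_bialgEquiv {B : Type u} [CommRing B] [HopfAlgebra R B] (e : B ≃ₐc[R] A)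
    (h : SGA3b.IsDiag R A) : SGA3b.IsDiag R B := by
  obtain ⟨M, _, ⟨f⟩⟩ := h
  exact ⟨M, inferInstance, ⟨e.trans f⟩⟩

/-- diagonalisability can be computed in steps -/
theorem isDiag_tower_iff (S T : Type u) [CommRing S] [CommRing T] [Algebra R S] [Algebra R T] [Algebra S T]
    [IsScalarTower R S T] : SGA3b.IsDiag T (T ⊗[S] (S ⊗[R] A)) ↔ SGA3b.IsDiag T (T ⊗[R] A) :=
  ⟨isDiag_of_bialgEquiv (Split.cancel (R := R) (S := S) (T := T) (A := A)).symm,
    isDiag_of_bialgEquiv (Split.cancel (R := R) (S := S) (T := T) (A := A))⟩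

theorem isDiag_of_thickening [Module.Flat R A] (C B : Type u) [CommRing C] [CommRing B] [Algebra R C] [Algebra R B]
    (φ : C →ₐ[R] B) (hφ : Function.Surjective φ) (hn : IsNilpotent (RingHom.ker φ))
    (h : SGA3b.IsDiag B (B ⊗[R] A)) : SGA3b.IsDiag C (C ⊗[R] A) := by
  letI := φ.toRingHom.toAlgebra
  haveI : IsScalarTower R C B := IsScalarTower.of_algebraMap_eq fun r => (φ.commutes r).symm
  exact Deform.isDiag_of_flat (R := C) (R' := B) hφ hn ((isDiag_tower_iff C B).mpr h)

theorem faithfullyFlat_of_thickening {R₀ B C : Type u} [CommRing R₀] [CommRing B] [CommRing C] [Algebra R R₀]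
    [Algebra R B] [Algebra R₀ B] [IsScalarTower R R₀ B] [Algebra R C] [Module.Flat R C]
    [Module.FaithfullyFlat R₀ B] (hs : Function.Surjective (algebraMap R R₀))
    (hn : IsNilpotent (RingHom.ker (algebraMap R R₀))) (φ : C →ₐ[R] B) : Module.FaithfullyFlat R C := by
  refine Module.FaithfullyFlat.of_comap_surjective fun p => ?_
  have hle : RingHom.ker (algebraMap R R₀) ≤ p.asIdeal := by
    obtain ⟨n, hn⟩ := hn
    intro x hx
    refine p.isPrime.mem_of_pow_mem n ?_
    have := Ideal.pow_mem_pow hx n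
    rw [hn] at this
    rw [show x ^ n = 0 from this]
    exact zero_mem _
  let p₀ : PrimeSpectrum R₀ := ⟨p.asIdeal.map (algebraMap R R₀), Ideal.map_isPrime_of_surjective hs hle⟩
  obtain ⟨q, hq⟩ := PrimeSpectrum.comap_surjective_of_faithfullyFlat (A := R₀) (B := B) p₀
  refine ⟨q.comap φ.toRingHom, ?_⟩
  apply PrimeSpectrum.ext
  have h1 := congrArg (fun P => Ideal.comap (algebraMap R R₀) (PrimeSpectrum.asIdeal P)) hq
  change Ideal.comap (algebraMap R R₀) (q.asIdeal.comap (algebraMap R₀ B)) =
    Ideal.comap (algebraMap R R₀) (p.asIdeal.map (algebraMap R R₀)) at h1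
  rw [Ideal.comap_comap, ← IsScalarTower.algebraMap_eq, Ideal.comap_map_of_surjective' _ hs,
    sup_eq_left.mpr hle] at h1
  change (q.asIdeal.comap φ.toRingHom).comap (algebraMap R C) = p.asIdeal
  rw [Ideal.comap_comap, show φ.toRingHom.comp (algebraMap R C) = algebraMap R B from φ.comp_algebraMap]
  exact h1

/-- an etale splitting lifts -/
theorem exists_split_lift [Module.Flat R A] {R₀ : Type u} [CommRing R₀] [Algebra R R₀]
    (hs : Function.Surjective (algebraMap R R₀)) (hn : IsNilpotent (RingHom.ker (algebraMap R R₀)))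
    (B : Type u) [CommRing B] [Algebra R₀ B] [Algebra R B] [IsScalarTower R R₀ B] [Algebra.Etale R₀ B]
    [Module.FaithfullyFlat R₀ B] (h : SGA3b.IsDiag B (B ⊗[R₀] (R₀ ⊗[R] A))) :
    ∃ (C : Type u) (_ : CommRing C) (_ : Algebra R C) (φ : C →ₐ[R] B), Function.Surjective φ ∧
      RingHom.ker φ = Ideal.map (algebraMap R C) (RingHom.ker (algebraMap R R₀)) ∧ Algebra.Etale R C ∧
      Module.FaithfullyFlat R C ∧ SGA3b.IsDiag C (C ⊗[R] A) := by
  let J := RingHom.ker (algebraMap R R₀)
  let eJ : (R ⧸ J) ≃+* R₀ := RingHom.quotientKerEquivOfSurjective hs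
  letI : Algebra (R ⧸ J) R₀ := eJ.toRingHom.toAlgebra
  letI : Algebra (R ⧸ J) B := ((algebraMap R₀ B).comp eJ.toRingHom).toAlgebra
  haveI : IsScalarTower (R ⧸ J) R₀ B := IsScalarTower.of_algebraMap_eq fun x => rfl
  haveI : IsScalarTower R (R ⧸ J) B := IsScalarTower.of_algebraMap_eq fun x => by
    rw [IsScalarTower.algebraMap_apply R R₀ B]; rfl
  haveI : Algebra.Etale (R ⧸ J) R₀ :=
    Algebra.Etale.of_equiv (AlgEquiv.ofBijective (Algebra.ofId (R ⧸ J) R₀) eJ.bijective)
  haveI : Algebra.Etale (R ⧸ J) B := Algebra.Etale.comp (R ⧸ J) R₀ B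
  obtain ⟨C, _, _, hC, ⟨e⟩⟩ := IndAlg.EtaleLift.exists_lift R J B
  let φ : C →ₐ[R] B := e.toAlgHom.comp (Ideal.Quotient.mkₐ R _)
  have hφs : Function.Surjective φ := e.surjective.comp Ideal.Quotient.mk_surjective
  have hker : RingHom.ker φ = Ideal.map (algebraMap R C) J := by
    ext x
    rw [RingHom.mem_ker, ← Ideal.Quotient.eq_zero_iff_mem]
    exact (map_eq_zero_iff e e.injective)
  have hφn : IsNilpotent (RingHom.ker φ) := by
    rw [hker]
    obtain ⟨n, hn⟩ := hn
    exact ⟨n, by rw [← Ideal.map_pow, hn, Ideal.zero_eq_bot, Ideal.map_bot]; rfl⟩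
  exact ⟨C, inferInstance, inferInstance, φ, hφs, hker, hC, faithfullyFlat_of_thickening hs hn φ,
    isDiag_of_thickening C B φ hφs hφn ((isDiag_tower_iff R₀ B).mp h)⟩

theorem isQuasiIsotrivialConst_of_surjective [Module.Flat R A] {R₀ : Type u} [CommRing R₀] [Algebra R R₀]
    (hs : Function.Surjective (algebraMap R R₀)) (hn : IsNilpotent (RingHom.ker (algebraMap R R₀)))
    (h : SGA3b.IsQuasiIsotrivialConst R₀ (R₀ ⊗[R] A)) : SGA3b.IsQuasiIsotrivialConst R A := by
  obtain ⟨B, _, _, _, _, hd⟩ := h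
  letI : Algebra R B := ((algebraMap R₀ B).comp (algebraMap R R₀)).toAlgebra
  haveI : IsScalarTower R R₀ B := IsScalarTower.of_algebraMap_eq fun x => rfl
  obtain ⟨C, i₁, i₂, φ, _, _, h₁, h₂, h₃⟩ := exists_split_lift hs hn B hd
  exact ⟨C, i₁, i₂, h₁, h₂, h₃⟩

theorem isQuasiIsotrivial_of_quotient [Module.Flat R A] (I : Ideal R) (hI : IsNilpotent I)
    (h : SGA3b.IsQuasiIsotrivial (R ⧸ I) ((R ⧸ I) ⊗[R] A)) : SGA3b.IsQuasiIsotrivial R A := by
  obtain ⟨s, hs, hloc⟩ := h
  refine ⟨Ideal.Quotient.mk I ⁻¹' s, ?_, fun f hf => ?_⟩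
  · by_contra hne
    obtain ⟨m, hm, hle⟩ := Ideal.exists_le_maximal _ hne
    have hIm : I ≤ m := by
      obtain ⟨n, hn⟩ := hI
      intro x hx
      refine hm.isPrime.mem_of_pow_mem n ?_
      have := Ideal.pow_mem_pow hx n
      rw [hn] at this
      rw [show x ^ n = 0 from this]
      exact zero_mem _
    have h1 : Ideal.span s ≤ m.map (Ideal.Quotient.mk I) := by
      refine Ideal.span_le.mpr fun y hy => ?_
      obtain ⟨x, rfl⟩ := Ideal.Quotient.mk_surjective y
      exact Ideal.mem_map_of_mem _ (hle (Ideal.subset_span hy))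
    rw [hs, top_le_iff] at h1
    replace h1 := congrArg (Ideal.comap (Ideal.Quotient.mk I)) h1
    rw [Ideal.comap_map_of_surjective' _ Ideal.Quotient.mk_surjective, Ideal.mk_ker, sup_eq_left.mpr hIm,
      Ideal.comap_top] at h1
    exact hm.ne_top h1
  · let S := Localization.Away f
    let L := Localization.Away (Ideal.Quotient.mk I f)
    letI : Algebra S L := (IsLocalization.Away.map S L (Ideal.Quotient.mk I) f).toAlgebra
    haveI : IsScalarTower R S L := IsScalarTower.of_algebraMap_eq fun r => by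
      rw [RingHom.algebraMap_toAlgebra, IsLocalization.Away.map, IsLocalization.map_eq,
        IsScalarTower.algebraMap_apply R (R ⧸ I) L]
      rfl
    have hsurj : Function.Surjective (algebraMap S L) := fun z => by
      obtain ⟨⟨a, ⟨_, k, rfl⟩⟩, h1⟩ := IsLocalization.surj (Submonoid.powers (Ideal.Quotient.mk I f)) z
      obtain ⟨r, rfl⟩ := Ideal.Quotient.mk_surjective a
      refine ⟨IsLocalization.mk' S r (⟨f ^ k, k, rfl⟩ : Submonoid.powers f), ?_⟩
      refine ((IsLocalization.Away.algebraMap_isUnit (S := L) (Ideal.Quotient.mk I f)).pow k).mul_right_cancel ?_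
      have hp : algebraMap (R ⧸ I) L (Ideal.Quotient.mk I f) ^ k = algebraMap R L (f ^ k) := by
        rw [← map_pow, ← map_pow, IsScalarTower.algebraMap_apply R (R ⧸ I) L (f ^ k)]; rfl
      have h1' : z * algebraMap R L (f ^ k) = algebraMap R L r := by
        rw [← hp, ← map_pow, IsScalarTower.algebraMap_apply R (R ⧸ I) L r]; exact h1
      rw [hp, h1']
      calc algebraMap S L (IsLocalization.mk' S r (⟨f ^ k, k, rfl⟩ : Submonoid.powers f)) * algebraMap R L (f ^ k)
          = algebraMap S L (IsLocalization.mk' S r (⟨f ^ k, k, rfl⟩ : Submonoid.powers f) * algebraMap R S (f ^ k)) := by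
            rw [map_mul, ← IsScalarTower.algebraMap_apply]
        _ = algebraMap R L r := by
            rw [show IsLocalization.mk' S r (⟨f ^ k, k, rfl⟩ : Submonoid.powers f) * algebraMap R S (f ^ k) =
              algebraMap R S r from IsLocalization.mk'_spec S r (⟨f ^ k, k, rfl⟩ : Submonoid.powers f),
              ← IsScalarTower.algebraMap_apply]
    have hnil : IsNilpotent (RingHom.ker (algebraMap S L)) := by
      obtain ⟨n, hn⟩ := hI
      refine ⟨n, ?_⟩
      have hle : RingHom.ker (algebraMap S L) ≤ I.map (algebraMap R S) := by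
        intro z hz
        obtain ⟨⟨r, u⟩, h1⟩ := IsLocalization.surj (Submonoid.powers f) z
        have h2 := congrArg (algebraMap S L) h1
        rw [map_mul, RingHom.mem_ker.mp hz, zero_mul, ← IsScalarTower.algebraMap_apply,
          IsScalarTower.algebraMap_apply R (R ⧸ I) L] at h2
        obtain ⟨⟨_, k, rfl⟩, h3⟩ :=
          (IsLocalization.map_eq_zero_iff (Submonoid.powers (Ideal.Quotient.mk I f)) L _).mp h2.symm
        have h4 : f ^ k * r ∈ I := by
          rw [← Ideal.Quotient.eq_zero_iff_mem, map_mul, map_pow]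
          exact h3
        have h5 := Ideal.mem_map_of_mem (algebraMap R S) h4
        rw [map_mul] at h5
        have hu : IsUnit (algebraMap R S (f ^ k)) := by
          rw [map_pow]; exact (IsLocalization.Away.algebraMap_isUnit f).pow k
        have h6 := (Ideal.unit_mul_mem_iff_mem _ hu).mp h5
        rw [← h1] at h6
        exact (Ideal.mul_unit_mem_iff_mem _ (IsLocalization.map_units S u)).mp h6
      rw [Ideal.zero_eq_bot, ← le_bot_iff]
      refine le_trans (Ideal.pow_right_mono hle n) ?_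
      rw [← Ideal.map_pow, hn, Ideal.zero_eq_bot, Ideal.map_bot]
    refine isQuasiIsotrivialConst_of_surjective (R₀ := L) hsurj hnil ?_
    obtain ⟨B, _, _, hB, hB', hd⟩ := hloc _ hf
    refine ⟨B, inferInstance, inferInstance, hB, hB', ?_⟩
    letI : Algebra S B := ((algebraMap L B).comp (algebraMap S L)).toAlgebra
    haveI : IsScalarTower S L B := IsScalarTower.of_algebraMap_eq fun x => rfl
    letI : Algebra (R ⧸ I) B := ((algebraMap L B).comp (algebraMap (R ⧸ I) L)).toAlgebra
    haveI : IsScalarTower (R ⧸ I) L B := IsScalarTower.of_algebraMap_eq fun x => rfl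
    letI : Algebra R B := ((algebraMap L B).comp (algebraMap R L)).toAlgebra
    haveI : IsScalarTower R L B := IsScalarTower.of_algebraMap_eq fun x => rfl
    haveI : IsScalarTower R S B := IsScalarTower.of_algebraMap_eq fun x =>
      congrArg (algebraMap L B) (IsScalarTower.algebraMap_apply R S L x)
    haveI : IsScalarTower R (R ⧸ I) B := IsScalarTower.of_algebraMap_eq fun x =>
      congrArg (algebraMap L B) (IsScalarTower.algebraMap_apply R (R ⧸ I) L x)
    rw [isDiag_tower_iff L B] at hd ⊢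
    rw [isDiag_tower_iff (R ⧸ I) B] at hd
    exact (isDiag_tower_iff S B).mpr hd

end

end Groth.Agent.MultType.QIT
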