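import Groth.Agent.MultType.HomLift
import Groth.Agent.MultType.QIT
import Groth.Agent.MultType.Diag
import Groth.Agent.Hensel.Pair
import Mathlib.RingTheory.TensorProduct.Quotient

/-!
# Nil and henselian instances of lifting; splittings; diagonalisability lifts
-/

open TensorProduct

universe u

namespace Groth.Agent.MultType.NilLift

open Groth.Agent.MultType.GLLift Groth.Agent.MultType.IdemBij

noncomputable section

variable {R : Type u} [CommRing R]

/-- the class of flat algebras -/
abbrev FlatQ (R : Type u) [CommRing R] : ∀ (U : Type u) [CommRing U] [Algebra R U], Prop :=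
  fun U _ _ => Module.Flat R U

/-- the class of finite flat algebras -/
abbrev FinQ (R : Type u) [CommRing R] : ∀ (U : Type u) [CommRing U] [Algebra R U], Prop :=
  fun U _ _ => Module.Finite R U ∧ Module.Flat R U

theorem map_nil {I : Ideal R} (hI : ∀ x ∈ I, IsNilpotent x) (S : Type u) [CommRing S] [Algebra R S] :
    ∀ x ∈ Ideal.map (algebraMap R S) I, IsNilpotent x := by
  intro x hx
  have hle : Ideal.map (algebraMap R S) I ≤ nilradical S := by
    rw [Ideal.map_le_iff_le_comap]
    intro r hr
    rw [Ideal.mem_comap, mem_nilradical]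
    exact (hI r hr).map _
  exact mem_nilradical.mp (hle hx)

theorem nilLiftData {R₀ : Type u} [CommRing R₀] [Algebra R R₀] (hs : Function.Surjective (algebraMap R R₀))
    (hn : ∀ x ∈ RingHom.ker (algebraMap R R₀), IsNilpotent x) : LiftData R R₀ (FlatQ R) where
  base := inferInstance
  tensor U V _ _ _ _ hU hV := by
    haveI : Module.Flat R U := hU
    haveI : Module.Flat R V := hV
    exact (inferInstance : Module.Flat R (U ⊗[R] V))
  flat _ _ _ h := h
  idem U _ _ _ := by
    refine IdemBij.of_nil (Lift.red_surjective (R := R) (S := U) hs) fun x hx => ?_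
    have hx' : x ∈ RingHom.ker (Lift.red (R := R) R₀ U) := hx
    rw [Lift.red_ker hs] at hx'
    exact map_nil hn U x hx'

theorem finLiftData (I : Ideal R) [HenselianRing R I] : LiftData R (R ⧸ I) (FinQ R) where
  base := ⟨inferInstance, inferInstance⟩
  tensor U V _ _ _ _ hU hV := by
    haveI : Module.Finite R U := hU.1
    haveI : Module.Flat R U := hU.2
    haveI : Module.Finite R V := hV.1
    haveI : Module.Flat R V := hV.2
    exact ⟨inferInstance, inferInstance⟩
  flat _ _ _ h := h.2
  idem U _ _ h := by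
    haveI : Module.Finite R U := h.1
    haveI : Algebra.IsIntegral R U := Algebra.IsIntegral.of_finite R U
    have h1 := IdemBij.of_bijOn (f := Ideal.Quotient.mk (I.map (algebraMap R U)))
      (Hensel.idempotents_bijOn (I := I) U)
    let e : (U ⧸ I.map (algebraMap R U)) →+* (R ⧸ I) ⊗[R] U :=
      Ideal.Quotient.lift _ (Algebra.TensorProduct.includeRight : U →ₐ[R] (R ⧸ I) ⊗[R] U).toRingHom (fun x hx => by
        have h2 : x ∈ RingHom.ker (Lift.red (R := R) (R ⧸ I) U) := by
          rw [Lift.red_ker Ideal.Quotient.mk_surjective, Ideal.Quotient.algebraMap_eq, Ideal.mk_ker]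
          exact hx
        exact h2)
    have he : Function.Bijective e := by
      refine ⟨(injective_iff_map_eq_zero e).mpr fun y hy => ?_, fun z => ?_⟩
      · obtain ⟨x, rfl⟩ := Ideal.Quotient.mk_surjective y
        have h2 : x ∈ RingHom.ker (Lift.red (R := R) (R ⧸ I) U) := hy
        rw [Lift.red_ker Ideal.Quotient.mk_surjective, Ideal.Quotient.algebraMap_eq, Ideal.mk_ker] at h2
        exact Ideal.Quotient.eq_zero_iff_mem.mpr h2
      · obtain ⟨x, hx⟩ := Lift.red_surjective (R := R) (R' := R ⧸ I) (S := U) Ideal.Quotient.mk_surjective z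
        exact ⟨Ideal.Quotient.mk _ x, hx⟩
    exact (IdemBij.of_bijective he).comp h1

variable {A : Type u} [CommRing A] [HopfAlgebra R A]

/-- the splitting of a group of multiplicative type -/
theorem exists_splitting (h : SGA3b.IsMultType R A) : Nonempty (Splitting R A (FlatQ R)) := by
  obtain ⟨ι, _, T, _, _, hff, hM⟩ := Integral.exists_split_family h
  choose M instM he using hM
  exact ⟨{ ι := ι, T := T, M := M, equiv := fun i => (he i).some
           mem := fun i => by
             classical
             exact Module.Flat.of_retract (LinearMap.single R T i) (LinearMap.proj i) (by ext x; simp) }⟩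

/-- a single algebra as a splitting -/
def singleSplitting {Q : ∀ (U : Type u) [CommRing U] [Algebra R U], Prop} (T : Type u) [CommRing T] [Algebra R T]
    [Module.FaithfullyFlat R T] (hQ : Q T) {M : Type u} [CommGroup M] (e : T ⊗[R] A ≃ₐc[T] MonoidAlgebra T M) :
    Splitting R A Q :=
  haveI : Module.FaithfullyFlat R (PUnit.{u + 1} → T) :=
    Module.FaithfullyFlat.of_linearEquiv R T (LinearEquiv.funUnique PUnit.{u + 1} R T)
  { ι := PUnit.{u + 1}, T := fun _ => T, mem := fun _ => hQ, M := fun _ => M, equiv := fun _ => e }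

/-- splitting of a diagonalisable group -/
def trivialSplitting {Q : ∀ (U : Type u) [CommRing U] [Algebra R U], Prop} (hQ : Q R) {M : Type u} [CommGroup M]
    (e : A ≃ₐc[R] MonoidAlgebra R M) : Splitting R A Q :=
  singleSplitting R hQ ((BialgEquiv.ofAlgEquiv (Algebra.TensorProduct.lid R A)
    (Algebra.TensorProduct.ext (by ext) (by ext a; simp))
    (Algebra.TensorProduct.ext (by ext) (by
      ext a
      simp only [AlgHom.coe_comp, Function.comp_apply, AlgHom.coe_restrictScalars', AlgEquiv.coe_toAlgHom,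
        Algebra.TensorProduct.includeRight_apply, Algebra.TensorProduct.lid_tmul, one_smul, Bialgebra.comulAlgHom_apply,
        TensorProduct.comul_tmul]
      rw [← (Coalgebra.Repr.arbitrary R a).eq]
      simp [TensorProduct.tmul_sum]))).trans e)

/-- base change of a splitting -/
def baseChange {Q : ∀ (U : Type u) [CommRing U] [Algebra R U], Prop} (S : Splitting R A Q) (R' : Type u) [CommRing R']
    [Algebra R R'] {Q' : ∀ (U : Type u) [CommRing U] [Algebra R' U], Prop} (hQ : ∀ i, Q' (R' ⊗[R] S.T i)) :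
    Splitting R' (R' ⊗[R] A) Q' :=
  haveI : Module.FaithfullyFlat R' (∀ i, R' ⊗[R] S.T i) := by
    classical
    exact Module.FaithfullyFlat.of_linearEquiv R' (R' ⊗[R] (∀ i, S.T i)) (TensorProduct.piRight R R' R' S.T).symm
  { ι := S.ι, T := fun i => R' ⊗[R] S.T i, mem := hQ, M := S.M
    equiv := fun i => (Split.cancel (R := R) (S := R') (T := R' ⊗[R] S.T i) (A := A)).trans
      (GLLift.extend (S.equiv i) (Algebra.TensorProduct.includeRight : S.T i →ₐ[R] R' ⊗[R] S.T i)) }

/-- diagonalisability lifts -/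
theorem isDiag_of_red {R₀ : Type u} [CommRing R₀] [Algebra R R₀]
    {Q : ∀ (U : Type u) [CommRing U] [Algebra R U], Prop} (D : LiftData R R₀ Q) (S : Splitting R A Q)
    (h : SGA3b.IsDiag R₀ (R₀ ⊗[R] A)) : SGA3b.IsDiag R A := by
  obtain ⟨M, _, ⟨e₀⟩⟩ := h
  obtain ⟨e, -⟩ := HomLift.exists_equiv_lift D (trivialSplitting D.base (BialgEquiv.refl R (MonoidAlgebra R M))) S
    (e₀.trans (Split.scalarBialgEquiv R R₀ M).symm)
  exact ⟨M, inferInstance, ⟨e⟩⟩

theorem isDiag_of_nil (h : SGA3b.IsMultType R A) (C B : Type u) [CommRing C] [CommRing B] [Algebra R C]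
    [Algebra R B] (φ : C →ₐ[R] B) (hφ : Function.Surjective φ) (hn : ∀ x ∈ RingHom.ker φ, IsNilpotent x)
    (hB : SGA3b.IsDiag B (B ⊗[R] A)) : SGA3b.IsDiag C (C ⊗[R] A) := by
  obtain ⟨S⟩ := exists_splitting h
  letI := φ.toRingHom.toAlgebra
  haveI : IsScalarTower R C B := IsScalarTower.of_algebraMap_eq fun r => (φ.commutes r).symm
  refine isDiag_of_red (R₀ := B) (nilLiftData (R := C) hφ hn) (baseChange S C fun i => ?_)
    ((QIT.isDiag_tower_iff C B).mpr hB)
  haveI := S.mem i
  exact (inferInstance : Module.Flat C (C ⊗[R] S.T i))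

/-- etale algebras lift along nil ideals -/
theorem exists_etale_lift {R₀ : Type u} [CommRing R₀] [Algebra R R₀] (hs : Function.Surjective (algebraMap R R₀))
    (hn : ∀ x ∈ RingHom.ker (algebraMap R R₀), IsNilpotent x) (B : Type u) [CommRing B] [Algebra R₀ B] [Algebra R B]
    [IsScalarTower R R₀ B] [Algebra.Etale R₀ B] :
    ∃ (C : Type u) (_ : CommRing C) (_ : Algebra R C) (φ : C →ₐ[R] B), Function.Surjective φ ∧
      (∀ x ∈ RingHom.ker φ, IsNilpotent x) ∧ Algebra.Etale R C ∧
      (Module.FaithfullyFlat R₀ B → Module.FaithfullyFlat R C) ∧ (Module.Finite R₀ B → Module.Finite R C) := by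
  let J := RingHom.ker (algebraMap R R₀)
  let eJ : (R ⧸ J) ≃+* R₀ := RingHom.quotientKerEquivOfSurjective hs
  letI : Algebra (R ⧸ J) R₀ := eJ.toRingHom.toAlgebra
  letI : Algebra (R ⧸ J) B := ((algebraMap R₀ B).comp eJ.toRingHom).toAlgebra
  haveI : IsScalarTower (R ⧸ J) R₀ B := IsScalarTower.of_algebraMap_eq fun x => rfl
  haveI : IsScalarTower R (R ⧸ J) B := IsScalarTower.of_algebraMap_eq fun x => by
    rw [IsScalarTower.algebraMap_apply R R₀ B]; rfl
  haveI : Algebra.Etale (R ⧸ J) R₀ :=
    Algebra.Etale.of_equiv (AlgEquiv.ofBijective (Algebra.ofId (R ⧸ J) R₀) eJ.bijective)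
  haveI : Algebra.Etale (R ⧸ J) B := Algebra.Etale.comp (R ⧸ J) R₀ B
  obtain ⟨C, _, _, hC, ⟨e⟩⟩ := IndAlg.EtaleLift.exists_lift R J B
  let φ : C →ₐ[R] B := e.toAlgHom.comp (Ideal.Quotient.mkₐ R _)
  have hφs : Function.Surjective φ := e.surjective.comp Ideal.Quotient.mk_surjective
  have hker : ∀ x ∈ RingHom.ker φ, IsNilpotent x := by
    intro x hx
    refine map_nil hn C x ?_
    rw [RingHom.mem_ker] at hx
    exact Ideal.Quotient.eq_zero_iff_mem.mp ((map_eq_zero_iff e e.injective).mp hx)
  refine ⟨C, inferInstance, inferInstance, φ, hφs, hker, hC, fun hff => ?_, fun hfin => ?_⟩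
  · refine Module.FaithfullyFlat.of_comap_surjective fun p => ?_
    have hle : RingHom.ker (algebraMap R R₀) ≤ p.asIdeal := fun x hx =>
      nilradical_le_prime p.asIdeal (mem_nilradical.mpr (hn x hx))
    let p₀ : PrimeSpectrum R₀ := ⟨p.asIdeal.map (algebraMap R R₀), Ideal.map_isPrime_of_surjective hs hle⟩
    obtain ⟨q, hq⟩ := PrimeSpectrum.comap_surjective_of_faithfullyFlat (A := R₀) (B := B) p₀
    refine ⟨q.comap φ.toRingHom, ?_⟩
    apply PrimeSpectrum.ext
    have h1 := congrArg (fun P => Ideal.comap (algebraMap R R₀) (PrimeSpectrum.asIdeal P)) hq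
    change Ideal.comap (algebraMap R R₀) (q.asIdeal.comap (algebraMap R₀ B)) =
      Ideal.comap (algebraMap R R₀) (p.asIdeal.map (algebraMap R R₀)) at h1
    rw [Ideal.comap_comap, ← IsScalarTower.algebraMap_eq, Ideal.comap_map_of_surjective' _ hs,
      sup_eq_left.mpr hle] at h1
    change (q.asIdeal.comap φ.toRingHom).comap (algebraMap R C) = p.asIdeal
    rw [Ideal.comap_comap, show φ.toRingHom.comp (algebraMap R C) = algebraMap R B from φ.comp_algebraMap]
    exact h1
  · haveI : Module.Finite R R₀ := Module.Finite.of_surjective (Algebra.linearMap R R₀) hs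
    haveI : Module.Finite R B := Module.Finite.trans R₀ B
    haveI : Algebra.IsIntegral R C := ⟨fun x => by
      obtain ⟨p, hp, hp0⟩ := Algebra.IsIntegral.isIntegral (R := R) (φ x)
      have h1 : Polynomial.aeval x p ∈ RingHom.ker φ := by
        rw [RingHom.mem_ker, ← Polynomial.aeval_algHom_apply]
        exact hp0
      obtain ⟨n, hn'⟩ := hker _ h1
      exact ⟨p ^ n, hp.pow n, by
        change Polynomial.aeval x (p ^ n) = 0
        rw [map_pow, hn']⟩⟩
    exact Algebra.IsIntegral.finite

theorem isIsotrivial_of_red {R₀ : Type u} [CommRing R₀] [Algebra R R₀] (hs : Function.Surjective (algebraMap R R₀))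
    (hn : ∀ x ∈ RingHom.ker (algebraMap R R₀), IsNilpotent x) (h : SGA3b.IsMultType R A)
    (h0 : SGA3b.IsIsotrivial R₀ (R₀ ⊗[R] A)) : SGA3b.IsIsotrivial R A := by
  obtain ⟨B, _, _, _, hfin, hff, hd⟩ := h0
  letI : Algebra R B := ((algebraMap R₀ B).comp (algebraMap R R₀)).toAlgebra
  haveI : IsScalarTower R R₀ B := IsScalarTower.of_algebraMap_eq fun x => rfl
  obtain ⟨C, i₁, i₂, φ, hφ, hker, hC, hCff, hCfin⟩ := exists_etale_lift hs hn B
  exact ⟨C, i₁, i₂, hC, hCfin hfin, hCff hff, isDiag_of_nil h C B φ hφ hker ((QIT.isDiag_tower_iff R₀ B).mp hd)⟩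

theorem isQuasiIsotrivial_of_red (I : Ideal R) (hI : ∀ x ∈ I, IsNilpotent x) (h : SGA3b.IsMultType R A)
    (h0 : SGA3b.IsQuasiIsotrivial (R ⧸ I) ((R ⧸ I) ⊗[R] A)) : SGA3b.IsQuasiIsotrivial R A := by
  obtain ⟨s, hs, hloc⟩ := h0
  refine ⟨Ideal.Quotient.mk I ⁻¹' s, ?_, fun f hf => ?_⟩
  · by_contra hne
    obtain ⟨m, hm, hle⟩ := Ideal.exists_le_maximal _ hne
    have hIm : I ≤ m := fun x hx => by
      haveI := hm.isPrime
      exact nilradical_le_prime m (mem_nilradical.mpr (hI x hx))
    have h1 : Ideal.span s ≤ m.map (Ideal.Quotient.mk I) := by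
      refine Ideal.span_le.mpr fun y hy => ?_
      obtain ⟨x, rfl⟩ := Ideal.Quotient.mk_surjective y
      exact Ideal.mem_map_of_mem _ (hle (Ideal.subset_span hy))
    rw [hs, top_le_iff] at h1
    replace h1 := congrArg (Ideal.comap (Ideal.Quotient.mk I)) h1
    rw [Ideal.comap_map_of_surjective' _ Ideal.Quotient.mk_surjective, Ideal.mk_ker, sup_eq_left.mpr hIm,
      Ideal.comap_top] at h1
    exact hm.ne_top h1
  · let S := Localization.Away f
    let L := Localization.Away (Ideal.Quotient.mk I f)
    letI : Algebra S L := (IsLocalization.Away.map S L (Ideal.Quotient.mk I) f).toAlgebra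
    haveI : IsScalarTower R S L := IsScalarTower.of_algebraMap_eq fun r => by
      rw [RingHom.algebraMap_toAlgebra, IsLocalization.Away.map, IsLocalization.map_eq,
        IsScalarTower.algebraMap_apply R (R ⧸ I) L]
      rfl
    have hsurj : Function.Surjective (algebraMap S L) := fun z => by
      obtain ⟨⟨a, ⟨_, k, rfl⟩⟩, h1⟩ := IsLocalization.surj (Submonoid.powers (Ideal.Quotient.mk I f)) z
      obtain ⟨r, rfl⟩ := Ideal.Quotient.mk_surjective a
      refine ⟨IsLocalization.mk' S r (⟨f ^ k, k, rfl⟩ : Submonoid.powers f), ?_⟩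
      refine ((IsLocalization.Away.algebraMap_isUnit (S := L) (Ideal.Quotient.mk I f)).pow k).mul_right_cancel ?_
      have hp : algebraMap (R ⧸ I) L (Ideal.Quotient.mk I f) ^ k = algebraMap R L (f ^ k) := by
        rw [← map_pow, ← map_pow, IsScalarTower.algebraMap_apply R (R ⧸ I) L (f ^ k)]; rfl
      have h1' : z * algebraMap R L (f ^ k) = algebraMap R L r := by
        rw [← hp, ← map_pow, IsScalarTower.algebraMap_apply R (R ⧸ I) L r]; exact h1
      rw [hp, h1']
      rw [IsScalarTower.algebraMap_apply R S L (f ^ k), ← map_mul,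
        show IsLocalization.mk' S r (⟨f ^ k, k, rfl⟩ : Submonoid.powers f) * algebraMap R S (f ^ k) =
          algebraMap R S r from IsLocalization.mk'_spec S r (⟨f ^ k, k, rfl⟩ : Submonoid.powers f),
        ← IsScalarTower.algebraMap_apply]
    have hnil : ∀ z ∈ RingHom.ker (algebraMap S L), IsNilpotent z := by
      intro z hz
      obtain ⟨⟨r, u⟩, h1⟩ := IsLocalization.surj (Submonoid.powers f) z
      have h2 := congrArg (algebraMap S L) h1
      rw [map_mul, RingHom.mem_ker.mp hz, zero_mul, ← IsScalarTower.algebraMap_apply,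
        IsScalarTower.algebraMap_apply R (R ⧸ I) L] at h2
      obtain ⟨⟨_, k, rfl⟩, h3⟩ :=
        (IsLocalization.map_eq_zero_iff (Submonoid.powers (Ideal.Quotient.mk I f)) L _).mp h2.symm
      have h4 : f ^ k * r ∈ I := by
        rw [← Ideal.Quotient.eq_zero_iff_mem, map_mul, map_pow]
        exact h3
      have h5 := (hI _ h4).map (algebraMap R S)
      rw [map_mul, ← h1] at h5
      have hu : IsUnit (algebraMap R S (f ^ k)) := by
        rw [map_pow]; exact (IsLocalization.Away.algebraMap_isUnit f).pow k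
      have hv := hu.mul (IsLocalization.map_units S u)
      rw [show algebraMap R S (f ^ k) * (z * algebraMap R S u) = (algebraMap R S (f ^ k) * algebraMap R S u) * z by
        ring] at h5
      obtain ⟨n, hn⟩ := h5
      refine ⟨n, ?_⟩
      rw [mul_pow] at hn
      exact (hv.pow n).mul_right_eq_zero.mp hn
    obtain ⟨B, _, _, hB, hB', hd⟩ := hloc _ hf
    letI : Algebra S B := ((algebraMap L B).comp (algebraMap S L)).toAlgebra
    haveI : IsScalarTower S L B := IsScalarTower.of_algebraMap_eq fun x => rfl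
    letI : Algebra (R ⧸ I) B := ((algebraMap L B).comp (algebraMap (R ⧸ I) L)).toAlgebra
    haveI : IsScalarTower (R ⧸ I) L B := IsScalarTower.of_algebraMap_eq fun x => rfl
    letI : Algebra R B := ((algebraMap L B).comp (algebraMap R L)).toAlgebra
    haveI : IsScalarTower R L B := IsScalarTower.of_algebraMap_eq fun x => rfl
    haveI : IsScalarTower R S B := IsScalarTower.of_algebraMap_eq fun x =>
      congrArg (algebraMap L B) (IsScalarTower.algebraMap_apply R S L x)
    haveI : IsScalarTower R (R ⧸ I) B := IsScalarTower.of_algebraMap_eq fun x =>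
      congrArg (algebraMap L B) (IsScalarTower.algebraMap_apply R (R ⧸ I) L x)
    rw [QIT.isDiag_tower_iff L B, QIT.isDiag_tower_iff (R ⧸ I) B] at hd
    obtain ⟨C, i₁, i₂, φ, hφ, hker, hC, hCff, -⟩ := exists_etale_lift hsurj hnil B
    refine ⟨C, i₁, i₂, hC, hCff hB', ?_⟩
    letI : Algebra R C := ((algebraMap S C).comp (algebraMap R S)).toAlgebra
    haveI : IsScalarTower R S C := IsScalarTower.of_algebraMap_eq fun x => rfl
    exact (QIT.isDiag_tower_iff S C).mpr (isDiag_of_nil h C B (φ.restrictScalars R) hφ hker hd)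

end

end Groth.Agent.MultType.NilLift
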