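import Groth.Agent.MultType.QIT
import Groth.Agent.MultType.NilLift
import Groth.Agent.MultType.FormalLift
import Groth.Agent.MultType.HomLift
import Mathlib.RingTheory.Flat.Localization
import Mathlib.RingTheory.Localization.AtPrime.Basic

/-!
# The levels of a group which is of multiplicative type along `V(I)`
-/

open Coalgebra TensorProduct

universe u

namespace Groth.Agent.MultType.AdicLevel

open Split GroupLike

noncomputable section

section QI

variable {R : Type u} [CommRing R] {A : Type u} [CommRing A] [HopfAlgebra R A]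

open QIT

theorem isQuasiIsotrivial_of_surjective [Module.Flat R A] {R₀ : Type u} [CommRing R₀] [Algebra R R₀]
    (hs₀ : Function.Surjective (algebraMap R R₀)) (hI : IsNilpotent (RingHom.ker (algebraMap R R₀)))
    (h : SGA3b.IsQuasiIsotrivial R₀ (R₀ ⊗[R] A)) : SGA3b.IsQuasiIsotrivial R A := by
  obtain ⟨s, hs, hloc⟩ := h
  set I := RingHom.ker (algebraMap R R₀) with hIdef
  refine ⟨(algebraMap R R₀) ⁻¹' s, ?_, fun f hf => ?_⟩
  · by_contra hne
    obtain ⟨m, hm, hle⟩ := Ideal.exists_le_maximal _ hne
    have hIm : I ≤ m := by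
      obtain ⟨n, hn⟩ := hI
      intro x hx
      refine hm.isPrime.mem_of_pow_mem n ?_
      have := Ideal.pow_mem_pow hx n
      rw [hn] at this
      rw [show x ^ n = 0 from this]
      exact zero_mem _
    have h1 : Ideal.span s ≤ m.map ((algebraMap R R₀)) := by
      refine Ideal.span_le.mpr fun y hy => ?_
      obtain ⟨x, rfl⟩ := hs₀ y
      exact Ideal.mem_map_of_mem _ (hle (Ideal.subset_span hy))
    rw [hs, top_le_iff] at h1
    replace h1 := congrArg (Ideal.comap ((algebraMap R R₀))) h1
    rw [Ideal.comap_map_of_surjective' _ hs₀, ← hIdef, sup_eq_left.mpr hIm,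
      Ideal.comap_top] at h1
    exact hm.ne_top h1
  · let S := Localization.Away f
    let L := Localization.Away ((algebraMap R R₀) f)
    letI : Algebra S L := (IsLocalization.Away.map S L ((algebraMap R R₀)) f).toAlgebra
    haveI : IsScalarTower R S L := IsScalarTower.of_algebraMap_eq fun r => by
      rw [RingHom.algebraMap_toAlgebra, IsLocalization.Away.map, IsLocalization.map_eq,
        IsScalarTower.algebraMap_apply R R₀ L]
    have hsurj : Function.Surjective (algebraMap S L) := fun z => by
      obtain ⟨⟨a, ⟨_, k, rfl⟩⟩, h1⟩ := IsLocalization.surj (Submonoid.powers ((algebraMap R R₀) f)) z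
      obtain ⟨r, rfl⟩ := hs₀ a
      refine ⟨IsLocalization.mk' S r (⟨f ^ k, k, rfl⟩ : Submonoid.powers f), ?_⟩
      refine ((IsLocalization.Away.algebraMap_isUnit (S := L) ((algebraMap R R₀) f)).pow k).mul_right_cancel ?_
      have hp : algebraMap R₀ L ((algebraMap R R₀) f) ^ k = algebraMap R L (f ^ k) := by
        rw [← map_pow, ← map_pow, IsScalarTower.algebraMap_apply R R₀ L (f ^ k)]
      have h1' : z * algebraMap R L (f ^ k) = algebraMap R L r := by
        rw [← hp, ← map_pow, IsScalarTower.algebraMap_apply R R₀ L r]; exact h1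
      rw [hp, h1']
      calc algebraMap S L (IsLocalization.mk' S r (⟨f ^ k, k, rfl⟩ : Submonoid.powers f)) * algebraMap R L (f ^ k)
          = algebraMap S L (IsLocalization.mk' S r (⟨f ^ k, k, rfl⟩ : Submonoid.powers f) * algebraMap R S (f ^ k)) := by
            rw [map_mul, ← IsScalarTower.algebraMap_apply]
        _ = algebraMap R L r := by
            rw [show IsLocalization.mk' S r (⟨f ^ k, k, rfl⟩ : Submonoid.powers f) * algebraMap R S (f ^ k) =
              algebraMap R S r from IsLocalization.mk'_spec S r (⟨f ^ k, k, rfl⟩ : Submonoid.powers f),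
              ← IsScalarTower.algebraMap_apply]
    have hnil : IsNilpotent (RingHom.ker (algebraMap S L)) := by
      obtain ⟨n, hn⟩ := hI
      refine ⟨n, ?_⟩
      have hle : RingHom.ker (algebraMap S L) ≤ I.map (algebraMap R S) := by
        intro z hz
        obtain ⟨⟨r, u⟩, h1⟩ := IsLocalization.surj (Submonoid.powers f) z
        have h2 := congrArg (algebraMap S L) h1
        rw [map_mul, RingHom.mem_ker.mp hz, zero_mul, ← IsScalarTower.algebraMap_apply,
          IsScalarTower.algebraMap_apply R R₀ L] at h2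
        obtain ⟨⟨_, k, rfl⟩, h3⟩ :=
          (IsLocalization.map_eq_zero_iff (Submonoid.powers ((algebraMap R R₀) f)) L _).mp h2.symm
        have h4 : f ^ k * r ∈ I := by
          rw [hIdef, RingHom.mem_ker, map_mul, map_pow]
          exact h3
        have h5 := Ideal.mem_map_of_mem (algebraMap R S) h4
        rw [map_mul] at h5
        have hu : IsUnit (algebraMap R S (f ^ k)) := by
          rw [map_pow]; exact (IsLocalization.Away.algebraMap_isUnit f).pow k
        have h6 := (Ideal.unit_mul_mem_iff_mem _ hu).mp h5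
        rw [← h1] at h6
        exact (Ideal.mul_unit_mem_iff_mem _ (IsLocalization.map_units S u)).mp h6
      rw [Ideal.zero_eq_bot, ← le_bot_iff]
      refine le_trans (Ideal.pow_right_mono hle n) ?_
      rw [← Ideal.map_pow, hn, Ideal.zero_eq_bot, Ideal.map_bot]
    refine isQuasiIsotrivialConst_of_surjective (R₀ := L) hsurj hnil ?_
    obtain ⟨B, _, _, hB, hB', hd⟩ := hloc _ hf
    refine ⟨B, inferInstance, inferInstance, hB, hB', ?_⟩
    letI : Algebra S B := ((algebraMap L B).comp (algebraMap S L)).toAlgebra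
    haveI : IsScalarTower S L B := IsScalarTower.of_algebraMap_eq fun x => rfl
    letI : Algebra R₀ B := ((algebraMap L B).comp (algebraMap R₀ L)).toAlgebra
    haveI : IsScalarTower R₀ L B := IsScalarTower.of_algebraMap_eq fun x => rfl
    letI : Algebra R B := ((algebraMap L B).comp (algebraMap R L)).toAlgebra
    haveI : IsScalarTower R L B := IsScalarTower.of_algebraMap_eq fun x => rfl
    haveI : IsScalarTower R S B := IsScalarTower.of_algebraMap_eq fun x =>
      congrArg (algebraMap L B) (IsScalarTower.algebraMap_apply R S L x)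
    haveI : IsScalarTower R R₀ B := IsScalarTower.of_algebraMap_eq fun x =>
      congrArg (algebraMap L B) (IsScalarTower.algebraMap_apply R R₀ L x)
    rw [isDiag_tower_iff L B] at hd ⊢
    rw [isDiag_tower_iff R₀ B] at hd
    exact (isDiag_tower_iff S B).mpr hd

theorem isMultType_of_qi (h : SGA3b.IsQuasiIsotrivial R A) : SGA3b.IsMultType R A := by
  obtain ⟨s, hs, hloc⟩ := h
  refine ⟨s, hs, fun f hf => ?_⟩
  obtain ⟨R', i₁, i₂, _, hff, hd⟩ := hloc f hf
  exact ⟨R', i₁, i₂, hff, hd⟩

theorem isMultType_of_isIsotrivial (h : SGA3b.IsIsotrivial R A) : SGA3b.IsMultType R A := by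
  obtain ⟨T, _, _, _, _, _, hd⟩ := h
  exact Diag.isMultType_of_diag T hd

end QI

variable {A : Type u} [CommRing A] {C : Type u} [CommRing C] [HopfAlgebra A C]

/-- flatness along `V(I)` gives flatness of the levels -/
theorem flat_level {I : Ideal A}
    (hfl : ∀ (q : Ideal C) [q.IsPrime], Ideal.map (algebraMap A C) I ≤ q → Module.Flat A (Localization.AtPrime q))
    {S : Type u} [CommRing S] [Algebra A S] (hs : Function.Surjective (algebraMap A S))
    (hker : ∀ x ∈ I, IsNilpotent (algebraMap A S x)) : Module.Flat S (S ⊗[A] C) := by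
  classical
  let red : C →ₐ[A] S ⊗[A] C := Algebra.TensorProduct.includeRight
  let q : ∀ (P : Ideal (S ⊗[A] C)) [P.IsMaximal], Ideal C := fun P _ => P.comap red.toRingHom
  have hred : Function.Surjective red := Lift.red_surjective (R := A) (R' := S) (S := C) hs
  have key : ∀ (P : Ideal (S ⊗[A] C)) [P.IsMaximal] (p : Ideal C) [p.IsPrime], p = P.comap red.toRingHom →
      Module.Flat A (Localization.AtPrime p) →
      Module.Flat S (LocalizedModule P.primeCompl (S ⊗[A] C)) := by
    intro P _ p _ hp hflat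
    let Φ : S ⊗[A] C →ₐ[S] S ⊗[A] Localization.AtPrime p :=
      Algebra.TensorProduct.map (AlgHom.id S S) (IsScalarTower.toAlgHom A C (Localization.AtPrime p))
    letI : Algebra (S ⊗[A] C) (S ⊗[A] Localization.AtPrime p) := Φ.toRingHom.toAlgebra
    have hΦ : ∀ c, Φ (red c) = (1 : S) ⊗ₜ[A] algebraMap C (Localization.AtPrime p) c := fun c => rfl
    haveI : IsScalarTower S (S ⊗[A] C) (S ⊗[A] Localization.AtPrime p) :=
      IsScalarTower.of_algebraMap_eq fun s => (Φ.commutes s).symm
    haveI : IsLocalization P.primeCompl (S ⊗[A] Localization.AtPrime p) := by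
      refine ⟨fun y => ?_, fun z => ?_, fun {x y} hxy => ?_⟩
      · obtain ⟨c, hc⟩ := hred y
        have hcp : c ∉ p := fun h => y.2 (by rw [← hc]; rw [hp] at h; exact h)
        have h1 := (IsLocalization.map_units (Localization.AtPrime p) (⟨c, hcp⟩ : p.primeCompl)).map
          (Algebra.TensorProduct.includeRight : Localization.AtPrime p →ₐ[A] S ⊗[A] Localization.AtPrime p)
        change IsUnit (Φ y)
        rw [← hc, hΦ]
        exact h1
      · obtain ⟨w, rfl⟩ := Lift.red_surjective (R := A) (R' := S) (S := Localization.AtPrime p) hs z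
        obtain ⟨⟨c, t⟩, ht⟩ := IsLocalization.surj p.primeCompl w
        refine ⟨(red c, ⟨red t, fun h => t.2 (show (t : C) ∈ p from hp ▸ h)⟩), ?_⟩
        change _ * Φ (red t) = Φ (red c)
        rw [hΦ, hΦ, ← ht]
        exact (map_mul (Algebra.TensorProduct.includeRight : Localization.AtPrime p →ₐ[A] S ⊗[A] Localization.AtPrime p)
          w (algebraMap C _ (t : C))).symm
      · obtain ⟨a, rfl⟩ := hred x
        obtain ⟨b, rfl⟩ := hred y
        change Φ (red a) = Φ (red b) at hxy
        rw [hΦ, hΦ] at hxy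
        have h1 := (Lift.red_eq_iff (R' := S) hs).mp hxy
        rw [← map_sub, IsScalarTower.algebraMap_eq A C (Localization.AtPrime p), ← Ideal.map_map] at h1
        obtain ⟨⟨⟨i, hi⟩, t⟩, ht⟩ := (IsLocalization.mem_map_algebraMap_iff p.primeCompl _).mp h1
        rw [← map_mul] at ht
        obtain ⟨v, hv⟩ := (IsLocalization.eq_iff_exists p.primeCompl _).mp ht
        refine ⟨⟨red (v * t), fun h => (v * t).2 (show ((v * t : p.primeCompl) : C) ∈ p from hp ▸ h)⟩, ?_⟩
        change red (v * t) * red a = red (v * t) * red b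
        rw [← map_mul, ← map_mul]
        refine (Lift.red_eq_iff (R' := S) hs).mpr ?_
        have e1 : (v : C) * t * a - (v : C) * t * b = v * i := by
          simp only at hv
          rw [← hv]; ring
        rw [e1]
        exact Ideal.mul_mem_left _ _ hi
    exact Module.Flat.of_linearEquiv
      ((IsLocalization.algEquiv P.primeCompl (Localization P.primeCompl)
        (S ⊗[A] Localization.AtPrime p)).restrictScalars S).toLinearEquiv
  refine Module.flat_of_isLocalized_maximal (S ⊗[A] C) (S ⊗[A] C)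
    (fun P _ => LocalizedModule P.primeCompl (S ⊗[A] C)) (fun P _ => LocalizedModule.mkLinearMap _ _) fun P hP => ?_
  haveI : (P.comap red.toRingHom).IsPrime := Ideal.IsPrime.comap _
  refine key P _ rfl (hfl _ (Ideal.map_le_iff_le_comap.mpr fun x hx => ?_))
  rw [Ideal.mem_comap, Ideal.mem_comap]
  obtain ⟨n, hn⟩ := hker x hx
  refine hP.isPrime.mem_of_pow_mem n ?_
  have h2 : red.toRingHom (algebraMap A C x) = algebraMap S (S ⊗[A] C) (algebraMap A S x) := by
    rw [← IsScalarTower.algebraMap_apply]
    exact red.commutes x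
  rw [h2, ← map_pow, hn, map_zero]
  exact zero_mem _

section Level

variable {B : Type u} [CommRing B] [HopfAlgebra A B] {R₀ : Type u} [CommRing R₀] [Algebra A R₀]
  {S : Type u} [CommRing S] [Algebra A S]

theorem level_unique [Algebra S R₀] [IsScalarTower A S R₀]
    (hs : Function.Surjective (algebraMap S R₀)) (hn : ∀ x ∈ RingHom.ker (algebraMap S R₀), IsNilpotent x)
    (SB : GLLift.Splitting S (S ⊗[A] B) (NilLift.FlatQ S)) (SC : GLLift.Splitting S (S ⊗[A] C) (NilLift.FlatQ S))
    {ψ ψ' : S ⊗[A] C →ₐc[S] S ⊗[A] B}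
    (h : ∀ c, bcMap (IsScalarTower.toAlgHom A S R₀) B (ψ (1 ⊗ₜ c)) =
      bcMap (IsScalarTower.toAlgHom A S R₀) B (ψ' (1 ⊗ₜ c))) : ψ = ψ' := by
  refine HomLift.hom_ext (NilLift.nilLiftData hs hn) SB SC fun z => ?_
  have key : ∀ y, (cancel (R := A) (S := S) (T := R₀) (A := B)) ((1 : R₀) ⊗ₜ[S] y) =
      bcMap (IsScalarTower.toAlgHom A S R₀) B y := by
    intro y
    induction y using TensorProduct.induction_on with
    | zero => simp
    | add p q hp hq => simp only [TensorProduct.tmul_add, map_add, hp, hq]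
    | tmul s b => rw [cancel_tmul, GLLift.bcMap_tmul, Algebra.smul_def, mul_one]; rfl
  apply (cancel (R := A) (S := S) (T := R₀) (A := B)).toAlgEquiv.injective
  change cancel _ = cancel _
  rw [key, key]
  induction z using TensorProduct.induction_on with
  | zero => simp
  | add p q hp hq => simp only [map_add, hp, hq]
  | tmul s c =>
    rw [show s ⊗ₜ[A] c = s • ((1 : S) ⊗ₜ[A] c) by rw [TensorProduct.smul_tmul', smul_eq_mul, mul_one], map_smul ψ,
      map_smul ψ', HomLift.bcMap_smul, HomLift.bcMap_smul, h c]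

theorem level_exists [Algebra S R₀] [IsScalarTower A S R₀]
    (hs : Function.Surjective (algebraMap S R₀)) (hn : ∀ x ∈ RingHom.ker (algebraMap S R₀), IsNilpotent x)
    (SB : GLLift.Splitting S (S ⊗[A] B) (NilLift.FlatQ S)) (SC : GLLift.Splitting S (S ⊗[A] C) (NilLift.FlatQ S))
    (φ₀ : R₀ ⊗[A] C →ₐc[R₀] R₀ ⊗[A] B) :
    ∃ ψ : S ⊗[A] C →ₐc[S] S ⊗[A] B, ∀ c, bcMap (IsScalarTower.toAlgHom A S R₀) B (ψ (1 ⊗ₜ c)) = φ₀ (1 ⊗ₜ c) := by
  let φ₀' : R₀ ⊗[S] (S ⊗[A] C) →ₐc[R₀] R₀ ⊗[S] (S ⊗[A] B) :=
    ((cancel (R := A) (S := S) (T := R₀) (A := B)).symm : R₀ ⊗[A] B →ₐc[R₀] R₀ ⊗[S] (S ⊗[A] B)).comp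
      (φ₀.comp (cancel (R := A) (S := S) (T := R₀) (A := C) : R₀ ⊗[S] (S ⊗[A] C) →ₐc[R₀] R₀ ⊗[A] C))
  obtain ⟨ψ, hψ⟩ := HomLift.exists_lift φ₀' (NilLift.nilLiftData hs hn) SB SC
  refine ⟨ψ, fun c => ?_⟩
  have key : ∀ y, (cancel (R := A) (S := S) (T := R₀) (A := B)) ((1 : R₀) ⊗ₜ[S] y) =
      bcMap (IsScalarTower.toAlgHom A S R₀) B y := by
    intro y
    induction y using TensorProduct.induction_on with
    | zero => simp
    | add p q hp hq => simp only [TensorProduct.tmul_add, map_add, hp, hq]
    | tmul s b => rw [cancel_tmul, GLLift.bcMap_tmul, Algebra.smul_def, mul_one]; rfl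
  rw [← key, ← hψ]
  refine ((cancel (R := A) (S := S) (T := R₀) (A := B)).toAlgEquiv.apply_symm_apply _).trans ?_
  exact congrArg φ₀ ((cancel_tmul (R := A) (S := S) (T := R₀) (1 : R₀) (1 : S) c).trans (by rw [one_smul]))

end Level

end

end Groth.Agent.MultType.AdicLevel
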