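import Groth.Agent.MultType.FormalLift
import Groth.Agent.MultType.HomLift
import Groth.Agent.Hensel.Pair
import Mathlib.RingTheory.LocalRing.Module
import Mathlib.RingTheory.LocalRing.ResidueField.Basic
import Mathlib.RingTheory.Henselian

/-!
# A finite flat group over a henselian local ring with split closed fibre is diagonalisable
-/

open Coalgebra TensorProduct WithConv

universe u

namespace Groth.Agent.MultType.HenselDiag

noncomputable section

variable {R : Type u} [CommRing R]

theorem mem_smul_of_coord {ι : Type u} [Fintype ι] {N : Type u} [AddCommGroup N] [Module R N] (J : Ideal R)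
    (b : Module.Basis ι R N) {x : N} (h : ∀ i, b.repr x i ∈ J) : x ∈ J • (⊤ : Submodule R N) := by
  rw [← b.sum_repr x]
  exact Submodule.sum_mem _ fun i _ => Submodule.smul_mem_smul (h i) Submodule.mem_top

theorem eq_zero_of_idem_mem [IsLocalRing R] {e : R} (he : IsIdempotentElem e) (hm : e ∈ IsLocalRing.maximalIdeal R) : e = 0 := by
  have hu : IsUnit (1 - e) := IsLocalRing.isUnit_one_sub_self_of_mem_nonunits e hm
  refine hu.mul_left_eq_zero.mp ?_
  rw [mul_sub, mul_one, he.eq, sub_self]

theorem eq_of_idem [IsLocalRing R] {a b : R} (ha : IsIdempotentElem a) (hb : IsIdempotentElem b)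
    (h : IsLocalRing.residue R a = IsLocalRing.residue R b) : a = b := by
  have key : ∀ {a b : R}, IsIdempotentElem a → IsIdempotentElem b →
      IsLocalRing.residue R a = IsLocalRing.residue R b → a * (1 - b) = 0 := by
    intro a b ha hb h
    refine eq_zero_of_idem_mem (ha.mul hb.one_sub) ?_
    rw [← IsLocalRing.residue_eq_zero_iff, map_mul, map_sub, map_one, h, mul_sub, mul_one, ← map_mul, hb.eq, sub_self]
  have h1 := key ha hb h
  have h2 := key hb ha h.symm
  linear_combination h1 - h2

theorem isDiag_of_closedFibre [HenselianLocalRing R] {B : Type u} [CommRing B] [HopfAlgebra R B]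
    [Coalgebra.IsCocomm R B] [Module.Finite R B] [Module.Flat R B] {M : Type u} [CommGroup M]
    (e : IsLocalRing.ResidueField R ⊗[R] B ≃ₐc[IsLocalRing.ResidueField R]
      MonoidAlgebra (IsLocalRing.ResidueField R) M) :
    Nonempty (B ≃ₐc[R] MonoidAlgebra R M) := by
  classical
  let k := IsLocalRing.ResidueField R
  let m₀ := IsLocalRing.maximalIdeal R
  let res : R →+* k := algebraMap R k
  have hres : Function.Surjective res := IsLocalRing.residue_surjective
  have hres0 : ∀ r, res r = 0 ↔ r ∈ m₀ := fun r => IsLocalRing.residue_eq_zero_iff r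
  haveI : Module.Free R B := Module.free_of_flat_of_isLocalRing
  haveI : Module.Finite k (MonoidAlgebra k M) := Module.Finite.equiv e.toAlgEquiv.toLinearEquiv
  haveI : Finite M := Module.Finite.finite_basis (MonoidAlgebra.basis M k)
  cases nonempty_fintype M
  let bB := Module.Free.chooseBasis R B
  -- the dual algebra
  let D := WithConv (B →ₗ[R] R)
  let eD : D ≃ₗ[R] (B →ₗ[R] R) := WithConv.linearEquiv R (B →ₗ[R] R)
  haveI : Module.Finite R D := Module.Finite.equiv eD.symm
  haveI : Algebra.IsIntegral R D := Algebra.IsIntegral.of_finite R D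
  let mD := m₀.map (algebraMap R D)
  have hmD : ∀ {ξ : D}, (∀ b, res (ξ b) = 0) → ξ ∈ mD := by
    intro ξ h
    have h1 : ξ ∈ m₀ • (⊤ : Submodule R D) := by
      have h2 : ξ = ∑ i, ξ (bB i) • eD.symm (bB.coord i) := by
        apply eD.injective
        rw [map_sum]
        simp only [map_smul, LinearEquiv.apply_symm_apply]
        exact (bB.sum_dual_apply_smul_coord (eD ξ)).symm
      rw [h2]
      exact Submodule.sum_mem _ fun i _ => Submodule.smul_mem_smul ((hres0 _).mp (h _)) Submodule.mem_top
    rw [Ideal.smul_top_eq_map] at h1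
    exact h1
  have hmD' : ∀ {ξ : D}, ξ ∈ mD → ∀ b, res (ξ b) = 0 := by
    intro ξ h b
    have h1 := FormalLift.lin_mem ((LinearMap.applyₗ b : (B →ₗ[R] R) →ₗ[R] R) ∘ₗ eD.toLinearMap) h
    rw [smul_eq_mul, Ideal.mul_top] at h1
    exact (hres0 _).mpr h1
  -- coordinates on the closed fibre
  have hlift : ∀ m, ∃ ξ : D, ∀ b, res (ξ b) = FormalLift.ω e m b := by
    intro m
    choose c hc using fun i => hres (FormalLift.ω e m (bB i))
    refine ⟨eD.symm (bB.constr ℕ c), fun b => ?_⟩
    have h1 : Algebra.linearMap R k ∘ₗ (bB.constr ℕ c) = FormalLift.ω e m := bB.ext fun i => by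
      simp only [LinearMap.comp_apply, Module.Basis.constr_basis, Algebra.linearMap_apply]
      exact hc i
    exact LinearMap.congr_fun h1 b
  have hmul : ∀ {ξ η : D} {m n : M}, (∀ b, res (ξ b) = FormalLift.ω e m b) →
      (∀ b, res (η b) = FormalLift.ω e n b) → ∀ b, res ((ξ * η : D) b) = if m = n then FormalLift.ω e m b else 0 := by
    intro ξ η m n hξ hη b
    rw [← FormalLift.ω₂_comul e m n b, LinearMap.convMul_apply]
    induction comul (R := R) b using TensorProduct.induction_on with
    | zero => simp
    | add p q hp hq => simp only [map_add, hp, hq]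
    | tmul p q => simp [FormalLift.ω₂_tmul, hξ, hη]
  have hid : ∀ m, ∃ E : D, IsIdempotentElem E ∧ ∀ b, res (E b) = FormalLift.ω e m b := by
    intro m
    obtain ⟨ξ, hξ⟩ := hlift m
    have h1 : IsIdempotentElem (Ideal.Quotient.mk mD ξ) := by
      rw [IsIdempotentElem, ← map_mul, Ideal.Quotient.eq]
      refine hmD fun b => ?_
      change res ((ξ * ξ : D) b - ξ b) = 0
      rw [map_sub, hmul hξ hξ, if_pos rfl, hξ, sub_self]
    obtain ⟨E, hE, hE'⟩ := (Hensel.idempotents_bijOn (I := m₀) D).surjOn h1
    refine ⟨E, hE, fun b => ?_⟩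
    have h2 := hmD' (Ideal.Quotient.eq.mp hE') b
    change res (E b - ξ b) = 0 at h2
    rw [map_sub, sub_eq_zero] at h2
    rw [h2, hξ]
  choose E hE hEres using hid
  have horth : ∀ m n, E m * E n = if m = n then E m else 0 := by
    intro m n
    split_ifs with h
    · subst h; exact hE m
    · refine (Hensel.idempotents_bijOn (I := m₀) D).injOn ((hE m).mul (hE n)) IsIdempotentElem.zero ?_
      rw [Ideal.Quotient.eq, sub_zero]
      refine hmD fun b => ?_
      rw [hmul (hEres m) (hEres n), if_neg h]
  have hsum : ∑ m, E m = 1 := by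
    refine (Hensel.idempotents_bijOn (I := m₀) D).injOn ?_ IsIdempotentElem.one ?_
    · change (∑ m, E m) * (∑ m, E m) = ∑ m, E m
      rw [Finset.sum_mul_sum]
      simp [horth]
    · rw [Ideal.Quotient.eq]
      refine hmD fun b => ?_
      change res ((∑ m, E m : D).ofConv b - (1 : D) b) = 0
      rw [map_sub, show (∑ m, E m : D).ofConv = ∑ m, (E m).ofConv from map_sum eD E _, LinearMap.sum_apply, map_sum]
      simp only [hEres]
      rw [LinearMap.convOne_apply, sub_eq_zero]
      have h1 : ∀ x : MonoidAlgebra k M, ∑ m, x.coeff m = counit (R := k) x := by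
        intro x
        induction x using MonoidAlgebra.induction_linear with
        | zero => simp
        | add x y hx hy => simp only [map_add, MonoidAlgebra.coeff_add, Finsupp.add_apply, Finset.sum_add_distrib, hx, hy]
        | single m r => simp [MonoidAlgebra.coeff_single, Finsupp.single_apply]
      simp only [FormalLift.ω_apply]
      rw [h1, CoalgHomClass.counit_comp_apply, TensorProduct.counit_tmul]
      simp [Algebra.smul_def, res]
  -- the linear map to functions
  let Φ : B →ₗ[R] (M → R) := LinearMap.pi fun m => (E m).ofConv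
  have hsurj : Function.Surjective Φ := by
    rw [← LinearMap.range_eq_top, eq_top_iff]
    refine Submodule.le_of_le_smul_of_le_jacobson_bot Module.Finite.fg_top
      (le_of_eq (IsLocalRing.jacobson_eq_maximalIdeal ⊥ bot_ne_top).symm) fun v _ => ?_
    obtain ⟨b, hb⟩ := Lift.red_surjective (R := R) (R' := k) (S := B) hres
      (e.symm (∑ m, MonoidAlgebra.single m (res (v m))))
    rw [← sub_add_cancel v (Φ b), add_comm]
    refine Submodule.add_mem_sup ⟨b, rfl⟩ ?_
    refine mem_smul_of_coord m₀ (Pi.basisFun R M) fun m => ?_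
    rw [Pi.basisFun_repr, ← hres0, Pi.sub_apply, map_sub]
    change res (v m) - res (E m b) = 0
    rw [hEres, FormalLift.ω_apply, show (1 : k) ⊗ₜ[R] b = e.symm (∑ m, MonoidAlgebra.single m (res (v m))) from hb,
      show e (e.symm (∑ m, MonoidAlgebra.single m (res (v m)))) = ∑ m, MonoidAlgebra.single m (res (v m)) from
        e.toAlgEquiv.apply_symm_apply _, MonoidAlgebra.coeff_sum, Finset.sum_apply']
    simp [MonoidAlgebra.coeff_single, Finsupp.single_apply]
  have hcard : Module.finrank R B = Fintype.card M := by
    rw [← Module.finrank_baseChange (R := k) (S := R) (M' := B), e.toAlgEquiv.toLinearEquiv.finrank_eq,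
      Module.finrank_eq_card_basis (MonoidAlgebra.basis M k)]
  have hbij : Function.Bijective Φ := by
    let g : (M → R) ≃ₗ[R] B := (Pi.basisFun R M).equiv (Module.finBasisOfFinrankEq R B hcard)
      ((Fintype.equivFin M))
    have h1 : Function.Bijective (Φ ∘ₗ g.toLinearMap) :=
      OrzechProperty.bijective_of_surjective_endomorphism _ (hsurj.comp g.surjective)
    exact (Function.Bijective.of_comp_iff Φ g.bijective).mp h1
  let e' : B ≃ₗ[R] (M → R) := LinearEquiv.ofBijective Φ hbij
  let bM : Module.Basis M R B := (Pi.basisFun R M).map e'.symm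
  have hcoord : ∀ x m, bM.repr x m = E m x := fun x m => by
    simp only [bM, Module.Basis.map_repr, LinearEquiv.trans_apply, LinearEquiv.symm_symm, Pi.basisFun_repr]
    rfl
  have hΔ : ∀ x m n, (bM.tensorProduct bM).repr (comul x) (m, n) = (E m * E n : D) x := by
    intro x m n
    rw [LinearMap.convMul_apply]
    induction comul (R := R) x using TensorProduct.induction_on with
    | zero => simp
    | add p q hp hq => simp only [map_add, Finsupp.add_apply, hp, hq]
    | tmul p q =>
      simp only [Module.Basis.tensorProduct_repr_tmul_apply, hcoord, TensorProduct.map_tmul, LinearMap.mul'_apply,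
        smul_eq_mul]
      ring
  have hone : ∀ x, ∑ m, E m x = counit (R := R) x := fun x => by
    have h1 := congrArg (fun ξ : D => ξ x) hsum
    rw [show (∑ m, E m : D).ofConv = ∑ m, (E m).ofConv from map_sum eD E _, LinearMap.sum_apply,
      LinearMap.convOne_apply] at h1
    simpa using h1
  let g : M → B := fun m => bM m
  have hEg : ∀ m a, E m (g a) = if a = m then 1 else 0 := fun m a => by
    rw [← hcoord, bM.repr_self, Finsupp.single_apply]
  have hgl : ∀ a, IsGroupLikeElem R (g a) := by
    intro a
    refine ⟨?_, (bM.tensorProduct bM).repr.injective ?_⟩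
    · rw [← hone]; simp [hEg]
    · ext ⟨m, n⟩
      rw [hΔ, horth, Module.Basis.tensorProduct_repr_tmul_apply, hcoord, hcoord, hEg, hEg, smul_eq_mul]
      split_ifs <;> simp_all
  have huniq : ∀ x, IsGroupLikeElem R x → ∀ a, (∀ m, res (E m x) = if a = m then 1 else 0) → x = g a := by
    intro x hx a h
    apply bM.repr.injective
    ext m
    rw [hcoord, hcoord, hEg]
    refine eq_of_idem ?_ ?_ ?_
    · have h1 := hΔ x m m
      rw [horth, if_pos rfl, hx.comul_eq_tmul_self, Module.Basis.tensorProduct_repr_tmul_apply, hcoord, smul_eq_mul]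
        at h1
      exact h1
    · split_ifs
      · exact IsIdempotentElem.one
      · exact IsIdempotentElem.zero
    · change res _ = res _
      rw [h]
      split_ifs <;> simp
  have hωg : ∀ a, e ((1 : k) ⊗ₜ[R] g a) = MonoidAlgebra.single a 1 := by
    intro a
    ext m
    rw [← FormalLift.ω_apply, ← hEres, hEg, MonoidAlgebra.coeff_single, Finsupp.single_apply]
    split_ifs <;> simp
  let χ : M →* B :=
    { toFun := g
      map_one' := (huniq 1 IsGroupLikeElem.one 1 fun m => by
        rw [hEres, FormalLift.ω_apply, ← Algebra.TensorProduct.one_def,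
          show e 1 = 1 from e.toAlgEquiv.map_one, MonoidAlgebra.one_def, MonoidAlgebra.coeff_single,
          Finsupp.single_apply]).symm
      map_mul' := fun a b => (huniq (g a * g b) ((hgl a).mul (hgl b)) (a * b) fun m => by
        rw [hEres, FormalLift.ω_apply, ← one_mul (1 : k), ← Algebra.TensorProduct.tmul_mul_tmul,
          show ∀ p q, e (p * q) = e p * e q from fun p q => e.toAlgEquiv.map_mul p q, hωg, hωg,
          MonoidAlgebra.single_mul_single, one_mul, MonoidAlgebra.coeff_single, Finsupp.single_apply]).symm }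
  let ψ := HomLift.ofChar χ hgl
  have hbijψ : Function.Bijective ψ := by
    have h1 : (ψ : MonoidAlgebra R M →ₗ[R] B) = ((MonoidAlgebra.basis M R).equiv bM (Equiv.refl M)).toLinearMap := by
      apply (MonoidAlgebra.basis M R).ext
      intro a
      simp only [LinearEquiv.coe_coe, Module.Basis.equiv_apply, Equiv.refl_apply]
      rw [MonoidAlgebra.basis_apply]
      exact HomLift.ofChar_single χ hgl a
    change Function.Bijective (ψ : MonoidAlgebra R M →ₗ[R] B)
    rw [h1]
    exact ((MonoidAlgebra.basis M R).equiv bM (Equiv.refl M)).bijective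
  exact ⟨(BialgEquiv.ofBijective ψ hbijψ).symm⟩

end

end Groth.Agent.MultType.HenselDiag
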