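import Groth.Agent.MultType.TorsionHopf
import Groth.Agent.MultType.HenselDiag
import Groth.Agent.MultType.Diag

/-!
# Groups of multiplicative type over henselian local rings

* `isDiag_of_henselian`: a group of multiplicative type and of finite type over a henselian local ring with
  diagonalisable closed fibre is diagonalisable.
-/

open Coalgebra TensorProduct

universe u

namespace Groth.Agent.MultType.HenselSplit

open GroupLike

noncomputable section

/-- a finitely generated abelian group is residually finite -/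
theorem exists_not_mem_powers {M : Type u} [CommGroup M] [Group.FG M] {x : M} (hx : x ≠ 1) :
    ∃ n : ℕ, 0 < n ∧ x ∉ TorsionHopf.powSub M n := by
  classical
  obtain ⟨k, ι, hι, p, hp, e, ⟨f⟩⟩ :=
    AddCommGroup.equiv_free_prod_directSum_zmod (G := Additive M)
  haveI : ∀ i, NeZero (p i ^ e i) := fun i => ⟨pow_ne_zero _ (hp i).ne_zero⟩
  haveI := hι
  haveI : Finite (DirectSum ι fun i => ZMod (p i ^ e i)) :=
    Finite.of_equiv _ (DirectSum.linearEquivFunOnFintype ℤ ι fun i => ZMod (p i ^ e i)).toEquiv.symm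
  let F := DirectSum ι fun i => ZMod (p i ^ e i)
  let a := f (Additive.ofMul x)
  have ha : a ≠ 0 := fun h => hx (by
    have h1 : Additive.ofMul x = 0 := f.injective (by rw [map_zero]; exact h)
    exact h1)
  let N := 1 + ∑ i, (a.1 i).natAbs
  refine ⟨Nat.card F * N, Nat.mul_pos Nat.card_pos (by omega), fun ⟨y, hy⟩ => ha ?_⟩
  have h2 : a = (Nat.card F * N) • f (Additive.ofMul y) := by
    rw [← map_nsmul, ← ofMul_pow]
    exact congrArg (fun z => f (Additive.ofMul z)) hy.symm
  refine Prod.ext ?_ ?_
  · ext i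
    have h3 : a.1 i = (Nat.card F * N : ℕ) * ((f (Additive.ofMul y)).1 i) := by
      rw [h2]
      simp
    by_contra hne
    have h4 : (Nat.card F * N) ∣ (a.1 i).natAbs := by
      rw [h3, Int.natAbs_mul, Int.natAbs_natCast]
      exact dvd_mul_right _ _
    have h5 : 0 < (a.1 i).natAbs := Int.natAbs_pos.mpr hne
    have h6 := Nat.le_of_dvd h5 h4
    have h7 : (a.1 i).natAbs ≤ ∑ j, (a.1 j).natAbs :=
      Finset.single_le_sum (f := fun j => (a.1 j).natAbs) (fun j _ => Nat.zero_le _) (Finset.mem_univ i)
    have h8 : N ≤ Nat.card F * N := Nat.le_mul_of_pos_left N Nat.card_pos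
    omega
  · rw [h2, Prod.smul_snd, mul_smul, card_nsmul_eq_zero', Prod.snd_zero]

section Coeff

variable {T : Type u} [CommRing T] {M : Type u} [CommGroup M]

theorem sum_coeff_eq_counit (x : MonoidAlgebra T M) :
    (∑ m ∈ x.coeff.support, x.coeff m) = counit (R := T) x := by
  have h : (Finsupp.linearCombination T fun _ : M => (1 : T)) x.coeff = counit (R := T) x := by
    induction x using MonoidAlgebra.induction_linear with
    | zero => simp
    | add a b ha hb => simp only [map_add, MonoidAlgebra.coeff_add, ha, hb]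
    | single m r => simp [MonoidAlgebra.coeff_single]
  rw [← h, Finsupp.linearCombination_apply, Finsupp.sum]
  simp

/-- a group-like element of a group algebra over a local ring is a monomial -/
theorem exists_eq_single_of_local [IsLocalRing T] {x : MonoidAlgebra T M} (hx : IsGroupLikeElem T x) :
    ∃ m, x = MonoidAlgebra.single m 1 := by
  classical
  obtain ⟨m, hm⟩ : ∃ m, x.coeff m = 1 := by
    by_contra! hne
    have h0 : ∀ m, x.coeff m = 0 := fun m => by
      refine HenselDiag.eq_zero_of_idem_mem (isIdempotentElem_coeff hx m) ?_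
      by_contra hu
      rw [IsLocalRing.mem_maximalIdeal, mem_nonunits_iff, not_not] at hu
      exact hne m (hu.mul_left_cancel (by rw [(isIdempotentElem_coeff hx m).eq, mul_one]))
    have h1 := sum_coeff_eq_counit x
    rw [hx.counit_eq_one] at h1
    exact one_ne_zero (h1.symm.trans (Finset.sum_eq_zero fun m _ => h0 m))
  refine ⟨m, MonoidAlgebra.coeff_injective (Finsupp.ext fun a => ?_)⟩
  rcases eq_or_ne m a with rfl | hne
  · rw [hm, MonoidAlgebra.coeff_single, Finsupp.single_eq_same]
  · have h1 := coeff_mul_coeff hx m a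
    rw [if_neg hne, hm, one_mul] at h1
    rw [h1, MonoidAlgebra.coeff_single, Finsupp.single_eq_of_ne hne.symm]

/-- group-like elements are determined by their images modulo all powers -/
theorem eq_single_of_forall [Group.FG M] {y : MonoidAlgebra T M} (hy : IsGroupLikeElem T y) (m : M)
    (h : ∀ n : ℕ, 0 < n → MonoidAlgebra.mapDomainBialgHom T (QuotientGroup.mk' (TorsionHopf.powSub M n)) y =
      MonoidAlgebra.single (m : M ⧸ TorsionHopf.powSub M n) 1) :
    y = MonoidAlgebra.single m 1 := by
  classical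
  have hz : ∀ a, a ≠ m → y.coeff a = 0 := by
    intro a ha
    obtain ⟨n, hn, hna⟩ := exists_not_mem_powers (x := a⁻¹ * m) (by
      rw [Ne, inv_mul_eq_one]; exact ha)
    set H := TorsionHopf.powSub M n
    set ρ := MonoidAlgebra.mapDomainBialgHom T (QuotientGroup.mk' H)
    -- multiply by the coefficient at `a`
    have h1 : y.coeff a • y = MonoidAlgebra.single a (y.coeff a) := by
      refine MonoidAlgebra.coeff_injective (Finsupp.ext fun b => ?_)
      rw [MonoidAlgebra.coeff_smul, Finsupp.smul_apply, smul_eq_mul, coeff_mul_coeff hy,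
        MonoidAlgebra.coeff_single, Finsupp.single_apply]
    have h2 := congrArg ρ h1
    rw [map_smul, h n hn, MonoidAlgebra.mapDomainBialgHom_single, MonoidAlgebra.smul_single, smul_eq_mul,
      mul_one] at h2
    have h3 : (m : M ⧸ H) ≠ (a : M ⧸ H) := fun h' => hna (QuotientGroup.eq.mp h'.symm)
    have h4 := congrArg (fun v => MonoidAlgebra.coeff v (m : M ⧸ H)) h2
    simp only [MonoidAlgebra.coeff_single] at h4
    rw [Finsupp.single_eq_same, Finsupp.single_eq_of_ne (show (m : M ⧸ H) ≠ QuotientGroup.mk' H a from h3)] at h4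
    exact h4
  have h1 := sum_coeff_eq_counit y
  rw [hy.counit_eq_one, Finset.sum_eq_single m (fun a _ ha => hz a ha) (fun hm => Finsupp.notMem_support_iff.mp hm)] at h1
  refine MonoidAlgebra.coeff_injective (Finsupp.ext fun a => ?_)
  rcases eq_or_ne a m with rfl | hne
  · rw [h1, MonoidAlgebra.coeff_single, Finsupp.single_eq_same]
  · rw [hz a hne, MonoidAlgebra.coeff_single, Finsupp.single_eq_of_ne hne]

end Coeff

section Torsion

variable {W : Type u} [CommRing W] [IsLocalRing W] {B : Type u} [CommRing B] [HopfAlgebra W B]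
  {T : Type u} [CommRing T] [Algebra W T] {M : Type u} [CommGroup M]

/-- the projection to the closed fibre of the kernel is a bialgebra map with diagonalisable target -/
theorem exists_diag_torsion_fibre [IsCocomm W B] (n : ℕ)
    (hk : SGA3b.IsDiag (IsLocalRing.ResidueField W) (IsLocalRing.ResidueField W ⊗[W] B)) :
    ∃ (N : Type u) (_ : CommGroup N), Nonempty (IsLocalRing.ResidueField W ⊗[W] (B ⧸ SGA3b.torsionIdeal W B n)
      ≃ₐc[IsLocalRing.ResidueField W] MonoidAlgebra (IsLocalRing.ResidueField W) N) := by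
  let k := IsLocalRing.ResidueField W
  obtain ⟨M₀, _, ⟨e₀⟩⟩ := hk
  let f : k ⊗[W] B →ₐc[k] k ⊗[W] (B ⧸ SGA3b.torsionIdeal W B n) :=
    Bialgebra.TensorProduct.map (BialgHom.id k k) (Bialgebra.Quotient.mkBialgHom (SGA3b.torsionIdeal W B n))
  have hf : Function.Surjective f := fun z => by
    induction z using TensorProduct.induction_on with
    | zero => exact ⟨0, map_zero _⟩
    | add a b ha hb =>
      obtain ⟨x, hx⟩ := ha
      obtain ⟨y, hy⟩ := hb
      exact ⟨x + y, by rw [map_add, hx, hy]⟩
    | tmul t d =>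
      obtain ⟨y, rfl⟩ := Ideal.Quotient.mk_surjective d
      exact ⟨t ⊗ₜ y, rfl⟩
  exact Diag.isDiag_of_span (Diag.span_quotient (Diag.span_of_equiv e₀) f hf)

end Torsion

/-- reductions modulo `n` of the characters come from the base -/
theorem exists_torsion_char {W : Type u} [CommRing W] [HenselianLocalRing W] {B : Type u} [CommRing B]
    [HopfAlgebra W B] [IsCocomm W B] [Algebra.FiniteType W B] (hB : SGA3b.IsMultType W B)
    (hk : SGA3b.IsDiag (IsLocalRing.ResidueField W) (IsLocalRing.ResidueField W ⊗[W] B))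
    {T : Type u} [CommRing T] [IsLocalRing T] [Algebra W T] [Module.FaithfullyFlat W T] {M : Type u} [CommGroup M]
    (e : T ⊗[W] B ≃ₐc[T] MonoidAlgebra T M) {n : ℕ} (hn : 0 < n) {z : T ⊗[W] B} (hz : IsGroupLikeElem T z) :
    ∃ d : B ⧸ SGA3b.torsionIdeal W B n, TorsionHopf.qT T n z = (1 : T) ⊗ₜ[W] d := by
  set J := SGA3b.torsionIdeal W B n
  haveI : Module.Finite W (B ⧸ J) := TorsionMult.finite_torsion hB hn
  haveI : Module.Flat W (B ⧸ J) := TorsionHopf.flat_torsion e n
  haveI : IsCocomm W (B ⧸ J) := ⟨LinearMap.ext fun d => by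
    obtain ⟨b, rfl⟩ := Ideal.Quotient.mk_surjective d
    let q : B →ₗ[W] B ⧸ J := (Ideal.Quotient.mkₐ W J).toLinearMap
    change TensorProduct.comm W _ _ (TensorProduct.map q q (comul b)) = TensorProduct.map q q (comul b)
    conv_rhs => rw [← Coalgebra.comm_comul W b]
    generalize comul (R := W) b = w
    induction w using TensorProduct.induction_on with
    | zero => simp
    | add p q hp hq => simp only [map_add, hp, hq]
    | tmul p q => rfl⟩
  obtain ⟨N, _, ⟨e₁⟩⟩ := exists_diag_torsion_fibre n hk
  obtain ⟨eD⟩ := HenselDiag.isDiag_of_closedFibre (R := W) (B := B ⧸ J) e₁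
  let eT : T ⊗[W] (B ⧸ J) ≃ₐc[T] MonoidAlgebra T N :=
    ({ Bialgebra.TensorProduct.map (BialgHom.id T T) (eD : (B ⧸ J) →ₐc[W] MonoidAlgebra W N),
        Algebra.TensorProduct.congr (AlgEquiv.refl : T ≃ₐ[T] T) eD.toAlgEquiv with } :
      T ⊗[W] (B ⧸ J) ≃ₐc[T] T ⊗[W] MonoidAlgebra W N).trans (Split.scalarBialgEquiv W T N)
  let qb : T ⊗[W] B →ₐc[T] T ⊗[W] (B ⧸ J) :=
    Bialgebra.TensorProduct.map (BialgHom.id T T) (Bialgebra.Quotient.mkBialgHom J)
  obtain ⟨a, ha⟩ := exists_eq_single_of_local ((hz.map qb).map eT)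
  refine ⟨eD.symm (MonoidAlgebra.single a 1), eT.toAlgEquiv.injective ?_⟩
  change eT (qb z) = eT ((1 : T) ⊗ₜ[W] eD.symm (MonoidAlgebra.single a 1))
  rw [ha]
  change _ = Split.scalarBialgEquiv W T N ((1 : T) ⊗ₜ[W] eD (eD.symm (MonoidAlgebra.single a 1)))
  rw [show eD (eD.symm (MonoidAlgebra.single a (1 : W))) = MonoidAlgebra.single a 1 from
    eD.toAlgEquiv.apply_symm_apply _]
  change _ = MonoidAlgebra.scalarTensorEquiv W T ((1 : T) ⊗ₜ[W] MonoidAlgebra.single a (1 : W))
  simp

/-- the characters of a split group descend to the henselian base -/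
theorem exists_char {W : Type u} [CommRing W] [HenselianLocalRing W] {B : Type u} [CommRing B]
    [HopfAlgebra W B] [IsCocomm W B] [Algebra.FiniteType W B] (hB : SGA3b.IsMultType W B)
    (hk : SGA3b.IsDiag (IsLocalRing.ResidueField W) (IsLocalRing.ResidueField W ⊗[W] B))
    {T : Type u} [CommRing T] [IsLocalRing T] [Algebra W T] [Module.FaithfullyFlat W T] {M : Type u} [CommGroup M]
    (e : T ⊗[W] B ≃ₐc[T] MonoidAlgebra T M) (m : M) :
    ∃ x : B, (1 : T) ⊗ₜ[W] x = e.symm (MonoidAlgebra.single m 1) := by
  haveI : Module.Flat W B := Family.flat_of_isMultType hB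
  haveI : Group.FG M := Diag.group_fg_of_finiteType e.toAlgEquiv
  set z := e.symm (MonoidAlgebra.single m (1 : T))
  have hz : IsGroupLikeElem T z := (MonoidAlgebra.isGroupLikeElem_single_one m).map e.symm
  let W' := T ⊗[W] T
  let l : T →ₐ[W] W' := Algebra.TensorProduct.includeLeft
  let r : T →ₐ[W] W' := Algebra.TensorProduct.includeRight
  let e' := GLLift.extend e l
  haveI : Nontrivial W' := Module.FaithfullyFlat.lTensor_nontrivial (R := W) T T
  have hcoef : e' (bcMap l B z) = MonoidAlgebra.single m 1 := by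
    refine MonoidAlgebra.coeff_injective (Finsupp.ext fun a => ?_)
    have h1 := GLLift.extend_natural e (AlgHom.id W T) l z a
    rw [AlgHom.comp_id] at h1
    rw [h1]
    have h2 : GLLift.extend e (AlgHom.id W T) z = e z := by
      refine MonoidAlgebra.coeff_injective (Finsupp.ext fun b => ?_)
      generalize z = v
      induction v using TensorProduct.induction_on with
      | zero => simp
      | add p q hp hq => simp only [map_add, MonoidAlgebra.coeff_add, Finsupp.add_apply, hp, hq]
      | tmul t c =>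
        rw [show t ⊗ₜ[W] c = t • ((1 : T) ⊗ₜ[W] c) by rw [TensorProduct.smul_tmul', smul_eq_mul, mul_one],
          map_smul, map_smul, MonoidAlgebra.coeff_smul, MonoidAlgebra.coeff_smul, Finsupp.smul_apply,
          Finsupp.smul_apply, GLLift.extend_one_tmul]
        rfl
    rw [h2, show e z = MonoidAlgebra.single m 1 from e.toAlgEquiv.apply_symm_apply _]
    rw [MonoidAlgebra.coeff_single, MonoidAlgebra.coeff_single]
    rcases eq_or_ne m a with rfl | hne
    · rw [Finsupp.single_eq_same, Finsupp.single_eq_same, map_one]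
    · rw [Finsupp.single_eq_of_ne hne.symm, Finsupp.single_eq_of_ne hne.symm, map_zero]
  have hy : bcMap l B z = bcMap r B z := by
    apply e'.toAlgEquiv.injective
    change e' (bcMap l B z) = e' (bcMap r B z)
    rw [hcoef]
    refine (eq_single_of_forall ((map_isGroupLikeElem r hz).map e') m fun n hn => ?_).symm
    obtain ⟨d, hd⟩ := exists_torsion_char hB hk e hn hz
    obtain ⟨ψ, hψ⟩ := TorsionHopf.exists_torsion_split e' n
    have hnat : ∀ (g : T →ₐ[W] W') (v : T ⊗[W] B), TorsionHopf.qT W' n (bcMap g B v) =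
        bcMap g (B ⧸ SGA3b.torsionIdeal W B n) (TorsionHopf.qT T n v) := fun g v => by
      induction v using TensorProduct.induction_on with
      | zero => simp
      | add p q hp hq => simp only [map_add, hp, hq]
      | tmul t c => rfl
    have hq : TorsionHopf.qT W' n (bcMap r B z) = TorsionHopf.qT W' n (bcMap l B z) := by
      rw [hnat, hnat, hd, GLLift.bcMap_tmul, GLLift.bcMap_tmul, map_one, map_one]
    rw [← hψ, hq, hψ, hcoef, MonoidAlgebra.mapDomainBialgHom_single]
    rfl
  haveI : Module.FaithfullyFlat W (PUnit.{u + 1} → T) :=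
    Module.FaithfullyFlat.of_linearEquiv W T (LinearEquiv.funUnique PUnit.{u + 1} W T)
  obtain ⟨x, hx⟩ := Family.exists_of_family (R := W) (N := B) (fun _ : PUnit.{u + 1} => T)
    (fun _ => z) (fun _ _ => hy)
  exact ⟨x, hx PUnit.unit⟩

/-- a group of multiplicative type over a henselian local ring with diagonalisable closed fibre is
diagonalisable -/
theorem isDiag_of_henselian {W : Type u} [CommRing W] [HenselianLocalRing W] {B : Type u} [CommRing B]
    [HopfAlgebra W B] [Algebra.FiniteType W B] (hB : SGA3b.IsMultType W B)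
    (hk : SGA3b.IsDiag (IsLocalRing.ResidueField W) (IsLocalRing.ResidueField W ⊗[W] B)) :
    ∃ (M : Type u) (_ : CommGroup M), Group.FG M ∧ Nonempty (B ≃ₐc[W] MonoidAlgebra W M) := by
  haveI := Isotrivial.isCocomm_of_isMultType hB
  haveI : Module.Flat W B := Family.flat_of_isMultType hB
  obtain ⟨S⟩ := Split.exists_splitAt hB (IsLocalRing.closedPoint W)
  let T := Localization.AtPrime S.q.asIdeal
  haveI : Module.Flat W T :=
    haveI : Module.Flat S.T T := IsLocalization.flat T S.q.asIdeal.primeCompl
    Module.Flat.trans W S.T T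
  haveI : IsLocalHom (algebraMap W T) := by
    refine ⟨fun w hw => ?_⟩
    by_contra hns
    have h1 : algebraMap W S.T w ∈ S.q.asIdeal := by
      rw [← Ideal.mem_comap, show S.q.asIdeal.comap (algebraMap W S.T) = IsLocalRing.maximalIdeal W from
        congrArg PrimeSpectrum.asIdeal S.comap_q]
      exact hns
    rw [IsScalarTower.algebraMap_apply W S.T T] at hw
    exact ((IsLocalization.AtPrime.isUnit_to_map_iff T S.q.asIdeal _).mp hw) h1
  haveI : Module.FaithfullyFlat W T := Module.FaithfullyFlat.of_flat_of_isLocalHom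
  let e := GLLift.extend S.equiv (IsScalarTower.toAlgHom W S.T T)
  choose x hx using exists_char hB hk e
  have hinj : Function.Injective (Algebra.TensorProduct.includeRight : B →ₐ[W] T ⊗[W] B) :=
    Module.FaithfullyFlat.tensorProduct_mk_injective (A := W) (B := T) B
  have hxmul : ∀ a b, x (a * b) = x a * x b := fun a b => hinj (by
    change (1 : T) ⊗ₜ[W] x (a * b) = (1 : T) ⊗ₜ[W] (x a * x b)
    rw [hx, show (1 : T) ⊗ₜ[W] (x a * x b) = ((1 : T) ⊗ₜ[W] x a) * ((1 : T) ⊗ₜ[W] x b) by
      rw [Algebra.TensorProduct.tmul_mul_tmul, one_mul], hx, hx, ← map_mul, MonoidAlgebra.single_mul_single, one_mul])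
  have hgl : ∀ a, IsGroupLikeElem W (x a) := fun a => by
    have hzl : IsGroupLikeElem T ((1 : T) ⊗ₜ[W] x a) := by
      rw [hx]; exact (MonoidAlgebra.isGroupLikeElem_single_one a).map e.symm
    have hW := GroupLike.isGroupLikeElem_of_map (T := W) (T' := T) (A := B) (Algebra.ofId W T)
      (FaithfulSMul.algebraMap_injective W T) (z := (1 : W) ⊗ₜ[W] x a)
      (by rw [GLLift.bcMap_tmul, map_one]; exact hzl)
    let l : W ⊗[W] B ≃ₐc[W] B := BialgEquiv.ofAlgEquiv (Algebra.TensorProduct.lid W B)
      (Algebra.TensorProduct.ext (by ext) (by ext a; simp))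
      (Algebra.TensorProduct.ext (by ext) (by
        ext a
        simp only [AlgHom.coe_comp, Function.comp_apply, AlgHom.coe_restrictScalars', AlgEquiv.coe_toAlgHom,
          Algebra.TensorProduct.includeRight_apply, Algebra.TensorProduct.lid_tmul, one_smul,
          Bialgebra.comulAlgHom_apply, TensorProduct.comul_tmul]
        rw [← (Coalgebra.Repr.arbitrary W a).eq]
        simp [TensorProduct.tmul_sum]))
    have h2 := hW.map l
    rwa [show l ((1 : W) ⊗ₜ[W] x a) = x a by
      change Algebra.TensorProduct.lid W B ((1 : W) ⊗ₜ[W] x a) = x a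
      simp] at h2
  have hx1 : x 1 = 1 := hinj (by
    change (1 : T) ⊗ₜ[W] x 1 = (1 : T) ⊗ₜ[W] (1 : B)
    rw [hx, ← MonoidAlgebra.one_def, map_one, Algebra.TensorProduct.one_def])
  let g : S.M →* GroupLike W B :=
    { toFun := fun a => ⟨x a, hgl a⟩
      map_one' := GroupLike.val_injective hx1
      map_mul' := fun a b => GroupLike.val_injective (hxmul a b) }
  let Φ : MonoidAlgebra W S.M →ₐc[W] B :=
    MonoidAlgebra.liftGroupLikeBialgHom.comp (MonoidAlgebra.mapDomainBialgHom W g)
  have hΦ : ∀ a, Φ (MonoidAlgebra.single a 1) = x a := fun a => by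
    change MonoidAlgebra.liftGroupLikeBialgHom (MonoidAlgebra.mapDomainBialgHom W g (MonoidAlgebra.single a 1)) = _
    rw [MonoidAlgebra.mapDomainBialgHom_single]
    simp [MonoidAlgebra.liftGroupLikeBialgHom, g]
  let s := Split.scalarBialgEquiv W T S.M
  have hcomp : ∀ v : T ⊗[W] MonoidAlgebra W S.M,
      LinearMap.lTensor T (Φ : MonoidAlgebra W S.M →ₐ[W] B).toLinearMap v = e.symm (s v) := by
    intro v
    induction v using TensorProduct.induction_on with
    | zero => simp
    | add p q hp hq => simp only [map_add, hp, hq]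
    | tmul t y =>
      induction y using MonoidAlgebra.induction_linear with
      | zero => simp
      | add p q hp hq => simp only [TensorProduct.tmul_add, map_add, hp, hq]
      | single a c =>
        rw [show MonoidAlgebra.single a c = c • MonoidAlgebra.single a (1 : W) by simp, TensorProduct.tmul_smul,
          map_smul]
        change c • (t ⊗ₜ[W] Φ (MonoidAlgebra.single a 1)) = e.symm (s (c • (t ⊗ₜ[W] MonoidAlgebra.single a (1 : W))))
        rw [← algebraMap_smul T c (t ⊗ₜ[W] MonoidAlgebra.single a (1 : W)), map_smul, map_smul, algebraMap_smul, hΦ,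
          show t ⊗ₜ[W] x a = t • ((1 : T) ⊗ₜ[W] x a) by rw [TensorProduct.smul_tmul', smul_eq_mul, mul_one],
          show t ⊗ₜ[W] MonoidAlgebra.single a (1 : W) = t • ((1 : T) ⊗ₜ[W] MonoidAlgebra.single a (1 : W)) by
            rw [TensorProduct.smul_tmul', smul_eq_mul, mul_one], map_smul, map_smul, hx]
        congr 3
        change _ = MonoidAlgebra.scalarTensorEquiv W T ((1 : T) ⊗ₜ[W] MonoidAlgebra.single a (1 : W))
        simp
  have hbij : Function.Bijective Φ := by
    refine (Module.FaithfullyFlat.lTensor_bijective_iff_bijective W T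
      (Φ : MonoidAlgebra W S.M →ₐ[W] B).toLinearMap).mp ?_
    have : ⇑(LinearMap.lTensor T (Φ : MonoidAlgebra W S.M →ₐ[W] B).toLinearMap) = fun v => e.symm (s v) :=
      funext hcomp
    rw [this]
    exact e.symm.bijective.comp s.bijective
  exact ⟨S.M, inferInstance, Diag.group_fg_of_finiteType e.toAlgEquiv, ⟨(BialgEquiv.ofBijective Φ hbij).symm⟩⟩

end

end Groth.Agent.MultType.HenselSplit
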