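import Groth.Agent.FinHopf.Deligne
import Mathlib.RingTheory.Bialgebra.TensorProduct
import Mathlib.RingTheory.Smooth.Basic

/-!
# Square-zero deformations of homomorphisms out of a group with an integral
-/

open Coalgebra Bialgebra TensorProduct WithConv

universe u v w

namespace Groth.Agent.MultType.SqZero

open Groth.Agent.FinHopf.Deligne

noncomputable section

variable {R : Type u} [CommRing R]

/-- a normalised right integral, up to the ideal `I` -/
structure IsIntegralMod (A : Type v) [CommRing A] [Bialgebra R A] (I : Ideal R) (l : A →ₗ[R] R) : Prop where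
  map_one : l 1 = 1
  invariant : ∀ a, TensorProduct.rid R A (l.lTensor A (comul a)) - l a • (1 : A) ∈ Ideal.map (algebraMap R A) I

section Cong

variable {S : Type v} [CommRing S] [Algebra R S] {C : Type w} [CommRing C] [HopfAlgebra R C] (J : Ideal R)

/-- congruence of points modulo `J` -/
def Cong (x y : WithConv (C →ₐ[R] S)) : Prop := ∀ c, x c - y c ∈ Ideal.map (algebraMap R S) J

variable {J}

theorem Cong.refl (x : WithConv (C →ₐ[R] S)) : Cong J x x := fun c => by simp

theorem Cong.symm {x y : WithConv (C →ₐ[R] S)} (h : Cong J x y) : Cong J y x := fun c => by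
  rw [← neg_sub]; exact neg_mem (h c)

theorem Cong.trans {x y z : WithConv (C →ₐ[R] S)} (h : Cong J x y) (h' : Cong J y z) : Cong J x z := fun c => by
  rw [← sub_add_sub_cancel (x c) (y c) (z c)]; exact add_mem (h c) (h' c)

variable (J S) in
/-- reduction modulo `J` on points -/
abbrev redHom : WithConv (C →ₐ[R] S) →* WithConv (C →ₐ[R] S ⧸ Ideal.map (algebraMap R S) J) :=
  postHom (Ideal.Quotient.mkₐ R (Ideal.map (algebraMap R S) J))

theorem cong_iff {x y : WithConv (C →ₐ[R] S)} : Cong J x y ↔ redHom S J x = redHom S J y := by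
  constructor
  · intro h
    apply WithConv.ext; ext c
    exact Ideal.Quotient.eq.mpr (h c)
  · intro h c
    exact Ideal.Quotient.eq.mp (AlgHom.congr_fun (congrArg WithConv.ofConv h) c)

theorem Cong.mul {x y x' y' : WithConv (C →ₐ[R] S)} (h : Cong J x y) (h' : Cong J x' y') :
    Cong J (x * x') (y * y') := by
  rw [cong_iff] at *; rw [map_mul, map_mul, h, h']

theorem Cong.inv {x : WithConv (C →ₐ[R] S)} (h : Cong J x 1) : Cong J (inv' x) 1 := by
  rw [cong_iff] at *
  have := congrArg (redHom S J) (inv'_mul x)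
  rwa [map_mul, h, map_one, mul_one, ← map_one (redHom S J)] at this

theorem Cong.map {S' : Type*} [CommRing S'] [Algebra R S'] {x y : WithConv (C →ₐ[R] S)} (h : Cong J x y)
    (g : S →ₐ[R] S') : Cong J (postHom g x) (postHom g y) := fun c => by
  change g (x c) - g (y c) ∈ _
  rw [← map_sub]
  have : Ideal.map (algebraMap R S) J ≤ (Ideal.map (algebraMap R S') J).comap g := by
    rw [Ideal.map_le_iff_le_comap]
    intro r hr
    rw [Ideal.mem_comap, Ideal.mem_comap, AlgHom.commutes]
    exact Ideal.mem_map_of_mem _ hr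
  exact this (h c)

theorem Cong.conj {x : WithConv (C →ₐ[R] S)} (g : WithConv (C →ₐ[R] S)) (h : Cong J x 1) :
    Cong J (g * x * inv' g) 1 := by
  have := ((Cong.refl g).mul h).mul (Cong.refl (inv' g))
  rwa [mul_one, mul_inv'] at this

theorem Cong.mul_one' {x y : WithConv (C →ₐ[R] S)} (h : Cong J x 1) (h' : Cong J y 1) : Cong J (x * y) 1 := by
  simpa using h.mul h'

theorem Cong.map_one' {S' : Type*} [CommRing S'] [Algebra R S'] {x : WithConv (C →ₐ[R] S)} (h : Cong J x 1)
    (g : S →ₐ[R] S') : Cong J (postHom g x) 1 := by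
  simpa using h.map g

theorem postHom_inv' {S' : Type*} [CommRing S'] [Algebra R S'] (g : S →ₐ[R] S') (x : WithConv (C →ₐ[R] S)) :
    postHom g (inv' x) = inv' (postHom g x) := rfl

theorem sub_mem_mul {x : WithConv (C →ₐ[R] S)} (hx : Cong J x 1) (c : C) :
    x c - algebraMap R S (counit c) ∈ Ideal.map (algebraMap R S) J := by
  simpa using hx c

theorem mul_mem_eq_zero (hJ : J * J = ⊥) {a b : S} (ha : a ∈ Ideal.map (algebraMap R S) J)
    (hb : b ∈ Ideal.map (algebraMap R S) J) : a * b = 0 := by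
  have := Ideal.mul_mem_mul ha hb
  rwa [← Ideal.map_mul, hJ, Ideal.map_bot, Ideal.mem_bot] at this

/-- points congruent to `1` modulo a square zero ideal commute -/
theorem comm_of_cong (hJ : J * J = ⊥) {x y : WithConv (C →ₐ[R] S)} (hx : Cong J x 1) (hy : Cong J y 1) :
    x * y = y * x := by
  apply WithConv.ext; ext c
  have key : ∀ t : C ⊗[R] C,
      Algebra.TensorProduct.lmul' R (Algebra.TensorProduct.map x.ofConv y.ofConv t) =
        Algebra.TensorProduct.lmul' R (Algebra.TensorProduct.map x.ofConv (AlgHom.comp (Algebra.ofId R S) (counitAlgHom R C)) t) +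
        Algebra.TensorProduct.lmul' R (Algebra.TensorProduct.map (AlgHom.comp (Algebra.ofId R S) (counitAlgHom R C)) y.ofConv t) -
        algebraMap R S (Algebra.TensorProduct.lmul' R (Algebra.TensorProduct.map (counitAlgHom R C) (counitAlgHom R C) t)) := by
    intro t
    induction t using TensorProduct.induction_on with
    | zero => simp
    | add s t hs ht => simp only [map_add, hs, ht]; ring
    | tmul a b =>
      simp only [Algebra.TensorProduct.map_tmul, Algebra.TensorProduct.lmul'_apply_tmul, AlgHom.comp_apply,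
        Bialgebra.counitAlgHom_apply, Algebra.ofId_apply, map_mul]
      have h0 := mul_mem_eq_zero hJ (sub_mem_mul hx a) (sub_mem_mul hy b)
      linear_combination h0
  have key' : ∀ t : C ⊗[R] C,
      Algebra.TensorProduct.lmul' R (Algebra.TensorProduct.map y.ofConv x.ofConv t) =
        Algebra.TensorProduct.lmul' R (Algebra.TensorProduct.map y.ofConv (AlgHom.comp (Algebra.ofId R S) (counitAlgHom R C)) t) +
        Algebra.TensorProduct.lmul' R (Algebra.TensorProduct.map (AlgHom.comp (Algebra.ofId R S) (counitAlgHom R C)) x.ofConv t) -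
        algebraMap R S (Algebra.TensorProduct.lmul' R (Algebra.TensorProduct.map (counitAlgHom R C) (counitAlgHom R C) t)) := by
    intro t
    induction t using TensorProduct.induction_on with
    | zero => simp
    | add s t hs ht => simp only [map_add, hs, ht]; ring
    | tmul a b =>
      simp only [Algebra.TensorProduct.map_tmul, Algebra.TensorProduct.lmul'_apply_tmul, AlgHom.comp_apply,
        Bialgebra.counitAlgHom_apply, Algebra.ofId_apply, map_mul]
      have h0 := mul_mem_eq_zero hJ (sub_mem_mul hy a) (sub_mem_mul hx b)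
      linear_combination h0
  have hone : (toConv (AlgHom.comp (Algebra.ofId R S) (counitAlgHom R C)) : WithConv (C →ₐ[R] S)) = 1 := rfl
  have e1 : ∀ u : WithConv (C →ₐ[R] S),
      Algebra.TensorProduct.lmul' R (Algebra.TensorProduct.map u.ofConv (AlgHom.comp (Algebra.ofId R S) (counitAlgHom R C)) (comul c)) =
        u c := fun u => by
    have := AlgHom.congr_fun (congrArg WithConv.ofConv (mul_one u)) c
    rw [← hone] at this; exact this
  have e2 : ∀ u : WithConv (C →ₐ[R] S),
      Algebra.TensorProduct.lmul' R (Algebra.TensorProduct.map (AlgHom.comp (Algebra.ofId R S) (counitAlgHom R C)) u.ofConv (comul c)) =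
        u c := fun u => by
    have := AlgHom.congr_fun (congrArg WithConv.ofConv (one_mul u)) c
    rw [← hone] at this; exact this
  change Algebra.TensorProduct.lmul' R (Algebra.TensorProduct.map x.ofConv y.ofConv (comul c)) =
    Algebra.TensorProduct.lmul' R (Algebra.TensorProduct.map y.ofConv x.ofConv (comul c))
  rw [key, key', e1, e1, e2, e2, add_comm (x.ofConv c)]

end Cong

section Monoid

variable {M : Type*} [Monoid M]

theorem cocycle_identity {di d₁ d₂ d₃ Di D₁ D₃ g₁ g₁' g₂ h₃ : M} (hD₁ : IsUnit D₁) (hg : g₁' * g₁ = 1)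
    (e0 : di * Di = g₁ * g₂) (e1 : d₁ * D₁ = Di * h₃) (e2 : d₂ * D₁ = g₁ * D₃) (e3 : d₃ * D₃ = g₂ * h₃) :
    di * d₁ = g₁ * d₃ * g₁' * d₂ := by
  refine hD₁.mul_right_cancel ?_
  rw [mul_assoc di, e1, ← mul_assoc, e0, mul_assoc (g₁ * d₃ * g₁'), e2, mul_assoc (g₁ * d₃) g₁', ← mul_assoc g₁' g₁,
    hg, one_mul, mul_assoc g₁ d₃, e3, mul_assoc]

theorem corrected_identity {d D P P' Q a a' b b' m m' : M} (hm : IsUnit m) (hm' : m' * m = 1) (ha : a' * a = 1)
    (hb : b' * b = 1) (hP : P' * P = 1) (hP' : P * P' = 1) (e0 : d * D = P * Q) (e1 : d * m = P * b * P' * a) :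
    a' * P * (b' * Q) = m' * D := by
  have h1 : P * b' * P' * (P * b * P') = 1 := by
    simp only [mul_assoc]
    rw [← mul_assoc P' P, hP, one_mul, ← mul_assoc b' b, hb, one_mul, hP']
  have h2 : a' * (P * b' * P') * d = m' := by
    refine hm.mul_right_cancel ?_
    rw [mul_assoc (a' * (P * b' * P')) d m, e1, hm', mul_assoc a', ← mul_assoc (P * b' * P'), h1, one_mul, ha]
  rw [← h2, mul_assoc (a' * (P * b' * P')) d D, e0]
  simp only [mul_assoc]
  rw [← mul_assoc P' P, hP, one_mul]

theorem ratio_identity {F₁ F₁i F₁' F₂ F₂i F₂' Fm Fmi : M} (hFm : IsUnit Fm) (h1 : Fmi * Fm = 1) (h2 : F₁i * F₁ = 1)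
    (h3 : F₂i * F₂ = 1) (e : F₁ * F₂ = Fm) :
    F₁' * F₁i * (F₁ * (F₂' * F₂i) * F₁i) = F₁' * F₂' * Fmi := by
  refine hFm.mul_right_cancel ?_
  rw [mul_assoc (F₁' * F₂') Fmi, h1, mul_one, ← e]
  simp only [mul_assoc]
  rw [← mul_assoc F₁i F₁ F₂, h2, one_mul, h3, mul_one, ← mul_assoc F₁i F₁, h2, one_mul]

theorem conj_identity {e F Fi E Ei : M} (h1 : Fi * F = 1) (h2 : E * Ei = 1) (h : e * (F * E * Fi) = E) :
    e * F = E * F * Ei := by
  conv_rhs => rw [← h]
  simp only [mul_assoc]
  rw [← mul_assoc Fi F, h1, one_mul, h2, mul_one]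

end Monoid

section Integration

variable {A : Type v} [CommRing A] [HopfAlgebra R A] {C : Type w} [CommRing C] [HopfAlgebra R C]
  {J I : Ideal R} {l : A →ₗ[R] R} (hl : IsIntegralMod A I l)

/-- integration along the last factor -/
def Λ (l : A →ₗ[R] R) (S : Type*) [CommRing S] [Algebra R S] : S ⊗[R] A →ₗ[S] S :=
  (TensorProduct.AlgebraTensorModule.rid R S S).toLinearMap ∘ₗ l.baseChange S

theorem Λ_tmul (S : Type*) [CommRing S] [Algebra R S] (s : S) (a : A) : Λ l S (s ⊗ₜ a) = l a • s := by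
  simp [Λ]

include hl in
theorem Λ_one (S : Type*) [CommRing S] [Algebra R S] : Λ l S 1 = 1 := by
  rw [Algebra.TensorProduct.one_def, Λ_tmul, hl.map_one, one_smul]

include hl in
theorem Λ_algebraMap (S : Type*) [CommRing S] [Algebra R S] (r : R) :
    Λ l S (algebraMap R (S ⊗[R] A) r) = algebraMap R S r := by
  rw [Algebra.algebraMap_eq_smul_one, LinearMap.map_smul_of_tower, Λ_one hl, Algebra.smul_def, mul_one]

theorem Λ_mem {S : Type*} [CommRing S] [Algebra R S] {z : S ⊗[R] A}
    (hz : z ∈ Ideal.map (algebraMap R (S ⊗[R] A)) J) : Λ l S z ∈ Ideal.map (algebraMap R S) J := by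
  have hz' : z ∈ (Ideal.map (algebraMap R (S ⊗[R] A)) J).restrictScalars R := hz
  rw [← Ideal.smul_top_eq_map] at hz'
  refine Submodule.smul_induction_on hz' (fun r hr b _ => ?_) (fun x y hx hy => ?_)
  · rw [LinearMap.map_smul_of_tower, Algebra.smul_def]
    exact Ideal.mul_mem_right _ _ (Ideal.mem_map_of_mem _ hr)
  · rw [map_add]; exact add_mem hx hy

include hl in
theorem Λ_mul {S : Type*} [CommRing S] [Algebra R S] (hJ : J * J = ⊥) {u v : S ⊗[R] A} {s t : S}
    (hu : u - algebraMap S _ s ∈ Ideal.map (algebraMap R (S ⊗[R] A)) J)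
    (hv : v - algebraMap S _ t ∈ Ideal.map (algebraMap R (S ⊗[R] A)) J) :
    Λ l S (u * v) = Λ l S u * Λ l S v := by
  have h1 : ∀ r : S, Λ l S (algebraMap S _ r) = r := fun r => by
    rw [Algebra.algebraMap_eq_smul_one, map_smul, Λ_one hl, smul_eq_mul, mul_one]
  set m := u - algebraMap S _ s with hm
  set n := v - algebraMap S _ t with hn
  have hu' : u = algebraMap S _ s + m := by rw [hm]; ring
  have hv' : v = algebraMap S _ t + n := by rw [hn]; ring
  have hmn : m * n = 0 := mul_mem_eq_zero hJ hu hv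
  have hΛ : Λ l S m * Λ l S n = 0 := mul_mem_eq_zero hJ (Λ_mem hu) (Λ_mem hv)
  rw [hu', hv', add_mul, mul_add, mul_add, hmn, add_zero, ← map_mul]
  simp only [map_add, h1, ← Algebra.smul_def, mul_comm m (algebraMap S (S ⊗[R] A) t), map_smul, smul_eq_mul]
  linear_combination -hΛ

/-- the integral of a point congruent to `1` -/
def int (hl : IsIntegralMod A I l) {S : Type*} [CommRing S] [Algebra R S] (hJ : J * J = ⊥)
    (x : WithConv (C →ₐ[R] S ⊗[R] A)) (hx : Cong J x 1) : WithConv (C →ₐ[R] S) :=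
  toConv <| AlgHom.ofLinearMap ((Λ l S).restrictScalars R ∘ₗ x.ofConv.toLinearMap)
    (by simp [Λ_one hl])
    (fun a b => by
      simp only [LinearMap.comp_apply, AlgHom.toLinearMap_apply, LinearMap.restrictScalars_apply, map_mul]
      refine Λ_mul hl hJ (s := algebraMap R S (counit a)) (t := algebraMap R S (counit b)) ?_ ?_ <;>
        · rw [← IsScalarTower.algebraMap_apply]; exact sub_mem_mul hx _)

variable {S : Type*} [CommRing S] [Algebra R S] (hJ : J * J = ⊥)

theorem int_apply (x : WithConv (C →ₐ[R] S ⊗[R] A)) (hx : Cong J x 1) (c : C) :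
    int hl hJ x hx c = Λ l S (x c) := rfl

theorem int_cong (x : WithConv (C →ₐ[R] S ⊗[R] A)) (hx : Cong J x 1) : Cong J (int hl hJ x hx) 1 := fun c => by
  rw [int_apply, AlgHom.convOne_apply]
  have h := Λ_mem (l := l) (sub_mem_mul hx c)
  rwa [map_sub, IsScalarTower.algebraMap_apply R S (S ⊗[R] A), Algebra.algebraMap_eq_smul_one (A := S ⊗[R] A),
    map_smul, Λ_one hl, smul_eq_mul, mul_one] at h

theorem int_mul (x y : WithConv (C →ₐ[R] S ⊗[R] A)) (hx : Cong J x 1) (hy : Cong J y 1)
    (hxy : Cong J (x * y) 1) : int hl hJ (x * y) hxy = int hl hJ x hx * int hl hJ y hy := by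
  apply WithConv.ext; ext c
  change Λ l S ((x * y) c) = (int hl hJ x hx * int hl hJ y hy) c
  rw [AlgHom.convMul_apply, AlgHom.convMul_apply, ← (ℛ R c).eq]
  simp only [map_sum, Algebra.TensorProduct.map_tmul, Algebra.TensorProduct.lmul'_apply_tmul]
  refine Finset.sum_congr rfl fun i _ => ?_
  refine Λ_mul hl hJ (s := algebraMap R S (counit ((ℛ R c).left i))) (t := algebraMap R S (counit ((ℛ R c).right i))) ?_ ?_ <;>
    · rw [← IsScalarTower.algebraMap_apply]; exact sub_mem_mul ‹_› _

theorem int_congr (x y : WithConv (C →ₐ[R] S ⊗[R] A)) (hx : Cong J x 1) (hy : Cong J y 1) (h : x = y) :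
    int hl hJ x hx = int hl hJ y hy := by subst h; rfl

/-- constants in the base may be pulled out -/
theorem int_conj (y z : WithConv (C →ₐ[R] S)) (x : WithConv (C →ₐ[R] S ⊗[R] A)) (hx : Cong J x 1)
    (h : Cong J (postHom (Algebra.TensorProduct.includeLeft : S →ₐ[R] S ⊗[R] A) y * x *
      postHom (Algebra.TensorProduct.includeLeft : S →ₐ[R] S ⊗[R] A) z) 1) :
    int hl hJ _ h = y * int hl hJ x hx * z := by
  apply WithConv.ext; ext c
  change Λ l S ((postHom (Algebra.TensorProduct.includeLeft : S →ₐ[R] S ⊗[R] A) y * x *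
      postHom (Algebra.TensorProduct.includeLeft : S →ₐ[R] S ⊗[R] A) z) c) =
    (y * int hl hJ x hx * z) c
  have h1 : ∀ d, Λ l S ((postHom (Algebra.TensorProduct.includeLeft : S →ₐ[R] S ⊗[R] A) y * x) d) =
      (y * int hl hJ x hx) d := by
    intro d
    rw [AlgHom.convMul_apply, AlgHom.convMul_apply, ← (ℛ R d).eq]
    simp only [map_sum, Algebra.TensorProduct.map_tmul, Algebra.TensorProduct.lmul'_apply_tmul]
    refine Finset.sum_congr rfl fun i _ => ?_
    change Λ l S ((y ((ℛ R d).left i) ⊗ₜ[R] (1 : A)) * x ((ℛ R d).right i)) = _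
    rw [show (y ((ℛ R d).left i) ⊗ₜ[R] (1 : A)) = algebraMap S (S ⊗[R] A) (y ((ℛ R d).left i)) from rfl,
      ← Algebra.smul_def, map_smul, smul_eq_mul]
    rfl
  rw [AlgHom.convMul_apply, AlgHom.convMul_apply, ← (ℛ R c).eq]
  simp only [map_sum, Algebra.TensorProduct.map_tmul, Algebra.TensorProduct.lmul'_apply_tmul, ← h1]
  refine Finset.sum_congr rfl fun i _ => ?_
  rw [Algebra.TensorProduct.lift_tmul, Algebra.TensorProduct.lift_tmul, ← h1]
  change Λ l S ((postHom (Algebra.TensorProduct.includeLeft : S →ₐ[R] S ⊗[R] A) y * x) ((ℛ R c).left i) *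
    (z ((ℛ R c).right i) ⊗ₜ[R] (1 : A))) =
    Λ l S ((postHom (Algebra.TensorProduct.includeLeft : S →ₐ[R] S ⊗[R] A) y * x) ((ℛ R c).left i)) *
      z ((ℛ R c).right i)
  rw [show (z ((ℛ R c).right i) ⊗ₜ[R] (1 : A)) = algebraMap S (S ⊗[R] A) (z ((ℛ R c).right i)) from rfl,
    mul_comm, ← Algebra.smul_def, map_smul, smul_eq_mul, mul_comm]

theorem int_natural {S' : Type*} [CommRing S'] [Algebra R S'] (g : S →ₐ[R] S')
    (x : WithConv (C →ₐ[R] S ⊗[R] A)) (hx : Cong J x 1)
    (h : Cong J (postHom (Algebra.TensorProduct.map g (AlgHom.id R A)) x) 1) :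
    int hl hJ _ h = postHom g (int hl hJ x hx) := by
  apply WithConv.ext; ext c
  change Λ l S' (Algebra.TensorProduct.map g (AlgHom.id R A) (x c)) = g (Λ l S (x c))
  induction x c using TensorProduct.induction_on with
  | zero => simp
  | add p q hp hq => simp only [map_add, hp, hq]
  | tmul s a => simp [Λ_tmul]

theorem int_left (x : WithConv (C →ₐ[R] S)) (hx : Cong J x 1)
    (h : Cong J (postHom (Algebra.TensorProduct.includeLeft : S →ₐ[R] S ⊗[R] A) x) 1) :
    int hl hJ _ h = x := by
  apply WithConv.ext; ext c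
  change Λ l S (x c ⊗ₜ[R] (1 : A)) = x c
  rw [Λ_tmul, hl.map_one, one_smul]

end Integration

section Main

variable {A : Type v} [CommRing A] [HopfAlgebra R A] {C : Type w} [CommRing C] [HopfAlgebra R C]
  {J I : Ideal R} {l : A →ₗ[R] R} (hl : IsIntegralMod A I l) (hJ : J * J = ⊥) (hJI : J * I = ⊥)

abbrev ι₁ : A →ₐ[R] A ⊗[R] A := Algebra.TensorProduct.includeLeft
abbrev ι₂ : A →ₐ[R] A ⊗[R] A := Algebra.TensorProduct.includeRight
abbrev μΔ : A →ₐ[R] A ⊗[R] A := Bialgebra.comulAlgHom R A

variable (R A) in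
/-- `(g, k) ↦ (g, h·k)` on `A ⊗ A → (A ⊗ A) ⊗ A` -/
def shiftMap : A ⊗[R] A →ₐ[R] (A ⊗[R] A) ⊗[R] A :=
  (Algebra.TensorProduct.assoc R R R A A A).symm.toAlgHom.comp
    (Algebra.TensorProduct.map (AlgHom.id R A) (Bialgebra.comulAlgHom R A))

include hJI in
theorem mul_map_eq_zero {S : Type*} [CommRing S] [Algebra R S] {a b : S} (ha : a ∈ Ideal.map (algebraMap R S) J)
    (hb : b ∈ Ideal.map (algebraMap R S) I) : a * b = 0 := by
  have := Ideal.mul_mem_mul ha hb
  rwa [← Ideal.map_mul, hJI, Ideal.map_bot, Ideal.mem_bot] at this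

include hl hJI in
/-- invariance of the integral -/
theorem int_shift (x : WithConv (C →ₐ[R] A ⊗[R] A)) (hx : Cong J x 1)
    (h : Cong J (postHom (shiftMap R A) x) 1) :
    int hl hJ _ h = postHom ι₁ (int hl hJ x hx) := by
  apply WithConv.ext; ext c
  change Λ l (A ⊗[R] A) (shiftMap R A (x c)) = Λ l A (x c) ⊗ₜ[R] (1 : A)
  have herr : ∀ z : A ⊗[R] A,
      Λ l (A ⊗[R] A) (shiftMap R A z) - Λ l A z ⊗ₜ[R] (1 : A) ∈ Ideal.map (algebraMap R (A ⊗[R] A)) I := by
    intro z
    induction z using TensorProduct.induction_on with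
    | zero => simp
    | add p q hp hq => simp only [map_add, TensorProduct.add_tmul]; rw [add_sub_add_comm]; exact add_mem hp hq
    | tmul a b =>
      have h1 : Λ l (A ⊗[R] A) (shiftMap R A (a ⊗ₜ b)) = a ⊗ₜ[R] TensorProduct.rid R A (l.lTensor A (comul b)) := by
        simp only [shiftMap, AlgHom.comp_apply, Algebra.TensorProduct.map_tmul, AlgHom.id_apply,
          Bialgebra.comulAlgHom_apply, AlgEquiv.coe_toAlgHom]
        induction comul (R := R) b using TensorProduct.induction_on with
        | zero => simp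
        | add p q hp hq => simp only [map_add, TensorProduct.tmul_add, hp, hq]
        | tmul p q => simp [Λ_tmul, TensorProduct.tmul_smul]
      rw [h1, Λ_tmul, TensorProduct.smul_tmul, ← TensorProduct.tmul_sub]
      have h2 : Ideal.map (algebraMap R A) I ≤
          (Ideal.map (algebraMap R (A ⊗[R] A)) I).comap (Algebra.TensorProduct.includeRight : A →ₐ[R] A ⊗[R] A) := by
        rw [Ideal.map_le_iff_le_comap]
        intro r hr
        rw [Ideal.mem_comap, Ideal.mem_comap, AlgHom.commutes]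
        exact Ideal.mem_map_of_mem _ hr
      rw [show a ⊗ₜ[R] (TensorProduct.rid R A (l.lTensor A (comul b)) - l b • (1 : A)) =
        (a ⊗ₜ[R] (1 : A)) * ((1 : A) ⊗ₜ[R] (TensorProduct.rid R A (l.lTensor A (comul b)) - l b • (1 : A))) by simp]
      exact Ideal.mul_mem_left _ _ (h2 (hl.invariant b))
  -- `x c = ε c + Σ J`
  have hzero : ∀ z ∈ Ideal.map (algebraMap R (A ⊗[R] A)) J,
      Λ l (A ⊗[R] A) (shiftMap R A z) - Λ l A z ⊗ₜ[R] (1 : A) = 0 := by
    intro z hz
    have hz' : z ∈ (Ideal.map (algebraMap R (A ⊗[R] A)) J).restrictScalars R := hz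
    rw [← Ideal.smul_top_eq_map] at hz'
    refine Submodule.smul_induction_on hz' (fun r hr b _ => ?_) (fun p q hp hq => ?_)
    · rw [map_smul, LinearMap.map_smul_of_tower, LinearMap.map_smul_of_tower, ← TensorProduct.smul_tmul', ← smul_sub,
        Algebra.smul_def]
      exact mul_map_eq_zero hJI (Ideal.mem_map_of_mem _ hr) (herr b)
    · simp only [map_add, TensorProduct.add_tmul]
      rw [add_sub_add_comm, hp, hq, add_zero]
  have h0 := hzero _ (sub_mem_mul hx c)
  rw [← sub_eq_zero]
  refine Eq.trans ?_ h0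
  simp only [map_sub, AlgHom.commutes, Λ_algebraMap hl, TensorProduct.sub_tmul]
  rw [← Algebra.TensorProduct.algebraMap_apply]
  abel

variable (f : WithConv (C →ₐ[R] A))

/-- the defect of being a homomorphism -/
def defect : WithConv (C →ₐ[R] A ⊗[R] A) :=
  postHom ι₁ f * postHom ι₂ f * inv' (postHom μΔ f)

include hl hJ hJI in
/-- the averaging argument -/
theorem exists_hom (hd : Cong J (defect f) 1) :
    ∃ F : WithConv (C →ₐ[R] A), Cong J F f ∧ postHom ι₁ F * postHom ι₂ F = postHom μΔ F := by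
  set d := defect f
  let E := int hl hJ d hd
  have hE : Cong J E 1 := int_cong hl hJ d hd
  -- four maps `A ⊗ A → (A ⊗ A) ⊗ A`
  let incl : A ⊗[R] A →ₐ[R] (A ⊗[R] A) ⊗[R] A := Algebra.TensorProduct.includeLeft
  let c₁ : A ⊗[R] A →ₐ[R] (A ⊗[R] A) ⊗[R] A := Algebra.TensorProduct.map μΔ (AlgHom.id R A)
  let c₂ : A ⊗[R] A →ₐ[R] (A ⊗[R] A) ⊗[R] A := shiftMap R A
  let c₃ : A ⊗[R] A →ₐ[R] (A ⊗[R] A) ⊗[R] A := Algebra.TensorProduct.map ι₂ (AlgHom.id R A)
  let g₁ := postHom (incl.comp ι₁) f
  have hd1 : ∀ c : A ⊗[R] A →ₐ[R] (A ⊗[R] A) ⊗[R] A, Cong J (postHom c d) 1 := fun c => hd.map_one' c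
  have hdD : d * postHom μΔ f = postHom ι₁ f * postHom ι₂ f := by
    change postHom ι₁ f * postHom ι₂ f * inv' (postHom μΔ f) * postHom μΔ f = _
    rw [mul_assoc, inv'_mul, mul_one]
  have hdefect : ∀ c : A ⊗[R] A →ₐ[R] (A ⊗[R] A) ⊗[R] A,
      postHom c d * postHom (c.comp μΔ) f = postHom (c.comp ι₁) f * postHom (c.comp ι₂) f := by
    intro c
    rw [show postHom (c.comp μΔ) f = postHom c (postHom μΔ f) from rfl, ← map_mul, hdD, map_mul]
    rfl
  have he1 : c₁.comp μΔ = c₂.comp μΔ := by
    apply AlgHom.ext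
    intro a
    change Algebra.TensorProduct.map μΔ (AlgHom.id R A) (comul a) = shiftMap R A (comul a)
    change _ = (Algebra.TensorProduct.assoc R R R A A A).symm
      (Algebra.TensorProduct.map (AlgHom.id R A) (Bialgebra.comulAlgHom R A) (comul a))
    rw [AlgEquiv.eq_symm_apply]
    exact Coalgebra.coassoc_apply a
  have he2 : c₁.comp ι₁ = incl.comp μΔ := by apply AlgHom.ext; intro a; simp [c₁, incl]
  have he3 : c₂.comp ι₁ = incl.comp ι₁ := by
    apply AlgHom.ext; intro a
    simp [c₂, incl, shiftMap, Algebra.TensorProduct.one_def]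
  have he4 : c₂.comp ι₂ = c₃.comp μΔ := by
    apply AlgHom.ext; intro a
    simp only [c₂, c₃, shiftMap, AlgHom.comp_apply, Algebra.TensorProduct.includeRight_apply,
      Algebra.TensorProduct.map_tmul, map_one, AlgHom.id_apply, Bialgebra.comulAlgHom_apply, AlgEquiv.coe_toAlgHom]
    induction comul (R := R) a using TensorProduct.induction_on with
    | zero => simp
    | add p q hp hq => simp only [TensorProduct.tmul_add, map_add, hp, hq]
    | tmul p q => simp
  have he5 : c₃.comp ι₁ = incl.comp ι₂ := by apply AlgHom.ext; intro a; simp [c₃, incl]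
  have he6 : c₁.comp ι₂ = c₃.comp ι₂ := by
    apply AlgHom.ext; intro a; simp [c₁, c₃, Algebra.TensorProduct.one_def]
  -- the cocycle identity
  have hcoc : postHom incl d * postHom c₁ d = g₁ * postHom c₃ d * inv' g₁ * postHom c₂ d := by
    have e1 := hdefect c₁
    have e2 := hdefect c₂
    have e3 := hdefect c₃
    rw [he2, he6] at e1
    rw [← he1, he3, he4] at e2
    rw [he5] at e3
    exact cocycle_identity (isUnit_point _) (inv'_mul g₁) (hdefect incl) e1 e2 e3
  -- integrate
  have h₂ : Cong J (g₁ * postHom c₃ d * inv' g₁) 1 := (hd1 c₃).conj g₁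
  have hsrc₁ : Cong J (postHom incl d * postHom c₁ d) 1 := (hd1 incl).mul_one' (hd1 c₁)
  have hsrc₂ : Cong J (g₁ * postHom c₃ d * inv' g₁ * postHom c₂ d) 1 := h₂.mul_one' (hd1 c₂)
  have hint : d * postHom μΔ E = postHom ι₁ f * postHom ι₂ E * inv' (postHom ι₁ f) * postHom ι₁ E := by
    have h3 := int_congr hl hJ _ _ hsrc₁ hsrc₂ hcoc
    rw [int_mul hl hJ _ _ (hd1 incl) (hd1 c₁), int_mul hl hJ _ _ h₂ (hd1 c₂), int_left hl hJ d hd,
      int_natural hl hJ μΔ d hd, int_shift hl hJ hJI d hd] at h3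
    rw [h3]
    congr 1
    have hinv : inv' g₁ = postHom incl (inv' (postHom ι₁ f)) := rfl
    have h4 : Cong J (postHom incl (postHom ι₁ f) * postHom c₃ d * postHom incl (inv' (postHom ι₁ f))) 1 := by
      rw [← hinv]; exact h₂
    refine (int_congr hl hJ _ _ h₂ h4 (by rw [hinv]; rfl)).trans ?_
    rw [int_conj hl hJ (postHom ι₁ f) (inv' (postHom ι₁ f)) (postHom c₃ d) (hd1 c₃), int_natural hl hJ ι₂ d hd]
  refine ⟨inv' E * f, ?_, ?_⟩
  · simpa using hE.inv.mul (Cong.refl f)
  · rw [map_mul, map_mul, map_mul, postHom_inv', postHom_inv', postHom_inv']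
    exact corrected_identity (isUnit_point (postHom μΔ E)) (inv'_mul _) (inv'_mul _) (inv'_mul _) (inv'_mul _)
      (mul_inv' _) hdD hint

include hl hJ hJI in
/-- homomorphisms congruent modulo `J` are conjugate -/
theorem exists_conj (F F' : WithConv (C →ₐ[R] A)) (hF : postHom ι₁ F * postHom ι₂ F = postHom μΔ F)
    (hF' : postHom ι₁ F' * postHom ι₂ F' = postHom μΔ F') (h : Cong J F' F) :
    ∃ E : WithConv (C →ₐ[R] R), Cong J E 1 ∧
      F' = postHom (Algebra.ofId R A) E * F * postHom (Algebra.ofId R A) (inv' E) := by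
  set e := F' * inv' F
  have he : Cong J e 1 := by
    have := h.mul (Cong.refl (inv' F))
    rwa [mul_inv'] at this
  let lid : R ⊗[R] A →ₐ[R] A := (Algebra.TensorProduct.lid R A).toAlgHom
  let lidInv : A →ₐ[R] R ⊗[R] A := Algebra.TensorProduct.includeRight
  have he' : Cong J (postHom lidInv e) 1 := he.map_one' lidInv
  let E := int hl hJ (postHom lidInv e) he'
  have hE : Cong J E 1 := int_cong hl hJ _ he'
  refine ⟨E, hE, ?_⟩
  let P := postHom ι₁ F
  have hce : postHom ι₁ e * (P * postHom ι₂ e * inv' P) = postHom μΔ e := by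
    rw [map_mul, map_mul, map_mul, postHom_inv', postHom_inv', postHom_inv', ← hF']
    exact ratio_identity (isUnit_point (postHom μΔ F)) (inv'_mul _) (inv'_mul _) (inv'_mul _) hF
  have hs₁ : Cong J (postHom ι₁ e) 1 := he.map_one' ι₁
  have hs₂ : Cong J (P * postHom ι₂ e * inv' P) 1 := (he.map_one' ι₂).conj P
  have hs₁₂ : Cong J (postHom ι₁ e * (P * postHom ι₂ e * inv' P)) 1 := hs₁.mul_one' hs₂
  have hs₃ : Cong J (postHom μΔ e) 1 := he.map_one' μΔ
  have hint := int_congr hl hJ _ _ hs₁₂ hs₃ hce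
  rw [int_mul hl hJ _ _ hs₁ hs₂, int_left hl hJ e he] at hint
  -- `∫ Δ e = E` and `∫ conj e = F E F⁻¹`
  have hA : int hl hJ (postHom μΔ e) hs₃ = postHom (Algebra.ofId R A) E := by
    apply WithConv.ext; ext c
    change Λ l A (comul (e c)) = algebraMap R A (Λ l R ((1 : R) ⊗ₜ[R] e c))
    rw [Λ_tmul, smul_eq_mul, mul_one]
    have herr : ∀ z : A, Λ l A (comul z) - algebraMap R A (l z) ∈ Ideal.map (algebraMap R A) I := fun z => by
      have h1 : Λ l A (comul z) = TensorProduct.rid R A (l.lTensor A (comul z)) := by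
        induction comul (R := R) z using TensorProduct.induction_on with
        | zero => simp
        | add p q hp hq => simp only [map_add, hp, hq]
        | tmul p q => simp [Λ_tmul]
      rw [h1, Algebra.algebraMap_eq_smul_one]
      exact hl.invariant z
    have hz : ∀ z ∈ Ideal.map (algebraMap R A) J, Λ l A (comul z) - algebraMap R A (l z) = 0 := by
      intro z hz
      have hz' : z ∈ (Ideal.map (algebraMap R A) J).restrictScalars R := hz
      rw [← Ideal.smul_top_eq_map] at hz'
      refine Submodule.smul_induction_on hz' (fun r hr b _ => ?_) (fun p q hp hq => ?_)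
      · rw [map_smul, LinearMap.map_smul_of_tower, map_smul, smul_eq_mul, map_mul, ← Algebra.smul_def, ← smul_sub,
          Algebra.smul_def]
        exact mul_map_eq_zero hJI (Ideal.mem_map_of_mem _ hr) (herr b)
      · simp only [map_add]; rw [add_sub_add_comm, hp, hq, add_zero]
    have h0 := hz _ (sub_mem_mul he c)
    rw [← sub_eq_zero]
    refine Eq.trans ?_ h0
    simp only [map_sub, Algebra.algebraMap_eq_smul_one, map_smul, Bialgebra.comul_one,
      LinearMap.map_smul_of_tower, Λ_one hl, hl.map_one, smul_eq_mul, mul_one, sub_smul]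
    abel
  have hB : int hl hJ (P * postHom ι₂ e * inv' P) hs₂ = F * postHom (Algebra.ofId R A) E * inv' F := by
    have h5 : Cong J (postHom (Algebra.TensorProduct.map (Algebra.ofId R A) (AlgHom.id R A)) (postHom lidInv e)) 1 :=
      he'.map_one' _
    have h6 : postHom ι₂ e =
        postHom (Algebra.TensorProduct.map (Algebra.ofId R A) (AlgHom.id R A)) (postHom lidInv e) := by
      apply WithConv.ext; ext c
      simp [postHom, lidInv]
    have h7 : Cong J (postHom ι₁ F * postHom (Algebra.TensorProduct.map (Algebra.ofId R A) (AlgHom.id R A))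
        (postHom lidInv e) * postHom ι₁ (inv' F)) 1 := by
      rw [← h6]; exact hs₂
    refine (int_congr hl hJ _ _ hs₂ h7 (by rw [← h6]; rfl)).trans ?_
    rw [int_conj hl hJ F (inv' F) _ h5, int_natural hl hJ (Algebra.ofId R A) _ he']
  rw [hA, hB] at hint
  -- `e = E · F E⁻¹ F⁻¹`
  have hF'e : F' = e * F := by rw [mul_assoc, inv'_mul, mul_one]
  rw [hF'e]
  exact conj_identity (inv'_mul F) (mul_inv' _) hint

end Main

end

end Groth.Agent.MultType.SqZero
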