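import Groth.Agent.MultType.Split
import Groth.Agent.MultType.Coef
import Groth.Agent.MultType.SqZero
import Mathlib.RingTheory.TensorProduct.IncludeLeftSubRight
import Mathlib.LinearAlgebra.TensorProduct.Pi

/-!
# The invariant integral of a group of multiplicative type
-/

open Coalgebra Bialgebra TensorProduct

universe u v w

namespace Groth.Agent.MultType.Integral

open Groth.Agent.MultType.Split

noncomputable section

variable {R : Type u} [CommRing R] {A : Type v} [CommRing A] [Bialgebra R A]

/-- a normalised invariant integral -/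
structure IsIntegral (R : Type u) [CommRing R] (A : Type v) [CommRing A] [Bialgebra R A] (l : A →ₗ[R] R) : Prop where
  map_one : l 1 = 1
  invariant : ∀ a, TensorProduct.rid R A (l.lTensor A (comul a)) = l a • (1 : A)

theorem IsIntegral.toMod {l : A →ₗ[R] R} (h : IsIntegral R A l) (I : Ideal R) : SqZero.IsIntegralMod A I l :=
  ⟨h.map_one, fun a => by rw [h.invariant, sub_self]; exact zero_mem _⟩

/-- integrals transport along isomorphisms -/
theorem IsIntegral.transport {B : Type w} [CommRing B] [Bialgebra R B] {l : A →ₗ[R] R} (h : IsIntegral R A l)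
    (e : B ≃ₐc[R] A) : IsIntegral R B (l ∘ₗ (e : B →ₐc[R] A).toLinearMap) := by
  refine ⟨?_, fun b => ?_⟩
  · have he : (e : B →ₐc[R] A) 1 = 1 := _root_.map_one _
    exact (congrArg l he).trans h.map_one
  · apply e.toAlgEquiv.injective
    change e (TensorProduct.rid R B ((l ∘ₗ (e : B →ₐc[R] A).toLinearMap).lTensor B (comul b))) = e _
    have key : ∀ t : B ⊗[R] B, e (TensorProduct.rid R B ((l ∘ₗ (e : B →ₐc[R] A).toLinearMap).lTensor B t)) =
        TensorProduct.rid R A (l.lTensor A (TensorProduct.map (e : B →ₐc[R] A).toLinearMap (e : B →ₐc[R] A).toLinearMap t)) := by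
      intro t
      induction t using TensorProduct.induction_on with
      | zero => simp
      | add p q hp hq => simp only [map_add, hp, hq]
      | tmul p q =>
        simp only [LinearMap.lTensor_tmul, TensorProduct.rid_tmul, TensorProduct.map_tmul, map_smul]
        rfl
    rw [key]
    have hc : TensorProduct.map (e : B →ₐc[R] A).toLinearMap (e : B →ₐc[R] A).toLinearMap (comul b) = comul (e b) :=
      CoalgHomClass.map_comp_comul_apply (e : B →ₐc[R] A) b
    have he : e 1 = 1 := _root_.map_one (e : B →ₐc[R] A)
    rw [hc, h.invariant, map_smul, he]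
    rfl

/-- the coefficient at `1` of a group algebra -/
theorem isIntegral_coeffLin (M : Type w) [CommMonoid M] :
    IsIntegral R (MonoidAlgebra R M) (Coef.coeffLin (R := R) (1 : M)) := by
  refine ⟨by simp [MonoidAlgebra.one_def], fun x => ?_⟩
  induction x using MonoidAlgebra.induction_linear with
  | zero => simp
  | add x y hx hy => rw [map_add, map_add, map_add, hx, hy, map_add, add_smul]
  | single m r =>
    by_cases hm : m = 1
    · subst hm; simp [MonoidAlgebra.one_def]
    · simp [Finsupp.single_eq_of_ne (Ne.symm hm)]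

/-- on a group algebra the coefficient at `1` is the only integral -/
theorem eq_coeffLin {M : Type w} [CommGroup M] {l : MonoidAlgebra R M →ₗ[R] R}
    (h : IsIntegral R (MonoidAlgebra R M) l) : l = Coef.coeffLin (1 : M) := by
  ext m
  by_cases hm : m = 1
  · subst hm
    have := h.map_one
    simp only [MonoidAlgebra.one_def] at this
    simp [this]
  · have h1 := congrArg (fun z => MonoidAlgebra.coeff z m) (h.invariant (MonoidAlgebra.single m 1))
    simp only [MonoidAlgebra.comul_single, CommSemiring.comul_apply, TensorProduct.map_tmul,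
      MonoidAlgebra.lsingle_apply, LinearMap.lTensor_tmul, TensorProduct.rid_tmul, MonoidAlgebra.coeff_smul,
      Finsupp.smul_apply, MonoidAlgebra.coeff_single, Finsupp.single_eq_same, MonoidAlgebra.one_def,
      Finsupp.single_eq_of_ne hm, smul_eq_mul, mul_one, mul_zero] at h1
    simp [h1, Finsupp.single_eq_of_ne (Ne.symm hm)]

/-- integrals are unique on diagonalisable groups -/
theorem eq_of_equiv {M : Type w} [CommGroup M] (e : A ≃ₐc[R] MonoidAlgebra R M) {l : A →ₗ[R] R}
    (h : IsIntegral R A l) (a : A) : l a = (e a).coeff 1 := by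
  have h1 := eq_coeffLin (h.transport e.symm)
  have h2 := LinearMap.congr_fun h1 (e a)
  change l (e.symm (e a)) = _ at h2
  rw [show e.symm (e a) = a from e.toAlgEquiv.symm_apply_apply a] at h2
  exact h2

section BaseChange

variable {A : Type v} [CommRing A] [HopfAlgebra R A] {l : A →ₗ[R] R} (T : Type w) [CommRing T] [Algebra R T]

theorem IsIntegral.baseChange (h : IsIntegral R A l) : IsIntegral T (T ⊗[R] A) (SqZero.Λ l T) := by
  refine ⟨SqZero.Λ_one (h.toMod ⊥) T, fun z => ?_⟩
  induction z using TensorProduct.induction_on with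
  | zero => simp
  | add p q hp hq => simp only [map_add, hp, hq, add_smul]
  | tmul t a =>
    have key : ∀ s : A ⊗[R] A,
        TensorProduct.rid T (T ⊗[R] A) ((SqZero.Λ l T).lTensor (T ⊗[R] A)
          (TensorProduct.AlgebraTensorModule.tensorTensorTensorComm R T R T T T A A ((1 : T) ⊗ₜ[T] t ⊗ₜ[R] s))) =
          t ⊗ₜ[R] TensorProduct.rid R A (l.lTensor A s) := by
      intro s
      induction s using TensorProduct.induction_on with
      | zero => simp
      | add p q hp hq => simp only [TensorProduct.tmul_add, map_add, hp, hq]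
      | tmul p q => simp [SqZero.Λ_tmul, TensorProduct.smul_tmul']
    rw [TensorProduct.comul_def]
    simp only [LinearMap.comp_apply, TensorProduct.AlgebraTensorModule.map_tmul, CommSemiring.comul_apply,
      LinearEquiv.coe_coe]
    refine (key (comul a)).trans ?_
    rw [h.invariant, SqZero.Λ_tmul, Algebra.TensorProduct.one_def, TensorProduct.tmul_smul, smul_assoc]
    simp [TensorProduct.smul_tmul']

end BaseChange

section Existence

variable {R : Type u} [CommRing R] {A : Type u} [CommRing A] [HopfAlgebra R A]

theorem compat {T T' U : Type u} [CommRing T] [CommRing T'] [CommRing U] [Algebra R T] [Algebra R T'] [Algebra R U]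
    {M M' : Type u} [CommGroup M] [CommGroup M'] (e : T ⊗[R] A ≃ₐc[T] MonoidAlgebra T M)
    (e' : T' ⊗[R] A ≃ₐc[T'] MonoidAlgebra T' M') (g : T →ₐ[R] U) (g' : T' →ₐ[R] U) (a : A) :
    g ((e (1 ⊗ₜ a)).coeff 1) = g' ((e' (1 ⊗ₜ a)).coeff 1) := by
  have push : ∀ {T : Type u} [CommRing T] [Algebra R T] {M : Type u} [CommGroup M]
      (e : T ⊗[R] A ≃ₐc[T] MonoidAlgebra T M) (g : T →ₐ[R] U) (N : Type u) (_ : CommGroup N)
      (f : U ⊗[R] A ≃ₐc[U] MonoidAlgebra U N), g ((e (1 ⊗ₜ a)).coeff 1) = (f (1 ⊗ₜ a)).coeff 1 := by
    intro T _ _ M _ e g N _ f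
    algebraize [g.toRingHom]
    let e₁ := extendEquiv e U
    have h1 : (e₁ (1 ⊗ₜ a)).coeff 1 = g ((e (1 ⊗ₜ a)).coeff 1) := by
      change (MonoidAlgebra.scalarTensorEquiv T U ((1 : U) ⊗ₜ[T] e (1 ⊗ₜ a))).coeff (1 : M) = _
      generalize e (1 ⊗ₜ a) = x
      induction x using MonoidAlgebra.induction_linear with
      | zero => simp
      | add x y hx hy => simp only [TensorProduct.tmul_add, map_add, MonoidAlgebra.coeff_add, Finsupp.add_apply, hx, hy]
      | single m r =>
        classical
        rw [MonoidAlgebra.scalarTensorEquiv_tmul, one_smul]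
        simp only [MonoidAlgebra.mapAlgHom_single, MonoidAlgebra.coeff_single, Finsupp.single_apply]
        split_ifs with hm
        · rfl
        · exact (map_zero g).symm
    rw [← h1]
    exact (eq_of_equiv f ((isIntegral_coeffLin (R := U) M).transport e₁) _)
  letI := g.toRingHom.toAlgebra
  haveI : IsScalarTower R T U := IsScalarTower.of_algebraMap_eq fun r => (g.commutes r).symm
  rw [push e g M inferInstance (extendEquiv e U), push e' g' M inferInstance (extendEquiv e U)]

theorem exists_split_family (h : SGA3b.IsMultType R A) :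
    ∃ (ι : Type u) (_ : Fintype ι) (T : ι → Type u) (_ : ∀ i, CommRing (T i)) (_ : ∀ i, Algebra R (T i)),
      Module.FaithfullyFlat R (∀ i, T i) ∧ ∀ i, ∃ (M : Type u) (_ : CommGroup M),
        Nonempty (T i ⊗[R] A ≃ₐc[T i] MonoidAlgebra (T i) M) := by
  classical
  obtain ⟨s, hs, hloc⟩ := h
  obtain ⟨t, hts, ht⟩ := (Ideal.span_eq_top_iff_finite s).mp hs
  choose T instT algT hff M instM he using fun f : t => hloc f (hts f.2)
  let algR : ∀ f : t, Algebra R (T f) := fun f =>
    ((algebraMap (Localization.Away (f : R)) (T f)).comp (algebraMap R (Localization.Away (f : R)))).toAlgebra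
  have tow : ∀ f : t, IsScalarTower R (Localization.Away (f : R)) (T f) := fun f =>
    IsScalarTower.of_algebraMap_eq' rfl
  have hflat : ∀ f : t, Module.Flat R (T f) := fun f => Module.Flat.trans R (Localization.Away (f : R)) (T f)
  refine ⟨t, inferInstance, T, instT, algR, ?_, fun f => ⟨M f, instM f, ?_⟩⟩
  · haveI : Module.Flat R (∀ f, T f) :=
      Module.Flat.of_linearEquiv (DirectSum.linearEquivFunOnFintype R t T).symm
    refine Module.FaithfullyFlat.of_comap_surjective fun p => ?_
    obtain ⟨f, hf, hfp⟩ : ∃ f ∈ t, f ∉ p.asIdeal := by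
      by_contra! hcon
      exact p.isPrime.ne_top (top_le_iff.mp (ht ▸ Ideal.span_le.mpr hcon))
    let f' : t := ⟨f, hf⟩
    obtain ⟨q', hq'⟩ : p ∈ Set.range (PrimeSpectrum.comap (algebraMap R (Localization.Away (f' : R)))) := by
      rw [PrimeSpectrum.localization_away_comap_range (Localization.Away (f' : R)) (f' : R)]; exact hfp
    have := hff f'
    obtain ⟨q, hq⟩ := PrimeSpectrum.comap_surjective_of_faithfullyFlat (B := T f') q'
    refine ⟨q.comap (Pi.evalRingHom T f'), ?_⟩
    rw [← hq', ← hq]
    rfl
  · obtain ⟨e⟩ := he f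
    exact ⟨(cancel (R := R) (S := Localization.Away (f : R)) (T := T f) (A := A)).symm.trans e⟩

/-- **the integral of a group of multiplicative type** -/
theorem exists_isIntegral (h : SGA3b.IsMultType R A) : ∃ l : A →ₗ[R] R, IsIntegral R A l := by
  classical
  obtain ⟨ι, _, T, _, _, hff, hM⟩ := exists_split_family h
  choose M instM he using hM
  have e := fun i => (he i).some
  let P := ∀ i, T i
  let L : A →ₗ[R] P := LinearMap.pi fun i =>
    ((Coef.coeffLin (R := T i) (1 : M i)).restrictScalars R) ∘ₗ
      ((e i : T i ⊗[R] A →ₐ[T i] MonoidAlgebra (T i) (M i)).toLinearMap.restrictScalars R) ∘ₗ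
        TensorProduct.mk R (T i) A 1
  have hL : ∀ a, Algebra.TensorProduct.includeLeftSubRight R P (L a) = 0 := by
    intro a
    rw [Algebra.TensorProduct.includeLeftSubRight_apply, sub_eq_zero]
    apply (TensorProduct.piRight R R P T).injective
    funext i
    apply ((TensorProduct.comm R P (T i)).trans (TensorProduct.piRight R R (T i) T)).injective
    funext j
    rw [TensorProduct.piRight_apply, TensorProduct.piRight_apply]
    simp only [TensorProduct.piRightHom_tmul, LinearEquiv.trans_apply, TensorProduct.comm_tmul,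
      TensorProduct.piRight_apply, Pi.one_apply]
    exact (compat (e j) (e i) Algebra.TensorProduct.includeRight
      (Algebra.TensorProduct.includeLeft : T i →ₐ[R] T i ⊗[R] T j) a)
  have heff := Algebra.IsEffective.of_faithfullyFlat R P
  have hinj : Function.Injective (algebraMap R P) := FaithfulSMul.algebraMap_injective R P
  choose l₀ hl₀ using fun a => (heff (L a)).mp (hL a)
  let l : A →ₗ[R] R :=
    { toFun := l₀
      map_add' := fun a b => hinj (by
        rw [map_add]
        simp only [Algebra.linearMap_apply] at hl₀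
        rw [hl₀, hl₀, hl₀, map_add])
      map_smul' := fun r a => hinj (by
        simp only [Algebra.linearMap_apply] at hl₀
        rw [RingHom.id_apply, smul_eq_mul, map_mul, hl₀, hl₀, map_smul, Algebra.smul_def]) }
  have hli : ∀ a i, algebraMap R (T i) (l a) = (e i (1 ⊗ₜ a)).coeff 1 := fun a i => congrFun (hl₀ a) i
  refine ⟨l, hinj ?_, fun a => ?_⟩
  · funext i
    change algebraMap R (T i) (l 1) = algebraMap R (T i) 1
    rw [hli, ← Algebra.TensorProduct.one_def]
    simp [MonoidAlgebra.one_def]
  · -- equality may be tested on each `T i`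
    refine sub_eq_zero.mp (eq_zero_of_forall_flat (R := R) _ fun p => ?_)
    obtain ⟨q, hq⟩ := PrimeSpectrum.comap_surjective_of_faithfullyFlat (A := R) (B := P) p
    obtain ⟨i, qi, hqi⟩ : ∃ i, ∃ qi : PrimeSpectrum (T i), qi.comap (Pi.evalRingHom T i) = q := by
      have hq' : q.asIdeal.IsPrime := q.isPrime
      obtain ⟨i, hi⟩ : ∃ i, (Pi.single i 1 : P) ∉ q.asIdeal := by
        by_contra! hcon
        apply q.isPrime.ne_top
        rw [Ideal.eq_top_iff_one, show (1 : P) = ∑ i, Pi.single i 1 from (Finset.univ_sum_single _).symm]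
        exact Ideal.sum_mem _ fun i _ => hcon i
      have hker : RingHom.ker (Pi.evalRingHom T i) ≤ q.asIdeal := fun x hx => by
        refine (q.isPrime.mem_or_mem (x := x) (y := Pi.single i 1) ?_).resolve_right hi
        have : x * Pi.single i 1 = 0 := by
          funext j
          by_cases hj : j = i
          · subst hj; simp [show x j = 0 from hx]
          · simp [Pi.single_eq_of_ne hj]
        rw [this]; exact zero_mem _
      have hs : Function.Surjective (Pi.evalRingHom T i) := Function.surjective_eval i
      refine ⟨i, ⟨q.asIdeal.map (Pi.evalRingHom T i), Ideal.map_isPrime_of_surjective hs hker⟩, ?_⟩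
      apply PrimeSpectrum.ext
      change (q.asIdeal.map (Pi.evalRingHom T i)).comap (Pi.evalRingHom T i) = q.asIdeal
      rw [Ideal.comap_map_of_surjective' _ hs, sup_eq_left.mpr hker]
    have hflat : Module.Flat R (T i) :=
      Module.Flat.of_retract (LinearMap.single R T i) (LinearMap.proj i)
        (by ext x; simp)
    refine ⟨T i, inferInstance, inferInstance, hflat, ⟨qi, by rw [← hq, ← hqi]; rfl⟩, ?_⟩
    rw [TensorProduct.tmul_sub, sub_eq_zero]
    have hint : IsIntegral (T i) (T i ⊗[R] A) (Coef.coeffLin (1 : M i) ∘ₗ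
        ((e i : T i ⊗[R] A →ₐc[T i] MonoidAlgebra (T i) (M i)).toLinearMap)) :=
      (isIntegral_coeffLin (M i)).transport (e i)
    have h1 := hint.invariant (1 ⊗ₜ[R] a)
    refine Eq.trans ?_ (h1.trans ?_)
    · have key : ∀ s : A ⊗[R] A,
          (1 : T i) ⊗ₜ[R] TensorProduct.rid R A (l.lTensor A s) =
            TensorProduct.rid (T i) (T i ⊗[R] A) ((Coef.coeffLin (1 : M i) ∘ₗ
              (e i : T i ⊗[R] A →ₐc[T i] MonoidAlgebra (T i) (M i)).toLinearMap).lTensor (T i ⊗[R] A)
              (TensorProduct.AlgebraTensorModule.tensorTensorTensorComm R (T i) R (T i) (T i) (T i) A A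
                ((1 : T i) ⊗ₜ[T i] (1 : T i) ⊗ₜ[R] s))) := by
        intro s
        induction s using TensorProduct.induction_on with
        | zero => simp
        | add p q hp hq => simp only [TensorProduct.tmul_add, map_add, hp, hq]
        | tmul p q =>
          simp only [LinearMap.lTensor_tmul, TensorProduct.rid_tmul,
            TensorProduct.AlgebraTensorModule.tensorTensorTensorComm_tmul, LinearMap.comp_apply]
          change _ = (e i (1 ⊗ₜ q)).coeff 1 • ((1 : T i) ⊗ₜ[R] p)
          rw [← hli, TensorProduct.tmul_smul, TensorProduct.smul_tmul', TensorProduct.smul_tmul', Algebra.smul_def, mul_one,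
            smul_eq_mul, mul_one]
      rw [key, TensorProduct.comul_def]
      simp only [LinearMap.comp_apply, TensorProduct.AlgebraTensorModule.map_tmul, CommSemiring.comul_apply,
        LinearEquiv.coe_coe]
    · change (e i (1 ⊗ₜ a)).coeff 1 • (1 : T i ⊗[R] A) = _
      rw [← hli, TensorProduct.tmul_smul, Algebra.TensorProduct.one_def, algebraMap_smul]

end Existence

end

end Groth.Agent.MultType.Integral
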