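import Groth.Agent.MultType.TorsionMult

/-!
# The kernels of the power maps

* `isHopfIdeal_torsion`: the torsion ideals are Hopf ideals.
* `exists_torsion_split`, `flat_torsion`: for a split group the kernel is `D(M / M ^ n)`.
-/

open Coalgebra TensorProduct WithConv

universe u

namespace Groth.Agent.MultType.TorsionHopf

noncomputable section

variable {R : Type u} [CommRing R] {C : Type u} [CommRing C] [HopfAlgebra R C] [IsCocomm R C]

/-- the power map as a bialgebra map -/
def powBialg (n : ℕ) : C →ₐc[R] C := ((toConv (BialgHom.id R C)) ^ n).ofConv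

theorem powConv_eq (n : ℕ) (c : C) : SGA3b.powConv R C n c = powBialg (R := R) n c := by
  have key : toConv (((toConv (BialgHom.id R C)) ^ n).ofConv.toAlgHom) = (toConv (AlgHom.id R C)) ^ n :=
    BialgHom.toAlgHom_convPow _ n
  show ((toConv (AlgHom.id R C)) ^ n).ofConv c = _
  rw [← key]
  rfl

instance isHopfIdeal_torsion (n : ℕ) : (SGA3b.torsionIdeal R C n).IsHopfIdeal R := by
  let J := SGA3b.torsionIdeal R C n
  let φ := powBialg (R := R) (C := C) n
  have hgen : ∀ a : C, counit (R := R) a = 0 → φ a ∈ J := fun a ha => by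
    rw [← powConv_eq]
    exact Ideal.mem_map_of_mem _ ha
  have hcou : J ≤ RingHom.ker (Bialgebra.counitAlgHom R C) := Ideal.map_le_iff_le_comap.mpr fun a ha => by
    change counit (R := R) (SGA3b.powConv R C n a) = 0
    rw [powConv_eq, CoalgHomClass.counit_comp_apply]
    exact ha
  let q : C →ₐ[R] C ⧸ J := Ideal.Quotient.mkₐ R J
  have hq : ∀ a, q (φ a) = algebraMap R (C ⧸ J) (counit (R := R) a) := fun a => by
    have h1 : φ (a - algebraMap R C (counit (R := R) a)) ∈ J := hgen _ (by simp)
    rw [map_sub, show φ (algebraMap R C (counit (R := R) a)) = algebraMap R C (counit (R := R) a) from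
      AlgHomClass.commutes φ _] at h1
    exact (Ideal.Quotient.eq.mpr h1).trans (q.commutes _)
  let mm : C →ₐ[R] (C ⧸ J) ⊗[R] (C ⧸ J) := (Algebra.TensorProduct.map q q).comp (Bialgebra.comulAlgHom R C)
  have hcom : J ≤ RingHom.ker mm := Ideal.map_le_iff_le_comap.mpr fun a ha => by
    change Algebra.TensorProduct.map q q (comul (R := R) (SGA3b.powConv R C n a)) = 0
    rw [powConv_eq, ← CoalgHomClass.map_comp_comul_apply φ a]
    have h2 : ∀ w : C ⊗[R] C, Algebra.TensorProduct.map q q
        (TensorProduct.map (φ : C →ₐc[R] C).toLinearMap (φ : C →ₐc[R] C).toLinearMap w) =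
        algebraMap R _ (TensorProduct.lid R R (TensorProduct.map (counit (R := R)) (counit (R := R)) w)) := by
      intro w
      induction w using TensorProduct.induction_on with
      | zero => simp
      | add x y hx hy => simp only [map_add, hx, hy]
      | tmul x y =>
        change q (φ x) ⊗ₜ q (φ y) = _
        rw [hq, hq, TensorProduct.map_tmul, TensorProduct.lid_tmul, smul_eq_mul, map_mul,
          Algebra.TensorProduct.algebraMap_apply]
        conv_rhs => rw [Algebra.TensorProduct.algebraMap_apply', Algebra.TensorProduct.tmul_mul_tmul, mul_one, one_mul]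
    refine (h2 _).trans ?_
    rw [show TensorProduct.lid R R (TensorProduct.map (counit (R := R)) (counit (R := R)) (comul (R := R) a)) =
      counit (R := R) a from by
        rw [← LinearMap.lTensor_comp_rTensor, LinearMap.comp_apply, Coalgebra.rTensor_counit_comul,
          LinearMap.lTensor_tmul, TensorProduct.lid_tmul, one_smul],
      show counit (R := R) a = 0 from ha, map_zero]
  have hant : J ≤ J.comap (HopfAlgebra.antipodeAlgHom R C) := Ideal.map_le_iff_le_comap.mpr fun a ha => by
    change HopfAlgebra.antipode R (SGA3b.powConv R C n a) ∈ J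
    rw [powConv_eq, ← Mono.map_antipode]
    exact hgen _ (by rw [HopfAlgebra.counit_antipode]; exact ha)
  exact { counit_eq_zero := fun x hx => hcou hx, map_mkQ_comul_eq_zero := fun x hx => hcom hx,
          antipode_mem := fun x hx => hant hx }

/-- the projection to the kernel after base change -/
def qT (T : Type u) [CommRing T] [Algebra R T] (n : ℕ) :
    T ⊗[R] C →ₐ[T] T ⊗[R] (C ⧸ SGA3b.torsionIdeal R C n) :=
  Algebra.TensorProduct.map (AlgHom.id T T) (Ideal.Quotient.mkₐ R (SGA3b.torsionIdeal R C n))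

variable {T : Type u} [CommRing T] [Algebra R T] {M : Type u} [CommGroup M]
  (e : T ⊗[R] C ≃ₐc[T] MonoidAlgebra T M)

/-- the subgroup of `n`-th powers -/
abbrev powSub (M : Type u) [CommGroup M] (n : ℕ) : Subgroup M := (powMonoidHom n : M →* M).range

theorem qT_pow {n : ℕ} {z : T ⊗[R] C} (hz : IsGroupLikeElem T z) : qT T n z ^ n = 1 := by
  set J := SGA3b.torsionIdeal R C n
  let P : C →ₐ[R] T ⊗[R] (C ⧸ J) :=
    (Algebra.TensorProduct.includeRight : C ⧸ J →ₐ[R] T ⊗[R] (C ⧸ J)).comp (Ideal.Quotient.mkₐ R J)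
  have hP : (toConv P) ^ n = 1 := by
    apply WithConv.ext
    ext c
    change ((toConv P) ^ n) c = (1 : WithConv (C →ₐ[R] T ⊗[R] (C ⧸ J))) c
    rw [← TorsionFinite.comp_powConv, AlgHom.convOne_apply]
    have hc : c - algebraMap R C (counit c) ∈ RingHom.ker (Bialgebra.counitAlgHom R C) := by
      rw [RingHom.mem_ker, map_sub, AlgHom.commutes]
      exact sub_self _
    have h1 : SGA3b.powConv R C n (c - algebraMap R C (counit c)) ∈ J := Ideal.mem_map_of_mem _ hc
    have h2 : P (SGA3b.powConv R C n c) = P (algebraMap R C (counit c)) := by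
      rw [map_sub, AlgHom.commutes] at h1
      change (1 : T) ⊗ₜ[R] (Ideal.Quotient.mk J _) = (1 : T) ⊗ₜ[R] (Ideal.Quotient.mk J _)
      rw [Ideal.Quotient.eq.mpr h1]
    exact h2.trans (P.commutes _)
  have hq : TorsionFinite.hat (K := T) (toConv P) = toConv (qT T n) :=
    WithConv.ext (Sq.eq_of_one_tmul fun c => by
      rw [TorsionFinite.hat_one_tmul]
      rfl)
  have h1 := TorsionFinite.apply_pow (TorsionFinite.hat (K := T) (toConv P)) hz n
  rw [← TorsionFinite.hat_pow, hP, TorsionFinite.hat_one, AlgHom.convOne_apply, hz.counit_eq_one, map_one, hq] at h1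
  exact h1.symm

include e in
/-- the kernel of the power map of `D(M)` is `D(M / M ^ n)` -/
theorem exists_torsion_split (n : ℕ) :
    ∃ ψ : T ⊗[R] (C ⧸ SGA3b.torsionIdeal R C n) ≃ₐ[T] MonoidAlgebra T (M ⧸ powSub M n),
      ∀ z, ψ (qT T n z) = MonoidAlgebra.mapDomainBialgHom T (QuotientGroup.mk' (powSub M n)) (e z) := by
  set J := SGA3b.torsionIdeal R C n
  set H := powSub M n
  let η : T ⊗[R] C →ₐ[T] MonoidAlgebra T (M ⧸ H) :=
    (MonoidAlgebra.mapDomainBialgHom T (QuotientGroup.mk' H) : MonoidAlgebra T M →ₐ[T] MonoidAlgebra T (M ⧸ H)).comp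
      (e : T ⊗[R] C →ₐ[T] MonoidAlgebra T M)
  let h : WithConv (C →ₐ[R] MonoidAlgebra T (M ⧸ H)) :=
    toConv ((η.restrictScalars R).comp Algebra.TensorProduct.includeRight)
  have hη : TorsionFinite.hat (K := T) h = toConv η :=
    WithConv.ext (Sq.eq_of_one_tmul fun c => by
      rw [TorsionFinite.hat_one_tmul]
      rfl)
  have hn1 : (toConv η) ^ n = 1 := by
    apply WithConv.ext
    refine AlgHom.ext fun z => ?_
    rw [show z = e.symm (e z) from (e.toAlgEquiv.symm_apply_apply z).symm]
    generalize e z = v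
    induction v using MonoidAlgebra.induction_linear with
    | zero => simp
    | add a b ha hb => simp only [map_add, ha, hb]
    | single m r =>
      rw [show MonoidAlgebra.single m r = r • MonoidAlgebra.single m (1 : T) by simp, map_smul e.symm,
        map_smul, map_smul]
      congr 1
      have hm : IsGroupLikeElem T (e.symm (MonoidAlgebra.single m (1 : T))) :=
        (MonoidAlgebra.isGroupLikeElem_single_one m).map e.symm
      change ((toConv η) ^ n) (e.symm (MonoidAlgebra.single m 1)) =
        (1 : WithConv (T ⊗[R] C →ₐ[T] MonoidAlgebra T (M ⧸ H))) (e.symm (MonoidAlgebra.single m 1))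
      rw [TorsionFinite.apply_pow (toConv η) hm, AlgHom.convOne_apply, hm.counit_eq_one, map_one]
      change (MonoidAlgebra.mapDomainBialgHom T (QuotientGroup.mk' H) (e (e.symm (MonoidAlgebra.single m 1)))) ^ n = 1
      rw [show e (e.symm (MonoidAlgebra.single m (1 : T))) = MonoidAlgebra.single m 1 from
        e.toAlgEquiv.apply_symm_apply _, MonoidAlgebra.mapDomainBialgHom_single, MonoidAlgebra.single_pow, one_pow,
        ← map_pow, show QuotientGroup.mk' H (m ^ n) = 1 from (QuotientGroup.eq_one_iff _).mpr ⟨m, rfl⟩,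
        MonoidAlgebra.one_def]
  have hJ : ∀ a ∈ J, η ((1 : T) ⊗ₜ[R] a) = 0 := by
    suffices h' : J ≤ RingHom.ker h.ofConv from fun a ha => h' ha
    refine Ideal.map_le_iff_le_comap.mpr fun a ha => ?_
    change h (SGA3b.powConv R C n a) = 0
    rw [TorsionFinite.comp_powConv, ← TorsionFinite.hat_one_tmul (K := T) (h ^ n), TorsionFinite.hat_pow, hη, hn1,
      AlgHom.convOne_apply, TensorProduct.counit_tmul, show counit (R := R) a = 0 from ha, zero_smul, map_zero]
  let ψ₀ : T ⊗[R] (C ⧸ J) →ₐ[T] MonoidAlgebra T (M ⧸ H) :=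
    Algebra.TensorProduct.lift (Algebra.ofId T _)
      (Ideal.Quotient.liftₐ J ((η.restrictScalars R).comp Algebra.TensorProduct.includeRight) hJ)
      fun _ _ => Commute.all _ _
  have hψ₀ : ψ₀.comp (qT T n) = η := Sq.eq_of_one_tmul fun c => by
    change algebraMap T _ 1 * η (1 ⊗ₜ c) = η (1 ⊗ₜ c)
    rw [map_one, one_mul]
  let z : M →* T ⊗[R] (C ⧸ J) :=
    (((qT T n).comp (e.symm : MonoidAlgebra T M →ₐ[T] T ⊗[R] C)) : MonoidAlgebra T M →* T ⊗[R] (C ⧸ J)).comp
      (MonoidAlgebra.of T M)
  have hz : H ≤ z.ker := by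
    rintro _ ⟨w, rfl⟩
    rw [MonoidHom.mem_ker, powMonoidHom_apply, map_pow]
    exact qT_pow ((MonoidAlgebra.isGroupLikeElem_single_one w).map e.symm)
  let χ : MonoidAlgebra T (M ⧸ H) →ₐ[T] T ⊗[R] (C ⧸ J) :=
    MonoidAlgebra.lift T _ (M ⧸ H) (QuotientGroup.lift H z hz)
  have hχ : ∀ m : M, χ (MonoidAlgebra.single (m : M ⧸ H) 1) =
      qT T n (e.symm (MonoidAlgebra.single m 1)) := fun m => by
    rw [MonoidAlgebra.lift_single, one_smul]
    rfl
  have hψm : ∀ m : M, ψ₀ (qT T n (e.symm (MonoidAlgebra.single m 1))) = MonoidAlgebra.single (m : M ⧸ H) 1 :=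
    fun m => by
      rw [← AlgHom.comp_apply, hψ₀]
      change MonoidAlgebra.mapDomainBialgHom T (QuotientGroup.mk' H) (e (e.symm (MonoidAlgebra.single m 1))) = _
      rw [show e (e.symm (MonoidAlgebra.single m (1 : T))) = MonoidAlgebra.single m 1 from
        e.toAlgEquiv.apply_symm_apply _, MonoidAlgebra.mapDomainBialgHom_single]
      rfl
  have h1 : ψ₀.comp χ = AlgHom.id T (MonoidAlgebra T (M ⧸ H)) := by
    refine MonoidAlgebra.algHom_ext (fun x => ?_) (Subsingleton.elim _ _)
    obtain ⟨m, rfl⟩ := QuotientGroup.mk_surjective x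
    rw [AlgHom.comp_apply, hχ, hψm]
    rfl
  have h2' : ∀ z, χ (ψ₀ (qT T n z)) = qT T n z := by
    intro z
    rw [show z = e.symm (e z) from (e.toAlgEquiv.symm_apply_apply z).symm]
    generalize e z = v
    induction v using MonoidAlgebra.induction_linear with
    | zero => simp
    | add a b ha hb => simp only [map_add, ha, hb]
    | single m r =>
      rw [show MonoidAlgebra.single m r = r • MonoidAlgebra.single m (1 : T) by simp, map_smul e.symm, map_smul,
        map_smul, map_smul, hψm, hχ]
  have h2 : χ.comp ψ₀ = AlgHom.id T _ := Sq.eq_of_one_tmul fun d => by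
    obtain ⟨c, rfl⟩ := Ideal.Quotient.mk_surjective d
    exact h2' ((1 : T) ⊗ₜ c)
  exact ⟨AlgEquiv.ofAlgHom ψ₀ χ h1 h2, fun z => AlgHom.congr_fun hψ₀ z⟩

include e in
theorem flat_torsion [Module.FaithfullyFlat R T] (n : ℕ) :
    Module.Flat R (C ⧸ SGA3b.torsionIdeal R C n) := by
  obtain ⟨ψ, -⟩ := exists_torsion_split e n
  haveI : Module.Flat T (T ⊗[R] (C ⧸ SGA3b.torsionIdeal R C n)) := Module.Flat.of_linearEquiv ψ.toLinearEquiv
  exact Module.Flat.of_flat_tensorProduct R _ T

end

end Groth.Agent.MultType.TorsionHopf
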