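import Groth.Agent.MultType.Fibres
import Groth.Agent.MultType.TorsionHopf

/-!
# Multiplicative type from covering families; the kernels of the power maps

* `isMultType_of_family`, `isMultType_torsion`, `finite_iff`.
-/

open Coalgebra TensorProduct

universe u

namespace Groth.Agent.MultType.KerPow

noncomputable section

/-- base change to a local ring of a group split by a covering family -/
theorem isMultType_family_local {R : Type u} [CommRing R] {A : Type u} [CommRing A] [HopfAlgebra R A]
    {ι : Type u} [Fintype ι] (T : ι → Type u) [∀ i, CommRing (T i)] [∀ i, Algebra R (T i)]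
    (hff : Module.FaithfullyFlat R (∀ i, T i)) (hM : ∀ i, SGA3b.IsDiag (T i) (T i ⊗[R] A)) (W : Type u) [CommRing W] [IsLocalRing W] [Algebra R W] :
    SGA3b.IsMultType W (W ⊗[R] A) := by
  classical
  let p := (IsLocalRing.maximalIdeal W).comap (algebraMap R W)
  haveI : p.IsPrime := Ideal.IsPrime.comap _
  obtain ⟨P, hP⟩ := PrimeSpectrum.comap_surjective_of_faithfullyFlat (A := W) (B := W ⊗[R] (∀ i, T i))
    (IsLocalRing.closedPoint W)
  let e : (W ⊗[R] (∀ i, T i)) ≃ₐ[W] ∀ i, W ⊗[R] T i := Algebra.TensorProduct.piRight R W W T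
  obtain ⟨⟨i, q⟩, hq⟩ : ∃ x : Σ i, PrimeSpectrum (W ⊗[R] T i),
      PrimeSpectrum.sigmaToPi (fun i => W ⊗[R] T i) x =
        PrimeSpectrum.comap (e.symm : _ →+* W ⊗[R] (∀ i, T i)) P :=
    (PrimeSpectrum.sigmaToPi_bijective (fun i => W ⊗[R] T i)).2 _
  obtain ⟨M, _, ⟨eM⟩⟩ := hM i
  haveI : Module.Flat R (T i) :=
    Module.Flat.of_retract (LinearMap.single R T i) (LinearMap.proj i) (by ext x; simp)
  let U := Localization.AtPrime q.asIdeal
  haveI : Module.Flat W U :=
    haveI : Module.Flat (W ⊗[R] T i) U := IsLocalization.flat U q.asIdeal.primeCompl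
    Module.Flat.trans W (W ⊗[R] T i) U
  have hqc : q.asIdeal.comap (algebraMap W (W ⊗[R] T i)) = IsLocalRing.maximalIdeal W := by
    have h1 := congrArg (fun x => Ideal.comap (algebraMap W (∀ i, W ⊗[R] T i)) (PrimeSpectrum.asIdeal x)) hq
    have h2 := congrArg PrimeSpectrum.asIdeal hP
    simp only [PrimeSpectrum.comap_asIdeal] at h1 h2
    rw [Ideal.comap_comap, show (e.symm : _ →+* W ⊗[R] (∀ i, T i)).comp (algebraMap W (∀ i, W ⊗[R] T i)) =
      algebraMap W (W ⊗[R] (∀ i, T i)) from RingHom.ext fun w => e.symm.commutes w, h2] at h1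
    exact h1
  haveI : IsLocalHom (algebraMap W U) := by
    refine ⟨fun w hw => ?_⟩
    by_contra hns
    have h1 : algebraMap W (W ⊗[R] T i) w ∈ q.asIdeal := by
      rw [← Ideal.mem_comap, hqc]
      exact hns
    rw [IsScalarTower.algebraMap_apply W (W ⊗[R] T i) U] at hw
    exact ((IsLocalization.AtPrime.isUnit_to_map_iff U q.asIdeal _).mp hw) h1
  haveI : Module.FaithfullyFlat W U := Module.FaithfullyFlat.of_flat_of_isLocalHom
  let g : T i →ₐ[R] U :=
    (IsScalarTower.toAlgHom R (W ⊗[R] T i) U).comp Algebra.TensorProduct.includeRight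
  exact Diag.isMultType_of_diag U ⟨M, inferInstance,
    ⟨(Split.cancel (R := R) (S := W) (T := U) (A := A)).trans (GLLift.extend eM g)⟩⟩

/-- a finitely presented group split by a covering family is of multiplicative type -/
theorem isMultType_of_family {R : Type u} [CommRing R] {A : Type u} [CommRing A] [HopfAlgebra R A]
    (hfp : Algebra.FinitePresentation R A)
    {ι : Type u} [Fintype ι] (T : ι → Type u) [∀ i, CommRing (T i)] [∀ i, Algebra R (T i)]
    (hff : Module.FaithfullyFlat R (∀ i, T i)) (hM : ∀ i, SGA3b.IsDiag (T i) (T i ⊗[R] A)) :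
    SGA3b.IsMultType R A :=
  Fibres.isMultType_of_local hfp fun p _ => isMultType_family_local T hff hM (Localization.AtPrime p)

/-- ideals generated by images of the augmentation ideal are finitely generated -/
theorem fg_map_counit {R : Type u} [CommRing R] {C : Type u} [CommRing C] [HopfAlgebra R C]
    (hfp : Algebra.FinitePresentation R C) {A : Type u} [CommRing A] (f : C →+* A) :
    (Ideal.map f (RingHom.ker (Bialgebra.counitAlgHom R C))).FG := by
  haveI := hfp
  exact (Algebra.FinitePresentation.ker_fG_of_surjective (R := R) (Bialgebra.counitAlgHom R C)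
    (fun r => ⟨algebraMap R C r, AlgHom.commutes _ r⟩)).map f

/-- an algebra equivalence under which a surjective bialgebra map becomes a bialgebra map -/
theorem exists_bialgEquiv_of_comp {T : Type u} [CommRing T] {B : Type u} [CommRing B] [HopfAlgebra T B]
    {Q : Type u} [CommRing Q] [HopfAlgebra T Q] {X : Type u} [CommRing X] [HopfAlgebra T X]
    (π : B →ₐc[T] Q) (hπ : Function.Surjective π) (η : B →ₐc[T] X) (ψ : Q ≃ₐ[T] X) (h : ∀ z, ψ (π z) = η z) :
    Nonempty (Q ≃ₐc[T] X) := by
  refine ⟨BialgEquiv.ofAlgEquiv ψ (AlgHom.ext fun y => ?_) (AlgHom.ext fun y => ?_)⟩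
  · obtain ⟨z, rfl⟩ := hπ y
    change counit (ψ (π z)) = counit (R := T) (π z)
    rw [h, CoalgHomClass.counit_comp_apply, CoalgHomClass.counit_comp_apply]
  · obtain ⟨z, rfl⟩ := hπ y
    change TensorProduct.map ψ.toLinearMap ψ.toLinearMap (comul (R := T) (π z)) = comul (ψ (π z))
    rw [h, ← CoalgHomClass.map_comp_comul_apply π z, ← CoalgHomClass.map_comp_comul_apply η z, TensorProduct.map_map]
    congr 2 <;> exact LinearMap.ext h

/-- the projection to a quotient group after base change -/
def projBC {R : Type u} [CommRing R] {A : Type u} [CommRing A] [HopfAlgebra R A] (J : Ideal A) [J.IsHopfIdeal R]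
    (T : Type u) [CommRing T] [Algebra R T] : T ⊗[R] A →ₐc[T] T ⊗[R] (A ⧸ J) :=
  Bialgebra.TensorProduct.map (BialgHom.id T T) (Bialgebra.Quotient.mkBialgHom J)

theorem projBC_tmul {R : Type u} [CommRing R] {A : Type u} [CommRing A] [HopfAlgebra R A] (J : Ideal A)
    [J.IsHopfIdeal R] (T : Type u) [CommRing T] [Algebra R T] (t : T) (a : A) :
    projBC J T (t ⊗ₜ a) = t ⊗ₜ[R] (Ideal.Quotient.mk J a) := rfl

theorem projBC_surjective {R : Type u} [CommRing R] {A : Type u} [CommRing A] [HopfAlgebra R A] (J : Ideal A)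
    [J.IsHopfIdeal R] (T : Type u) [CommRing T] [Algebra R T] : Function.Surjective (projBC (R := R) J T) := by
  intro y
  induction y using TensorProduct.induction_on with
  | zero => exact ⟨0, map_zero _⟩
  | add x z hx hz =>
    obtain ⟨x', rfl⟩ := hx; obtain ⟨z', rfl⟩ := hz
    exact ⟨x' + z', map_add _ _ _⟩
  | tmul t c =>
    obtain ⟨c', rfl⟩ := Ideal.Quotient.mk_surjective c
    exact ⟨t ⊗ₜ c', projBC_tmul J T t c'⟩

/-- quotient by an ideal whose base change is that of a quotient group of the type -/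
theorem isDiag_quotient {R : Type u} [CommRing R] {A : Type u} [CommRing A] [HopfAlgebra R A] (J : Ideal A)
    [J.IsHopfIdeal R] {T : Type u} [CommRing T] [Algebra R T] {M : Type u} [CommGroup M]
    (e : T ⊗[R] A ≃ₐc[T] MonoidAlgebra T M) (H : Subgroup M)
    (ψ : T ⊗[R] (A ⧸ J) ≃ₐ[T] MonoidAlgebra T (M ⧸ H))
    (hψ : ∀ z, ψ (projBC J T z) = MonoidAlgebra.mapDomainBialgHom T (QuotientGroup.mk' H) (e z)) :
    SGA3b.IsDiag T (T ⊗[R] (A ⧸ J)) :=
  ⟨_, inferInstance, exists_bialgEquiv_of_comp (projBC J T) (projBC_surjective J T)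
    ((MonoidAlgebra.mapDomainBialgHom T (QuotientGroup.mk' H)).comp (e : T ⊗[R] A →ₐc[T] MonoidAlgebra T M)) ψ hψ⟩

theorem projBC_eq_qT {R : Type u} [CommRing R] {A : Type u} [CommRing A] [HopfAlgebra R A] [IsCocomm R A]
    (T : Type u) [CommRing T] [Algebra R T] (n : ℕ) (z : T ⊗[R] A) :
    projBC (SGA3b.torsionIdeal R A n) T z = TorsionHopf.qT T n z := by
  induction z using TensorProduct.induction_on with
  | zero => rw [map_zero, map_zero]
  | add x y hx hy => rw [map_add, map_add, hx, hy]
  | tmul t c => exact projBC_tmul _ T t c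

/-- the kernel of a power map of a group of multiplicative type and finite type -/
theorem isMultType_torsion {R : Type u} [CommRing R] {A : Type u} [CommRing A] [HopfAlgebra R A]
    [IsCocomm R A] (hft : Algebra.FiniteType R A) (h : SGA3b.IsMultType R A) (n : ℕ) :
    SGA3b.IsMultType R (A ⧸ SGA3b.torsionIdeal R A n) := by
  haveI := QIGlobal.finitePresentation_of_isMultType hft h
  obtain ⟨ι, _, T, _, _, hff, hM⟩ := Integral.exists_split_family h
  refine isMultType_of_family (Algebra.FinitePresentation.quotient (fg_map_counit inferInstance _)) T hff fun i => ?_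
  obtain ⟨M, _, ⟨e⟩⟩ := hM i
  obtain ⟨ψ, hψ⟩ := TorsionHopf.exists_torsion_split e n
  exact isDiag_quotient (SGA3b.torsionIdeal R A n) e _ ψ fun z => by rw [projBC_eq_qT, hψ]

open WithConv in
/-- finite if and only if killed by an integer -/
theorem finite_iff {R : Type u} [CommRing R] {A : Type u} [CommRing A] [HopfAlgebra R A]
    (hft : Algebra.FiniteType R A) (h : SGA3b.IsMultType R A) :
    Module.Finite R A ↔ ∃ n : ℕ, 0 < n ∧ SGA3b.torsionIdeal R A n = ⊥ := by
  classical
  haveI := Isotrivial.isCocomm_of_isMultType h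
  constructor
  · intro hfin
    obtain ⟨ι, _, T, _, _, hff, hM⟩ := Integral.exists_split_family h
    haveI := hff
    have key : ∀ i, ∃ n : ℕ, 0 < n ∧ ∀ m : ℕ, n ∣ m → ∀ a ∈ SGA3b.torsionIdeal R A m,
        (1 : T i) ⊗ₜ[R] a = 0 := fun i => by
      rcases subsingleton_or_nontrivial (T i) with hT | hT
      · exact ⟨1, one_pos, fun m _ a _ => @Subsingleton.elim _ (Module.subsingleton (T i) _) _ _⟩
      obtain ⟨M, _, ⟨e⟩⟩ := hM i
      haveI : Module.Finite (T i) (MonoidAlgebra (T i) M) := Module.Finite.equiv e.toAlgEquiv.toLinearEquiv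
      haveI : Finite M := Module.Finite.finite_basis (MonoidAlgebra.basis M (T i))
      refine ⟨Nat.card M, Nat.card_pos, fun m hm a ha => ?_⟩
      obtain ⟨ψ, hψ⟩ := TorsionHopf.exists_torsion_split e m
      have h1 : TorsionHopf.powSub M m = ⊥ := by
        rw [eq_bot_iff]
        rintro _ ⟨w, rfl⟩
        obtain ⟨k, rfl⟩ := hm
        rw [Subgroup.mem_bot, powMonoidHom_apply, pow_mul, pow_card_eq_one', one_pow]
      have h2 := hψ ((1 : T i) ⊗ₜ a)
      rw [show TorsionHopf.qT (T i) m ((1 : T i) ⊗ₜ[R] a) = 0 from by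
        change (1 : T i) ⊗ₜ[R] (Ideal.Quotient.mk _ a) = 0
        rw [Ideal.Quotient.eq_zero_iff_mem.mpr ha, TensorProduct.tmul_zero], map_zero] at h2
      apply e.toAlgEquiv.injective
      rw [map_zero]
      refine MonoidAlgebra.mapDomain_injective ?_ (h2.symm.trans (MonoidAlgebra.mapDomain_zero _).symm)
      intro x y hxy
      have h3 := QuotientGroup.eq.mp hxy
      rw [h1, Subgroup.mem_bot, inv_mul_eq_one] at h3
      exact h3
    choose n hn hkill using key
    refine ⟨∏ i, n i, Finset.prod_pos fun i _ => hn i, (eq_bot_iff).mpr fun a ha => ?_⟩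
    exact Family.eq_of_family T fun i => by
      rw [hkill i _ (Finset.dvd_prod_of_mem _ (Finset.mem_univ i)) a ha, TensorProduct.tmul_zero]
  · rintro ⟨n, hn, hJ⟩
    haveI := hft
    haveI := TorsionMult.finite_torsion h hn
    exact Module.Finite.of_surjective
      ((AlgEquiv.quotientBot R A).toLinearMap ∘ₗ (Ideal.quotientEquivAlgOfEq R hJ).toLinearMap)
      ((AlgEquiv.quotientBot R A).surjective.comp (Ideal.quotientEquivAlgOfEq R hJ).surjective)

end

end Groth.Agent.MultType.KerPow
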