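import Groth.Agent.MultType.Sq
import Mathlib.RingTheory.HopfAlgebra.Quotient
import Mathlib.RingTheory.Flat.EquationalCriterion
import Mathlib.RingTheory.Finiteness.Nakayama

/-!
# A closed subgroup which is open along `V(I)` and flat is open and closed
-/

open Coalgebra TensorProduct

universe u

namespace Groth.Agent.MultType.ClopenSub

open Sq

noncomputable section

variable {A : Type u} [CommRing A] {C : Type u} [CommRing C] [HopfAlgebra A C] {B : Type u} [CommRing B]
  [HopfAlgebra A B] (φ : C →ₐc[A] B)

theorem antipode_mul (c : C) :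
    Algebra.TensorProduct.lmul' A (Algebra.TensorProduct.map
      ((HopfAlgebra.antipodeAlgHom A B).comp (φ : C →ₐ[A] B)) (φ : C →ₐ[A] B) (comul (R := A) c)) =
      algebraMap A B (counit (R := A) c) := by
  rw [← CoalgHomClass.counit_comp_apply φ c, ← HopfAlgebra.mul_antipode_rTensor_comul_apply (φ c),
    ← CoalgHomClass.map_comp_comul_apply φ c]
  generalize comul (R := A) c = w
  induction w using TensorProduct.induction_on with
  | zero => simp
  | add p q hp hq => simp only [map_add, hp, hq]
  | tmul p q => simp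

/-- translation by the tautological point -/
def transl (g : C →ₐ[A] B) : B ⊗[A] C →ₐ[B] B ⊗[A] C :=
  ext₁ ((Algebra.TensorProduct.map g (AlgHom.id A C)).comp (Bialgebra.comulAlgHom A C))

theorem transl_one_tmul (g : C →ₐ[A] B) (c : C) :
    transl g (1 ⊗ₜ c) = Algebra.TensorProduct.map g (AlgHom.id A C) (comul (R := A) c) := ext₁_one_tmul _ _

theorem transl_transl (x : C) : transl (φ : C →ₐ[A] B)
    (transl ((HopfAlgebra.antipodeAlgHom A B).comp (φ : C →ₐ[A] B)) (1 ⊗ₜ x)) = (1 : B) ⊗ₜ[A] x := by
  set g' := (HopfAlgebra.antipodeAlgHom A B).comp (φ : C →ₐ[A] B)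
  let L : (C ⊗[A] C) ⊗[A] C →ₐ[A] B ⊗[A] C :=
    Algebra.TensorProduct.map ((Algebra.TensorProduct.lmul' A).comp (Algebra.TensorProduct.map g' (φ : C →ₐ[A] B)))
      (AlgHom.id A C)
  have h1 : ∀ w : C ⊗[A] C, transl (φ : C →ₐ[A] B) (Algebra.TensorProduct.map g' (AlgHom.id A C) w) =
      L ((TensorProduct.assoc A C C C).symm ((comul (R := A)).lTensor C w)) := by
    intro w
    induction w using TensorProduct.induction_on with
    | zero => simp
    | add p q hp hq => simp only [map_add, hp, hq]
    | tmul p q =>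
      rw [Algebra.TensorProduct.map_tmul, AlgHom.coe_id, id_eq, smul_tmul_one, map_smul, transl_one_tmul,
        LinearMap.lTensor_tmul]
      generalize comul (R := A) q = v
      induction v using TensorProduct.induction_on with
      | zero => simp
      | add s t hs ht => simp only [TensorProduct.tmul_add, map_add, smul_add, hs, ht]
      | tmul s t => simp [L, TensorProduct.smul_tmul']
  rw [transl_one_tmul, h1, Coalgebra.coassoc_symm_apply]
  have h2 : ∀ w : C ⊗[A] C, L ((comul (R := A)).rTensor C w) =
      TensorProduct.map (Algebra.linearMap A B) LinearMap.id ((counit (R := A)).rTensor C w) := by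
    intro w
    induction w using TensorProduct.induction_on with
    | zero => simp
    | add p q hp hq => simp only [map_add, hp, hq]
    | tmul p q => simp [L, g', antipode_mul φ p]
  rw [h2, Coalgebra.rTensor_counit_comul]
  simp

variable (I : Ideal A)

theorem exists_idem [Module.Flat A B] (hφ : Function.Surjective φ)
    (hI : RingHom.ker (φ : C →ₐ[A] B) ≤ Ideal.map (algebraMap A C) I)
    (hfg : (RingHom.ker (φ : C →ₐ[A] B)).FG) (hjac : I ≤ Ideal.jacobson ⊥) :
    ∃ e : C, IsIdempotentElem e ∧ RingHom.ker (φ : C →ₐ[A] B) = Ideal.span {e} := by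
  classical
  set J := RingHom.ker (φ : C →ₐ[A] B) with hJ
  -- `J = I J`
  have hIJ : (J : Submodule C C) ≤ Ideal.map (algebraMap A C) I • (J : Submodule C C) := by
    intro x hx
    obtain ⟨n, f, g, hfg'⟩ := Submodule.mem_span_set'.mp (hI hx)
    choose a ha hga using fun i => (g i).2
    have h0 : ∑ i, a i • φ (f i) = 0 := by
      have h := congrArg φ hfg'
      rw [map_sum, show φ x = 0 from hx] at h
      rw [← h]
      refine Finset.sum_congr rfl fun i _ => ?_
      rw [smul_eq_mul, ← hga i, ← Algebra.commutes, ← Algebra.smul_def, map_smul φ]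
    obtain ⟨k, b, y, hy, hb⟩ := Module.Flat.isTrivialRelation_of_sum_smul_eq_zero h0
    choose d hd using fun j => hφ (y j)
    have hx' : x = ∑ i, algebraMap A C (a i) • (f i - ∑ j, b i j • d j) := by
      have h1 : ∑ i, a i • ∑ j, b i j • d j = 0 := by
        simp only [Finset.smul_sum, smul_smul]
        rw [Finset.sum_comm]
        simp only [← Finset.sum_smul, hb, zero_smul, Finset.sum_const_zero]
      simp only [algebraMap_smul, smul_sub, Finset.sum_sub_distrib, h1, sub_zero]
      rw [← hfg']
      exact Finset.sum_congr rfl fun i _ => by rw [smul_eq_mul, ← hga i, Algebra.smul_def, mul_comm]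
    rw [hx']
    refine Submodule.sum_mem _ fun i _ => Submodule.smul_mem_smul (Ideal.mem_map_of_mem _ (ha i)) ?_
    change φ (f i - ∑ j, b i j • d j) = 0
    rw [map_sub, map_sum, sub_eq_zero]
    exact (hy i).trans (Finset.sum_congr rfl fun j _ => by rw [map_smul φ, hd])
  obtain ⟨r, hr, hr0⟩ := Submodule.exists_sub_one_mem_and_smul_eq_zero_of_fg_of_le_smul _ _ hfg hIJ
  have hεr : IsUnit (counit (R := A) r) := by
    have h1 : counit (R := A) (r - 1) ∈ I := by
      have h2 := Ideal.mem_map_of_mem (Bialgebra.counitAlgHom A C).toRingHom hr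
      rw [Ideal.map_map, show (Bialgebra.counitAlgHom A C).toRingHom.comp (algebraMap A C) = RingHom.id A from
        (Bialgebra.counitAlgHom A C).comp_algebraMap, Ideal.map_id] at h2
      exact h2
    have h2 := Ideal.mem_jacobson_bot.mp (hjac h1) 1
    rw [mul_one, map_sub, Bialgebra.counit_one, sub_add_cancel] at h2
    exact h2
  -- the translate of `r` kills `B ⊗ J`
  let u := transl (φ : C →ₐ[A] B) ((1 : B) ⊗ₜ[A] r)
  have hu : ∀ x ∈ J, u * ((1 : B) ⊗ₜ[A] x) = 0 := by
    intro x hx
    set y := transl ((HopfAlgebra.antipodeAlgHom A B).comp (φ : C →ₐ[A] B)) ((1 : B) ⊗ₜ[A] x) with hy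
    have hy0 : (φ : C →ₐ[A] B).toLinearMap.lTensor B y = 0 := by
      have h1 : (φ : C →ₐ[A] B).toLinearMap.lTensor B y = TensorProduct.map (HopfAlgebra.antipode A) LinearMap.id
          (TensorProduct.map (φ : C →ₗ[A] B) (φ : C →ₗ[A] B) (comul (R := A) x)) := by
        rw [hy, transl_one_tmul]
        generalize comul (R := A) x = w
        induction w using TensorProduct.induction_on with
        | zero => simp
        | add p q hp hq => simp only [map_add, hp, hq]
        | tmul p q => simp
      rw [h1, CoalgHomClass.map_comp_comul_apply φ, show φ x = 0 from hx, map_zero, map_zero]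
    obtain ⟨z, hz⟩ := ((lTensor_exact B (LinearMap.exact_subtype_ker_map (φ : C →ₐ[A] B).toLinearMap) hφ) y).mp hy0
    have hry : ((1 : B) ⊗ₜ[A] r) * y = 0 := by
      rw [← hz]
      clear hz
      induction z using TensorProduct.induction_on with
      | zero => simp
      | add p q hp hq => simp only [map_add, mul_add, hp, hq, add_zero]
      | tmul b j =>
        rw [LinearMap.lTensor_tmul, Algebra.TensorProduct.tmul_mul_tmul,
          show r * ((LinearMap.ker (φ : C →ₐ[A] B).toLinearMap).subtype j) = 0 from hr0 _ j.2,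
          TensorProduct.tmul_zero]
    have h2 := congrArg (transl (φ : C →ₐ[A] B)) hry
    rwa [map_mul, map_zero, hy, transl_transl] at h2
  -- `u` lies in `B ⊗ ann J`
  obtain ⟨n, X, hX⟩ := Submodule.fg_iff_exists_fin_generating_family.mp hfg
  let Ψ : C →ₗ[A] (Fin n → C) := LinearMap.pi fun i => LinearMap.mulRight A (X i)
  have hΨu : Ψ.lTensor B u = 0 := by
    apply (TensorProduct.piRight A A B fun _ : Fin n => C).injective
    rw [map_zero]
    funext i
    have h1 : ∀ v : B ⊗[A] C, TensorProduct.piRight A A B (fun _ : Fin n => C) (Ψ.lTensor B v) i =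
        v * ((1 : B) ⊗ₜ[A] X i) := by
      intro v
      induction v using TensorProduct.induction_on with
      | zero => simp
      | add p q hp hq => simp only [map_add, Pi.add_apply, add_mul, hp, hq]
      | tmul b c => simp [Ψ, Algebra.TensorProduct.tmul_mul_tmul]
    rw [h1]
    exact hu _ (hX ▸ Submodule.subset_span ⟨i, rfl⟩)
  obtain ⟨w, hw⟩ := ((Module.Flat.lTensor_exact B (LinearMap.exact_subtype_ker_map Ψ)) u).mp hΨu
  let K : Ideal C := Submodule.annihilator (J : Submodule C C)
  let μ : B ⊗[A] C →ₐ[A] B :=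
    (Algebra.TensorProduct.lmul' A).comp
      (Algebra.TensorProduct.map (HopfAlgebra.antipodeAlgHom A B) (φ : C →ₐ[A] B))
  have hμu : μ u = algebraMap A B (counit (R := A) r) := by
    rw [← antipode_mul φ r]
    simp only [u, transl_one_tmul]
    generalize comul (R := A) r = w
    induction w using TensorProduct.induction_on with
    | zero => simp
    | add p q hp hq => simp only [map_add, hp, hq]
    | tmul p q => simp [μ]
  have hmem : μ u ∈ Ideal.map (φ : C →ₐ[A] B) K := by
    rw [← hw]
    clear hw
    induction w using TensorProduct.induction_on with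
    | zero => simp
    | add p q hp hq => simp only [map_add]; exact add_mem hp hq
    | tmul b c =>
      rw [LinearMap.lTensor_tmul]
      simp only [μ, AlgHom.comp_apply, Algebra.TensorProduct.map_tmul, Algebra.TensorProduct.lmul'_apply_tmul]
      refine Ideal.mul_mem_left _ _ (Ideal.mem_map_of_mem _ (Submodule.mem_annihilator.mpr fun x hx => ?_))
      have hle : (J : Submodule C C) ≤ LinearMap.ker (LinearMap.mulLeft C (c : C)) := by
        rw [← hX, Submodule.span_le]
        rintro _ ⟨i, rfl⟩
        exact congrFun (show Ψ (c : C) = 0 from c.2) i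
      exact hle hx
  obtain ⟨s, hs, hs1⟩ : ∃ s ∈ K, φ s = 1 := by
    have htop : Ideal.map (φ : C →ₐ[A] B) K = ⊤ :=
      Ideal.eq_top_of_isUnit_mem _ hmem (hμu ▸ hεr.map (algebraMap A B))
    obtain ⟨s, hs, hs1⟩ := (Ideal.mem_map_iff_of_surjective (φ : C →ₐ[A] B) hφ).mp
      (show (1 : B) ∈ Ideal.map (φ : C →ₐ[A] B) K by rw [htop]; trivial)
    exact ⟨s, hs, hs1⟩
  have hJe : 1 - s ∈ J := by
    change φ (1 - s) = 0
    rw [map_sub, map_one, hs1, sub_self]
  have he : ∀ x ∈ J, (1 - s) * x = x := fun x hx => by
    rw [sub_mul, one_mul, show s * x = 0 from Submodule.mem_annihilator.mp hs x hx, sub_zero]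
  refine ⟨1 - s, he _ hJe, le_antisymm (fun x hx => ?_) ((Ideal.span_singleton_le_iff_mem _).mpr hJe)⟩
  rw [← he x hx]
  exact Ideal.mul_mem_right _ _ (Ideal.subset_span rfl)

theorem isHopfIdeal_ker (hφ : Function.Surjective φ) {J : Ideal C} (hJ : J = RingHom.ker (φ : C →ₐ[A] B)) :
    J.IsHopfIdeal A := by
  subst hJ
  let J := RingHom.ker (φ : C →ₐ[A] B)
  let l : (C ⧸ J.restrictScalars A) →ₗ[A] B :=
    (J.restrictScalars A).liftQ (φ : C →ₐ[A] B).toLinearMap (fun x hx => hx)
  have hl : ∀ c, l (Submodule.Quotient.mk c) = φ c := fun c => rfl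
  have hbij : Function.Bijective l := by
    refine ⟨(injective_iff_map_eq_zero l).mpr fun q hq => ?_, fun b => ?_⟩
    · obtain ⟨c, rfl⟩ := Submodule.Quotient.mk_surjective _ q
      rw [hl] at hq
      exact (Submodule.Quotient.mk_eq_zero _).mpr hq
    · obtain ⟨c, rfl⟩ := hφ b
      exact ⟨Submodule.Quotient.mk c, hl c⟩
  let ψ : B →ₗ[A] C ⧸ J.restrictScalars A := (LinearEquiv.ofBijective l hbij).symm.toLinearMap
  have hψ : ψ ∘ₗ (φ : C →ₐ[A] B).toLinearMap = (J.restrictScalars A).mkQ := by
    ext c
    exact (LinearEquiv.symm_apply_eq _).mpr rfl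
  refine { counit_eq_zero := fun x hx => ?_, map_mkQ_comul_eq_zero := fun x hx => ?_, antipode_mem := fun x hx => ?_ }
  · rw [← CoalgHomClass.counit_comp_apply φ x, show φ x = 0 from hx, map_zero]
  · rw [← hψ, TensorProduct.map_comp, LinearMap.comp_apply,
      show TensorProduct.map (φ : C →ₐ[A] B).toLinearMap (φ : C →ₐ[A] B).toLinearMap (comul (R := A) x) =
        comul (R := A) (φ x) from CoalgHomClass.map_comp_comul_apply φ x,
      show φ x = 0 from hx, map_zero, map_zero]
  · change φ (HopfAlgebra.antipode A x) = 0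
    rw [Mono.map_antipode, show φ x = 0 from hx, map_zero]

/-- the quotient by the kernel -/
def quotEquiv (hφ : Function.Surjective φ) (J : Ideal C) [J.IsHopfIdeal A]
    (hJ : J = RingHom.ker (φ : C →ₐ[A] B)) : (C ⧸ J) ≃ₐc[A] B :=
  BialgEquiv.ofAlgEquiv
    ((Ideal.quotientEquivAlgOfEq A hJ).trans (Ideal.quotientKerAlgEquivOfSurjective (f := (φ : C →ₐ[A] B)) hφ))
    (Ideal.Quotient.algHom_ext A (AlgHom.ext fun c => CoalgHomClass.counit_comp_apply φ c))
    (Ideal.Quotient.algHom_ext A (AlgHom.ext fun c => by
      simp only [AlgHom.comp_apply, Bialgebra.comulAlgHom_apply, Ideal.Quotient.mkₐ_eq_mk,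
        Bialgebra.Quotient.comul_mk]
      refine Eq.trans ?_ (CoalgHomClass.map_comp_comul_apply φ c)
      generalize comul (R := A) c = w
      induction w using TensorProduct.induction_on with
      | zero => simp
      | add p q hp hq => simp only [map_add, hp, hq]
      | tmul p q => rfl))

end

end Groth.Agent.MultType.ClopenSub
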