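import Groth.Agent.MultType.Diag
import Mathlib.FieldTheory.PurelyInseparable.Basic
import Mathlib.RingTheory.Jacobson.Ring
import Mathlib.RingTheory.TensorProduct.IncludeLeftSubRight

/-!
# A group of multiplicative type and finite type over a field is split by a finite separable extension
-/

open Coalgebra TensorProduct

universe u

namespace Groth.Agent.MultType.FieldSplit

open Diag GroupLike Split

noncomputable section

variable {k : Type u} [Field k] {A : Type u} [CommRing A] [HopfAlgebra k A]

/-- base change preserves the scalars -/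
theorem bcMap_smul {T T' : Type u} [CommRing T] [Algebra k T] [CommRing T'] [Algebra k T'] (h : T →ₐ[k] T')
    (t : T) (z : T ⊗[k] A) : bcMap h A (t • z) = h t • bcMap h A z := by
  induction z using TensorProduct.induction_on with
  | zero => simp
  | add x y hx hy => simp only [smul_add, map_add, hx, hy]
  | tmul s a => simp [bcMap, TensorProduct.smul_tmul']

theorem bcMap_basis {T T' : Type u} [CommRing T] [Algebra k T] [CommRing T'] [Algebra k T'] (h : T →ₐ[k] T')
    {ι : Type*} (b : Module.Basis ι k A) (z : T ⊗[k] A) (i : ι) :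
    (b.baseChange T').repr (bcMap h A z) i = h ((b.baseChange T).repr z i) := by
  induction z using TensorProduct.induction_on with
  | zero => simp
  | add x y hx hy => simp only [map_add, Finsupp.add_apply, hx, hy]
  | tmul t a => simp [bcMap, Algebra.smul_def, mul_comm]

theorem exists_preimage {T T' : Type u} [CommRing T] [Algebra k T] [CommRing T'] [Algebra k T'] (h : T →ₐ[k] T')
    {ι : Type*} (b : Module.Basis ι k A) (z : T' ⊗[k] A) (hz : ∀ i, (b.baseChange T').repr z i ∈ Set.range h) :
    ∃ w : T ⊗[k] A, bcMap h A w = z := by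
  classical
  choose c hc using hz
  refine ⟨∑ i ∈ ((b.baseChange T').repr z).support, c i • ((1 : T) ⊗ₜ[k] b i), ?_⟩
  rw [map_sum]
  conv_rhs => rw [← (b.baseChange T').linearCombination_repr z, Finsupp.linearCombination_apply, Finsupp.sum]
  refine Finset.sum_congr rfl fun i _ => ?_
  rw [bcMap_smul, hc, Module.Basis.baseChange_apply]
  simp [bcMap]

/-- split by a finite extension -/
theorem exists_finite_split (h : SGA3b.IsMultType k A) (hft : Algebra.FiniteType k A) :
    ∃ (L : Type u) (_ : Field L) (_ : Algebra k L), Module.Finite k L ∧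
      Submodule.span L {z : L ⊗[k] A | IsGroupLikeElem L z} = ⊤ := by
  classical
  obtain ⟨K, _, _, M, _, ⟨e⟩⟩ := exists_field_split h
  have hspan := span_of_equiv e
  obtain ⟨s, hs⟩ := hft.out
  let b := Module.Free.chooseBasis k A
  have hrep : ∀ a : A, ∃ c : (K ⊗[k] A) →₀ K, ↑c.support ⊆ {z : K ⊗[k] A | IsGroupLikeElem K z} ∧
      Finsupp.linearCombination K id c = (1 : K) ⊗ₜ[k] a := by
    intro a
    have : (1 : K) ⊗ₜ[k] a ∈ Submodule.span K {z : K ⊗[k] A | IsGroupLikeElem K z} := by rw [hspan]; trivial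
    rw [← Set.image_id {z : K ⊗[k] A | IsGroupLikeElem K z}, Finsupp.mem_span_image_iff_linearCombination] at this
    obtain ⟨c, hc, hc'⟩ := this
    exact ⟨c, hc, hc'⟩
  choose c hc hc' using hrep
  let G : Finset (K ⊗[k] A) := s.biUnion fun a => (c a).support
  let coords : Finset K :=
    (s.biUnion fun a => (c a).support.image fun z => c a z) ∪
      (G.biUnion fun z => ((b.baseChange K).repr z).support.image fun i => (b.baseChange K).repr z i)
  let K₀ := Algebra.adjoin k (coords : Set K)
  have hfg : Algebra.FiniteType k K₀ := (Subalgebra.fg_iff_finiteType _).mp ⟨coords, rfl⟩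
  have hc0 : ∀ a ∈ s, ∀ z, c a z ∈ K₀ := by
    intro a ha z
    by_cases hz : z ∈ (c a).support
    · exact Algebra.subset_adjoin (Finset.mem_coe.mpr (Finset.mem_union_left _
        (Finset.mem_biUnion.mpr ⟨a, ha, Finset.mem_image.mpr ⟨z, hz, rfl⟩⟩)))
    · rw [Finsupp.notMem_support_iff.mp hz]; exact zero_mem _
  have hG : ∀ z ∈ G, ∀ i, (b.baseChange K).repr z i ∈ Set.range K₀.val := by
    intro z hz i
    refine ⟨⟨_, ?_⟩, rfl⟩
    by_cases hi : i ∈ ((b.baseChange K).repr z).support
    · exact Algebra.subset_adjoin (Finset.mem_coe.mpr (Finset.mem_union_right _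
        (Finset.mem_biUnion.mpr ⟨z, hz, Finset.mem_image.mpr ⟨i, hi, rfl⟩⟩)))
    · have h0 := Finsupp.notMem_support_iff.mp hi
      change (b.baseChange K).repr z i ∈ K₀
      rw [h0]; exact zero_mem _
  have hpre : ∀ z ∈ G, ∃ w : K₀ ⊗[k] A, bcMap K₀.val A w = z ∧ IsGroupLikeElem K₀ w := by
    intro z hz
    obtain ⟨w, hw⟩ := exists_preimage K₀.val b z (hG z hz)
    refine ⟨w, hw, isGroupLikeElem_of_map K₀.val Subtype.val_injective ?_⟩
    rw [hw]
    obtain ⟨a, -, ha⟩ := Finset.mem_biUnion.mp hz
    exact hc a ha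
  choose! w hw hwg using hpre
  obtain ⟨m, hm⟩ := Ideal.exists_maximal K₀
  let L := K₀ ⧸ m
  letI : Field L := Ideal.Quotient.field m
  have : Algebra.FiniteType k L :=
    Algebra.FiniteType.of_surjective (Ideal.Quotient.mkₐ k m) Ideal.Quotient.mk_surjective
  refine ⟨L, inferInstance, inferInstance, finite_of_finite_type_of_isJacobsonRing k L, ?_⟩
  let π : K₀ →ₐ[k] L := Ideal.Quotient.mkₐ k m
  let S := Submodule.span L {z : L ⊗[k] A | IsGroupLikeElem L z}
  have hinj : Function.Injective (bcMap K₀.val A) :=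
    Module.Flat.rTensor_preserves_injective_linearMap (M := A) K₀.val.toLinearMap Subtype.val_injective
  have hgen : ∀ a ∈ s, (1 : L) ⊗ₜ[k] a ∈ S := by
    intro a ha
    have h1 : (1 : K₀) ⊗ₜ[k] a = ∑ z ∈ (c a).support, (⟨c a z, hc0 a ha z⟩ : K₀) • w z := by
      apply hinj
      rw [map_sum]
      refine Eq.trans (Eq.trans (by simp [bcMap]) (hc' a).symm) ?_
      rw [Finsupp.linearCombination_apply, Finsupp.sum]
      refine Finset.sum_congr rfl fun z hz => ?_
      rw [bcMap_smul, hw z (Finset.mem_biUnion.mpr ⟨a, ha, hz⟩)]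
      rfl
    have h2 := congrArg (bcMap π A) h1
    rw [map_sum] at h2
    have h3 : bcMap π A ((1 : K₀) ⊗ₜ[k] a) = (1 : L) ⊗ₜ[k] a := by simp [bcMap]
    rw [← h3, h2]
    refine Submodule.sum_mem _ fun z hz => ?_
    rw [bcMap_smul]
    exact Submodule.smul_mem _ _ (Submodule.subset_span
      (map_isGroupLikeElem π (hwg z (Finset.mem_biUnion.mpr ⟨a, ha, hz⟩))))
  have hmul : ∀ x ∈ S, ∀ y ∈ S, x * y ∈ S := by
    intro x hx y hy
    have h4 := Submodule.mul_mem_mul hx hy
    rw [Submodule.span_mul_span] at h4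
    refine Submodule.span_mono ?_ h4
    rintro _ ⟨x, hx, y, hy, rfl⟩
    exact hx.mul hy
  rw [eq_top_iff]
  rintro x -
  induction x using TensorProduct.induction_on with
  | zero => exact zero_mem _
  | add x y hx hy => exact add_mem hx hy
  | tmul l a =>
    suffices h5 : (1 : L) ⊗ₜ[k] a ∈ S by
      have := S.smul_mem l h5
      rwa [TensorProduct.smul_tmul', smul_eq_mul, mul_one] at this
    have ha : a ∈ Algebra.adjoin k (s : Set A) := by rw [hs]; trivial
    induction ha using Algebra.adjoin_induction with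
    | mem y hy => exact hgen y hy
    | algebraMap r =>
      rw [Algebra.algebraMap_eq_smul_one, TensorProduct.tmul_smul, ← algebraMap_smul L r]
      exact Submodule.smul_mem _ _ (Submodule.subset_span IsGroupLikeElem.one)
    | add y y' _ _ hy hy' => rw [TensorProduct.tmul_add]; exact add_mem hy hy'
    | mul y y' _ _ hy hy' =>
      have := hmul _ hy _ hy'
      rwa [Algebra.TensorProduct.tmul_mul_tmul, one_mul] at this

set_option maxHeartbeats 1000000 in
/-- split by a finite separable extension -/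
theorem exists_separable_split (h : SGA3b.IsMultType k A) (hft : Algebra.FiniteType k A) :
    ∃ (k' : Type u) (_ : Field k') (_ : Algebra k k'),
      Module.Finite k k' ∧ Algebra.IsSeparable k k' ∧ SGA3b.IsDiagFT k' (k' ⊗[k] A) := by
  classical
  obtain ⟨L, _, _, _, hL⟩ := exists_finite_split h hft
  let Ls := separableClosure k L
  have : Algebra.IsAlgebraic k L := Algebra.IsAlgebraic.of_finite k L
  have : IsPurelyInseparable Ls L := separableClosure.isPurelyInseparable k L
  let b := Module.Free.chooseBasis k A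
  let T := L ⊗[Ls] L
  let l₁ : L →ₐ[k] T := (Algebra.TensorProduct.includeLeft : L →ₐ[Ls] T).restrictScalars k
  let l₂ : L →ₐ[k] T := (Algebra.TensorProduct.includeRight : L →ₐ[Ls] T).restrictScalars k
  let μ : T →ₐ[L] L := Algebra.TensorProduct.lift (AlgHom.id L L) (AlgHom.id Ls L) fun _ _ => Commute.all _ _
  have hμ : ∀ t ∈ RingHom.ker μ.toRingHom, IsNilpotent t := by
    intro t ht
    obtain ⟨n, hn, r, hr⟩ := IsPurelyInseparable.exists_pow_mem_range_tensorProduct (R := L) t
    refine ⟨n, ?_⟩
    have h1 := congrArg μ hr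
    rw [AlgHom.commutes, map_pow, show μ t = 0 from ht, zero_pow hn.ne'] at h1
    rw [← hr, show r = 0 from h1, map_zero]
  let eL : L ⊗[k] A ≃ₐc[L] MonoidAlgebra L (GroupLike L (L ⊗[k] A)) := (equivOfSpan hL).symm
  let eT := extendEquiv (R := k) (A := A) eL T
  have hdesc : ∀ g : L ⊗[k] A, IsGroupLikeElem L g → ∃ g₀ : Ls ⊗[k] A, bcMap Ls.val A g₀ = g := by
    intro g hg
    have hz : ∀ l : L →ₐ[k] T, IsGroupLikeElem T (eT (bcMap l A g)) := fun l =>
      (map_isGroupLikeElem l hg).map eT
    have hcomm : ∀ x : T ⊗[k] A, MonoidAlgebra.mapRingHom (GroupLike L (L ⊗[k] A)) μ.toRingHom (eT x) =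
        eL (bcMap (μ.restrictScalars k) A x) := by
      intro x
      induction x using TensorProduct.induction_on with
      | zero => simp
      | add x y hx hy => simp only [map_add, hx, hy]
      | tmul t a =>
        have h1 : eT (t ⊗ₜ[k] a) = t • MonoidAlgebra.mapAlgHom _ (Algebra.ofId L T) (eL ((1 : L) ⊗ₜ[k] a)) := by
          change MonoidAlgebra.scalarTensorEquiv L T (Algebra.TensorProduct.congr AlgEquiv.refl eL.toAlgEquiv
            ((cancel (R := k) (S := L) (T := T) (A := A)).symm (t ⊗ₜ[k] a))) = _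
          have h2 : (cancel (R := k) (S := L) (T := T) (A := A)).symm (t ⊗ₜ[k] a) = t ⊗ₜ[L] ((1 : L) ⊗ₜ[k] a) := rfl
          rw [h2]
          simp
        have h3 : bcMap (μ.restrictScalars k) A (t ⊗ₜ[k] a) = μ t • ((1 : L) ⊗ₜ[k] a) := by
          simp [bcMap, TensorProduct.smul_tmul']
        rw [h1, h3, map_smul eL]
        ext m
        simp [Algebra.ofId_apply]
    have hμl : ∀ l : L →ₐ[k] T, (∀ x, μ (l x) = x) → ∀ y, bcMap (μ.restrictScalars k) A (bcMap l A y) = y := by
      intro l hl y
      induction y using TensorProduct.induction_on with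
      | zero => simp
      | add x y hx hy => simp only [map_add, hx, hy]
      | tmul x a => simp [bcMap, hl]
    have heq : eT (bcMap l₁ A g) = eT (bcMap l₂ A g) := by
      refine eq_of_map_eq μ.toRingHom hμ (hz l₁) (hz l₂) ?_
      rw [hcomm, hcomm, hμl l₁ (fun x => by change μ (x ⊗ₜ 1) = x; exact (Algebra.TensorProduct.lift_tmul _ _ _ x 1).trans (by simp)) g, hμl l₂ (fun x => by change μ (1 ⊗ₜ x) = x; exact (Algebra.TensorProduct.lift_tmul _ _ _ 1 x).trans (by simp)) g]
    have heq' := eT.injective heq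
    refine exists_preimage Ls.val b g fun i => ?_
    have h1 : l₁ ((b.baseChange L).repr g i) = l₂ ((b.baseChange L).repr g i) := by
      rw [← bcMap_basis, ← bcMap_basis, heq']
    have heff : Algebra.IsEffective Ls L := Algebra.IsEffective.of_faithfullyFlat Ls L
    obtain ⟨r, hr⟩ := (heff ((b.baseChange L).repr g i)).mp (by
      rw [Algebra.TensorProduct.includeLeftSubRight_apply]
      exact sub_eq_zero.mpr h1)
    exact ⟨r, hr⟩
  refine ⟨Ls, inferInstance, inferInstance, inferInstance, separableClosure.isSeparable k L,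
    isDiagFT_of_span ?_⟩
  let S := Submodule.span Ls {z : Ls ⊗[k] A | IsGroupLikeElem Ls z}
  rw [← Submodule.Quotient.subsingleton_iff]
  have : Module.FaithfullyFlat Ls L := inferInstance
  suffices hsub : Subsingleton (L ⊗[Ls] ((Ls ⊗[k] A) ⧸ S)) from
    (Module.FaithfullyFlat.subsingleton_tensorProduct_iff_right Ls L).mp hsub
  refine subsingleton_of_forall_eq 0 fun z => ?_
  obtain ⟨y, rfl⟩ := LinearMap.lTensor_surjective L (Submodule.mkQ_surjective S) z
  let P : L ⊗[k] A →ₗ[L] L ⊗[Ls] ((Ls ⊗[k] A) ⧸ S) :=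
    S.mkQ.baseChange L ∘ₗ (cancel (R := k) (S := Ls) (T := L) (A := A)).symm.toAlgEquiv.toLinearMap
  suffices hP : P = 0 by
    have := LinearMap.congr_fun hP (cancel (R := k) (S := Ls) (T := L) (A := A) y)
    simpa [P, LinearMap.baseChange_eq_ltensor] using this
  refine LinearMap.ext_on hL fun g hg => ?_
  obtain ⟨g₀, rfl⟩ := hdesc g hg
  have hg₀ : IsGroupLikeElem Ls g₀ := isGroupLikeElem_of_map Ls.val Subtype.val_injective hg
  have hc1 : ∀ w : Ls ⊗[k] A,
      (cancel (R := k) (S := Ls) (T := L) (A := A)).symm (bcMap Ls.val A w) = (1 : L) ⊗ₜ[Ls] w := by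
    intro w
    induction w using TensorProduct.induction_on with
    | zero => simp
    | add x y hx hy => simp only [map_add, TensorProduct.tmul_add, hx, hy]
    | tmul l a =>
      change (l : L) ⊗ₜ[Ls] ((1 : Ls) ⊗ₜ[k] a) = (1 : L) ⊗ₜ[Ls] (l ⊗ₜ[k] a)
      rw [show (l ⊗ₜ[k] a : Ls ⊗[k] A) = l • ((1 : Ls) ⊗ₜ[k] a) by simp [TensorProduct.smul_tmul'],
        TensorProduct.tmul_smul, TensorProduct.smul_tmul']
      simp [Algebra.smul_def]
  change S.mkQ.baseChange L ((cancel (R := k) (S := Ls) (T := L) (A := A)).symm (bcMap Ls.val A g₀)) = 0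
  rw [hc1, LinearMap.baseChange_tmul, Submodule.mkQ_apply,
    (Submodule.Quotient.mk_eq_zero S).mpr (Submodule.subset_span hg₀), TensorProduct.tmul_zero]

end

end Groth.Agent.MultType.FieldSplit
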