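import Groth.Agent.Hensel.Pair
import Mathlib.RingTheory.Etale.StandardEtale
import Mathlib.RingTheory.Localization.Away.Basic
import Mathlib.RingTheory.AdjoinRoot
import Mathlib.RingTheory.Henselian
import Mathlib.RingTheory.LocalRing.ResidueField.Basic
import Mathlib.RingTheory.Flat.FaithfullyFlat.Algebra
import Mathlib.FieldTheory.PrimitiveElement
import Mathlib.FieldTheory.Separable
import Mathlib.Algebra.Polynomial.Lifts

/-!
# Finite separable extensions of the residue field lift to finite etale local algebras
-/

universe u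

namespace Groth.Agent.MultType.HenselSep

open Polynomial IsLocalRing

noncomputable section

theorem exists_lift (R : Type u) [CommRing R] [IsLocalRing R] (k' : Type u) [Field k'] [Algebra (ResidueField R) k']
    [Algebra R k'] [IsScalarTower R (ResidueField R) k'] [Module.Finite (ResidueField R) k']
    [Algebra.IsSeparable (ResidueField R) k'] :
    ∃ (R' : Type u) (_ : CommRing R') (_ : Algebra R R') (_ : IsLocalRing R') (σ : R' →ₐ[R] k'),
      Algebra.Etale R R' ∧ Module.Finite R R' ∧ Module.FaithfullyFlat R R' ∧ Function.Surjective σ ∧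
      RingHom.ker σ = maximalIdeal R' ∧ maximalIdeal R' = Ideal.map (algebraMap R R') (maximalIdeal R) := by
  classical
  let k := ResidueField R
  let pb := Field.powerBasisOfFiniteOfSeparable k k'
  set α := pb.gen with hα
  have hint : IsIntegral k α := pb.isIntegral_gen
  set f₀ := minpoly k α with hf₀
  obtain ⟨f, hfmap, hfdeg, hfmon⟩ := Polynomial.lifts_and_natDegree_eq_and_monic
    (f := algebraMap R k) (p := f₀)
    ((Polynomial.lifts_iff_coeff_lifts _).mpr fun n => IsLocalRing.residue_surjective _) (minpoly.monic hint)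
  have hroot : aeval α f = 0 := by
    rw [← aeval_map_algebraMap k α f, hfmap]
    exact minpoly.aeval k α
  let R' := AdjoinRoot f
  let σ : R' →ₐ[R] k' := AdjoinRoot.liftAlgHom f (Algebra.ofId R k') α (by
    exact hroot)
  have hσ : ∀ p : R[X], σ (AdjoinRoot.mk f p) = aeval α (p.map (algebraMap R k)) := fun p => by
    rw [aeval_map_algebraMap]
    exact AdjoinRoot.lift_mk hroot p
  have hsurj : Function.Surjective σ := fun y => by
    have hy : y ∈ Algebra.adjoin k {α} := by rw [pb.adjoin_gen_eq_top]; trivial
    rw [Algebra.adjoin_singleton_eq_range_aeval] at hy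
    obtain ⟨q, rfl⟩ := hy
    obtain ⟨p, rfl⟩ := Polynomial.map_surjective (algebraMap R k) IsLocalRing.residue_surjective q
    exact ⟨AdjoinRoot.mk f p, hσ p⟩
  have hmk : ∀ r, algebraMap R R' r = AdjoinRoot.mk f (C r) := fun r => by
    rw [AdjoinRoot.mk_C]; rfl
  have hker : RingHom.ker σ = Ideal.map (algebraMap R R') (maximalIdeal R) := by
    apply le_antisymm
    · intro x hx
      obtain ⟨p, rfl⟩ := AdjoinRoot.mk_surjective x
      rw [RingHom.mem_ker, hσ] at hx
      obtain ⟨q, hq⟩ := minpoly.dvd k α hx
      obtain ⟨q', rfl⟩ := Polynomial.map_surjective (algebraMap R k) IsLocalRing.residue_surjective q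
      rw [← hf₀, ← hfmap, ← Polynomial.map_mul, ← sub_eq_zero, ← Polynomial.map_sub] at hq
      have h1 : p - f * q' ∈ Ideal.map (C : R →+* R[X]) (maximalIdeal R) := by
        rw [Ideal.mem_map_C_iff]
        intro n
        have h2 := congrArg (fun g => Polynomial.coeff g n) hq
        rw [Polynomial.coeff_zero, Polynomial.coeff_map] at h2
        exact (IsLocalRing.residue_eq_zero_iff _).mp h2
      have h3 := Ideal.mem_map_of_mem (AdjoinRoot.mk f) h1
      rw [map_sub, map_mul, AdjoinRoot.mk_self, zero_mul, sub_zero, Ideal.map_map] at h3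
      exact h3
    · rw [Ideal.map_le_iff_le_comap]
      intro r hr
      rw [Ideal.mem_comap, RingHom.mem_ker, AlgHom.commutes, IsScalarTower.algebraMap_apply R k k',
        show algebraMap R k r = 0 from (IsLocalRing.residue_eq_zero_iff r).mpr hr, map_zero]
  have hmax : (RingHom.ker σ).IsMaximal := RingHom.ker_isMaximal_of_surjective σ hsurj
  haveI : Module.Finite R R' := (AdjoinRoot.powerBasis' hfmon).finite
  have huniq : ∀ M : Ideal R', M.IsMaximal → M = RingHom.ker σ := by
    intro M hM
    have hc : (M.comap (algebraMap R R')).IsMaximal := Ideal.isMaximal_comap_of_isIntegral_of_isMaximal M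
    have hle : RingHom.ker σ ≤ M := by
      rw [hker, Ideal.map_le_iff_le_comap, IsLocalRing.eq_maximalIdeal hc]
    exact (hmax.eq_of_le hM.ne_top hle).symm
  haveI hloc : IsLocalRing R' := IsLocalRing.of_unique_max_ideal ⟨RingHom.ker σ, hmax, huniq⟩
  have hmaxeq : RingHom.ker σ = maximalIdeal R' := IsLocalRing.eq_maximalIdeal hmax
  have hder : IsUnit (AdjoinRoot.mk f (derivative f)) := by
    rw [← IsLocalRing.notMem_maximalIdeal, ← hmaxeq, RingHom.mem_ker, hσ, ← Polynomial.derivative_map, hfmap]
    exact (Algebra.IsSeparable.isSeparable k α).aeval_derivative_ne_zero (minpoly.aeval k α)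
  have het : Algebra.Etale R R' := by
    obtain ⟨u, hu⟩ := hder.exists_right_inv
    obtain ⟨p₁, rfl⟩ := AdjoinRoot.mk_surjective u
    rw [← map_mul, ← map_one (AdjoinRoot.mk f), ← sub_eq_zero, ← map_sub, AdjoinRoot.mk_eq_zero] at hu
    obtain ⟨p₂, hp⟩ := hu
    let P : StandardEtalePair R :=
      { f := f, monic_f := hfmon, g := 1
        cond := ⟨p₁, -p₂, 0, by rw [pow_zero]; linear_combination hp⟩ }
    haveI : Algebra.Etale R (Localization.Away (AdjoinRoot.mk f (1 : R[X]))) :=
      Algebra.Etale.of_equiv P.equivAwayAdjoinRoot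
    exact Algebra.Etale.of_equiv
      ((IsLocalization.atUnit R' (Localization.Away (AdjoinRoot.mk f (1 : R[X]))) (AdjoinRoot.mk f 1)
        (by rw [map_one]; exact isUnit_one)).restrictScalars R).symm
  haveI : Module.Free R R' := .of_basis (AdjoinRoot.powerBasis' hfmon).basis
  refine ⟨R', inferInstance, inferInstance, hloc, σ, het, inferInstance, ?_, hsurj, hmaxeq, hmaxeq.symm.trans hker⟩
  exact inferInstance

/-- over a henselian base the lift is henselian -/
theorem henselianLocalRing {R R' : Type u} [CommRing R] [HenselianLocalRing R] [CommRing R'] [IsLocalRing R']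
    [Algebra R R'] [Module.Finite R R'] (h : maximalIdeal R' = Ideal.map (algebraMap R R') (maximalIdeal R)) :
    HenselianLocalRing R' := by
  haveI : HenselianRing R (maximalIdeal R) := inferInstance
  haveI : Algebra.IsIntegral R R' := Algebra.IsIntegral.of_finite R R'
  refine Hensel.henselianLocalRing_of_henselianRing ?_
  rw [h]
  exact Hensel.henselianRing_of_isIntegral (I := maximalIdeal R) R'

end

end Groth.Agent.MultType.HenselSep
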