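import Groth.Agent.MultType.NilLift
import Groth.Agent.MultType.FieldSplit
import Groth.Agent.MultType.HenselSep
import Groth.Agent.MultType.HenselDiag

/-!
# Cocommutativity; finite groups of multiplicative type over henselian local rings are isotrivial
-/

open Coalgebra TensorProduct

universe u

namespace Groth.Agent.MultType.Isotrivial

open Split

noncomputable section

variable {R : Type u} [CommRing R] {B : Type u} [CommRing B] [HopfAlgebra R B]

theorem isCocomm_of_splitting {Q : ∀ (U : Type u) [CommRing U] [Algebra R U], Prop} (S : GLLift.Splitting R B Q) :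
    IsCocomm R B where
  comm_comp_comul := by
    ext b
    change TensorProduct.comm R B B (comul b) = comul b
    refine Family.eq_of_family (R := R) S.T fun i => ?_
    apply (TensorProduct.AlgebraTensorModule.distribBaseChange R (S.T i) B B).injective
    have key : ∀ t : B ⊗[R] B, TensorProduct.AlgebraTensorModule.distribBaseChange R (S.T i) B B ((1 : S.T i) ⊗ₜ[R] t) =
        Lift.red₂ (S.T i) B t := by
      intro t
      induction t using TensorProduct.induction_on with
      | zero => simp
      | add p q hp hq => simp only [TensorProduct.tmul_add, map_add, hp, hq]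
      | tmul p q => simp [Lift.red₂_tmul, TensorProduct.AlgebraTensorModule.distribBaseChange_tmul]
    have hcomm : ∀ t : B ⊗[R] B, Lift.red₂ (S.T i) B (TensorProduct.comm R B B t) =
        TensorProduct.comm (S.T i) _ _ (Lift.red₂ (S.T i) B t) := by
      intro t
      induction t using TensorProduct.induction_on with
      | zero => simp
      | add p q hp hq => simp only [map_add, hp, hq]
      | tmul p q => simp [Lift.red₂_tmul]
    rw [key, key, hcomm, ← Lift.comul_red]
    apply (TensorProduct.congr (S.equiv i).toAlgEquiv.toLinearEquiv (S.equiv i).toAlgEquiv.toLinearEquiv).injective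
    have h1 : ∀ z, TensorProduct.congr (S.equiv i).toAlgEquiv.toLinearEquiv (S.equiv i).toAlgEquiv.toLinearEquiv
        (comul (R := S.T i) z) = comul (S.equiv i z) := fun z =>
      CoalgHomClass.map_comp_comul_apply (S.equiv i) z
    rw [h1]
    conv_rhs => rw [← comm_comul (S.T i) (S.equiv i ((1 : S.T i) ⊗ₜ[R] b)), ← h1]
    generalize comul (R := S.T i) ((1 : S.T i) ⊗ₜ[R] b) = w
    induction w using TensorProduct.induction_on with
    | zero => simp
    | add p q hp hq => simp only [map_add, hp, hq]
    | tmul p q => rfl

theorem isCocomm_of_isMultType (h : SGA3b.IsMultType R B) : IsCocomm R B :=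
  (NilLift.exists_splitting h).elim isCocomm_of_splitting

theorem isMultType_field (h : SGA3b.IsMultType R B) (k : Type u) [Field k] [Algebra R k] :
    SGA3b.IsMultType k (k ⊗[R] B) := by
  obtain ⟨S⟩ := NilLift.exists_splitting h
  let S' : GLLift.Splitting k (k ⊗[R] B) (NilLift.FlatQ k) := NilLift.baseChange S k fun i => inferInstance
  haveI : Nontrivial (∀ i, S'.T i) := by
    haveI := Module.FaithfullyFlat.rTensor_nontrivial (R := k) (∀ i, S'.T i) k
    exact (TensorProduct.lid k (∀ i, S'.T i)).symm.toEquiv.nontrivial
  obtain ⟨i, hi⟩ : ∃ i, Nontrivial (S'.T i) := by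
    by_contra hcon
    simp only [not_exists, not_nontrivial_iff_subsingleton] at hcon
    exact not_subsingleton (∀ i, S'.T i) inferInstance
  exact Diag.isMultType_of_diag (S'.T i) ⟨_, inferInstance, ⟨S'.equiv i⟩⟩

theorem isIsotrivial_of_henselian [HenselianLocalRing R] [Module.Finite R B] (h : SGA3b.IsMultType R B) :
    SGA3b.IsIsotrivial R B := by
  let k := IsLocalRing.ResidueField R
  haveI := Family.flat_of_isMultType h
  haveI := isCocomm_of_isMultType h
  obtain ⟨k', _, _, _, _, hd⟩ := FieldSplit.exists_separable_split (isMultType_field h k) inferInstance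
  letI : Algebra R k' := ((algebraMap k k').comp (algebraMap R k)).toAlgebra
  haveI : IsScalarTower R k k' := IsScalarTower.of_algebraMap_eq fun x => rfl
  obtain ⟨R', _, _, _, σ, het, hfin, hff, hσ, hker, hm⟩ := HenselSep.exists_lift R k'
  haveI := HenselSep.henselianLocalRing hm
  refine ⟨R', inferInstance, inferInstance, het, hfin, hff, ?_⟩
  obtain ⟨M, _, _, ⟨e⟩⟩ := hd
  let k₁ := IsLocalRing.ResidueField R'
  have hle : RingHom.ker σ.toRingHom ≤ RingHom.ker (algebraMap R' k₁) := fun x hx => by
    have hx' : x ∈ IsLocalRing.maximalIdeal R' := hker ▸ hx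
    exact (IsLocalRing.residue_eq_zero_iff x).mpr hx'
  let g : k' →+* k₁ := σ.toRingHom.liftOfSurjective hσ ⟨algebraMap R' k₁, hle⟩
  have hg : ∀ x, g (σ x) = algebraMap R' k₁ x := fun x =>
    RingHom.liftOfRightInverse_comp_apply _ _ _ ⟨algebraMap R' k₁, hle⟩ x
  let gA : k' →ₐ[R] k₁ :=
    { g with
      commutes' := fun r => by
        change g (algebraMap R k' r) = _
        rw [← σ.commutes r, hg]
        rfl }
  let e₁ : k₁ ⊗[R] B ≃ₐc[k₁] MonoidAlgebra k₁ M := GLLift.extend ((cancel (R := R) (S := k) (T := k') (A := B)).symm.trans e) gA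
  obtain ⟨e₂⟩ := HenselDiag.isDiag_of_closedFibre (R := R') (B := R' ⊗[R] B) (M := M)
    ((cancel (R := R) (S := R') (T := k₁) (A := B)).trans e₁)
  exact ⟨M, inferInstance, ⟨e₂⟩⟩

end

end Groth.Agent.MultType.Isotrivial
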