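import Groth.Agent.MultType.Rigid
import Mathlib.RingTheory.HopfAlgebra.Convolution
import Mathlib.RingTheory.HopfAlgebra.Quotient

/-!
# Monomorphisms out of groups of multiplicative type are closed immersions
-/

open TensorProduct WithConv Coalgebra

universe u v w

namespace Groth.Agent.MultType.Mono

open Coef Split

noncomputable section

theorem map_antipode {R : Type u} [CommRing R] {C : Type v} [CommRing C] [HopfAlgebra R C] {A : Type w}
    [CommRing A] [HopfAlgebra R A] (φ : C →ₐc[R] A) (c : C) :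
    φ (HopfAlgebra.antipode R c) = HopfAlgebra.antipode R (φ c) := by
  let f : WithConv (C →ₗ[R] A) := toConv ((φ : C →ₐ[R] A).toLinearMap ∘ₗ HopfAlgebra.antipode R)
  let g : WithConv (C →ₗ[R] A) := toConv (HopfAlgebra.antipode R ∘ₗ (φ : C →ₐ[R] A).toLinearMap)
  let i : WithConv (C →ₗ[R] A) := toConv (φ : C →ₐ[R] A).toLinearMap
  have h1 : f * i = 1 := by
    apply WithConv.ext
    have := (LinearMap.algHom_comp_convMul_distrib (φ : C →ₐ[R] A) (toConv (HopfAlgebra.antipode R))
      (toConv (LinearMap.id : C →ₗ[R] C))).symm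
    refine this.trans ?_
    rw [LinearMap.antipode_mul_id, LinearMap.algHom_comp_convOne]
  have h2 : i * g = 1 := by
    apply WithConv.ext
    have := (LinearMap.convMul_comp_coalgHom_distrib (toConv (LinearMap.id : A →ₗ[R] A))
      (toConv (HopfAlgebra.antipode R)) φ.toCoalgHom).symm
    refine this.trans ?_
    rw [LinearMap.id_mul_antipode]
    exact LinearMap.convOne_comp_coalgHom φ.toCoalgHom
  exact LinearMap.congr_fun (congrArg WithConv.ofConv (left_inv_eq_right_inv h1 h2)) c

variable {T : Type u} [CommRing T] {D : Type v} [CommRing D] [HopfAlgebra T D] {M : Type w} [CommGroup M]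
  (φ : D →ₐc[T] MonoidAlgebra T M)

/-- the ideal of `m`-th coefficients -/
def Im (m : M) : Ideal T := LinearMap.range (coef φ m).ofConv

theorem mem_Im {m : M} {r : T} : r ∈ Im φ m ↔ ∃ z, (φ z).coeff m = r := Iff.rfl

theorem single_mem_range {m : M} {r : T} (hr : r ∈ Im φ m) : ∃ z, φ z = MonoidAlgebra.single m r := by
  classical
  obtain ⟨z, rfl⟩ := hr
  let L : D ⊗[T] D →ₗ[T] D := (TensorProduct.rid T D).toLinearMap ∘ₗ TensorProduct.map LinearMap.id (coef φ m).ofConv
  refine ⟨L (comul z), ?_⟩
  let L' : MonoidAlgebra T M ⊗[T] MonoidAlgebra T M →ₗ[T] MonoidAlgebra T M :=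
    (TensorProduct.rid T _).toLinearMap ∘ₗ TensorProduct.map LinearMap.id (coeffLin m)
  have h1 : ∀ y, φ (L y) = L' (TensorProduct.map (φ : D →ₐ[T] MonoidAlgebra T M).toLinearMap (φ : D →ₐ[T] MonoidAlgebra T M).toLinearMap y) := by
    intro y
    induction y using TensorProduct.induction_on with
    | zero => simp
    | tmul a b => simp [L, L']
    | add a b ha hb => simp only [map_add, ha, hb]
  have h2 : ∀ x : MonoidAlgebra T M, L' (comul x) = MonoidAlgebra.single m (x.coeff m) := by
    intro x
    induction x using MonoidAlgebra.induction_linear with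
    | zero => simp
    | add x y hx hy => rw [map_add, map_add, hx, hy, MonoidAlgebra.coeff_add, Finsupp.add_apply, MonoidAlgebra.single_add]
    | single k r =>
      simp only [MonoidAlgebra.comul_single, CommSemiring.comul_apply, TensorProduct.map_tmul, L',
        MonoidAlgebra.lsingle_apply, LinearMap.comp_apply, LinearMap.id_apply, LinearEquiv.coe_coe,
        TensorProduct.rid_tmul, coeffLin_apply, MonoidAlgebra.coeff_single]
      by_cases hk : k = m
      · subst hk; simp
      · simp [Finsupp.single_eq_of_ne (Ne.symm hk)]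
  rw [h1, coef_apply, ← h2]
  congr 1
  exact CoalgHomClass.map_comp_comul_apply φ z

theorem one_mem_Im_one : (1 : T) ∈ Im φ 1 := ⟨1, by simp [coef, MonoidAlgebra.one_def]⟩

theorem mul_mem_Im {m n : M} {r s : T} (hr : r ∈ Im φ m) (hs : s ∈ Im φ n) : r * s ∈ Im φ (m * n) := by
  obtain ⟨a, ha⟩ := single_mem_range φ hr
  obtain ⟨b, hb⟩ := single_mem_range φ hs
  exact ⟨a * b, by simp [coef, ha, hb, MonoidAlgebra.single_mul_single]⟩

theorem mem_Im_inv {m : M} {r : T} (hr : r ∈ Im φ m) : r ∈ Im φ m⁻¹ := by
  obtain ⟨z, hz⟩ := single_mem_range φ hr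
  refine ⟨HopfAlgebra.antipode T z, ?_⟩
  simp [coef, map_antipode φ, hz, MonoidAlgebra.antipode_single]

theorem surjective_of_points
    (hmono : ∀ (k : Type (max u w)) [CommRing k] [Algebra T k] (x y : MonoidAlgebra T M →ₐ[T] k),
      x.comp (φ : D →ₐ[T] MonoidAlgebra T M) = y.comp (φ : D →ₐ[T] MonoidAlgebra T M) → x = y) :
    Function.Surjective φ := by
  suffices htop : ∀ m, Im φ m = ⊤ by
    intro x
    induction x using MonoidAlgebra.induction_linear with
    | zero => exact ⟨0, map_zero _⟩
    | add x y hx hy =>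
      obtain ⟨a, rfl⟩ := hx
      obtain ⟨b, rfl⟩ := hy
      exact ⟨a + b, map_add _ _ _⟩
    | single m r => exact single_mem_range φ (htop m ▸ Submodule.mem_top)
  intro m₀
  by_contra hne
  obtain ⟨q, hq, hle⟩ := Ideal.exists_le_maximal _ hne
  let k := T ⧸ q
  have : Nontrivial k := Ideal.Quotient.nontrivial_iff.mpr hq.ne_top
  let N : Subgroup M :=
    { carrier := {m | ¬ Im φ m ≤ q}
      one_mem' := fun h => hq.ne_top ((Ideal.eq_top_iff_one _).mpr (h (one_mem_Im_one φ)))
      mul_mem' := by
        intro a b ha hb h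
        obtain ⟨r, hr, hrq⟩ := Set.not_subset.mp ha
        obtain ⟨s, hs, hsq⟩ := Set.not_subset.mp hb
        rcases hq.isPrime.mem_or_mem (h (mul_mem_Im φ hr hs)) with h' | h'
        · exact hrq h'
        · exact hsq h'
      inv_mem' := fun {a} ha h => ha fun r hr => h (mem_Im_inv φ hr) }
  have hm₀ : m₀ ∉ N := fun h => h hle
  let K := MonoidAlgebra k (M ⧸ N)
  let f : M →* K := (MonoidAlgebra.of k (M ⧸ N)).comp (QuotientGroup.mk' N)
  let algTK : Algebra T K := inferInstance
  let X : MonoidAlgebra T M →ₐ[T] K := MonoidAlgebra.lift T K M f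
  let Y : MonoidAlgebra T M →ₐ[T] K := MonoidAlgebra.lift T K M 1
  have hXY : ∀ z, X (φ z) = Y (φ z) := by
    intro z
    rw [← MonoidAlgebra.sum_coeff_single (φ z), Finsupp.sum, map_sum, map_sum]
    refine Finset.sum_congr rfl fun m _ => ?_
    by_cases hm : m ∈ N
    · have : f m = 1 := by
        simp only [f, MonoidHom.comp_apply, QuotientGroup.mk'_apply, (QuotientGroup.eq_one_iff m).mpr hm, map_one]
      simp [X, Y, this]
    · have : (φ z).coeff m ∈ q := (not_not.mp hm) ⟨z, rfl⟩
      have h0 : algebraMap T K ((φ z).coeff m) = 0 := by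
        rw [IsScalarTower.algebraMap_apply T k K]
        simp [k, Ideal.Quotient.eq_zero_iff_mem.mpr this]
      simp [X, Y, Algebra.smul_def, h0]
  have hne1 : f m₀ ≠ 1 := by
    intro h
    apply hm₀
    rw [← QuotientGroup.eq_one_iff]
    have := congrArg (fun z => MonoidAlgebra.coeff z (QuotientGroup.mk' N m₀)) h
    by_contra hne'
    rw [MonoidAlgebra.one_def] at this
    simp [f, Finsupp.single_eq_of_ne hne'] at this
  apply hne1
  have := AlgHom.congr_fun (hmono K X Y (AlgHom.ext hXY)) (MonoidAlgebra.single m₀ 1)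
  simpa [X, Y] using this

end

end Groth.Agent.MultType.Mono
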