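import Groth.Agent.MultType.LiftRed
import Groth.Agent.IndAlg.EtaleLift
import Groth.Agent.Hensel.EtaleAlgLift
import Groth.Agent.MultType.AdicLevel
import Groth.Agent.MultType.Isotrivial
import Groth.Agent.MultType.Mono
import Mathlib.RingTheory.Finiteness.Descent

/-!
# Lifting quasi-isotrivial and isotrivial groups
-/

open Coalgebra TensorProduct

universe u

namespace Groth.Agent.MultType.LiftApps

open GLLift LiftExists NilLift

noncomputable section

variable {R : Type u} [CommRing R]

/-- `R₀ ⊗ C ≅ B` for a lift `C` of `B` -/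
theorem exists_red_algEquiv {R₀ : Type u} [CommRing R₀] [Algebra R R₀] (hs : Function.Surjective (algebraMap R R₀))
    {C B : Type u} [CommRing C] [Algebra R C] [CommRing B] [Algebra R B] [Algebra R₀ B] [IsScalarTower R R₀ B]
    (φ : C →ₐ[R] B) (hφ : Function.Surjective φ)
    (hker : ∀ c, φ c = 0 → c ∈ Ideal.map (algebraMap R C) (RingHom.ker (algebraMap R R₀))) :
    Nonempty (R₀ ⊗[R] C ≃ₐ[R₀] B) := by
  let Φ : R₀ ⊗[R] C →ₐ[R₀] B := Algebra.TensorProduct.lift (Algebra.ofId R₀ B) φ fun _ _ => Commute.all _ _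
  have hΦ : ∀ c, Φ ((1 : R₀) ⊗ₜ[R] c) = φ c := fun c => by simp [Φ]
  refine ⟨AlgEquiv.ofBijective Φ ⟨(injective_iff_map_eq_zero Φ).mpr fun z hz => ?_, fun b => ?_⟩⟩
  · obtain ⟨c, rfl⟩ := Lift.red_surjective (R := R) (R' := R₀) (S := C) hs z
    have h1 : φ c = 0 := (hΦ c).symm.trans hz
    have h2 : c ∈ RingHom.ker (Lift.red (R := R) R₀ C) := by rw [Lift.red_ker hs]; exact hker c h1
    exact h2
  · obtain ⟨c, rfl⟩ := hφ b
    exact ⟨1 ⊗ₜ c, hΦ c⟩

variable {R₀ : Type u} [CommRing R₀] [Algebra R R₀] {A₀ : Type u} [CommRing A₀] [HopfAlgebra R₀ A₀]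

/-- transport a splitting of `A₀` to the reduction of a lift -/
theorem exists_diag_red {C B : Type u} [CommRing C] [Algebra R C] [CommRing B] [Algebra R₀ B]
    (ε : R₀ ⊗[R] C ≃ₐ[R₀] B) (h : SGA3b.IsDiag B (B ⊗[R₀] A₀)) :
    ∃ (M : Type u) (_ : CommGroup M), Nonempty ((R₀ ⊗[R] C) ⊗[R₀] A₀ ≃ₐc[R₀ ⊗[R] C] MonoidAlgebra (R₀ ⊗[R] C) M) := by
  obtain ⟨M, i, ⟨e⟩⟩ := h
  exact ⟨M, i, ⟨GLLift.extend e (ε.symm : B →ₐ[R₀] R₀ ⊗[R] C)⟩⟩

theorem isDiag_extend {A : Type u} [CommRing A] [HopfAlgebra R A] {T : Type u} [CommRing T] [Algebra R T] {M : Type u}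
    [CommGroup M] (e : T ⊗[R] A ≃ₐc[T] MonoidAlgebra T M) {U : Type u} [CommRing U] [Algebra R U] (g : T →ₐ[R] U) :
    SGA3b.IsDiag U (U ⊗[R] A) := ⟨M, inferInstance, ⟨GLLift.extend e g⟩⟩

/-- **quasi-isotrivial groups lift along thickenings** -/
theorem exists_qi_lift (hs : Function.Surjective (algebraMap R R₀))
    (hn : ∀ x ∈ RingHom.ker (algebraMap R R₀), IsNilpotent x) (h0 : SGA3b.IsQuasiIsotrivial R₀ A₀) :
    ∃ (A : Type u) (_ : CommRing A) (_ : HopfAlgebra R A),
      SGA3b.IsQuasiIsotrivial R A ∧ Nonempty (R₀ ⊗[R] A ≃ₐc[R₀] A₀) := by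
  classical
  obtain ⟨s, hs', hloc⟩ := h0
  obtain ⟨t, hts, ht⟩ := (Ideal.span_eq_top_iff_finite s).mp hs'
  choose lf hlf using hs
  -- the local pieces
  have key : ∀ f : t, ∃ (C : Type u) (_ : CommRing C) (_ : Algebra (Localization.Away (lf (f : R₀))) C) (_ : Algebra R C)
      (_ : IsScalarTower R (Localization.Away (lf (f : R₀))) C) (M : Type u) (_ : CommGroup M),
      Algebra.Etale (Localization.Away (lf (f : R₀))) C ∧ Module.FaithfullyFlat (Localization.Away (lf (f : R₀))) C ∧
      Nonempty ((R₀ ⊗[R] C) ⊗[R₀] A₀ ≃ₐc[R₀ ⊗[R] C] MonoidAlgebra (R₀ ⊗[R] C) M) := by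
    intro f
    let g := lf (f : R₀)
    let S := Localization.Away g
    let L := Localization.Away (f : R₀)
    obtain ⟨B, _, _, hB, hB', hd⟩ := hloc f (hts f.2)
    letI : Algebra R₀ B := ((algebraMap L B).comp (algebraMap R₀ L)).toAlgebra
    haveI : IsScalarTower R₀ L B := IsScalarTower.of_algebraMap_eq fun x => rfl
    letI : Algebra S L := (IsLocalization.Away.lift (S := S) g (g := algebraMap R L) (by
      rw [IsScalarTower.algebraMap_apply R R₀ L, hlf]
      exact IsLocalization.Away.algebraMap_isUnit (f : R₀))).toAlgebra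
    haveI : IsScalarTower R S L := IsScalarTower.of_algebraMap_eq fun r =>
      (IsLocalization.Away.lift_eq g _ r).symm
    have hLS : ∀ r, algebraMap S L (algebraMap R S r) = algebraMap R₀ L (algebraMap R R₀ r) := fun r => by
      rw [← IsScalarTower.algebraMap_apply, IsScalarTower.algebraMap_apply R R₀ L]
    have hsurj : Function.Surjective (algebraMap S L) := fun z => by
      obtain ⟨⟨a, ⟨_, k, rfl⟩⟩, h1⟩ := IsLocalization.surj (Submonoid.powers (f : R₀)) z
      refine ⟨IsLocalization.mk' S (lf a) (⟨g ^ k, k, rfl⟩ : Submonoid.powers g), ?_⟩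
      refine ((IsLocalization.Away.algebraMap_isUnit (S := L) (f : R₀)).pow k).mul_right_cancel ?_
      rw [← map_pow]
      refine Eq.trans ?_ h1.symm
      rw [show algebraMap R₀ L ((f : R₀) ^ k) = algebraMap S L (algebraMap R S (g ^ k)) by
          rw [hLS, map_pow (algebraMap R R₀), hlf],
        ← map_mul, IsLocalization.mk'_spec S (lf a) (⟨g ^ k, k, rfl⟩ : Submonoid.powers g), hLS, hlf]
    have hnil : ∀ z ∈ RingHom.ker (algebraMap S L),
        z ∈ Ideal.map (algebraMap R S) (RingHom.ker (algebraMap R R₀)) := by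
      intro z hz
      obtain ⟨⟨r, u⟩, h1⟩ := IsLocalization.surj (Submonoid.powers g) z
      have h2 := congrArg (algebraMap S L) h1
      rw [map_mul, RingHom.mem_ker.mp hz, zero_mul, hLS] at h2
      obtain ⟨⟨_, k, rfl⟩, h3⟩ := (IsLocalization.map_eq_zero_iff (Submonoid.powers (f : R₀)) L _).mp h2.symm
      have h4 : g ^ k * r ∈ RingHom.ker (algebraMap R R₀) := by
        rw [RingHom.mem_ker, map_mul, map_pow, hlf]
        exact h3
      have h5 := Ideal.mem_map_of_mem (algebraMap R S) h4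
      rw [map_mul] at h5
      have hu : IsUnit (algebraMap R S (g ^ k)) := by
        rw [map_pow]; exact (IsLocalization.Away.algebraMap_isUnit g).pow k
      have h6 := (Ideal.unit_mul_mem_iff_mem _ hu).mp h5
      rw [← h1] at h6
      exact (Ideal.mul_unit_mem_iff_mem _ (IsLocalization.map_units S u)).mp h6
    let K := RingHom.ker (algebraMap S L)
    let eK : (S ⧸ K) ≃+* L := RingHom.quotientKerEquivOfSurjective hsurj
    letI : Algebra (S ⧸ K) L := eK.toRingHom.toAlgebra
    letI : Algebra S B := ((algebraMap L B).comp (algebraMap S L)).toAlgebra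
    haveI : IsScalarTower S L B := IsScalarTower.of_algebraMap_eq fun x => rfl
    letI : Algebra (S ⧸ K) B := ((algebraMap L B).comp eK.toRingHom).toAlgebra
    haveI : IsScalarTower (S ⧸ K) L B := IsScalarTower.of_algebraMap_eq fun x => rfl
    haveI : IsScalarTower S (S ⧸ K) B := by
      exact IsScalarTower.of_algebraMap_eq (R := S) (S := S ⧸ K) (A := B) fun x => rfl
    haveI : Algebra.Etale (S ⧸ K) L :=
      Algebra.Etale.of_equiv (AlgEquiv.ofBijective (Algebra.ofId (S ⧸ K) L) eK.bijective)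
    haveI : Algebra.Etale (S ⧸ K) B := Algebra.Etale.comp (S ⧸ K) L B
    obtain ⟨C, _, _, hC, ⟨e⟩⟩ := IndAlg.EtaleLift.exists_lift S K B
    let φ : C →ₐ[S] B := e.toAlgHom.comp (Ideal.Quotient.mkₐ S _)
    have hφs : Function.Surjective φ := e.surjective.comp Ideal.Quotient.mk_surjective
    letI : Algebra R C := ((algebraMap S C).comp (algebraMap R S)).toAlgebra
    haveI : IsScalarTower R S C := IsScalarTower.of_algebraMap_eq fun x => rfl
    letI : Algebra R B := ((algebraMap L B).comp (algebraMap R L)).toAlgebra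
    haveI : IsScalarTower R R₀ B := IsScalarTower.of_algebraMap_eq fun x => by
      change algebraMap L B (algebraMap R L x) = algebraMap L B (algebraMap R₀ L (algebraMap R R₀ x))
      rw [← IsScalarTower.algebraMap_apply R R₀ L]
    haveI : IsScalarTower R S B := IsScalarTower.of_algebraMap_eq fun x => by
      change algebraMap L B (algebraMap R L x) = algebraMap L B (algebraMap S L (algebraMap R S x))
      rw [← IsScalarTower.algebraMap_apply R S L]
    have hker : ∀ c, φ c = 0 → c ∈ Ideal.map (algebraMap R C) (RingHom.ker (algebraMap R R₀)) := by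
      intro c hc
      have h1 : c ∈ Ideal.map (algebraMap S C) K :=
        Ideal.Quotient.eq_zero_iff_mem.mp ((map_eq_zero_iff e e.injective).mp hc)
      have h2 := Ideal.map_mono (f := algebraMap S C) (show K ≤ Ideal.map (algebraMap R S) _ from hnil) h1
      rw [Ideal.map_map] at h2
      exact h2
    obtain ⟨ε⟩ := exists_red_algEquiv (R₀ := R₀) (fun x => ⟨lf x, hlf x⟩) (φ.restrictScalars R) hφs hker
    obtain ⟨M, i, he⟩ := exists_diag_red ε ((QIT.isDiag_tower_iff L B).mp hd)
    haveI := hB'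
    haveI : Module.Flat S C := inferInstance
    refine ⟨C, inferInstance, inferInstance, inferInstance, inferInstance, M, i, hC,
      Module.FaithfullyFlat.of_comap_surjective fun p => ?_, he⟩
    have hle : K ≤ p.asIdeal := fun x hx => by
      have h1 := hnil x hx
      refine (Ideal.map_le_iff_le_comap.mpr (fun r hr => ?_)) h1
      obtain ⟨k, hk⟩ := hn r hr
      refine p.isPrime.mem_of_pow_mem k ?_
      rw [← map_pow, hk, map_zero]
      exact zero_mem _
    let p₀ : PrimeSpectrum L := ⟨p.asIdeal.map (algebraMap S L), Ideal.map_isPrime_of_surjective hsurj hle⟩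
    obtain ⟨q, hq⟩ := PrimeSpectrum.comap_surjective_of_faithfullyFlat (A := L) (B := B) p₀
    refine ⟨q.comap φ.toRingHom, ?_⟩
    apply PrimeSpectrum.ext
    have h1 := congrArg (fun P => Ideal.comap (algebraMap S L) (PrimeSpectrum.asIdeal P)) hq
    change Ideal.comap (algebraMap S L) (q.asIdeal.comap (algebraMap L B)) =
      Ideal.comap (algebraMap S L) (p.asIdeal.map (algebraMap S L)) at h1
    rw [Ideal.comap_comap, ← IsScalarTower.algebraMap_eq, Ideal.comap_map_of_surjective' _ hsurj,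
      sup_eq_left.mpr hle] at h1
    change (q.asIdeal.comap φ.toRingHom).comap (algebraMap S C) = p.asIdeal
    rw [Ideal.comap_comap, show φ.toRingHom.comp (algebraMap S C) = algebraMap S B from φ.comp_algebraMap]
    exact h1
  choose C instC algSC algRC tow M instM hC hCff he using key
  have hflat : ∀ f : t, Module.Flat R (C f) := fun f => by
    haveI := hC f
    exact Module.Flat.trans R (Localization.Away (lf (f : R₀))) (C f)
  have hcover : ∀ p : PrimeSpectrum R, ∃ f : t, lf (f : R₀) ∉ p.asIdeal := by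
    intro p
    by_contra! hcon
    have hle : RingHom.ker (algebraMap R R₀) ≤ p.asIdeal := fun x hx =>
      nilradical_le_prime p.asIdeal (mem_nilradical.mpr (hn x hx))
    have h1 : (p.asIdeal.map (algebraMap R R₀)) = ⊤ := by
      rw [eq_top_iff, ← ht, Ideal.span_le]
      intro y hy
      rw [← hlf y]
      exact Ideal.mem_map_of_mem _ (hcon ⟨y, hy⟩)
    have h2 := congrArg (Ideal.comap (algebraMap R R₀)) h1
    rw [Ideal.comap_map_of_surjective' _ (fun x => ⟨lf x, hlf x⟩), sup_eq_left.mpr hle, Ideal.comap_top] at h2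
    exact p.isPrime.ne_top h2
  haveI : Module.FaithfullyFlat R (∀ f, C f) := by
    haveI : Module.Flat R (∀ f, C f) :=
      Module.Flat.of_linearEquiv (DirectSum.linearEquivFunOnFintype R t C).symm
    refine Module.FaithfullyFlat.of_comap_surjective fun p => ?_
    obtain ⟨f, hfp⟩ := hcover p
    obtain ⟨q', hq'⟩ : p ∈ Set.range (PrimeSpectrum.comap (algebraMap R (Localization.Away (lf (f : R₀))))) := by
      rw [PrimeSpectrum.localization_away_comap_range (Localization.Away (lf (f : R₀))) (lf (f : R₀))]; exact hfp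
    have := hCff f
    obtain ⟨q, hq⟩ := PrimeSpectrum.comap_surjective_of_faithfullyFlat (B := C f) q'
    refine ⟨q.comap (Pi.evalRingHom C f), ?_⟩
    rw [← hq', ← hq]
    apply PrimeSpectrum.ext
    ext x
    simp [IsScalarTower.algebraMap_apply R (Localization.Away (lf (f : R₀))) (C f)]
  let I : Input R R₀ A₀ (FlatQ R) := { ι := t, T := C, mem := hflat, M := M, e := fun f => (he f).some }
  have D := nilLiftData (fun x => (⟨lf x, hlf x⟩ : ∃ a, algebraMap R R₀ a = x)) hn
  refine ⟨Lifted I D, inferInstance, inferInstance, ⟨Set.range fun f : t => lf (f : R₀), ?_, ?_⟩, exists_red_equiv I D⟩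
  · by_contra hne
    obtain ⟨m, hm, hle⟩ := Ideal.exists_le_maximal _ hne
    obtain ⟨f, hf⟩ := hcover ⟨m, hm.isPrime⟩
    exact hf (hle (Ideal.subset_span ⟨f, rfl⟩))
  · rintro _ ⟨f, rfl⟩
    exact ⟨C f, inferInstance, inferInstance, hC f, hCff f, M f, inferInstance,
      ⟨(Split.cancel (R := R) (S := Localization.Away (lf (f : R₀))) (T := C f) (A := Lifted I D)).trans
        ((splitting I D).equiv f)⟩⟩

/-- **isotrivial groups lift along henselian pairs** -/
theorem exists_isotrivial_lift (I : Ideal R) [HenselianRing R I] {A₀ : Type u} [CommRing A₀]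
    [HopfAlgebra (R ⧸ I) A₀] (h0 : SGA3b.IsIsotrivial (R ⧸ I) A₀) :
    ∃ (A : Type u) (_ : CommRing A) (_ : HopfAlgebra R A),
      SGA3b.IsIsotrivial R A ∧ Nonempty ((R ⧸ I) ⊗[R] A ≃ₐc[R ⧸ I] A₀) := by
  classical
  obtain ⟨B, _, _, hB, hfin, hff, hd⟩ := h0
  obtain ⟨C, _, _, hCfin, hC, ⟨ε⟩⟩ := Hensel.exists_finite_etale_lift R I B
  haveI : Module.FaithfullyFlat R C := by
    refine ⟨fun m hm => ?_⟩
    intro htop
    have hIm : I ≤ m := le_trans HenselianRing.jac ((sInf_le ⟨bot_le, hm⟩ : Ideal.jacobson ⊥ ≤ m))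
    have h1 : (Ideal.map (algebraMap R C) m) = ⊤ := by
      rw [Ideal.smul_top_eq_map, Submodule.restrictScalars_eq_top_iff] at htop
      exact htop
    have h2 := congrArg (Ideal.map (ε.toRingHom.comp
      (Algebra.TensorProduct.includeRight : C →ₐ[R] (R ⧸ I) ⊗[R] C).toRingHom)) h1
    rw [Ideal.map_top, Ideal.map_map, show (ε.toRingHom.comp
        (Algebra.TensorProduct.includeRight : C →ₐ[R] (R ⧸ I) ⊗[R] C).toRingHom).comp (algebraMap R C) =
        (algebraMap (R ⧸ I) B).comp (algebraMap R (R ⧸ I)) from RingHom.ext fun r => by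
      change ε ((1 : R ⧸ I) ⊗ₜ[R] algebraMap R C r) = _
      rw [Algebra.algebraMap_eq_smul_one, TensorProduct.tmul_smul, ← Algebra.TensorProduct.one_def,
        ← algebraMap_smul (R ⧸ I) r, map_smul, map_one, RingHom.comp_apply, Algebra.algebraMap_eq_smul_one (A := B)],
      ← Ideal.map_map] at h2
    have hm' : (m.map (algebraMap R (R ⧸ I))).IsMaximal := by
      refine (Ideal.map_eq_top_or_isMaximal_of_surjective _ Ideal.Quotient.mk_surjective hm).resolve_left ?_
      intro h
      have := congrArg (Ideal.comap (Ideal.Quotient.mk I)) h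
      rw [Ideal.comap_map_of_surjective' _ Ideal.Quotient.mk_surjective,
        Ideal.mk_ker, sup_eq_left.mpr hIm, Ideal.comap_top] at this
      exact hm.ne_top this
    refine Module.FaithfullyFlat.submodule_ne_top (R := R ⧸ I) (M := B) hm' ?_
    rw [Ideal.smul_top_eq_map, Submodule.restrictScalars_eq_top_iff]
    exact h2
  obtain ⟨M, _, he⟩ := exists_diag_red ε hd
  haveI : Module.FaithfullyFlat R (PUnit.{u + 1} → C) :=
    Module.FaithfullyFlat.of_linearEquiv R C (LinearEquiv.funUnique PUnit.{u + 1} R C)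
  let J : Input R (R ⧸ I) A₀ (FinQ R) :=
    { ι := PUnit.{u + 1}, T := fun _ => C, mem := fun _ => ⟨hCfin, inferInstance⟩, M := fun _ => M
      e := fun _ => he.some }
  have D := finLiftData I
  exact ⟨Lifted J D, inferInstance, inferInstance,
    ⟨C, inferInstance, inferInstance, hC, hCfin, inferInstance, M, inferInstance,
      ⟨(splitting J D).equiv PUnit.unit⟩⟩, exists_red_equiv J D⟩

theorem isIsotrivial_field {k : Type u} [Field k] {A : Type u} [CommRing A] [HopfAlgebra k A]
    (h : SGA3b.IsMultType k A) (hft : Algebra.FiniteType k A) : SGA3b.IsIsotrivial k A := by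
  obtain ⟨k', _, _, hfin, hsep, M, i, _, he⟩ := FieldSplit.exists_separable_split h hft
  haveI : Algebra.FormallyEtale k k' := Algebra.FormallyEtale.of_isSeparable k k'
  exact ⟨k', inferInstance, inferInstance, ⟨inferInstance, Algebra.FinitePresentation.of_finiteType.mp inferInstance⟩,
    hfin, inferInstance,
    M, i, he⟩

theorem isIsotrivial_of_equiv {A A' : Type u} [CommRing A] [HopfAlgebra R A] [CommRing A'] [HopfAlgebra R A']
    (e : A ≃ₐc[R] A') (h : SGA3b.IsIsotrivial R A) : SGA3b.IsIsotrivial R A' := by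
  obtain ⟨T, _, _, h1, h2, h3, M, _, ⟨f⟩⟩ := h
  exact ⟨T, inferInstance, inferInstance, h1, h2, h3, M, inferInstance,
    ⟨({ Bialgebra.TensorProduct.map (BialgHom.id T T) (e.symm : A' →ₐc[R] A),
        Algebra.TensorProduct.congr (AlgEquiv.refl : T ≃ₐ[T] T) e.toAlgEquiv.symm with } :
      T ⊗[R] A' ≃ₐc[T] T ⊗[R] A).trans f⟩⟩

theorem isQuasiIsotrivial_of_diag {A : Type u} [CommRing A] [HopfAlgebra R A] (T : Type u) [CommRing T]
    [Algebra R T] (het : Algebra.Etale R T) [Module.FaithfullyFlat R T] (h : SGA3b.IsDiag T (T ⊗[R] A)) :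
    SGA3b.IsQuasiIsotrivial R A := by
  refine ⟨{1}, Ideal.span_singleton_one, ?_⟩
  rintro f (rfl : f = 1)
  let S := Localization.Away (1 : R)
  let W := S ⊗[R] T
  haveI := het
  obtain ⟨M, _, ⟨e⟩⟩ := h
  exact ⟨W, inferInstance, inferInstance, inferInstance, inferInstance, M, inferInstance,
    ⟨(Split.cancel (R := R) (S := S) (T := W) (A := A)).trans
      (GLLift.extend e (Algebra.TensorProduct.includeRight : T →ₐ[R] W))⟩⟩

/-- a homomorphism to an isotrivial group which is surjective modulo `I` is surjective -/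
theorem surjective_of_red (I : Ideal R) [IsAdicComplete I R] {A : Type u} [CommRing A] [HopfAlgebra R A]
    {C : Type u} [CommRing C] [HopfAlgebra R C] (hA : SGA3b.IsIsotrivial R A) (φ : C →ₐc[R] A)
    (h : ∀ a, ∃ c, (1 : R ⧸ I) ⊗ₜ[R] φ c = (1 : R ⧸ I) ⊗ₜ[R] a) : Function.Surjective φ := by
  classical
  obtain ⟨T, _, _, _, hfin, hff, M, _, ⟨e⟩⟩ := hA
  let φT : T ⊗[R] C →ₐc[T] MonoidAlgebra T M :=
    (e : T ⊗[R] A →ₐc[T] MonoidAlgebra T M).comp (Bialgebra.TensorProduct.map (BialgHom.id T T) φ)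
  have hI : ∀ x ∈ Ideal.map (algebraMap R T) I, IsUnit (1 + x) := by
    intro x hx
    by_contra hcon
    obtain ⟨m, hm, hxm⟩ := exists_max_ideal_of_mem_nonunits (mem_nonunits_iff.mpr hcon)
    have hc : (m.comap (algebraMap R T)).IsMaximal :=
      haveI : Algebra.IsIntegral R T := Algebra.IsIntegral.of_finite R T
      Ideal.isMaximal_comap_of_isIntegral_of_isMaximal m
    have hIm : Ideal.map (algebraMap R T) I ≤ m := Ideal.map_le_iff_le_comap.mpr
      (le_trans (IsAdicComplete.le_jacobson_bot I) (sInf_le ⟨bot_le, hc⟩))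
    exact hm.ne_top ((Ideal.eq_top_iff_one _).mpr (by simpa using sub_mem hxm (hIm hx)))
  have hsurjT : Function.Surjective φT := by
    intro z
    induction z using MonoidAlgebra.induction_linear with
    | zero => exact ⟨0, map_zero _⟩
    | add x y hx hy =>
      obtain ⟨a, ha⟩ := hx; obtain ⟨b, hb⟩ := hy
      exact ⟨a + b, by rw [map_add, ha, hb]⟩
    | single m r =>
      obtain ⟨y, hy⟩ := e.toAlgEquiv.surjective (MonoidAlgebra.single m 1)
      -- `y` is congruent to an element of the range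
      have hcong : ∀ y : T ⊗[R] A, ∃ w : T ⊗[R] C,
          y - Bialgebra.TensorProduct.map (BialgHom.id T T) φ w ∈ I • (⊤ : Submodule R (T ⊗[R] A)) := by
        intro y
        induction y using TensorProduct.induction_on with
        | zero => exact ⟨0, by simp⟩
        | add p q hp hq =>
          obtain ⟨a, ha⟩ := hp; obtain ⟨b, hb⟩ := hq
          exact ⟨a + b, by rw [map_add, add_sub_add_comm]; exact add_mem ha hb⟩
        | tmul t a =>
          obtain ⟨c, hc⟩ := h a
          refine ⟨t ⊗ₜ c, ?_⟩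
          have h1 := (Lift.red_eq_iff (R' := R ⧸ I) Ideal.Quotient.mk_surjective).mp hc.symm
          rw [Ideal.Quotient.algebraMap_eq, Ideal.mk_ker, ← Submodule.restrictScalars_mem R,
            ← Ideal.smul_top_eq_map] at h1
          change t ⊗ₜ[R] a - t ⊗ₜ[R] φ c ∈ _
          rw [← TensorProduct.tmul_sub]
          exact Submodule.smul_top_le_comap_smul_top I (TensorProduct.mk R T A t) h1
      obtain ⟨w, hw⟩ := hcong y
      let cm : T ⊗[R] A →ₗ[R] T :=
        ((Coef.coeffLin (R := T) m).restrictScalars R) ∘ₗ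
          ((e : T ⊗[R] A →ₐ[T] MonoidAlgebra T M).toLinearMap.restrictScalars R)
      have h2 := Submodule.smul_top_le_comap_smul_top I cm hw
      rw [Submodule.mem_comap, map_sub, Ideal.smul_top_eq_map, Submodule.restrictScalars_mem] at h2
      have h3 : cm y = 1 := by
        change (e y).coeff m = 1
        rw [show e y = MonoidAlgebra.single m 1 from hy, MonoidAlgebra.coeff_single, Finsupp.single_eq_same]
      obtain ⟨v, hv⟩ := (hI _ (neg_mem h2)).exists_left_inv
      rw [h3, neg_sub, add_sub_cancel] at hv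
      have hmem : (r : T) ∈ Mono.Im φT m := by
        rw [show r = (r * v) * cm (Bialgebra.TensorProduct.map (BialgHom.id T T) φ w) by rw [mul_assoc, hv, mul_one]]
        exact Ideal.mul_mem_left _ _ ((Mono.mem_Im _).mpr ⟨w, rfl⟩)
      exact Mono.single_mem_range φT hmem
  intro a
  let P := LinearMap.range (φ : C →ₐ[R] A).toLinearMap
  suffices hz : P.mkQ a = 0 from (Submodule.Quotient.mk_eq_zero P).mp hz
  apply Module.FaithfullyFlat.tensorProduct_mk_injective (A := R) (B := T) (A ⧸ P)
  change (1 : T) ⊗ₜ[R] P.mkQ a = (1 : T) ⊗ₜ[R] (0 : A ⧸ P)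
  obtain ⟨w, hw⟩ := hsurjT (e (1 ⊗ₜ a))
  have hw' : Bialgebra.TensorProduct.map (BialgHom.id T T) φ w = (1 : T) ⊗ₜ[R] a := e.toAlgEquiv.injective hw
  rw [TensorProduct.tmul_zero, show (1 : T) ⊗ₜ[R] P.mkQ a = P.mkQ.lTensor T ((1 : T) ⊗ₜ[R] a) from rfl, ← hw']
  clear hw hw'
  induction w using TensorProduct.induction_on with
  | zero => simp
  | add p q hp hq => simp only [map_add, hp, hq, add_zero]
  | tmul t c =>
    change t ⊗ₜ[R] P.mkQ (φ c) = 0
    rw [show P.mkQ (φ c) = 0 from (Submodule.Quotient.mk_eq_zero P).mpr ⟨c, rfl⟩, TensorProduct.tmul_zero]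

end

end Groth.Agent.MultType.LiftApps
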