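import Groth.Agent.MultType.LocalMult
import Groth.Agent.MultType.HenselSplit
import Groth.Agent.MultType.KerPow
import Groth.Agent.Hensel.QFinite
import Groth.Agent.Hens.PairHfp
import Groth.Agent.S5285

/-!
# The open subgroup of multiplicative type over a henselian ring

* `exists_complete_split`: over a complete local ring.
* `coeff_mem_torsion`: its torsion levels are defined over the henselian ring.
* `coeff_mem_range`: homomorphisms from diagonalisable groups are defined over the henselian ring.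
-/

open Coalgebra TensorProduct WithConv

universe u

namespace Groth.Agent.MultType.OpenSub

noncomputable section

section Generic

variable {U : Type u} [CommRing U] {M : Type u} [CommGroup M]

theorem coeff_mem_of_mem_map {I : Ideal U} {z : MonoidAlgebra U M}
    (hz : z ∈ I.map (algebraMap U (MonoidAlgebra U M))) (x : M) : z.coeff x ∈ I := by
  have h : I.map (algebraMap U (MonoidAlgebra U M)) ≤
      RingHom.ker (MonoidAlgebra.mapRingHom M (Ideal.Quotient.mk I)) := by
    refine Ideal.map_le_iff_le_comap.mpr fun a ha => ?_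
    rw [Ideal.mem_comap, RingHom.mem_ker, MonoidAlgebra.coe_algebraMap, Function.comp_apply,
      MonoidAlgebra.mapRingHom_single]
    change MonoidAlgebra.single 1 (Ideal.Quotient.mk I a) = 0
    rw [Ideal.Quotient.eq_zero_iff_mem.mpr ha, MonoidAlgebra.single_zero]
  have h1 := congrArg (fun v => MonoidAlgebra.coeff v x) (RingHom.mem_ker.mp (h hz))
  simp only [MonoidAlgebra.coeff_mapRingHom, MonoidAlgebra.coeff_zero, Finsupp.zero_apply] at h1
  exact Ideal.Quotient.eq_zero_iff_mem.mp h1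

theorem mem_map_of_algHom {T : Type u} [CommRing T] {A B : Type u} [CommRing A] [Algebra T A] [CommRing B]
    [Algebra T B] (φ : A →ₐ[T] B) {I : Ideal T} {a : A} (h : a ∈ I.map (algebraMap T A)) :
    φ a ∈ I.map (algebraMap T B) :=
  (Ideal.map_le_iff_le_comap.mpr fun r hr => by
    rw [Ideal.mem_comap, Ideal.mem_comap, AlgHom.commutes]
    exact Ideal.mem_map_of_mem _ hr : I.map (algebraMap T A) ≤ Ideal.comap φ (I.map (algebraMap T B))) h

theorem idem_eq_zero {I : Ideal U} [IsHausdorff I U] {z : MonoidAlgebra U M} (hz : IsIdempotentElem z)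
    (hI : z ∈ I.map (algebraMap U (MonoidAlgebra U M))) : z = 0 := by
  refine MonoidAlgebra.coeff_injective (Finsupp.ext fun x => ?_)
  rw [MonoidAlgebra.coeff_zero, Finsupp.zero_apply]
  refine IsHausdorff.haus ‹_› _ fun k => ?_
  rw [SModEq.zero, smul_eq_mul, Ideal.mul_top]
  have h : z ∈ (I ^ (k + 1)).map (algebraMap U (MonoidAlgebra U M)) := by
    rw [Ideal.map_pow, ← hz.pow_succ_eq k]
    exact Ideal.pow_mem_pow hI (k + 1)
  exact Ideal.pow_le_pow_right (Nat.le_succ k) (coeff_mem_of_mem_map h x)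

theorem idem_eq_zero_finite [IsLocalRing U] {S : Type u} [CommRing S] [Algebra U S] [Module.Finite U S] {z : S}
    (hz : IsIdempotentElem z) (h : z ∈ (IsLocalRing.maximalIdeal U).map (algebraMap U S)) : z = 0 := by
  haveI : Algebra.IsIntegral U S := Algebra.IsIntegral.of_finite U S
  have hz' : z ∈ Ideal.jacobson (⊥ : Ideal S) := by
    refine Ideal.mem_sInf.mpr fun m hm => ?_
    haveI := hm.2
    haveI : (m.comap (algebraMap U S)).IsMaximal := Ideal.isMaximal_comap_of_isIntegral_of_isMaximal m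
    exact (Ideal.map_le_iff_le_comap.mpr (IsLocalRing.eq_maximalIdeal this).ge) h
  have hu : IsUnit (1 - z) := by
    have := (Ideal.mem_jacobson_bot.mp hz') (-1)
    rwa [mul_neg, mul_one, neg_add_eq_sub] at this
  exact hu.mul_left_eq_zero.mp (by rw [mul_sub, mul_one, hz.eq, sub_self])

/-- a bialgebra map killing the kernel of a surjection factors -/
theorem exists_factor {T : Type u} [CommRing T] {Y P X : Type u} [CommRing Y] [HopfAlgebra T Y] [CommRing P]
    [HopfAlgebra T P] [CommRing X] [HopfAlgebra T X] (π : Y →ₐc[T] P) (hπ : Function.Surjective π) (ψ : Y →ₐc[T] X)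
    (h : ∀ z, π z = 0 → ψ z = 0) : ∃ ψ' : P →ₐc[T] X, ∀ z, ψ' (π z) = ψ z := by
  let s : P → Y := Function.surjInv hπ
  have hwd : ∀ z, ψ (s (π z)) = ψ z := fun z => by
    rw [← sub_eq_zero, ← map_sub]
    exact h _ (by rw [map_sub, Function.surjInv_eq hπ, sub_self])
  let f : P →ₐ[T] X :=
    { toFun := fun p => ψ (s p)
      map_one' := by rw [← map_one π, hwd, map_one]
      map_zero' := by rw [← map_zero π, hwd, map_zero]
      map_add' := fun a b => by
        obtain ⟨a, rfl⟩ := hπ a; obtain ⟨b, rfl⟩ := hπ b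
        rw [← map_add, hwd, hwd, hwd, map_add]
      map_mul' := fun a b => by
        obtain ⟨a, rfl⟩ := hπ a; obtain ⟨b, rfl⟩ := hπ b
        rw [← map_mul, hwd, hwd, hwd, map_mul]
      commutes' := fun r => by
        rw [← AlgHomClass.commutes π r, hwd, AlgHomClass.commutes ψ] }
  refine ⟨BialgHom.ofAlgHom f (AlgHom.ext fun p => ?_) (AlgHom.ext fun p => ?_), hwd⟩
  · obtain ⟨z, rfl⟩ := hπ p
    change counit (ψ (s (π z))) = counit (R := T) (π z)
    rw [hwd, CoalgHomClass.counit_comp_apply, CoalgHomClass.counit_comp_apply]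
  · obtain ⟨z, rfl⟩ := hπ p
    change TensorProduct.map f.toLinearMap f.toLinearMap (comul (R := T) (π z)) = comul (ψ (s (π z)))
    rw [hwd, ← CoalgHomClass.map_comp_comul_apply π z, ← CoalgHomClass.map_comp_comul_apply ψ z,
      TensorProduct.map_map]
    congr 2 <;> exact LinearMap.ext hwd

theorem apply_convPow {T : Type u} [CommRing T] {P L : Type u} [CommRing P] [HopfAlgebra T P] [CommRing L]
    [Algebra T L] (G : WithConv (P →ₐ[T] L)) {z : P} (hz : IsGroupLikeElem T z) :
    ∀ n : ℕ, (G ^ n) z = G z ^ n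
  | 0 => by rw [pow_zero, pow_zero, AlgHom.convOne_apply, hz.counit_eq_one, map_one]
  | n + 1 => by
    rw [pow_succ, pow_succ, AlgHom.convMul_apply, hz.comul_eq_tmul_self, Algebra.TensorProduct.lift_tmul,
      apply_convPow G hz n]

theorem pow_comp {T : Type u} [CommRing T] {Y P L : Type u} [CommRing P] [HopfAlgebra T P] [CommRing Y]
    [HopfAlgebra T Y] [CommRing L] [Algebra T L] (G : WithConv (P →ₐ[T] L)) (π : Y →ₐc[T] P) :
    ∀ n : ℕ, (toConv (G.ofConv.comp (π : Y →ₐ[T] P))) ^ n = toConv ((G ^ n).ofConv.comp (π : Y →ₐ[T] P))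
  | 0 => by
    rw [pow_zero, pow_zero]
    apply WithConv.ext
    refine AlgHom.ext fun y => ?_
    change (1 : WithConv (Y →ₐ[T] L)) y = (1 : WithConv (P →ₐ[T] L)) (π y)
    rw [AlgHom.convOne_apply, AlgHom.convOne_apply, CoalgHomClass.counit_comp_apply]
  | n + 1 => by
    rw [pow_succ, pow_succ, pow_comp G π n]
    exact (congrArg toConv (AlgHom.convMul_comp_bialgHom_distrib (G ^ n) G π)).symm

theorem apply_powConv {T : Type u} [CommRing T] {C : Type u} [CommRing C] [HopfAlgebra T C] {L : Type u}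
    [CommRing L] [Algebra T L] (h : WithConv (C →ₐ[T] L)) (c : C) (n : ℕ) :
    h (SGA3b.powConv T C n c) = (h ^ n) c := by
  suffices key : toConv (h.ofConv.comp (SGA3b.powConv T C n)) = h ^ n from
    congrArg (fun f : WithConv (C →ₐ[T] L) => f c) key
  induction n with
  | zero =>
    apply WithConv.ext
    ext x
    change h (((toConv (AlgHom.id T C)) ^ 0).ofConv x) = ((h ^ 0) : WithConv (C →ₐ[T] L)) x
    rw [pow_zero, pow_zero, AlgHom.convOne_apply]
    exact h.ofConv.commutes _
  | succ n ih =>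
    rw [pow_succ h, ← ih]
    apply WithConv.ext
    change h.ofConv.comp ((toConv (AlgHom.id T C) ^ (n + 1)).ofConv) = _
    rw [pow_succ, AlgHom.comp_convMul_distrib]
    rfl

theorem torsion_le_ker {T : Type u} [CommRing T] {C : Type u} [CommRing C] [HopfAlgebra T C] {L : Type u}
    [CommRing L] [Algebra T L] (h : WithConv (C →ₐ[T] L)) {n : ℕ} (hn : h ^ n = 1) :
    SGA3b.torsionIdeal T C n ≤ RingHom.ker h.ofConv := by
  refine Ideal.map_le_iff_le_comap.mpr fun a ha => ?_
  change h (SGA3b.powConv T C n a) = 0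
  rw [apply_powConv, hn, AlgHom.convOne_apply, show counit (R := T) a = 0 from ha, map_zero]

/-- over a local ring bialgebra maps of group algebras come from maps of the groups -/
theorem exists_map_single [IsLocalRing U] {N : Type u} [CommGroup N]
    (ψ : MonoidAlgebra U N →ₐc[U] MonoidAlgebra U M) :
    ∃ χ : N → M, ∀ v, ψ v = MonoidAlgebra.mapDomain χ v := by
  choose χ hχ using fun x : N => HenselSplit.exists_eq_single_of_local
    ((MonoidAlgebra.isGroupLikeElem_single_one x).map ψ (R := U))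
  refine ⟨χ, fun v => ?_⟩
  induction v using MonoidAlgebra.induction_linear with
  | zero => rw [map_zero, MonoidAlgebra.mapDomain_zero]
  | add a b ha hb => rw [map_add, ha, hb, MonoidAlgebra.mapDomain_add]
  | single x r =>
    rw [show MonoidAlgebra.single x r = r • MonoidAlgebra.single x (1 : U) by simp, map_smul, hχ]
    simp

theorem coeff_mapDomain_mem {N : Type u} (χ : N → M) {S : Subring U} {v : MonoidAlgebra U N}
    (hv : ∀ x, v.coeff x ∈ S) (y : M) : (MonoidAlgebra.mapDomain χ v).coeff y ∈ S := by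
  classical
  rw [MonoidAlgebra.coeff_mapDomain, Finsupp.mapDomain, Finsupp.sum_apply]
  refine Subring.sum_mem _ fun x _ => ?_
  dsimp only
  rw [Finsupp.single_apply]
  split
  exacts [hv x, S.zero_mem]

/-- a coefficient is that of the image in a finite quotient separating the support -/
theorem exists_coeff_quot [Group.FG M] (v : MonoidAlgebra U M) (x : M) :
    ∃ n : ℕ, 0 < n ∧ v.coeff x =
      (MonoidAlgebra.mapDomainBialgHom U (QuotientGroup.mk' (TorsionHopf.powSub M n)) v).coeff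
        (QuotientGroup.mk' (TorsionHopf.powSub M n) x) := by
  classical
  have h0 : ∀ a : M, ∃ n : ℕ, 0 < n ∧ ∀ m, n ∣ m → a ≠ x → a⁻¹ * x ∉ TorsionHopf.powSub M m := by
    intro a
    rcases eq_or_ne a x with h | h
    · exact ⟨1, one_pos, fun m _ h' => (h' h).elim⟩
    obtain ⟨n, hn, hna⟩ := HenselSplit.exists_not_mem_powers (x := a⁻¹ * x) (by rw [Ne, inv_mul_eq_one]; exact h)
    refine ⟨n, hn, fun m hm _ hmem => hna ?_⟩
    obtain ⟨w, hw⟩ := hmem
    obtain ⟨k, rfl⟩ := hm
    exact ⟨w ^ k, by rw [powMonoidHom_apply, ← pow_mul, mul_comm k n]; exact hw⟩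
  choose n hn hsep using h0
  refine ⟨∏ a ∈ v.coeff.support, n a, Finset.prod_pos fun a _ => hn a, ?_⟩
  set H := TorsionHopf.powSub M (∏ a ∈ v.coeff.support, n a)
  change _ = (MonoidAlgebra.mapDomain (QuotientGroup.mk' H) v).coeff (QuotientGroup.mk' H x)
  rw [MonoidAlgebra.coeff_mapDomain, Finsupp.mapDomain, Finsupp.sum_apply, Finsupp.sum, Finset.sum_eq_single x]
  · rw [Finsupp.single_eq_same]
  · intro a ha hne
    rw [Finsupp.single_eq_of_ne]
    intro heq
    exact hsep a _ (Finset.dvd_prod_of_mem n ha) hne (QuotientGroup.eq.mp heq.symm)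
  · intro hx
    rw [Finsupp.notMem_support_iff.mp hx, Finsupp.single_zero, Finsupp.zero_apply]

end Generic

section Complete

variable (R : Type u) [CommRing R] [IsLocalRing R] {C : Type u} [CommRing C] [HopfAlgebra R C] [Algebra.FiniteType R C]
  (U : Type u) [CommRing U] [IsLocalRing U] [Algebra R U] [IsLocalHom (algebraMap R U)] [IsNoetherianRing U]
  [IsAdicComplete (IsLocalRing.maximalIdeal U) U]

/-- the open subgroup of multiplicative type over a complete local ring is diagonalisable when the closed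
fibre is -/
theorem exists_complete_split (hfl : ModelFlat.FlatOn R C (IsLocalRing.maximalIdeal R))
    (hk : SGA3b.IsDiag (IsLocalRing.ResidueField R) (IsLocalRing.ResidueField R ⊗[R] C))
    (hs : SGA3b.IsMultType (IsLocalRing.ResidueField R) (IsLocalRing.ResidueField R ⊗[R] C)) :
    ∃ (N : Type u) (_ : CommGroup N) (π : U ⊗[R] C →ₐc[U] MonoidAlgebra U N) (f : U ⊗[R] C),
      Group.FG N ∧ Function.Surjective π ∧ IsIdempotentElem f ∧
      f ∈ (IsLocalRing.maximalIdeal U).map (algebraMap U (U ⊗[R] C)) ∧ (∀ z, π z = 0 → z ∈ Ideal.span {f}) ∧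
      π f = 0 := by
  obtain ⟨e, he, heI, hHopf, hiso⟩ := Groth.Agent.S5285.result U (IsLocalRing.maximalIdeal U) (U ⊗[R] C)
    inferInstance (hfl.bc U (Ideal.map_le_iff_le_comap.mpr fun r hr => map_nonunit (algebraMap R U) r hr))
    (LocalMult.isIsotrivial_of_residue hs)
  let D := (U ⊗[R] C) ⧸ Ideal.span {e}
  haveI : HenselianLocalRing U := Hensel.henselianLocalRing_of_henselianRing inferInstance
  let k := IsLocalRing.ResidueField R
  let k' := IsLocalRing.ResidueField U
  obtain ⟨N₀, _, ⟨e₀⟩⟩ := hk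
  let gk : k →ₐ[R] k' :=
    { IsLocalRing.ResidueField.map (algebraMap R U) with commutes' := fun r => rfl }
  let e₁ : k' ⊗[U] (U ⊗[R] C) ≃ₐc[k'] MonoidAlgebra k' N₀ :=
    (Split.cancel (R := R) (S := U) (T := k') (A := C)).trans
      (GLLift.extend ((Split.cancel (R := R) (S := k) (T := k) (A := C)).symm.trans
        ((LocalMult.congrBC k e₀).trans (Split.scalarBialgEquiv (T := k) (T' := k) (M := N₀)))) gk)
  have hspan := Diag.span_quotient (Diag.span_of_equiv e₁) (KerPow.projBC (R := U) (Ideal.span {e}) k')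
    (KerPow.projBC_surjective (R := U) (Ideal.span {e}) k')
  obtain ⟨N, _, hN, ⟨eD⟩⟩ := HenselSplit.isDiag_of_henselian (W := U) (B := D)
    (AdicLevel.isMultType_of_isIsotrivial hiso) (Diag.isDiag_of_span hspan)
  let π : U ⊗[R] C →ₐc[U] MonoidAlgebra U N :=
    (eD : D →ₐc[U] MonoidAlgebra U N).comp (Bialgebra.Quotient.mkBialgHom (Ideal.span {e}))
  refine ⟨N, inferInstance, π, e, hN, eD.surjective.comp Ideal.Quotient.mk_surjective, he, heI, fun z hz => ?_, ?_⟩
  · refine Ideal.Quotient.eq_zero_iff_mem.mp (eD.toAlgEquiv.injective ?_)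
    rw [map_zero]
    exact hz
  · change eD (Ideal.Quotient.mk _ e) = 0
    rw [Ideal.Quotient.eq_zero_iff_mem.mpr (Ideal.mem_span_singleton_self e), map_zero]

end Complete

section Level

variable {R : Type u} [CommRing R] [HenselianLocalRing R] {C : Type u} [CommRing C] [HopfAlgebra R C]
  [Algebra.FiniteType R C]

/-- at the torsion levels the idempotent off the finite part lies in the maximal ideal -/
theorem exists_idempotent_level (n : ℕ) (hn : 0 < n)
    (hk : SGA3b.IsDiag (IsLocalRing.ResidueField R) (IsLocalRing.ResidueField R ⊗[R] C)) :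
    ∃ e : C ⧸ SGA3b.torsionIdeal R C n, IsIdempotentElem e ∧
      e ∈ (IsLocalRing.maximalIdeal R).map (algebraMap R _) ∧
      Module.Finite R ((C ⧸ SGA3b.torsionIdeal R C n) ⧸ Ideal.span {e}) := by
  classical
  let S := C ⧸ SGA3b.torsionIdeal R C n
  let k := IsLocalRing.ResidueField R
  let J := (IsLocalRing.maximalIdeal R).map (algebraMap R S)
  obtain ⟨N₀, _, ⟨e₀⟩⟩ := hk
  haveI : Group.FG N₀ := Diag.group_fg_of_finiteType e₀.toAlgEquiv
  -- the closed fibre of the level is finite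
  let g : C →ₐ[R] k ⊗[R] S := Algebra.TensorProduct.includeRight.comp (Ideal.Quotient.mkₐ R _)
  let G : k ⊗[R] C →ₐ[k] k ⊗[R] S := Algebra.TensorProduct.map (AlgHom.id k k) (Ideal.Quotient.mkₐ R _)
  have hgn : (toConv g) ^ n = 1 := by
    apply WithConv.ext
    ext c
    change ((toConv g) ^ n) c = (1 : WithConv (C →ₐ[R] k ⊗[R] S)) c
    rw [← apply_powConv, AlgHom.convOne_apply]
    have hc : c - algebraMap R C (counit c) ∈ RingHom.ker (Bialgebra.counitAlgHom R C) := by
      rw [RingHom.mem_ker, map_sub, AlgHom.commutes]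
      exact sub_self _
    have h1 : SGA3b.powConv R C n (c - algebraMap R C (counit c)) ∈ SGA3b.torsionIdeal R C n :=
      Ideal.mem_map_of_mem _ hc
    rw [map_sub, AlgHom.commutes] at h1
    change (1 : k) ⊗ₜ[R] (Ideal.Quotient.mk _ (SGA3b.powConv R C n c)) = _
    rw [Ideal.Quotient.eq.mpr h1]
    exact g.commutes _
  have hG : TorsionFinite.hat (K := k) (toConv g) = toConv G :=
    WithConv.ext (Sq.eq_of_one_tmul fun c => by
      rw [TorsionFinite.hat_one_tmul]
      rfl)
  have hpow : ∀ z, IsGroupLikeElem k z → G z ^ n = 1 := fun z hz => by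
    have h1 := TorsionFinite.apply_pow (TorsionFinite.hat (K := k) (toConv g)) hz n
    rw [← TorsionFinite.hat_pow, hgn, TorsionFinite.hat_one, AlgHom.convOne_apply, hz.counit_eq_one, map_one, hG] at h1
    exact h1.symm
  let Q := N₀ ⧸ TorsionHopf.powSub N₀ n
  let w : N₀ →* k ⊗[R] S := ((G.comp (e₀.symm : MonoidAlgebra k N₀ →ₐ[k] k ⊗[R] C)) :
    MonoidAlgebra k N₀ →* k ⊗[R] S).comp (MonoidAlgebra.of k N₀)
  let wq : Q →* k ⊗[R] S := QuotientGroup.lift _ w (by
    rintro _ ⟨x, rfl⟩
    rw [MonoidHom.mem_ker, powMonoidHom_apply, map_pow]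
    exact hpow _ ((MonoidAlgebra.isGroupLikeElem_single_one x).map e₀.symm))
  haveI : Finite Q := CommGroup.finite_of_fg_torsion Q fun x => by
    obtain ⟨x, rfl⟩ := QuotientGroup.mk_surjective x
    exact isOfFinOrder_iff_pow_eq_one.mpr ⟨n, hn, (QuotientGroup.eq_one_iff _).mpr ⟨x, rfl⟩⟩
  haveI : Module.Finite k (MonoidAlgebra k Q) := Module.Finite.of_basis (MonoidAlgebra.basis Q k)
  haveI : Module.Finite k (k ⊗[R] S) := by
    refine Module.Finite.of_surjective (MonoidAlgebra.lift k (k ⊗[R] S) Q wq).toLinearMap fun y => ?_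
    obtain ⟨y, rfl⟩ : ∃ y', G y' = y := by
      induction y using TensorProduct.induction_on with
      | zero => exact ⟨0, map_zero _⟩
      | add a b ha hb =>
        obtain ⟨a', rfl⟩ := ha; obtain ⟨b', rfl⟩ := hb
        exact ⟨a' + b', map_add _ _ _⟩
      | tmul t c =>
        obtain ⟨c', rfl⟩ := Ideal.Quotient.mk_surjective c
        exact ⟨t ⊗ₜ c', rfl⟩
    refine ⟨MonoidAlgebra.mapDomainBialgHom k (QuotientGroup.mk' (TorsionHopf.powSub N₀ n)) (e₀ y), ?_⟩
    change MonoidAlgebra.lift k (k ⊗[R] S) Q wq _ = G y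
    conv_rhs => rw [← show e₀.symm (e₀ y) = y from e₀.toAlgEquiv.symm_apply_apply y]
    generalize e₀ y = v
    induction v using MonoidAlgebra.induction_linear with
    | zero => simp
    | add a b ha hb => simp only [map_add, ha, hb]
    | single x r =>
      rw [show MonoidAlgebra.single x r = r • MonoidAlgebra.single x (1 : k) by simp, map_smul, map_smul,
        map_smul e₀.symm, map_smul, MonoidAlgebra.mapDomainBialgHom_single, MonoidAlgebra.lift_single, one_smul]
      rfl
  haveI : Module.Finite R k := Module.Finite.of_surjective (Algebra.linearMap R k) IsLocalRing.residue_surjective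
  haveI : Module.Finite R (k ⊗[R] S) := Module.Finite.trans k _
  haveI : Module.Finite R (S ⧸ J) := by
    let χ : k →ₐ[R] S ⧸ J :=
      Ideal.Quotient.liftₐ (IsLocalRing.maximalIdeal R) (Algebra.ofId R (S ⧸ J)) fun a ha => by
        change algebraMap R (S ⧸ J) a = 0
        rw [IsScalarTower.algebraMap_apply R S (S ⧸ J), Ideal.Quotient.algebraMap_eq, Ideal.Quotient.eq_zero_iff_mem]
        exact Ideal.mem_map_of_mem _ ha
    refine Module.Finite.of_surjective
      (Algebra.TensorProduct.lift χ (Ideal.Quotient.mkₐ R J) fun _ _ => Commute.all _ _).toLinearMap fun y => ?_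
    obtain ⟨s, rfl⟩ := Ideal.Quotient.mk_surjective y
    exact ⟨1 ⊗ₜ s, by simp⟩
  obtain ⟨e, he, hfin, hq⟩ := Hensel.exists_idempotent_finite_and_forall_not_quasiFiniteAt R S
  refine ⟨1 - e, he.one_sub, ?_, hfin⟩
  suffices hnil : IsNilpotent (Ideal.Quotient.mk J (1 - e)) by
    refine Ideal.Quotient.eq_zero_iff_mem.mp ?_
    exact (he.one_sub.map (Ideal.Quotient.mk J)).eq_zero_of_isNilpotent hnil
  rw [nilpotent_iff_mem_prime]
  intro P hP
  let q := P.comap (Ideal.Quotient.mk J)
  haveI : q.IsPrime := Ideal.IsPrime.comap _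
  have hJq : J ≤ q := fun x hx => by
    rw [Ideal.mem_comap, Ideal.Quotient.eq_zero_iff_mem.mpr hx]
    exact zero_mem _
  have hover : q.LiesOver (IsLocalRing.maximalIdeal R) :=
    ⟨(IsLocalRing.maximalIdeal.isMaximal R).eq_of_le (Ideal.IsPrime.comap _).ne_top
      (Ideal.map_le_iff_le_comap.mp hJq)⟩
  have he' : e ∉ q := hq q hover (Groth.Agent.Hens.quasiFiniteAt_of_finite_quotient (I := IsLocalRing.maximalIdeal R) q hJq)
  have h2 : e * (1 - e) ∈ q := by rw [he.mul_one_sub_self]; exact zero_mem _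
  exact ((inferInstance : q.IsPrime).mem_or_mem h2).resolve_left he'

end Level

section Descend

variable {R : Type u} [CommRing R] {C : Type u} [CommRing C] [HopfAlgebra R C]
  {U : Type u} [CommRing U] [Algebra R U] [Module.FaithfullyFlat R U]
  {X : Type u} [CommRing X] [HopfAlgebra U X] [Algebra R X] [IsScalarTower R U X]

/-- a map of the base change -/
def ext₁ (G : U ⊗[R] C →ₐc[U] X) : C →ₐ[R] X :=
  ((G : U ⊗[R] C →ₐ[U] X).restrictScalars R).comp Algebra.TensorProduct.includeRight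

theorem ext₁_apply (G : U ⊗[R] C →ₐc[U] X) (c : C) : ext₁ G c = G (1 ⊗ₜ c) := rfl

/-- the induced map on the quotient by the kernel over the base -/
def Θ (G : U ⊗[R] C →ₐc[U] X) : U ⊗[R] (C ⧸ RingHom.ker (ext₁ G)) →ₐ[U] X :=
  Algebra.TensorProduct.lift (Algebra.ofId U X) (Ideal.Quotient.liftₐ _ (ext₁ G) fun _ h => h) fun _ _ => Commute.all _ _

theorem Θ_one_tmul (G : U ⊗[R] C →ₐc[U] X) (c : C) :
    Θ G (1 ⊗ₜ Ideal.Quotient.mk _ c) = G (1 ⊗ₜ c) := by
  rw [Θ, Algebra.TensorProduct.lift_tmul, map_one, one_mul]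
  rfl

theorem Θ_map (G : U ⊗[R] C →ₐc[U] X) (z : U ⊗[R] C) :
    Θ G (Algebra.TensorProduct.map (AlgHom.id U U) (Ideal.Quotient.mkₐ R _) z) = G z := by
  have h : (Θ G).comp (Algebra.TensorProduct.map (AlgHom.id U U) (Ideal.Quotient.mkₐ R _)) =
      (G : U ⊗[R] C →ₐ[U] X) := Sq.eq_of_one_tmul fun c => Θ_one_tmul G c
  exact AlgHom.congr_fun h z

theorem isHopfIdeal_ker (G : U ⊗[R] C →ₐc[U] X) (hΘ : Function.Injective (Θ G))
    (hs : Function.Surjective (Θ G)) : (RingHom.ker (ext₁ G)).IsHopfIdeal R := by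
  let K := RingHom.ker (ext₁ G)
  let e := AlgEquiv.ofBijective (Θ G) ⟨hΘ, hs⟩
  let q : C →ₐ[R] C ⧸ K := Ideal.Quotient.mkₐ R K
  refine { counit_eq_zero := fun x hx => ?_, map_mkQ_comul_eq_zero := fun x hx => ?_, antipode_mem := fun x hx => ?_ }
  · have hG : G ((1 : U) ⊗ₜ[R] x) = 0 := hx
    have h1 := CoalgHomClass.counit_comp_apply G ((1 : U) ⊗ₜ[R] x)
    rw [hG, map_zero, TensorProduct.counit_tmul] at h1
    refine FaithfulSMul.algebraMap_injective R U ?_
    rw [map_zero, h1, Algebra.smul_def]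
    simp
  · change Algebra.TensorProduct.map q q (comul (R := R) x) = 0
    have hG : G ((1 : U) ⊗ₜ[R] x) = 0 := hx
    refine Module.FaithfullyFlat.tensorProduct_mk_injective (A := R) (B := U) _ ?_
    simp only [TensorProduct.mk_apply, TensorProduct.tmul_zero]
    let d := TensorProduct.AlgebraTensorModule.distribBaseChange R U (C ⧸ K) (C ⧸ K)
    apply d.injective
    apply (TensorProduct.congr e.toLinearEquiv e.toLinearEquiv).injective
    rw [map_zero, map_zero]
    have key : ∀ w : C ⊗[R] C, TensorProduct.congr e.toLinearEquiv e.toLinearEquiv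
        (d ((1 : U) ⊗ₜ[R] Algebra.TensorProduct.map q q w)) =
        TensorProduct.map (G : U ⊗[R] C →ₐc[U] X).toLinearMap (G : U ⊗[R] C →ₐc[U] X).toLinearMap
          ((TensorProduct.AlgebraTensorModule.distribBaseChange R U C C) ((1 : U) ⊗ₜ[R] w)) := by
      intro w
      induction w using TensorProduct.induction_on with
      | zero => simp
      | add a b ha hb => simp only [map_add, TensorProduct.tmul_add, ha, hb]
      | tmul a b =>
        simp only [Algebra.TensorProduct.map_tmul]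
        change e ((1 : U) ⊗ₜ[R] q a) ⊗ₜ[U] e ((1 : U) ⊗ₜ[R] q b) = G ((1 : U) ⊗ₜ[R] a) ⊗ₜ[U] G ((1 : U) ⊗ₜ[R] b)
        rw [show e ((1 : U) ⊗ₜ[R] q a) = G ((1 : U) ⊗ₜ[R] a) from Θ_one_tmul G a,
          show e ((1 : U) ⊗ₜ[R] q b) = G ((1 : U) ⊗ₜ[R] b) from Θ_one_tmul G b]
    rw [key]
    have h2 := CoalgHomClass.map_comp_comul_apply G ((1 : U) ⊗ₜ[R] x)
    rw [hG, map_zero] at h2
    refine Eq.trans ?_ h2
    congr 1
    rw [TensorProduct.comul_tmul]
    generalize comul (R := R) x = w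
    induction w using TensorProduct.induction_on with
    | zero => simp
    | add a b ha hb => simp only [map_add, TensorProduct.tmul_add, ha, hb]
    | tmul a b => simp [CommSemiring.comul_apply]
  · have hG : G ((1 : U) ⊗ₜ[R] x) = 0 := hx
    have h1 := Mono.map_antipode G ((1 : U) ⊗ₜ[R] x)
    rw [hG, map_zero] at h1
    change G ((1 : U) ⊗ₜ[R] HopfAlgebra.antipode R x) = 0
    rw [← h1]
    congr 1

end Descend

/-- an algebra equivalence under which a surjective bialgebra map becomes a bialgebra map -/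
theorem exists_bialgEquiv_of_comp' {T : Type u} [CommRing T] {B : Type u} [CommRing B] [HopfAlgebra T B]
    {Q : Type u} [CommRing Q] [HopfAlgebra T Q] {X : Type u} [CommRing X] [HopfAlgebra T X]
    (π : B →ₐc[T] Q) (hπ : Function.Surjective π) (η : B →ₐc[T] X) (ψ : Q ≃ₐ[T] X) (h : ∀ z, ψ (π z) = η z) :
    ∃ e : Q ≃ₐc[T] X, ∀ z, e (π z) = η z := by
  refine ⟨BialgEquiv.ofAlgEquiv ψ (AlgHom.ext fun y => ?_) (AlgHom.ext fun y => ?_), h⟩
  · obtain ⟨z, rfl⟩ := hπ y
    change counit (ψ (π z)) = counit (R := T) (π z)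
    rw [h, CoalgHomClass.counit_comp_apply, CoalgHomClass.counit_comp_apply]
  · obtain ⟨z, rfl⟩ := hπ y
    change TensorProduct.map ψ.toLinearMap ψ.toLinearMap (comul (R := T) (π z)) = comul (ψ (π z))
    rw [h, ← CoalgHomClass.map_comp_comul_apply π z, ← CoalgHomClass.map_comp_comul_apply η z, TensorProduct.map_map]
    congr 2 <;> exact LinearMap.ext h

section LevelCoeff

variable {R : Type u} [CommRing R] [HenselianLocalRing R] {C : Type u} [CommRing C] [HopfAlgebra R C]
  [Algebra.FiniteType R C] {U : Type u} [CommRing U] [IsLocalRing U] [Algebra R U] [Module.FaithfullyFlat R U]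
  {P : Type u} [CommGroup P]

/-- a level that is the base change of its image over the henselian ring has coefficients in it -/
theorem coeff_mem_of_bijective (G : U ⊗[R] C →ₐc[U] MonoidAlgebra U P) (hΘ : Function.Injective (Θ G))
    (hs : Function.Surjective (Θ G)) [Module.Finite R (C ⧸ RingHom.ker (ext₁ G))]
    (gU : U →ₐ[R] IsLocalRing.ResidueField R) (c : C) (x : P) :
    (G ((1 : U) ⊗ₜ[R] c)).coeff x ∈ (algebraMap R U).range := by
  let K := RingHom.ker (ext₁ G)
  haveI := isHopfIdeal_ker G hΘ hs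
  let F := C ⧸ K
  have hproj : ∀ z, Θ G (KerPow.projBC K U z) = G z := fun z => Θ_map G z
  obtain ⟨eF, heF⟩ := exists_bialgEquiv_of_comp' (KerPow.projBC K U) (KerPow.projBC_surjective (R := R) K U) G
    (AlgEquiv.ofBijective (Θ G) ⟨hΘ, hs⟩) hproj
  have hm : SGA3b.IsMultType R F := Diag.isMultType_of_diag U ⟨P, inferInstance, ⟨eF⟩⟩
  obtain ⟨P', _, -, ⟨eR⟩⟩ := HenselSplit.isDiag_of_henselian (W := R) (B := F) hm
    ⟨P, inferInstance, ⟨GLLift.extend eF gU⟩⟩
  let eU : U ⊗[R] F ≃ₐc[U] MonoidAlgebra U P' :=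
    (LocalMult.congrBC U eR).trans (Split.scalarBialgEquiv (T := R) (T' := U) (M := P'))
  let Ψ : MonoidAlgebra U P' →ₐc[U] MonoidAlgebra U P := (eU.symm.trans eF : MonoidAlgebra U P' ≃ₐc[U] _)
  obtain ⟨χ, hχ⟩ := exists_map_single Ψ
  have h1 : G ((1 : U) ⊗ₜ[R] c) = Ψ (eU ((1 : U) ⊗ₜ[R] Ideal.Quotient.mk K c)) := by
    change _ = eF (eU.symm (eU _))
    rw [show eU.symm (eU ((1 : U) ⊗ₜ[R] Ideal.Quotient.mk K c)) = (1 : U) ⊗ₜ[R] Ideal.Quotient.mk K c from
      eU.toAlgEquiv.symm_apply_apply _]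
    rw [← heF, KerPow.projBC_tmul]
  rw [h1, hχ]
  refine coeff_mapDomain_mem χ (fun y => ?_) x
  exact ⟨(eR (Ideal.Quotient.mk K c)).coeff y, by
    change _ = (Split.scalarBialgEquiv (T := R) (T' := U) (M := P') ((1 : U) ⊗ₜ[R] eR (Ideal.Quotient.mk K c))).coeff y
    simp [Split.scalarBialgEquiv]⟩

end LevelCoeff

section Range

/-- algebra maps killing the kernel of a surjection factor -/
theorem exists_algFactor {T : Type u} [CommRing T] {Y P L : Type u} [CommRing Y] [Algebra T Y] [CommRing P]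
    [Algebra T P] [CommRing L] [Algebra T L] (π : Y →ₐ[T] P) (hπ : Function.Surjective π) (ψ : Y →ₐ[T] L)
    (h : ∀ z, π z = 0 → ψ z = 0) : ∃ ψ' : P →ₐ[T] L, ∀ z, ψ' (π z) = ψ z := by
  have hle : RingHom.ker π.toRingHom ≤ RingHom.ker ψ.toRingHom := fun z hz => h z hz
  let f : P →+* L := π.toRingHom.liftOfSurjective hπ ⟨ψ.toRingHom, hle⟩
  have hf : ∀ z, f (π z) = ψ z := fun z => RingHom.liftOfRightInverse_comp_apply _ _ _ ⟨ψ.toRingHom, hle⟩ z
  let f' : P →ₐ[T] L :=
    { f with
      commutes' := fun r => by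
        change f (algebraMap T P r) = _
        rw [← π.commutes r, hf, ψ.commutes] }
  exact ⟨f', hf⟩

theorem pow_eq_one_of_comp {T : Type u} [CommRing T] {Y P L : Type u} [CommRing P] [HopfAlgebra T P] [CommRing Y]
    [HopfAlgebra T Y] [CommRing L] [Algebra T L] (π : Y →ₐc[T] P) (hπ : Function.Surjective π)
    (G : WithConv (P →ₐ[T] L)) (ρ : Y →ₐ[T] L) (hρ : ∀ z, G (π z) = ρ z) {n : ℕ} (hn : (toConv ρ) ^ n = 1) :
    G ^ n = 1 := by
  have h0 : G.ofConv.comp (π : Y →ₐ[T] P) = ρ := AlgHom.ext hρ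
  have h1 := pow_comp G π n
  rw [h0, hn] at h1
  apply WithConv.ext
  refine AlgHom.ext fun p => ?_
  obtain ⟨z, rfl⟩ := hπ p
  have h2 := congrArg (fun g : WithConv (Y →ₐ[T] L) => g z) h1
  change (G ^ n) (π z) = (1 : WithConv (P →ₐ[T] L)) (π z)
  rw [AlgHom.convOne_apply, CoalgHomClass.counit_comp_apply, ← AlgHom.convOne_apply]
  exact h2.symm

theorem pow_eq_one_of_group {U : Type u} [CommRing U] {N L : Type u} [CommGroup N] [CommRing L] [Algebra U L]
    (η : MonoidAlgebra U N →ₐ[U] L) {n : ℕ} (h : ∀ x : N, η (MonoidAlgebra.single x 1) ^ n = 1) :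
    (toConv η) ^ n = 1 := by
  apply WithConv.ext
  refine MonoidAlgebra.algHom_ext (fun x => ?_) (Subsingleton.elim _ _)
  change ((toConv η) ^ n) (MonoidAlgebra.single x 1) = (1 : WithConv (MonoidAlgebra U N →ₐ[U] L)) _
  have hx : IsGroupLikeElem U (MonoidAlgebra.single x (1 : U)) := MonoidAlgebra.isGroupLikeElem_single_one x
  rw [apply_convPow (toConv η) hx, AlgHom.convOne_apply, hx.counit_eq_one, map_one]
  exact h x

variable {R : Type u} [CommRing R] {C : Type u} [CommRing C] [HopfAlgebra R C] {U : Type u} [CommRing U]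
  [Algebra R U] {L : Type u} [CommRing L] [Algebra U L] [Algebra R L] [IsScalarTower R U L]

theorem eq_hat (g : C →ₐ[R] L) (G : U ⊗[R] C →ₐ[U] L) (h : ∀ c, G (1 ⊗ₜ c) = g c) :
    TorsionFinite.hat (K := U) (toConv g) = toConv G :=
  WithConv.ext (Sq.eq_of_one_tmul fun c => by rw [TorsionFinite.hat_one_tmul]; exact (h c).symm)

theorem pow_eq_one_of_hat [Module.FaithfullyFlat R U] (g : C →ₐ[R] L) (G : U ⊗[R] C →ₐ[U] L)
    (h : ∀ c, G (1 ⊗ₜ c) = g c) {n : ℕ} (hn : (toConv G) ^ n = 1) : (toConv g) ^ n = 1 := by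
  apply WithConv.ext
  refine AlgHom.ext fun c => ?_
  change ((toConv g) ^ n) c = (1 : WithConv (C →ₐ[R] L)) c
  rw [← TorsionFinite.hat_one_tmul (K := U) ((toConv g) ^ n) c, ← TorsionFinite.hat_one_tmul (K := U) 1 c,
    TorsionFinite.hat_pow, eq_hat g G h, hn, TorsionFinite.hat_one]

theorem pow_hat_eq_one (g : C →ₐ[R] L) (G : U ⊗[R] C →ₐ[U] L) (h : ∀ c, G (1 ⊗ₜ c) = g c) {n : ℕ}
    (hn : (toConv g) ^ n = 1) : (toConv G) ^ n = 1 := by
  rw [← eq_hat g G h, ← TorsionFinite.hat_pow, hn, TorsionFinite.hat_one]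

theorem pow_mk_eq_one {K : Ideal C} {n : ℕ} (hK : SGA3b.torsionIdeal R C n ≤ K) {L' : Type u} [CommRing L']
    [Algebra R L'] (g : C →ₐ[R] L') (hg : ∀ a ∈ K, g a = 0) : (toConv g) ^ n = 1 := by
  apply WithConv.ext
  ext c
  change ((toConv g) ^ n) c = (1 : WithConv (C →ₐ[R] L')) c
  rw [← apply_powConv, AlgHom.convOne_apply]
  have hc : c - algebraMap R C (counit c) ∈ RingHom.ker (Bialgebra.counitAlgHom R C) := by
    rw [RingHom.mem_ker, map_sub, AlgHom.commutes]
    exact sub_self _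
  have h1 : SGA3b.powConv R C n (c - algebraMap R C (counit c)) ∈ SGA3b.torsionIdeal R C n :=
    Ideal.mem_map_of_mem _ hc
  rw [map_sub, AlgHom.commutes] at h1
  have h2 := hg _ (hK h1)
  rw [map_sub, sub_eq_zero, g.commutes] at h2
  exact h2

variable [HenselianLocalRing R] [Algebra.FiniteType R C] [IsLocalRing U] [Module.FaithfullyFlat R U]
  [IsLocalHom (algebraMap R U)] {N : Type u} [CommGroup N] [Group.FG N]

/-- the coefficients at a torsion level are defined over the henselian ring -/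
theorem coeff_mem_level (hk : SGA3b.IsDiag (IsLocalRing.ResidueField R) (IsLocalRing.ResidueField R ⊗[R] C))
    (gU : U →ₐ[R] IsLocalRing.ResidueField R) (π : U ⊗[R] C →ₐc[U] MonoidAlgebra U N) (hπ : Function.Surjective π)
    {f : U ⊗[R] C} (hf : IsIdempotentElem f)
    (hfm : f ∈ (IsLocalRing.maximalIdeal U).map (algebraMap U (U ⊗[R] C))) (hker : ∀ z, π z = 0 → z ∈ Ideal.span {f})
    (n : ℕ) (hn : 0 < n) (c : C) (x : N ⧸ TorsionHopf.powSub N n) :
    (MonoidAlgebra.mapDomainBialgHom U (QuotientGroup.mk' (TorsionHopf.powSub N n)) (π ((1 : U) ⊗ₜ[R] c))).coeff x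
      ∈ (algebraMap R U).range := by
  classical
  let P := N ⧸ TorsionHopf.powSub N n
  haveI : Finite P := CommGroup.finite_of_fg_torsion P fun x => by
    obtain ⟨x, rfl⟩ := QuotientGroup.mk_surjective x
    exact isOfFinOrder_iff_pow_eq_one.mpr ⟨n, hn, (QuotientGroup.eq_one_iff _).mpr ⟨x, rfl⟩⟩
  haveI : Module.Finite U (MonoidAlgebra U P) := Module.Finite.of_basis (MonoidAlgebra.basis P U)
  let η : MonoidAlgebra U N →ₐc[U] MonoidAlgebra U P :=
    MonoidAlgebra.mapDomainBialgHom U (QuotientGroup.mk' (TorsionHopf.powSub N n))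
  let G : U ⊗[R] C →ₐc[U] MonoidAlgebra U P := η.comp π
  have hη : Function.Surjective η := by
    intro v
    induction v using MonoidAlgebra.induction_linear with
    | zero => exact ⟨0, map_zero _⟩
    | add a b ha hb =>
      obtain ⟨a', rfl⟩ := ha; obtain ⟨b', rfl⟩ := hb
      exact ⟨a' + b', map_add _ _ _⟩
    | single q r =>
      obtain ⟨q', rfl⟩ := QuotientGroup.mk_surjective q
      exact ⟨MonoidAlgebra.single q' r, MonoidAlgebra.mapDomainBialgHom_single _ _ _⟩
  have hηn : (toConv (η : MonoidAlgebra U N →ₐ[U] MonoidAlgebra U P)) ^ n = 1 := pow_eq_one_of_group _ fun y => by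
    change η (MonoidAlgebra.single y 1) ^ n = 1
    rw [MonoidAlgebra.mapDomainBialgHom_single, MonoidAlgebra.single_pow, one_pow, ← map_pow,
      show QuotientGroup.mk' (TorsionHopf.powSub N n) (y ^ n) = 1 from (QuotientGroup.eq_one_iff _).mpr ⟨y, rfl⟩,
      MonoidAlgebra.one_def]
  have hGn : (toConv (G : U ⊗[R] C →ₐ[U] MonoidAlgebra U P)) ^ n = 1 := by
    have h1 := pow_comp (toConv (η : MonoidAlgebra U N →ₐ[U] MonoidAlgebra U P)) π n
    rw [hηn] at h1
    refine h1.trans ?_
    apply WithConv.ext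
    refine AlgHom.ext fun y => ?_
    change (1 : WithConv (MonoidAlgebra U N →ₐ[U] MonoidAlgebra U P)) (π y) =
      (1 : WithConv (U ⊗[R] C →ₐ[U] MonoidAlgebra U P)) y
    rw [AlgHom.convOne_apply, AlgHom.convOne_apply, CoalgHomClass.counit_comp_apply]
  let K := RingHom.ker (ext₁ G)
  have hJ : SGA3b.torsionIdeal R C n ≤ K :=
    torsion_le_ker (toConv (ext₁ G)) (pow_eq_one_of_hat (ext₁ G) (G : U ⊗[R] C →ₐ[U] MonoidAlgebra U P) (fun _ => rfl) hGn)
  obtain ⟨e, he, hem, hfin⟩ := exists_idempotent_level (C := C) n hn hk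
  let q : (C ⧸ SGA3b.torsionIdeal R C n) →ₐ[R] C ⧸ K := Ideal.Quotient.factorₐ R hJ
  let gb : (C ⧸ SGA3b.torsionIdeal R C n) →ₐ[R] MonoidAlgebra U P :=
    (Ideal.Quotient.liftₐ K (ext₁ G) fun _ h => h).comp q
  have hge : gb e = 0 := by
    refine idem_eq_zero_finite (U := U) (he.map gb) ?_
    have h1 := mem_map_of_algHom gb hem
    rw [show (IsLocalRing.maximalIdeal R).map (algebraMap R (MonoidAlgebra U P)) =
      ((IsLocalRing.maximalIdeal R).map (algebraMap R U)).map (algebraMap U (MonoidAlgebra U P)) from by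
        rw [Ideal.map_map, ← IsScalarTower.algebraMap_eq]] at h1
    have hle : (IsLocalRing.maximalIdeal R).map (algebraMap R U) ≤ IsLocalRing.maximalIdeal U :=
      Ideal.map_le_iff_le_comap.mpr fun r hr => map_nonunit (algebraMap R U) r hr
    exact Ideal.map_mono hle h1
  have hqe : q e = 0 := by
    obtain ⟨d, hd⟩ := Ideal.Quotient.mk_surjective e
    rw [← hd] at hge ⊢
    change Ideal.Quotient.mk K d = 0
    rw [Ideal.Quotient.eq_zero_iff_mem]
    exact hge
  haveI : Module.Finite R (C ⧸ K) := by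
    refine Module.Finite.of_surjective (Ideal.Quotient.liftₐ (Ideal.span {e}) q fun a ha => by
      obtain ⟨b, rfl⟩ := Ideal.mem_span_singleton.mp ha
      rw [map_mul, hqe, zero_mul]).toLinearMap fun y => ?_
    obtain ⟨d, rfl⟩ := Ideal.Quotient.mk_surjective y
    exact ⟨Ideal.Quotient.mk _ (Ideal.Quotient.mk _ d), rfl⟩
  let ρ : U ⊗[R] C →ₐ[U] U ⊗[R] (C ⧸ K) := Algebra.TensorProduct.map (AlgHom.id U U) (Ideal.Quotient.mkₐ R K)
  have hρs : Function.Surjective ρ := by
    intro y
    induction y using TensorProduct.induction_on with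
    | zero => exact ⟨0, map_zero _⟩
    | add a b ha hb =>
      obtain ⟨a', rfl⟩ := ha; obtain ⟨b', rfl⟩ := hb
      exact ⟨a' + b', map_add _ _ _⟩
    | tmul t d =>
      obtain ⟨d', rfl⟩ := Ideal.Quotient.mk_surjective d
      exact ⟨t ⊗ₜ d', rfl⟩
  have hρf : ρ f = 0 := by
    refine idem_eq_zero_finite (U := U) (hf.map ρ) ?_
    exact mem_map_of_algHom ρ hfm
  obtain ⟨ρ', hρ'⟩ := exists_algFactor (π : U ⊗[R] C →ₐ[U] MonoidAlgebra U N) hπ ρ fun z hz => by
    obtain ⟨b, rfl⟩ := Ideal.mem_span_singleton.mp (hker z hz)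
    rw [map_mul, hρf, zero_mul]
  have hρn : (toConv ρ') ^ n = 1 := pow_eq_one_of_comp π hπ _ ρ hρ'
    (pow_hat_eq_one (Algebra.TensorProduct.includeRight.comp (Ideal.Quotient.mkₐ R K)) ρ (fun _ => rfl)
      (pow_mk_eq_one hJ _ fun a ha => by
        change (1 : U) ⊗ₜ[R] Ideal.Quotient.mk K a = 0
        rw [Ideal.Quotient.eq_zero_iff_mem.mpr ha, TensorProduct.tmul_zero]))
  let w : N →* U ⊗[R] (C ⧸ K) := (ρ' : MonoidAlgebra U N →* U ⊗[R] (C ⧸ K)).comp (MonoidAlgebra.of U N)
  let χ : MonoidAlgebra U P →ₐ[U] U ⊗[R] (C ⧸ K) := MonoidAlgebra.lift U _ P (QuotientGroup.lift _ w (by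
    rintro _ ⟨y, rfl⟩
    have hy : IsGroupLikeElem U (MonoidAlgebra.single y (1 : U)) := MonoidAlgebra.isGroupLikeElem_single_one y
    rw [MonoidHom.mem_ker, powMonoidHom_apply, map_pow]
    refine (apply_convPow (toConv ρ') hy n).symm.trans ?_
    rw [hρn, AlgHom.convOne_apply, hy.counit_eq_one, map_one]))
  have hχ : χ.comp (η : MonoidAlgebra U N →ₐ[U] MonoidAlgebra U P) = ρ' := by
    refine MonoidAlgebra.algHom_ext (fun y => ?_) (Subsingleton.elim _ _)
    change χ (η (MonoidAlgebra.single y 1)) = _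
    rw [MonoidAlgebra.mapDomainBialgHom_single, MonoidAlgebra.lift_single, one_smul]
    rfl
  refine coeff_mem_of_bijective G ((injective_iff_map_eq_zero _).mpr fun v hv => ?_)
    (fun v => ?_) gU c x
  · obtain ⟨z, rfl⟩ := hρs v
    rw [← hρ' z, ← hχ]
    change χ (G z) = 0
    rw [← Θ_map G z, hv, map_zero]
  · obtain ⟨v', rfl⟩ := hη v
    obtain ⟨z, rfl⟩ := hπ v'
    exact ⟨ρ z, Θ_map G z⟩

/-- homomorphisms from diagonalisable groups over a complete extension are defined over the henselian ring -/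
theorem coeff_mem_range [IsNoetherianRing U] [IsAdicComplete (IsLocalRing.maximalIdeal U) U]
    (hfl : ModelFlat.FlatOn R C (IsLocalRing.maximalIdeal R))
    (hk : SGA3b.IsDiag (IsLocalRing.ResidueField R) (IsLocalRing.ResidueField R ⊗[R] C))
    (hs : SGA3b.IsMultType (IsLocalRing.ResidueField R) (IsLocalRing.ResidueField R ⊗[R] C))
    (gU : U →ₐ[R] IsLocalRing.ResidueField R) {M : Type u} [CommGroup M]
    (ψ : U ⊗[R] C →ₐc[U] MonoidAlgebra U M) (c : C) (x : M) :
    (ψ ((1 : U) ⊗ₜ[R] c)).coeff x ∈ (algebraMap R U).range := by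
  obtain ⟨N', _, π, f, hN, hπ, hf, hfm, hker, -⟩ := exists_complete_split R U (C := C) hfl hk hs
  haveI := hN
  have hψf : ψ f = 0 := by
    refine idem_eq_zero (I := IsLocalRing.maximalIdeal U) (hf.map ψ) ?_
    exact mem_map_of_algHom (ψ : U ⊗[R] C →ₐ[U] MonoidAlgebra U M) hfm
  obtain ⟨ψ', hψ'⟩ := exists_factor π hπ ψ fun z hz => by
    obtain ⟨b, rfl⟩ := Ideal.mem_span_singleton.mp (hker z hz)
    rw [map_mul, hψf, zero_mul]
  obtain ⟨χ, hχ⟩ := exists_map_single ψ'
  rw [← hψ', hχ]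
  refine coeff_mapDomain_mem χ (fun y => ?_) x
  obtain ⟨n, hn, hy⟩ := exists_coeff_quot (π ((1 : U) ⊗ₜ[R] c)) y
  rw [hy]
  exact coeff_mem_level hk gU π hπ hf hfm hker n hn c _

end Range

end

end Groth.Agent.MultType.OpenSub
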