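import Groth.Agent.MultType.KerPow
import Groth.Agent.MultType.Integral
import Groth.Agent.MultType.HenselSplit
import Groth.Agent.MultType.OpenSub

/-!
# Kernels of homomorphisms out of diagonalisable groups, subgroups of diagonalisable groups
-/

open TensorProduct WithConv Coalgebra

universe u v w

namespace Groth.Agent.MultType.KerHom

noncomputable section

/-! ### quotients of group algebras -/

section Quot

variable {T : Type u} [CommRing T] {M : Type u} [CommGroup M] {B : Type u} [CommRing B] [HopfAlgebra T B]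

/-- images of the group elements -/
def imgHom (π : MonoidAlgebra T M →ₐc[T] B) : M →* B where
  toFun m := π (MonoidAlgebra.single m 1)
  map_one' := by rw [← MonoidAlgebra.one_def]; exact map_one π
  map_mul' m n := by rw [← map_mul, MonoidAlgebra.single_mul_single, one_mul]

/-- the subgroup of elements becoming trivial -/
def kerGrp (π : MonoidAlgebra T M →ₐc[T] B) : Subgroup M := (imgHom π).toHomUnits.ker

theorem mem_kerGrp {π : MonoidAlgebra T M →ₐc[T] B} {m : M} :
    m ∈ kerGrp π ↔ π (MonoidAlgebra.single m 1) = 1 := by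
  rw [kerGrp, MonoidHom.mem_ker, ← Units.val_inj]
  rfl

/-- the map induced on the quotient group -/
def quotHom (π : MonoidAlgebra T M →ₐc[T] B) : M ⧸ kerGrp π →* B :=
  (Units.coeHom B).comp (QuotientGroup.kerLift (imgHom π).toHomUnits)

theorem quotHom_mk (π : MonoidAlgebra T M →ₐc[T] B) (m : M) :
    quotHom π (QuotientGroup.mk m) = π (MonoidAlgebra.single m 1) := rfl

theorem quotHom_injective (π : MonoidAlgebra T M →ₐc[T] B) : Function.Injective (quotHom π) := fun _ _ h =>
  QuotientGroup.kerLift_injective _ (Units.ext h)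

theorem isGroupLike_quotHom (π : MonoidAlgebra T M →ₐc[T] B) (q : M ⧸ kerGrp π) :
    IsGroupLikeElem T (quotHom π q) := by
  obtain ⟨m, rfl⟩ := QuotientGroup.mk_surjective q
  rw [quotHom_mk]
  exact (MonoidAlgebra.isGroupLikeElem_of m).map π

theorem exists_equiv_of_indep (π : MonoidAlgebra T M →ₐc[T] B) (hπ : Function.Surjective π)
    (hind : LinearIndependent T (quotHom π)) :
    ∃ e : B ≃ₐc[T] MonoidAlgebra T (M ⧸ kerGrp π),
      ∀ z, e (π z) = MonoidAlgebra.mapDomainBialgHom T (QuotientGroup.mk' (kerGrp π)) z := by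
  let ψ : MonoidAlgebra T (M ⧸ kerGrp π) →ₐ[T] B := MonoidAlgebra.lift T B (M ⧸ kerGrp π) (quotHom π)
  have hψ : ∀ z, ψ (MonoidAlgebra.mapDomainBialgHom T (QuotientGroup.mk' (kerGrp π)) z) = π z := by
    intro z
    induction z using MonoidAlgebra.induction_linear with
    | zero => simp
    | add x y hx hy => simp only [map_add, hx, hy]
    | single m r =>
      have h1 : MonoidAlgebra.single m r = r • MonoidAlgebra.single m (1 : T) := by simp
      rw [h1, map_smul, map_smul, map_smul]
      congr 1
      simp [ψ, MonoidAlgebra.mapDomainBialgHom, quotHom_mk]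
  have hs : Function.Surjective ψ := fun b => by
    obtain ⟨z, rfl⟩ := hπ b
    exact ⟨_, hψ z⟩
  have hi : Function.Injective ψ := by
    rw [injective_iff_map_eq_zero]
    intro x hx
    have h1 : ψ x = Finsupp.linearCombination T (quotHom π) x.coeff := by
      clear hx
      induction x using MonoidAlgebra.induction_linear with
      | zero => simp
      | add a b ha hb => simp only [map_add, MonoidAlgebra.coeff_add, ha, hb]
      | single q r => simp [ψ]
    rw [hx] at h1
    exact MonoidAlgebra.coeff_injective (by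
      rw [MonoidAlgebra.coeff_zero]
      exact linearIndependent_iff.mp hind _ h1.symm)
  obtain ⟨e, he⟩ := OpenSub.exists_bialgEquiv_of_comp' π hπ
    (MonoidAlgebra.mapDomainBialgHom T (QuotientGroup.mk' (kerGrp π))) (AlgEquiv.ofBijective ψ ⟨hi, hs⟩).symm
    (fun z => by rw [AlgEquiv.symm_apply_eq]; exact (hψ z).symm)
  exact ⟨e, he⟩

/-- over a field the group-like images are linearly independent -/
theorem indep_of_field {K : Type u} [Field K] {M : Type u} [CommGroup M] {B : Type u} [CommRing B]
    [HopfAlgebra K B] (π : MonoidAlgebra K M →ₐc[K] B) : LinearIndependent K (quotHom π) := by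
  have h := linearIndep_groupLikeVal (R := K) (A := B)
  exact h.comp (fun q => ⟨quotHom π q, isGroupLike_quotHom π q⟩)
    fun a b hab => quotHom_injective π (congrArg GroupLike.val hab)

theorem ker_of_field {K : Type u} [Field K] {M : Type u} [CommGroup M] {B : Type u} [CommRing B]
    [HopfAlgebra K B] (π : MonoidAlgebra K M →ₐc[K] B) (hπ : Function.Surjective π) (z : MonoidAlgebra K M) :
    π z = 0 ↔ MonoidAlgebra.mapDomainBialgHom K (QuotientGroup.mk' (kerGrp π)) z = 0 := by
  obtain ⟨e, he⟩ := exists_equiv_of_indep π hπ (indep_of_field π)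
  rw [← he]
  exact ⟨fun h => by rw [h, map_zero], fun h => e.toAlgEquiv.injective (h.trans (map_zero _).symm)⟩

/-- an integral sees the unit component of a group-like element -/
theorem integral_smul {l : B →ₗ[T] T} (hl : Integral.IsIntegral T B l) {g : B} (hg : IsGroupLikeElem T g) :
    l g • g = l g • 1 := by
  have h := hl.invariant g
  rw [hg.comul_eq_tmul_self, LinearMap.lTensor_tmul, TensorProduct.rid_tmul] at h
  exact h

theorem indep_of_connected [Nontrivial T] (hconn : ∀ e : T, IsIdempotentElem e → e = 0 ∨ e = 1)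
    {l : B →ₗ[T] T} (hl : Integral.IsIntegral T B l) (π : MonoidAlgebra T M →ₐc[T] B) :
    LinearIndependent T (quotHom π) := by
  classical
  have hval : ∀ q : M ⧸ kerGrp π, l (quotHom π q) = if q = 1 then 1 else 0 := by
    intro q
    split_ifs with hq
    · rw [hq, map_one, hl.map_one]
    · have h := integral_smul hl (isGroupLike_quotHom π q)
      have hid : IsIdempotentElem (l (quotHom π q)) := by
        have h2 := congrArg l h
        rw [map_smul, map_smul, hl.map_one, smul_eq_mul, smul_eq_mul, mul_one] at h2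
        exact h2
      rcases hconn _ hid with h0 | h1
      · exact h0
      · rw [h1, one_smul, one_smul] at h
        exact absurd (quotHom_injective π (h.trans (map_one _).symm)) hq
  rw [linearIndependent_iff']
  intro s c hc q hq
  have h := congrArg (fun b => l (b * quotHom π q⁻¹)) hc
  simp only [Finset.sum_mul, smul_mul_assoc, ← map_mul, map_sum, map_smul, zero_mul, map_zero, hval,
    mul_inv_eq_one, smul_eq_mul, mul_ite, mul_one, mul_zero, Finset.sum_ite_eq', hq, if_true] at h
  exact h

/-- **a subgroup of multiplicative type of a diagonalisable group over a connected base is diagonalisable** -/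
theorem isDiag_of_connected [Nontrivial T] (hconn : ∀ e : T, IsIdempotentElem e → e = 0 ∨ e = 1)
    (hB : SGA3b.IsMultType T B) (π : MonoidAlgebra T M →ₐc[T] B) (hπ : Function.Surjective π) :
    SGA3b.IsDiag T B := by
  obtain ⟨l, hl⟩ := Integral.exists_isIntegral hB
  obtain ⟨e, -⟩ := exists_equiv_of_indep π hπ (indep_of_connected hconn hl π)
  exact ⟨_, inferInstance, ⟨e⟩⟩

end Quot

/-! ### rigidity -/

section Rigid

variable {T : Type u} [CommRing T] {M : Type u} [CommGroup M] {C : Type u} [CommRing C] [Algebra T C]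

theorem mem_ker_mapRingHom {I : Ideal T} {z : MonoidAlgebra T M} :
    z ∈ RingHom.ker (MonoidAlgebra.mapRingHom M (Ideal.Quotient.mk I)) ↔ ∀ m, z.coeff m ∈ I := by
  rw [RingHom.mem_ker]
  constructor
  · intro h m
    have h1 := congrArg (fun w => w.coeff m) h
    simpa [Ideal.Quotient.eq_zero_iff_mem] using h1
  · intro h
    ext m
    simpa [Ideal.Quotient.eq_zero_iff_mem] using h m

theorem coeff_sum_mul {y z : MonoidAlgebra T M} [DecidableEq M] (m : M) :
    LinearMap.mul' T T (TensorProduct.map (Coef.coeffLin m) (Coef.coeffLin m) (y ⊗ₜ[T] z)) =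
      y.coeff m * z.coeff m := by
  simp

theorem coeff_comul [DecidableEq M] (y : MonoidAlgebra T M) (m : M) :
    LinearMap.mul' T T (TensorProduct.map (Coef.coeffLin m) (Coef.coeffLin m) (comul (R := T) y)) = y.coeff m := by
  induction y using MonoidAlgebra.induction_linear with
  | zero => simp
  | add a b ha hb => simp only [map_add, ha, hb, MonoidAlgebra.coeff_add, Finsupp.add_apply]
  | single k r =>
    simp only [MonoidAlgebra.comul_single, CommSemiring.comul_apply, TensorProduct.map_tmul,
      MonoidAlgebra.lsingle_apply, LinearMap.mul'_apply, Coef.coeffLin_apply, MonoidAlgebra.coeff_single]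
    by_cases hm : k = m
    · subst hm; simp
    · simp [Finsupp.single_eq_of_ne (Ne.symm hm)]

end Rigid

/-- **rigidity**: a homomorphism from a diagonalisable group congruent to the trivial one is trivial -/
theorem eq_counit_of_congr {T : Type u} [CommRing T] {M : Type u} [CommGroup M] {C : Type u} [CommRing C]
    [HopfAlgebra T C] [Algebra.FiniteType T C] (ψ : C →ₐc[T] MonoidAlgebra T M) {I₀ : Ideal T}
    (hI₀ : I₀ ≤ Ideal.jacobson ⊥)
    (h : ∀ c m, (ψ c - algebraMap T _ (counit (R := T) c)).coeff m ∈ I₀) (c : C) :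
    ψ c = algebraMap T _ (counit (R := T) c) := by
  classical
  obtain ⟨s, hs⟩ := ‹Algebra.FiniteType T C›.out
  let x : C →ₗ[T] MonoidAlgebra T M :=
    (ψ : C →ₐ[T] MonoidAlgebra T M).toLinearMap - Algebra.linearMap T _ ∘ₗ counit
  have hx : ∀ c, x c = ψ c - algebraMap T _ (counit (R := T) c) := fun _ => rfl
  let G : Finset T := s.biUnion fun d => (x d).coeff.support.image fun m => (x d).coeff m
  let I : Ideal T := Ideal.span (G : Set T)
  have hIfg : I.FG := ⟨G, rfl⟩
  have hIj : I ≤ Ideal.jacobson ⊥ := by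
    refine (Ideal.span_le.mpr fun t ht => ?_).trans hI₀
    simp only [G, Finset.coe_biUnion, Set.mem_iUnion, Finset.coe_image, Set.mem_image, Finset.mem_coe] at ht
    obtain ⟨d, -, m, -, rfl⟩ := ht
    rw [hx]
    exact h d m
  let P := RingHom.ker (MonoidAlgebra.mapRingHom M (Ideal.Quotient.mk I))
  have hxP : ∀ d, x d ∈ P := by
    intro d
    have hd : d ∈ Algebra.adjoin T (s : Set C) := by rw [hs]; trivial
    induction hd using Algebra.adjoin_induction with
    | mem y hy =>
      refine mem_ker_mapRingHom.mpr fun m => ?_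
      by_cases hm : m ∈ (x y).coeff.support
      · exact Ideal.subset_span (Finset.mem_biUnion.mpr ⟨y, hy, Finset.mem_image_of_mem _ hm⟩)
      · rw [Finsupp.notMem_support_iff.mp hm]
        exact zero_mem _
    | algebraMap r =>
      have : x (algebraMap T C r) = 0 := by
        rw [hx, AlgHomClass.commutes, Bialgebra.counit_algebraMap, sub_self]
      rw [this]; exact zero_mem _
    | add a b _ _ ha hb => rw [map_add]; exact add_mem ha hb
    | mul a b _ _ ha hb =>
      have : x (a * b) = x a * ψ b + algebraMap T _ (counit (R := T) a) * x b := by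
        rw [hx, hx, hx, map_mul, Bialgebra.counit_mul, map_mul]
        ring
      rw [this]
      exact add_mem (P.mul_mem_right _ ha) (P.mul_mem_left _ hb)
  have hsq : ∀ d m, (x d).coeff m ∈ I * I := by
    intro d m
    let repr := Coalgebra.Repr.arbitrary T d
    have hψ : ∀ y : C, ψ y = algebraMap T _ (counit (R := T) y) + x y := fun y => by rw [hx]; abel
    have h1 : ∑ i ∈ repr.index, ψ (repr.left i) ⊗ₜ[T] ψ (repr.right i) = comul (R := T) (ψ d) := by
      rw [← CoalgHomClass.map_comp_comul_apply, ← repr.eq, map_sum]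
      rfl
    have hsum : (∑ i ∈ repr.index, counit (R := T) (repr.left i) • x (repr.right i)) = x d := by
      conv_rhs => rw [← Coalgebra.sum_counit_smul repr]
      simp only [map_sum, map_smul]
    have hsum' : (∑ i ∈ repr.index, counit (R := T) (repr.right i) • x (repr.left i)) = x d := by
      have h := congrArg (TensorProduct.rid T C) (Coalgebra.sum_tmul_counit_eq repr)
      simp only [map_sum, TensorProduct.rid_tmul, one_smul] at h
      conv_rhs => rw [← h]
      simp only [map_sum, map_smul]
    have hsum0 : (∑ i ∈ repr.index, counit (R := T) (repr.left i) * counit (R := T) (repr.right i)) =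
        counit (R := T) d := by
      have := congrArg (counit (R := T)) (Coalgebra.sum_counit_smul repr)
      simpa only [map_sum, map_smul, smul_eq_mul] using this
    have h2 := congrArg (LinearMap.mul' T T ∘ₗ TensorProduct.map (Coef.coeffLin m) (Coef.coeffLin m)) h1
    simp only [LinearMap.comp_apply, coeff_comul, map_sum, coeff_sum_mul] at h2
    have h3 : ∀ i ∈ repr.index, (ψ (repr.left i)).coeff m * (ψ (repr.right i)).coeff m =
        (counit (R := T) (repr.left i) * counit (R := T) (repr.right i)) * ((1 : MonoidAlgebra T M).coeff m *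
          (1 : MonoidAlgebra T M).coeff m) +
        (1 : MonoidAlgebra T M).coeff m * ((counit (R := T) (repr.left i) • x (repr.right i)).coeff m) +
        (1 : MonoidAlgebra T M).coeff m * ((counit (R := T) (repr.right i) • x (repr.left i)).coeff m) +
        (x (repr.left i)).coeff m * (x (repr.right i)).coeff m := fun i _ => by
      rw [hψ, hψ, Algebra.algebraMap_eq_smul_one, Algebra.algebraMap_eq_smul_one, MonoidAlgebra.coeff_add,
        MonoidAlgebra.coeff_add, Finsupp.add_apply, Finsupp.add_apply]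
      simp only [MonoidAlgebra.coeff_smul, Finsupp.smul_apply, smul_eq_mul]
      ring
    rw [Finset.sum_congr rfl h3, Finset.sum_add_distrib, Finset.sum_add_distrib, Finset.sum_add_distrib,
      ← Finset.sum_mul, hsum0, ← Finset.mul_sum, ← Finset.mul_sum, ← Finsupp.finsetSum_apply,
      ← Finsupp.finsetSum_apply, ← MonoidAlgebra.coeff_sum, ← MonoidAlgebra.coeff_sum, hsum, hsum'] at h2
    rw [hψ, Algebra.algebraMap_eq_smul_one, MonoidAlgebra.coeff_add, Finsupp.add_apply,
      MonoidAlgebra.coeff_smul, Finsupp.smul_apply, smul_eq_mul] at h2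
    have hin : (∑ i ∈ repr.index, (x (repr.left i)).coeff m * (x (repr.right i)).coeff m) ∈ I * I :=
      sum_mem fun i _ => Ideal.mul_mem_mul (mem_ker_mapRingHom.mp (hxP _) m) (mem_ker_mapRingHom.mp (hxP _) m)
    rw [MonoidAlgebra.one_def, MonoidAlgebra.coeff_single] at h2
    by_cases hm : m = 1
    · subst hm
      rw [Finsupp.single_eq_same] at h2
      have : (x d).coeff 1 = -(∑ i ∈ repr.index, (x (repr.left i)).coeff 1 * (x (repr.right i)).coeff 1) := by
        linear_combination h2
      rw [this]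
      exact neg_mem hin
    · rw [Finsupp.single_eq_of_ne hm] at h2
      have : (x d).coeff m = ∑ i ∈ repr.index, (x (repr.left i)).coeff m * (x (repr.right i)).coeff m := by
        linear_combination -h2
      rw [this]
      exact hin
  have hI0 : I = ⊥ := Submodule.eq_bot_of_le_smul_of_le_jacobson_bot I I hIfg (by
    rw [Ideal.smul_eq_mul]
    refine Ideal.span_le.mpr fun t ht => ?_
    simp only [G, Finset.coe_biUnion, Set.mem_iUnion, Finset.coe_image, Set.mem_image, Finset.mem_coe] at ht
    obtain ⟨d, -, m, -, rfl⟩ := ht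
    exact hsq d m) hIj
  rw [← sub_eq_zero, ← hx]
  ext m
  have := mem_ker_mapRingHom.mp (hxP c) m
  rw [hI0, Ideal.mem_bot] at this
  simpa using this

/-! ### the kernel over a local base -/

section Core

variable {T : Type u} [CommRing T] {M : Type u} [CommGroup M] {B : Type u} [CommRing B] [HopfAlgebra T B]

/-- base change of a quotient to a field -/
def piK (π : MonoidAlgebra T M →ₐc[T] B) (K : Type u) [CommRing K] [Algebra T K] :
    MonoidAlgebra K M →ₐc[K] K ⊗[T] B :=
  (Bialgebra.TensorProduct.map (BialgHom.id K K) π).comp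
    ((Split.scalarBialgEquiv T K M).symm : MonoidAlgebra K M →ₐc[K] K ⊗[T] MonoidAlgebra T M)

theorem scalar_symm (K : Type u) [CommRing K] [Algebra T K] (m : M) (r : K) :
    (Split.scalarBialgEquiv T K M).symm (MonoidAlgebra.single m r) = r ⊗ₜ[T] MonoidAlgebra.single m 1 := by
  refine (Split.scalarBialgEquiv T K M).toAlgEquiv.injective ?_
  change (Split.scalarBialgEquiv T K M) ((Split.scalarBialgEquiv T K M).symm (MonoidAlgebra.single m r)) = (Split.scalarBialgEquiv T K M) _
  rw [show (Split.scalarBialgEquiv T K M) ((Split.scalarBialgEquiv T K M).symm (MonoidAlgebra.single m r)) =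
    MonoidAlgebra.single m r from (Split.scalarBialgEquiv T K M).toAlgEquiv.apply_symm_apply _]
  change _ = MonoidAlgebra.scalarTensorEquiv T K (r ⊗ₜ[T] MonoidAlgebra.single m (1 : T))
  simp

theorem piK_map (π : MonoidAlgebra T M →ₐc[T] B) (K : Type u) [CommRing K] [Algebra T K]
    (x : MonoidAlgebra T M) :
    piK π K (MonoidAlgebra.mapRingHom M (algebraMap T K) x) = (1 : K) ⊗ₜ[T] π x := by
  induction x using MonoidAlgebra.induction_linear with
  | zero => simp
  | add a b ha hb => simp only [map_add, ha, hb, TensorProduct.tmul_add]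
  | single m r =>
    rw [MonoidAlgebra.mapRingHom_single]
    change (Bialgebra.TensorProduct.map (BialgHom.id K K) π)
      ((Split.scalarBialgEquiv T K M).symm (MonoidAlgebra.single m (algebraMap T K r))) = _
    rw [scalar_symm]
    change algebraMap T K r ⊗ₜ[T] π (MonoidAlgebra.single m 1) = _
    rw [Algebra.algebraMap_eq_smul_one, TensorProduct.smul_tmul, ← map_smul]
    simp

theorem piK_surjective {π : MonoidAlgebra T M →ₐc[T] B} (hπ : Function.Surjective π) (K : Type u) [CommRing K]
    [Algebra T K] : Function.Surjective (piK π K) := by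
  intro y
  induction y using TensorProduct.induction_on with
  | zero => exact ⟨0, map_zero _⟩
  | add p q hp hq =>
    obtain ⟨a, rfl⟩ := hp
    obtain ⟨b, rfl⟩ := hq
    exact ⟨a + b, map_add _ _ _⟩
  | tmul r b =>
    obtain ⟨z, rfl⟩ := hπ b
    exact ⟨r • MonoidAlgebra.mapRingHom M (algebraMap T K) z, by
      rw [map_smul, piK_map, TensorProduct.smul_tmul', smul_eq_mul, mul_one]⟩

theorem piK_eq_zero {π : MonoidAlgebra T M →ₐc[T] B} (hπ : Function.Surjective π) (K : Type u) [CommRing K]
    [Algebra T K] {z : MonoidAlgebra K M} (hz : piK π K z = 0) :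
    z ∈ (RingHom.ker (π : MonoidAlgebra T M →ₐ[T] B)).map (MonoidAlgebra.mapRingHom M (algebraMap T K)) := by
  have h1 : (Split.scalarBialgEquiv T K M).symm z ∈
      RingHom.ker (Algebra.TensorProduct.map (AlgHom.id T K) (π : MonoidAlgebra T M →ₐ[T] B)) := hz
  rw [Algebra.TensorProduct.lTensor_ker _ hπ] at h1
  have h2 := Ideal.mem_map_of_mem (Split.scalarBialgEquiv T K M).toAlgEquiv.toRingEquiv.toRingHom h1
  erw [Ideal.map_map] at h2
  rw [show (Split.scalarBialgEquiv T K M).toAlgEquiv.toRingEquiv.toRingHom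
    ((Split.scalarBialgEquiv T K M).symm z) = z from
      (Split.scalarBialgEquiv T K M).toAlgEquiv.apply_symm_apply z] at h2
  suffices heq : ((Split.scalarBialgEquiv T K M).toAlgEquiv.toRingEquiv.toRingHom).comp
      (Algebra.TensorProduct.includeRight : MonoidAlgebra T M →ₐ[T] K ⊗[T] MonoidAlgebra T M).toRingHom =
      MonoidAlgebra.mapRingHom M (algebraMap T K) by
    rw [← heq]
    exact h2
  refine RingHom.ext fun x => ?_
  induction x using MonoidAlgebra.induction_linear with
  | zero => simp
  | add a b ha hb => rw [map_add, map_add, ha, hb]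
  | single m r =>
    change MonoidAlgebra.scalarTensorEquiv T K ((1 : K) ⊗ₜ[T] MonoidAlgebra.single m r) = _
    simp [Algebra.algebraMap_eq_smul_one]

theorem coeff_mem_of_map_eq_zero {K : Type u} [CommRing K] [Algebra T K] {x : MonoidAlgebra T M}
    (h : MonoidAlgebra.mapRingHom M (algebraMap T K) x = 0) (m : M) :
    x.coeff m ∈ RingHom.ker (algebraMap T K) := by
  simpa using congrArg (fun w => w.coeff m) h

theorem mapDomain_mapRingHom {K : Type u} [CommRing K] [Algebra T K] {N : Type u} [CommGroup N] (f : M →* N)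
    (x : MonoidAlgebra T M) :
    MonoidAlgebra.mapDomainBialgHom K f (MonoidAlgebra.mapRingHom M (algebraMap T K) x) =
      MonoidAlgebra.mapRingHom N (algebraMap T K) (MonoidAlgebra.mapDomainBialgHom T f x) := by
  induction x using MonoidAlgebra.induction_linear with
  | zero => simp
  | add a b ha hb => simp only [map_add, ha, hb]
  | single m r => simp [MonoidAlgebra.mapDomainBialgHom]

theorem kills_of_field [IsLocalRing T] {C : Type u} [CommRing C] [HopfAlgebra T C] [Algebra.FiniteType T C]
    (ψ : C →ₐc[T] MonoidAlgebra T M) (π : MonoidAlgebra T M →ₐc[T] B) (hπ : Function.Surjective π)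
    (hker : ∀ c, counit (R := T) c = 0 → π (ψ c) = 0) (K : Type u) [Field K] [Algebra T K] (c : C)
    (hc : counit (R := T) c = 0) :
    MonoidAlgebra.mapRingHom (M ⧸ kerGrp (piK π K)) (algebraMap T K)
      (MonoidAlgebra.mapDomainBialgHom T (QuotientGroup.mk' _) (ψ c)) = 0 := by
  rw [← mapDomain_mapRingHom, ← ker_of_field _ (piK_surjective hπ K), piK_map, hker c hc, TensorProduct.tmul_zero]

end Core

theorem subgroup_fg {M : Type u} [CommGroup M] [Group.FG M] (N : Subgroup M) : N.FG := by
  haveI : AddGroup.FG (Additive M) := GroupFG.iff_add_fg.mp inferInstance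
  haveI : Module.Finite ℤ (Additive M) := Module.Finite.iff_addGroup_fg.mpr inferInstance
  rw [Subgroup.fg_iff_add_fg]
  have h : N.toAddSubgroup.toIntSubmodule.FG := IsNoetherian.noetherian _
  exact (Submodule.fg_iff_addSubgroup_fg _).mp h

/-- an ideal equal to another modulo each of its primes, both meeting the scalar ideals trivially, is equal -/
theorem le_of_nakayama {A : Type u} [CommRing A] {J Q : Ideal A} (hJQ : J ≤ Q) (hQ : Q.FG)
    (h : ∀ (P : Ideal A) [P.IsMaximal], ∃ E : Ideal A, E ≤ P ∧ Q ⊓ E ≤ P * Q ∧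
      Q.map (algebraMap A (Localization.AtPrime P)) ≤ (J ⊔ E).map (algebraMap A (Localization.AtPrime P))) :
    Q ≤ J := by
  refine Ideal.le_of_localization_maximal fun P hP => ?_
  obtain ⟨E, hEP, hQE, hle⟩ := h P
  let L := Localization.AtPrime P
  let f := algebraMap A L
  refine Submodule.le_of_le_smul_of_le_jacobson_bot (I := P.map f) (hQ.map f) ?_ ?_
  · refine le_trans ?_ (IsLocalRing.maximalIdeal_le_jacobson _)
    rw [Localization.AtPrime.map_eq_maximalIdeal]
  · intro x hx
    have hx' := hle hx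
    rw [Ideal.map_sup, Submodule.mem_sup] at hx'
    obtain ⟨j, hj, y, hy, rfl⟩ := hx'
    have hyQ : y ∈ Q.map f := by
      have : y = (j + y) - j := by ring
      rw [this]
      exact sub_mem hx (Ideal.map_mono hJQ hj)
    refine Submodule.add_mem_sup hj ?_
    obtain ⟨⟨a, s⟩, ha⟩ := (IsLocalization.mem_map_algebraMap_iff P.primeCompl L).mp hyQ
    obtain ⟨⟨b, t⟩, hb⟩ := (IsLocalization.mem_map_algebraMap_iff P.primeCompl L).mp hy
    dsimp only at ha hb
    have hab : f ((t : A) * a) = f ((s : A) * b) := by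
      rw [map_mul, map_mul, ← ha, ← hb]; ring
    obtain ⟨c, hc⟩ := (IsLocalization.eq_iff_exists P.primeCompl L).mp hab
    have hmem : (c : A) * ((t : A) * a) ∈ P * Q :=
      hQE ⟨Ideal.mul_mem_left _ _ (Ideal.mul_mem_left _ _ a.2), by
        rw [hc]; exact Ideal.mul_mem_left _ _ (Ideal.mul_mem_left _ _ b.2)⟩
    have h2 := Ideal.mem_map_of_mem f hmem
    rw [Ideal.map_mul, map_mul, map_mul, ← ha] at h2
    rw [Ideal.smul_eq_mul]
    have hu : IsUnit (f (c : A) * (f (t : A) * f (s : A))) :=
      (IsLocalization.map_units L c).mul ((IsLocalization.map_units L t).mul (IsLocalization.map_units L s))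
    rw [show f (c : A) * (f (t : A) * (y * f (s : A))) = (f (c : A) * (f (t : A) * f (s : A))) * y by ring] at h2
    exact (Ideal.unit_mul_mem_iff_mem _ hu).mp h2

/-- vanishing on the fibre at a prime gives vanishing on the closed fibre -/
theorem mapRing_zero_of_mem {T : Type u} [CommRing T] [IsLocalRing T] {M : Type u} [CommGroup M] (q : Ideal T)
    [q.IsPrime] {x : MonoidAlgebra T M}
    (h : MonoidAlgebra.mapRingHom M (algebraMap T q.ResidueField) x = 0) :
    MonoidAlgebra.mapRingHom M (algebraMap T (IsLocalRing.ResidueField T)) x = 0 := by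
  ext m
  have h1 := coeff_mem_of_map_eq_zero h m
  rw [Ideal.ker_algebraMap_residueField] at h1
  have h2 : x.coeff m ∈ IsLocalRing.maximalIdeal T := IsLocalRing.le_maximalIdeal (Ideal.IsPrime.ne_top') h1
  simpa using (IsLocalRing.residue_eq_zero_iff _).mpr h2

theorem map_map_le {A B C : Type u} [CommRing A] [CommRing B] [CommRing C] {F G : Type*} [FunLike F A B]
    [RingHomClass F A B] [FunLike G B C] [RingHomClass G B C] (f : F) (g : G) {I : Ideal A} {K : Ideal C}
    (h : ∀ a ∈ I, g (f a) ∈ K) : (I.map f).map g ≤ K :=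
  Ideal.map_le_iff_le_comap.mpr (Ideal.map_le_iff_le_comap.mpr h)

/-- the subgroup of the closed fibre lies in that of every fibre -/
theorem kerGrp_le {T : Type u} [CommRing T] [IsLocalRing T] {M : Type u} [CommGroup M]
    {B : Type u} [CommRing B] [HopfAlgebra T B] {C : Type u} [CommRing C] [HopfAlgebra T C]
    [Algebra.FiniteType T C] (ψ : C →ₐc[T] MonoidAlgebra T M) (π : MonoidAlgebra T M →ₐc[T] B)
    (hπ : Function.Surjective π)
    (hker : RingHom.ker (π : MonoidAlgebra T M →ₐ[T] B) =
      Ideal.map ψ (RingHom.ker (Bialgebra.counitAlgHom T C))) (q : Ideal T) [q.IsPrime] :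
    kerGrp (piK π (IsLocalRing.ResidueField T)) ≤ kerGrp (piK π q.ResidueField) := by
  intro n hn
  let H := kerGrp (piK π q.ResidueField)
  let ηK : MonoidAlgebra (IsLocalRing.ResidueField T) M →ₐ[IsLocalRing.ResidueField T]
      MonoidAlgebra (IsLocalRing.ResidueField T) (M ⧸ H) :=
    (MonoidAlgebra.mapDomainBialgHom (IsLocalRing.ResidueField T) (QuotientGroup.mk' H) : _ →ₐc[_] _)
  have hmem : MonoidAlgebra.single n (1 : IsLocalRing.ResidueField T) - 1 ∈
      (RingHom.ker (π : MonoidAlgebra T M →ₐ[T] B)).map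
        (MonoidAlgebra.mapRingHom M (algebraMap T (IsLocalRing.ResidueField T))) :=
    piK_eq_zero hπ _ (by rw [map_sub, mem_kerGrp.mp hn, map_one, sub_self])
  rw [hker] at hmem
  have hz : MonoidAlgebra.single n (1 : IsLocalRing.ResidueField T) - 1 ∈ RingHom.ker ηK := by
    refine map_map_le ψ _ (fun c hc => ?_) hmem
    change ηK (MonoidAlgebra.mapRingHom M _ (ψ c)) = 0
    refine (mapDomain_mapRingHom _ _).trans (mapRing_zero_of_mem q ?_)
    refine kills_of_field ψ π hπ (fun d hd => ?_) q.ResidueField c hc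
    have : ψ d ∈ RingHom.ker (π : MonoidAlgebra T M →ₐ[T] B) := by
      rw [hker]; exact Ideal.mem_map_of_mem ψ hd
    exact this
  rw [RingHom.mem_ker, map_sub, map_one, sub_eq_zero] at hz
  by_contra hne
  have hne' : (QuotientGroup.mk n : M ⧸ H) ≠ 1 := fun h => hne ((QuotientGroup.eq_one_iff n).mp h)
  have h3 := congrArg (fun w => w.coeff (1 : M ⧸ H)) hz
  simp [ηK, MonoidAlgebra.mapDomainBialgHom, MonoidAlgebra.one_def, Finsupp.single_apply, hne'] at h3

theorem exists_quot_kills {T : Type u} [CommRing T] [IsLocalRing T] {M : Type u} [CommGroup M]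
    {B : Type u} [CommRing B] [HopfAlgebra T B] {C : Type u} [CommRing C] [HopfAlgebra T C]
    [Algebra.FiniteType T C] (ψ : C →ₐc[T] MonoidAlgebra T M) (π : MonoidAlgebra T M →ₐc[T] B)
    (hπ : Function.Surjective π)
    (hker : RingHom.ker (π : MonoidAlgebra T M →ₐ[T] B) =
      Ideal.map ψ (RingHom.ker (Bialgebra.counitAlgHom T C))) :
    ∃ N : Subgroup M, (∀ c, counit (R := T) c = 0 → MonoidAlgebra.mapDomainBialgHom T (QuotientGroup.mk' N) (ψ c) = 0)
      ∧ ∀ n ∈ N, ∀ (q : Ideal T) [q.IsPrime], MonoidAlgebra.single n (1 : q.ResidueField) - 1 ∈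
        (RingHom.ker (π : MonoidAlgebra T M →ₐ[T] B)).map (MonoidAlgebra.mapRingHom M (algebraMap T q.ResidueField)) := by
  have hk : ∀ c, counit (R := T) c = 0 → π (ψ c) = 0 := fun c hc => by
    have : ψ c ∈ RingHom.ker (π : MonoidAlgebra T M →ₐ[T] B) := by
      rw [hker]; exact Ideal.mem_map_of_mem ψ hc
    exact this
  have triv : ∀ (K : Type u) [Field K] [Algebra T K] (c : C), counit (R := T) c = 0 →
      MonoidAlgebra.mapDomainBialgHom T (QuotientGroup.mk' (kerGrp (piK π K))) (ψ c) ∈
        RingHom.ker (MonoidAlgebra.mapRingHom (M ⧸ kerGrp (piK π K)) (algebraMap T K)) :=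
    fun K _ _ c hc => kills_of_field ψ π hπ hk K c hc
  let K₀ := IsLocalRing.ResidueField T
  refine ⟨kerGrp (piK π K₀), fun c hc => ?_, fun n hn q _ => ?_⟩
  · let χ := (MonoidAlgebra.mapDomainBialgHom T (QuotientGroup.mk' (kerGrp (piK π K₀)))).comp ψ
    have h := eq_counit_of_congr χ (IsLocalRing.maximalIdeal_le_jacobson ⊥) (fun d m => ?_) c
    · change χ c = 0
      rw [h, hc, map_zero]
    · have h0 : counit (R := T) (d - algebraMap T C (counit d)) = 0 := by simp
      have h1 := coeff_mem_of_map_eq_zero (triv K₀ _ h0) m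
      rw [IsLocalRing.ResidueField.algebraMap_eq, IsLocalRing.ker_residue, map_sub, map_sub,
        AlgHomClass.commutes, AlgHomClass.commutes] at h1
      exact h1
  · exact piK_eq_zero hπ _ (by rw [map_sub, mem_kerGrp.mp (kerGrp_le ψ π hπ hker q hn), map_one, sub_self])

/-- `T[M] → T[M/N]` has the kernel generated by the `n - 1` -/
theorem ker_mapDomain_le {T : Type u} [CommRing T] {M : Type u} [CommGroup M] (N : Subgroup M) (S : Set M)
    (hS : Subgroup.closure S = N) (z : MonoidAlgebra T M)
    (hz : MonoidAlgebra.mapDomainBialgHom T (QuotientGroup.mk' N) z = 0) :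
    z ∈ Ideal.span ((fun n => MonoidAlgebra.single n (1 : T) - 1) '' S) := by
  set Q := Ideal.span ((fun n => MonoidAlgebra.single n (1 : T) - 1) '' S)
  let g : M →* MonoidAlgebra T M ⧸ Q := (Ideal.Quotient.mk Q : _ →* _).comp (MonoidAlgebra.of T M)
  have hg : N ≤ g.toHomUnits.ker := by
    rw [← hS, Subgroup.closure_le]
    intro n hn
    refine MonoidHom.mem_ker.mpr (Units.ext ?_)
    change Ideal.Quotient.mk Q (MonoidAlgebra.single n 1) = 1
    rw [← map_one (Ideal.Quotient.mk Q), Ideal.Quotient.eq]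
    exact Ideal.subset_span ⟨n, hn, rfl⟩
  let Φ : MonoidAlgebra T (M ⧸ N) →ₐ[T] MonoidAlgebra T M ⧸ Q :=
    MonoidAlgebra.lift T _ (M ⧸ N) ((Units.coeHom _).comp (QuotientGroup.lift N g.toHomUnits hg))
  have h : ∀ w, Φ (MonoidAlgebra.mapDomainBialgHom T (QuotientGroup.mk' N) w) = Ideal.Quotient.mkₐ T Q w := by
    intro w
    induction w using MonoidAlgebra.induction_linear with
    | zero => simp
    | add a b ha hb => simp only [map_add, ha, hb]
    | single m r =>
      rw [show MonoidAlgebra.single m r = r • MonoidAlgebra.single m (1 : T) by simp, map_smul, map_smul,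
        map_smul]
      congr 1
      simp [Φ, MonoidAlgebra.mapDomainBialgHom, g]
  have := h z
  rw [hz, map_zero] at this
  exact Ideal.Quotient.eq_zero_iff_mem.mp this.symm

theorem inf_le_mul {T : Type u} [CommRing T] {M : Type u} [CommGroup M] (N : Subgroup M) (q : Ideal T)
    (P : Ideal (MonoidAlgebra T M)) (hqP : q.map (algebraMap T (MonoidAlgebra T M)) ≤ P) :
    RingHom.ker (MonoidAlgebra.mapDomainBialgHom T (QuotientGroup.mk' N) :
        MonoidAlgebra T M →ₐ[T] MonoidAlgebra T (M ⧸ N)) ⊓ q.map (algebraMap T (MonoidAlgebra T M)) ≤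
      P * RingHom.ker (MonoidAlgebra.mapDomainBialgHom T (QuotientGroup.mk' N) :
        MonoidAlgebra T M →ₐ[T] MonoidAlgebra T (M ⧸ N)) := by
  set η := (MonoidAlgebra.mapDomainBialgHom T (QuotientGroup.mk' N) : MonoidAlgebra T M →ₐ[T] MonoidAlgebra T (M ⧸ N))
  let σ : MonoidAlgebra T (M ⧸ N) →ₗ[T] MonoidAlgebra T M :=
    (MonoidAlgebra.basis (M ⧸ N) T).constr T fun x => MonoidAlgebra.single (Quotient.out x) 1
  have hσ : ∀ w, η (σ w) = w := by
    intro w
    have : η.toLinearMap ∘ₗ σ = LinearMap.id := by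
      refine (MonoidAlgebra.basis (M ⧸ N) T).ext fun x => ?_
      simp only [σ, LinearMap.comp_apply, Module.Basis.constr_basis, LinearMap.id_apply, AlgHom.toLinearMap_apply]
      simp [η, MonoidAlgebra.mapDomainBialgHom, QuotientGroup.mk]
    exact LinearMap.congr_fun this w
  let Pr : MonoidAlgebra T M →ₗ[T] MonoidAlgebra T M := LinearMap.id - σ ∘ₗ η.toLinearMap
  rintro y ⟨hy, hyq⟩
  have h1 : Pr y = y := by simp [Pr, show η y = 0 from hy]
  rw [← h1]
  have h2 : y ∈ q • (⊤ : Submodule T (MonoidAlgebra T M)) := by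
    rw [Ideal.smul_top_eq_map]; exact hyq
  refine Submodule.smul_induction_on h2 (fun r hr w _ => ?_) fun a b ha hb => ?_
  · rw [map_smul, Algebra.smul_def]
    refine Ideal.mul_mem_mul (hqP (Ideal.mem_map_of_mem _ hr)) ?_
    change η (Pr w) = 0
    simp [Pr, hσ]
  · rw [map_add]; exact add_mem ha hb

/-- a homomorphism on `T[M]` factoring through `κ(q)[M]` -/
theorem eq_zero_of_residue {T : Type u} [CommRing T] {M : Type u} [CommGroup M] {S : Type u} [CommRing S]
    (g : MonoidAlgebra T M →+* S) (J : Ideal (MonoidAlgebra T M)) (hJ : ∀ x ∈ J, g x = 0)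
    (q : Ideal T) [q.IsPrime] (hk1 : q ≤ RingHom.ker (g.comp (algebraMap T (MonoidAlgebra T M))))
    (hk2 : q.primeCompl ≤ (IsUnit.submonoid S).comap (g.comp (algebraMap T (MonoidAlgebra T M)))) {y : MonoidAlgebra T M}
    (h : MonoidAlgebra.mapRingHom M (algebraMap T q.ResidueField) y ∈
      J.map (MonoidAlgebra.mapRingHom M (algebraMap T q.ResidueField))) :
    g y = 0 := by
  let fK : q.ResidueField →+* S :=
    Ideal.ResidueField.lift q (g.comp (algebraMap T (MonoidAlgebra T M))) hk1 hk2
  let fM : M →* S := (g : MonoidAlgebra T M →* S).comp (MonoidAlgebra.of T M)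
  let Θ : MonoidAlgebra q.ResidueField M →+* S := MonoidAlgebra.liftNCRingHom fK fM fun _ _ => Commute.all _ _
  have hΘ : ∀ x, Θ (MonoidAlgebra.mapRingHom M (algebraMap T q.ResidueField) x) = g x := by
    intro x
    induction x using MonoidAlgebra.induction_linear with
    | zero => simp
    | add a b ha hb => simp only [map_add, ha, hb]
    | single m r =>
      rw [MonoidAlgebra.mapRingHom_single]
      refine (MonoidAlgebra.liftNC_single _ _ _ _).trans ?_
      change fK (algebraMap T q.ResidueField r) * g (MonoidAlgebra.single m 1) = _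
      rw [show fK (algebraMap T q.ResidueField r) = g (algebraMap T _ r) from
        Ideal.ResidueField.lift_algebraMap q _ hk1 hk2 r, ← map_mul]
      congr 1
      simp [MonoidAlgebra.coe_algebraMap]
  have hle : J.map (MonoidAlgebra.mapRingHom M (algebraMap T q.ResidueField)) ≤ RingHom.ker Θ := by
    rw [Ideal.map_le_iff_le_comap]
    exact fun x hx => (hΘ x).trans (hJ x hx)
  exact (hΘ y).symm.trans (hle h)

/-- membership over the residue field gives membership in the local ring modulo the scalars -/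
theorem mem_localization {T : Type u} [CommRing T] {M : Type u} [CommGroup M] (J : Ideal (MonoidAlgebra T M))
    {L : Type u} [CommRing L] (φ : MonoidAlgebra T M →+* L)
    (q : Ideal T) [q.IsPrime] (hφ : ∀ r ∉ q, IsUnit (φ (algebraMap T (MonoidAlgebra T M) r))) {n : M}
    (h : MonoidAlgebra.single n (1 : q.ResidueField) - 1 ∈
      J.map (MonoidAlgebra.mapRingHom M (algebraMap T q.ResidueField))) :
    φ (MonoidAlgebra.single n 1 - 1) ∈ (J ⊔ q.map (algebraMap T (MonoidAlgebra T M))).map φ := by
  let E : Ideal (MonoidAlgebra T M) := J ⊔ q.map (algebraMap T (MonoidAlgebra T M))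
  let g : MonoidAlgebra T M →+* L ⧸ E.map φ := (Ideal.Quotient.mk (E.map φ)).comp φ
  have hJ : ∀ x ∈ J, g x = 0 := fun x hx =>
    Ideal.Quotient.eq_zero_iff_mem.mpr (Ideal.mem_map_of_mem φ (Ideal.mem_sup_left hx))
  have hk1 : q ≤ RingHom.ker (g.comp (algebraMap T (MonoidAlgebra T M))) := fun r hr =>
    Ideal.Quotient.eq_zero_iff_mem.mpr
      (Ideal.mem_map_of_mem φ (Ideal.mem_sup_right (Ideal.mem_map_of_mem (algebraMap T (MonoidAlgebra T M)) hr)))
  have hk2 : q.primeCompl ≤
      (IsUnit.submonoid (L ⧸ E.map φ)).comap (g.comp (algebraMap T (MonoidAlgebra T M))) :=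
    fun r hr => (hφ r hr).map (Ideal.Quotient.mk (E.map φ))
  refine Ideal.Quotient.eq_zero_iff_mem.mp (eq_zero_of_residue g J hJ q hk1 hk2
    (y := MonoidAlgebra.single n 1 - 1) ?_)
  rwa [map_sub, map_one, MonoidAlgebra.mapRingHom_single, map_one]

/-- **the kernel of a homomorphism out of a diagonalisable group over a local ring is diagonalisable** -/
theorem isDiag_kernel {T : Type u} [CommRing T] [IsLocalRing T] {M : Type u} [CommGroup M] [Group.FG M]
    {B : Type u} [CommRing B] [HopfAlgebra T B] {C : Type u} [CommRing C] [HopfAlgebra T C]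
    [Algebra.FiniteType T C] (ψ : C →ₐc[T] MonoidAlgebra T M) (π : MonoidAlgebra T M →ₐc[T] B)
    (hπ : Function.Surjective π)
    (hker : RingHom.ker (π : MonoidAlgebra T M →ₐ[T] B) =
      Ideal.map ψ (RingHom.ker (Bialgebra.counitAlgHom T C))) :
    SGA3b.IsDiag T B := by
  classical
  obtain ⟨N, hJQ, hgen⟩ := exists_quot_kills ψ π hπ hker
  set η := (MonoidAlgebra.mapDomainBialgHom T (QuotientGroup.mk' N))
  set J := RingHom.ker (π : MonoidAlgebra T M →ₐ[T] B) with hJ
  set Q := RingHom.ker (η : MonoidAlgebra T M →ₐ[T] MonoidAlgebra T (M ⧸ N))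
  obtain ⟨S, hS⟩ := subgroup_fg N
  have hQle : Q ≤ Ideal.span ((fun n => MonoidAlgebra.single n (1 : T) - 1) '' (S : Set M)) :=
    fun z hz => ker_mapDomain_le N _ hS z hz
  have hSN : ∀ n ∈ S, n ∈ N := fun n hn => hS ▸ Subgroup.subset_closure hn
  have hQeq : Q = Ideal.span ((fun n => MonoidAlgebra.single n (1 : T) - 1) '' (S : Set M)) := by
    refine le_antisymm hQle (Ideal.span_le.mpr ?_)
    rintro _ ⟨n, hn, rfl⟩
    change η (MonoidAlgebra.single n (1 : T) - 1) = 0
    rw [map_sub, map_one]
    have : (QuotientGroup.mk n : M ⧸ N) = 1 := (QuotientGroup.eq_one_iff n).mpr (hSN n hn)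
    simp [η, MonoidAlgebra.mapDomainBialgHom, this, MonoidAlgebra.one_def]
  have hJleQ : J ≤ Q := by
    rw [hker, Ideal.map_le_iff_le_comap]
    exact fun c hc => hJQ c hc
  have hQJ : Q ≤ J := by
    refine le_of_nakayama hJleQ ?_ fun P _ => ?_
    · rw [hQeq]; exact ⟨S.image fun n => MonoidAlgebra.single n (1 : T) - 1, by rw [Finset.coe_image]⟩
    let q := P.comap (algebraMap T (MonoidAlgebra T M))
    haveI : q.IsPrime := Ideal.IsPrime.comap _
    let E := q.map (algebraMap T (MonoidAlgebra T M))
    refine ⟨E, Ideal.map_comap_le, inf_le_mul N q P Ideal.map_comap_le, ?_⟩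
    rw [hQeq, Ideal.map_span, Ideal.span_le]
    rintro _ ⟨_, ⟨n, hn, rfl⟩, rfl⟩
    exact mem_localization J (algebraMap (MonoidAlgebra T M) (Localization.AtPrime P)) q
      (fun r hr => IsLocalization.map_units (Localization.AtPrime P)
        (⟨algebraMap T (MonoidAlgebra T M) r, hr⟩ : P.primeCompl)) (hgen n (hSN n hn) q)
  have heq : J = Q := le_antisymm hJleQ hQJ
  have hiff : ∀ z, π z = 0 → η z = 0 := fun z hz => by
    have : z ∈ J := hz
    rwa [heq] at this
  obtain ⟨F, hF⟩ := OpenSub.exists_factor π hπ η hiff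
  have hinj : Function.Injective F := by
    rw [injective_iff_map_eq_zero]
    intro b hb
    obtain ⟨z, rfl⟩ := hπ b
    rw [hF] at hb
    have : z ∈ Q := hb
    rw [← heq] at this
    exact this
  have hsurj : Function.Surjective F := fun w => by
    obtain ⟨z, rfl⟩ : ∃ z, η z = w := by
      induction w using MonoidAlgebra.induction_linear with
      | zero => exact ⟨0, map_zero _⟩
      | add a b ha hb =>
        obtain ⟨a, rfl⟩ := ha
        obtain ⟨b, rfl⟩ := hb
        exact ⟨a + b, map_add _ _ _⟩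
      | single x r =>
        obtain ⟨m, rfl⟩ := QuotientGroup.mk_surjective x
        exact ⟨MonoidAlgebra.single m r, by simp [η, MonoidAlgebra.mapDomainBialgHom]⟩
    exact ⟨π z, hF z⟩
  exact ⟨M ⧸ N, inferInstance, ⟨BialgEquiv.ofBijective F ⟨hinj, hsurj⟩⟩⟩

/-- a split faithfully flat local extension of a local ring -/
theorem exists_local_split {R : Type u} [CommRing R] {A : Type u} [CommRing A] [HopfAlgebra R A]
    (hA : SGA3b.IsMultType R A) (W : Type u) [CommRing W] [IsLocalRing W] [Algebra R W] :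
    ∃ (U : Type u) (_ : CommRing U) (_ : IsLocalRing U) (_ : Algebra W U) (_ : Algebra R U),
      IsScalarTower R W U ∧ Module.FaithfullyFlat W U ∧
      ∃ (M : Type u) (_ : CommGroup M), Nonempty (U ⊗[R] A ≃ₐc[U] MonoidAlgebra U M) := by
  obtain ⟨ι, _, T, _, _, hff, hM⟩ := Integral.exists_split_family hA
  classical
  let p := (IsLocalRing.maximalIdeal W).comap (algebraMap R W)
  haveI : p.IsPrime := Ideal.IsPrime.comap _
  obtain ⟨P, hP⟩ := PrimeSpectrum.comap_surjective_of_faithfullyFlat (A := W) (B := W ⊗[R] (∀ i, T i))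
    (IsLocalRing.closedPoint W)
  let e : (W ⊗[R] (∀ i, T i)) ≃ₐ[W] ∀ i, W ⊗[R] T i := Algebra.TensorProduct.piRight R W W T
  obtain ⟨⟨i, q⟩, hq⟩ : ∃ x : Σ i, PrimeSpectrum (W ⊗[R] T i),
      PrimeSpectrum.sigmaToPi (fun i => W ⊗[R] T i) x =
        PrimeSpectrum.comap (e.symm : _ →+* W ⊗[R] (∀ i, T i)) P :=
    (PrimeSpectrum.sigmaToPi_bijective (fun i => W ⊗[R] T i)).2 _
  obtain ⟨M, _, ⟨eM⟩⟩ := hM i
  haveI : Module.Flat R (T i) :=
    Module.Flat.of_retract (LinearMap.single R T i) (LinearMap.proj i) (by ext x; simp)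
  let U := Localization.AtPrime q.asIdeal
  haveI : Module.Flat W U :=
    haveI : Module.Flat (W ⊗[R] T i) U := IsLocalization.flat U q.asIdeal.primeCompl
    Module.Flat.trans W (W ⊗[R] T i) U
  have hqc : q.asIdeal.comap (algebraMap W (W ⊗[R] T i)) = IsLocalRing.maximalIdeal W := by
    have h1 := congrArg (fun x => Ideal.comap (algebraMap W (∀ i, W ⊗[R] T i)) (PrimeSpectrum.asIdeal x)) hq
    have h2 := congrArg PrimeSpectrum.asIdeal hP
    simp only [PrimeSpectrum.comap_asIdeal] at h1 h2
    rw [Ideal.comap_comap, show (e.symm : _ →+* W ⊗[R] (∀ i, T i)).comp (algebraMap W (∀ i, W ⊗[R] T i)) =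
      algebraMap W (W ⊗[R] (∀ i, T i)) from RingHom.ext fun w => e.symm.commutes w, h2] at h1
    exact h1
  haveI : IsLocalHom (algebraMap W U) := by
    refine ⟨fun w hw => ?_⟩
    by_contra hns
    have h1 : algebraMap W (W ⊗[R] T i) w ∈ q.asIdeal := by
      rw [← Ideal.mem_comap, hqc]
      exact hns
    rw [IsScalarTower.algebraMap_apply W (W ⊗[R] T i) U] at hw
    exact ((IsLocalization.AtPrime.isUnit_to_map_iff U q.asIdeal _).mp hw) h1
  haveI : Module.FaithfullyFlat W U := Module.FaithfullyFlat.of_flat_of_isLocalHom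
  let g : T i →ₐ[R] U :=
    (IsScalarTower.toAlgHom R (W ⊗[R] T i) U).comp Algebra.TensorProduct.includeRight
  exact ⟨U, inferInstance, inferInstance, inferInstance, inferInstance, inferInstance, inferInstance, M,
    inferInstance, ⟨GLLift.extend eM g⟩⟩

/-- the kernel after a base change is generated by the augmentation ideal -/
theorem ker_projBC {R : Type u} [CommRing R] {A : Type u} [CommRing A] [HopfAlgebra R A] {C : Type u} [CommRing C]
    [HopfAlgebra R C] (φ : C →ₐc[R] A) (J : Ideal A) [J.IsHopfIdeal R]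
    (hJ : J = Ideal.map φ (RingHom.ker (Bialgebra.counitAlgHom R C))) (U : Type u) [CommRing U] [Algebra R U] :
    RingHom.ker (KerPow.projBC (R := R) J U : U ⊗[R] A →ₐ[U] U ⊗[R] (A ⧸ J)) =
      Ideal.map (Bialgebra.TensorProduct.map (BialgHom.id U U) φ : U ⊗[R] C →ₐc[U] U ⊗[R] A)
        (RingHom.ker (Bialgebra.counitAlgHom U (U ⊗[R] C))) := by
  set φU := (Bialgebra.TensorProduct.map (BialgHom.id U U) φ : U ⊗[R] C →ₐc[U] U ⊗[R] A) with hφU
  refine le_antisymm ?_ ?_
  · have h : RingHom.ker (KerPow.projBC (R := R) J U : U ⊗[R] A →ₐ[U] U ⊗[R] (A ⧸ J)) =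
        J.map (Algebra.TensorProduct.includeRight : A →ₐ[R] U ⊗[R] A) :=
      (Algebra.TensorProduct.lTensor_ker (Ideal.Quotient.mkₐ R J) Ideal.Quotient.mk_surjective).trans
        (congrArg (Ideal.map _) (Ideal.Quotient.mkₐ_ker R J))
    rw [h, hJ]
    refine map_map_le φ _ fun c hc => ?_
    have hc' : (1 : U) ⊗ₜ[R] c ∈ RingHom.ker (Bialgebra.counitAlgHom U (U ⊗[R] C)) := by
      change counit (R := U) ((1 : U) ⊗ₜ[R] c) = 0
      rw [TensorProduct.counit_tmul, show counit (R := R) c = 0 from hc, zero_smul]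
    exact Ideal.mem_map_of_mem φU hc'
  · refine Ideal.map_le_iff_le_comap.mpr fun z hz => ?_
    have key : (KerPow.projBC (R := R) J U : U ⊗[R] A →ₐ[U] U ⊗[R] (A ⧸ J)).comp (φU : U ⊗[R] C →ₐ[U] U ⊗[R] A) =
        (Algebra.ofId U _).comp (Bialgebra.counitAlgHom U (U ⊗[R] C)) := by
      refine Sq.eq_of_one_tmul fun c => ?_
      change (1 : U) ⊗ₜ[R] Ideal.Quotient.mk J (φ c) = algebraMap U _ (counit (R := U) ((1 : U) ⊗ₜ[R] c))
      have h1 : Ideal.Quotient.mk J (φ c) = algebraMap R (A ⧸ J) (counit (R := R) c) := by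
        rw [← Ideal.Quotient.mk_algebraMap, Ideal.Quotient.eq, ← AlgHomClass.commutes φ, ← map_sub, hJ]
        exact Ideal.mem_map_of_mem φ (by simp [RingHom.mem_ker])
      rw [h1, TensorProduct.counit_tmul, CommSemiring.counit_apply, Algebra.algebraMap_eq_smul_one,
        Algebra.algebraMap_eq_smul_one, TensorProduct.tmul_smul, Algebra.TensorProduct.one_def, smul_assoc, one_smul]
    change (KerPow.projBC (R := R) J U) (φU z) = 0
    rw [show (KerPow.projBC (R := R) J U) (φU z) = algebraMap U _ (counit (R := U) z) from DFunLike.congr_fun key z,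
      show counit (R := U) z = 0 from hz, map_zero]

theorem ker_comp_symm {T : Type u} [CommRing T] {A A' B C : Type u} [CommRing A] [HopfAlgebra T A] [CommRing A']
    [HopfAlgebra T A'] [CommRing B] [HopfAlgebra T B] [CommRing C] [HopfAlgebra T C] (e : A ≃ₐc[T] A')
    (π : A →ₐc[T] B) (ψ : C →ₐc[T] A) {I : Ideal C} (h : RingHom.ker (π : A →ₐ[T] B) = I.map ψ) :
    RingHom.ker (π.comp (e.symm : A' →ₐc[T] A) : A' →ₐ[T] B) = I.map ((e : A →ₐc[T] A').comp ψ) := by
  refine le_antisymm (fun x hx => ?_) (Ideal.map_le_iff_le_comap.mpr fun c hc => ?_)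
  · have h1 : e.symm x ∈ I.map ψ := h ▸ hx
    have hx' : x = e (e.symm x) := (e.toAlgEquiv.apply_symm_apply x).symm
    rw [hx']
    refine Submodule.span_induction (fun y hy => ?_) ?_ (fun a b _ _ ha hb => ?_) (fun r a _ ha => ?_) h1
    · obtain ⟨c, hc, rfl⟩ := hy
      exact Ideal.mem_map_of_mem ((e : A →ₐc[T] A').comp ψ) hc
    · rw [map_zero]; exact zero_mem _
    · rw [map_add]; exact add_mem ha hb
    · rw [smul_eq_mul, map_mul]; exact Ideal.mul_mem_left _ _ ha
  · change π (e.symm (e (ψ c))) = 0
    rw [show e.symm (e (ψ c)) = ψ c from e.toAlgEquiv.symm_apply_apply _]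
    have : ψ c ∈ RingHom.ker (π : A →ₐ[T] B) := h ▸ Ideal.mem_map_of_mem ψ hc
    exact this

/-- **kernels of homomorphisms out of groups of multiplicative type and finite type** -/
theorem isMultType_kernel {R : Type u} [CommRing R] {A : Type u} [CommRing A] [HopfAlgebra R A]
    (hft : Algebra.FiniteType R A) (h : SGA3b.IsMultType R A)
    {C : Type u} [CommRing C] [HopfAlgebra R C] (hC : Algebra.FinitePresentation R C) (φ : C →ₐc[R] A)
    (J : Ideal A) [J.IsHopfIdeal R] (hJ : J = Ideal.map φ (RingHom.ker (Bialgebra.counitAlgHom R C))) :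
    SGA3b.IsMultType R (A ⧸ J) := by
  haveI := QIGlobal.finitePresentation_of_isMultType hft h
  have hfg : J.FG := hJ ▸ KerPow.fg_map_counit hC (φ : C →+* A)
  refine Fibres.isMultType_of_local (Algebra.FinitePresentation.quotient hfg) fun p _ => ?_
  obtain ⟨U, _, _, _, _, _, _, M, _, ⟨e⟩⟩ := exists_local_split h (Localization.AtPrime p)
  haveI : Algebra.FiniteType R A := hft
  haveI : Algebra.FiniteType R C := inferInstance
  haveI : Group.FG M := Diag.group_fg_of_finiteType (R := U) (A := U ⊗[R] A) e.toAlgEquiv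
  have hker := ker_comp_symm e (KerPow.projBC (R := R) J U) (Bialgebra.TensorProduct.map (BialgHom.id U U) φ)
    (ker_projBC φ J hJ U)
  have hd : SGA3b.IsDiag U (U ⊗[R] (A ⧸ J)) :=
    isDiag_kernel ((e : U ⊗[R] A →ₐc[U] MonoidAlgebra U M).comp (Bialgebra.TensorProduct.map (BialgHom.id U U) φ))
      ((KerPow.projBC (R := R) J U).comp (e.symm : MonoidAlgebra U M →ₐc[U] U ⊗[R] A))
      ((KerPow.projBC_surjective (R := R) J U).comp e.symm.surjective) hker
  obtain ⟨N, instN, ⟨eN⟩⟩ := hd
  exact Diag.isMultType_of_diag U ⟨N, instN,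
    ⟨(Split.cancel (R := R) (S := Localization.AtPrime p) (T := U) (A := A ⧸ J)).trans eN⟩⟩

end

end Groth.Agent.MultType.KerHom
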