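import Groth.Agent.MultType.Sq
import Groth.Agent.MultType.Diag
import Groth.Agent.AzInvLib.Stage

/-!
# Splittings descend from the strict henselisation to étale neighbourhoods

* `exists_etale_split`
-/

open Coalgebra TensorProduct

universe u

namespace Groth.Agent.MultType.SplitStage

open GroupLike
open Groth.Agent.AzInvLib (SLoc KSep)

noncomputable section

variable {S : Type u} [CommRing S] {p : Ideal S} [p.IsPrime]

theorem bcMap_bcMap {U V W N : Type u} [CommRing U] [Algebra S U] [CommRing V] [Algebra S V] [CommRing W]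
    [Algebra S W] [CommRing N] [Algebra S N] (f : U →ₐ[S] V) (g : V →ₐ[S] W) (z : U ⊗[S] N) :
    bcMap g N (bcMap f N z) = bcMap (g.comp f) N z := by
  induction z using TensorProduct.induction_on with
  | zero => simp
  | add a b ha hb => simp only [map_add, ha, hb]
  | tmul u a => rfl

theorem bcMap_eq_comm {U V N : Type u} [CommRing U] [Algebra S U] [CommRing V] [Algebra S V] [CommRing N]
    [Algebra S N] (f : U →ₐ[S] V) (z : N ⊗[S] U) :
    bcMap f N (TensorProduct.comm S N U z) = TensorProduct.comm S N V (f.toLinearMap.lTensor N z) := by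
  induction z using TensorProduct.induction_on with
  | zero => simp
  | add a b ha hb => simp only [map_add, ha, hb]
  | tmul a u => rfl

variable {N : Type u} [CommRing N] [Algebra S N]

/-- finitely many elements come from a stage -/
theorem exists_lift {ι : Type u} [Fintype ι] (x : ι → SLoc p ⊗[S] N) :
    ∃ (T : Type u) (_ : CommRing T) (_ : Algebra S T) (_ : Algebra.Etale S T) (θ : T →ₐ[S] SLoc p)
      (y : ι → T ⊗[S] N), ∀ i, bcMap θ N (y i) = x i := by
  obtain ⟨T, _, _, hT, θ, y, hy⟩ :=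
    AzInvLib.exists_stage_lift (fun i => (TensorProduct.comm S N (SLoc p)).symm (x i))
  exact ⟨T, inferInstance, inferInstance, hT, θ, fun i => TensorProduct.comm S N T (y i), fun i => by
    rw [bcMap_eq_comm, hy, LinearEquiv.apply_symm_apply]⟩

/-- finitely many equalities hold at a stage -/
theorem exists_eqs {ι : Type u} [Fintype ι] {T : Type u} [CommRing T] [Algebra S T] [Algebra.Etale S T]
    (θ : T →ₐ[S] SLoc p) (z w : ι → T ⊗[S] N) (h : ∀ i, bcMap θ N (z i) = bcMap θ N (w i)) :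
    ∃ (T' : Type u) (_ : CommRing T') (_ : Algebra S T') (_ : Algebra.Etale S T') (f : T →ₐ[S] T')
      (θ' : T' →ₐ[S] SLoc p), θ'.comp f = θ ∧ ∀ i, bcMap f N (z i) = bcMap f N (w i) := by
  obtain ⟨T', _, _, hT', f, θ', hf, he⟩ := AzInvLib.exists_stage_eq Finset.univ θ
    (fun i => (TensorProduct.comm S N T).symm (z i)) (fun i => (TensorProduct.comm S N T).symm (w i))
    (fun i _ => (TensorProduct.comm S N (SLoc p)).injective (by
      rw [← bcMap_eq_comm, ← bcMap_eq_comm, LinearEquiv.apply_symm_apply, LinearEquiv.apply_symm_apply, h]))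
  refine ⟨T', inferInstance, inferInstance, hT', f, θ', hf, fun i => ?_⟩
  have h1 := congrArg (TensorProduct.comm S N T') (he i (Finset.mem_univ i))
  rwa [← bcMap_eq_comm, ← bcMap_eq_comm, LinearEquiv.apply_symm_apply, LinearEquiv.apply_symm_apply] at h1

variable {X : Type u} [CommRing X] [Algebra S X]

/-- a map from a finitely presented algebra comes from a stage -/
theorem exists_hom [Algebra.FinitePresentation S X] (f : X →ₐ[S] SLoc p ⊗[S] N) :
    ∃ (T : Type u) (_ : CommRing T) (_ : Algebra S T) (_ : Algebra.Etale S T) (θ : T →ₐ[S] SLoc p)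
      (g : X →ₐ[S] T ⊗[S] N), ∀ x, bcMap θ N (g x) = f x := by
  classical
  obtain ⟨k, π, hπ, G, hG⟩ := (inferInstance : Algebra.FinitePresentation S X).out
  obtain ⟨T, _, _, _, θ, y, hy⟩ := exists_lift (p := p) fun i : ULift.{u} (Fin k) => f (π (MvPolynomial.X i.down))
  let ψ : MvPolynomial (Fin k) S →ₐ[S] T ⊗[S] N := MvPolynomial.aeval fun i => y ⟨i⟩
  have hψ : (bcMap θ N).comp ψ = f.comp π := MvPolynomial.algHom_ext fun i => by
    simpa [ψ] using hy ⟨i⟩
  obtain ⟨T', _, _, hT', h, θ', hθ, he⟩ := exists_eqs θ (fun g : G => ψ g) (fun _ => 0) fun g => by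
    have h0 : π (g : MvPolynomial (Fin k) S) = 0 := by
      have : (g : MvPolynomial (Fin k) S) ∈ RingHom.ker π.toRingHom := hG ▸ Submodule.subset_span g.2
      exact this
    rw [map_zero]
    exact (DFunLike.congr_fun hψ (g : MvPolynomial (Fin k) S)).trans (by simp [h0])
  let ψ' : MvPolynomial (Fin k) S →ₐ[S] T' ⊗[S] N := (bcMap h N).comp ψ
  have hker : RingHom.ker π.toRingHom ≤ RingHom.ker ψ'.toRingHom := by
    rw [← hG, Ideal.span_le]
    intro g hg
    show bcMap h N (ψ g) = 0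
    rw [he ⟨g, hg⟩, map_zero]
  refine ⟨T', inferInstance, inferInstance, hT', θ', AlgHom.liftOfSurjective π hπ ψ' hker, fun x => ?_⟩
  obtain ⟨v, rfl⟩ := hπ x
  rw [AlgHom.liftOfSurjective_apply]
  show bcMap θ' N (bcMap h N (ψ v)) = _
  rw [bcMap_bcMap, hθ]
  exact DFunLike.congr_fun hψ v

/-- two maps from a finitely generated algebra agreeing in the limit agree at a stage -/
theorem exists_hom_eq [Algebra.FiniteType S X] {T : Type u} [CommRing T] [Algebra S T] [Algebra.Etale S T]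
    (θ : T →ₐ[S] SLoc p) (g g' : X →ₐ[S] T ⊗[S] N) (h : ∀ x, bcMap θ N (g x) = bcMap θ N (g' x)) :
    ∃ (T' : Type u) (_ : CommRing T') (_ : Algebra S T') (_ : Algebra.Etale S T') (f : T →ₐ[S] T')
      (θ' : T' →ₐ[S] SLoc p), θ'.comp f = θ ∧ ∀ x, bcMap f N (g x) = bcMap f N (g' x) := by
  obtain ⟨s, hs⟩ := (inferInstance : Algebra.FiniteType S X).out
  obtain ⟨T', _, _, hT', f, θ', hf, he⟩ := exists_eqs θ (fun x : s => g x) (fun x : s => g' x) fun x => h x
  exact ⟨T', inferInstance, inferInstance, hT', f, θ', hf, fun x =>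
    AlgHom.congr_fun (AlgHom.ext_of_adjoin_eq_top (φ₁ := (bcMap f N).comp g) (φ₂ := (bcMap f N).comp g') hs
      fun y hy => he ⟨y, hy⟩) x⟩

theorem bcMap_ext₁ {U V A D : Type u} [CommRing U] [Algebra S U] [CommRing V] [Algebra S V] [CommRing A]
    [Algebra S A] [CommRing D] [Algebra S D] (h : U →ₐ[S] V) (g : A →ₐ[S] U ⊗[S] D) (z : U ⊗[S] A) :
    bcMap h D (Sq.ext₁ g z) = Sq.ext₁ ((bcMap h D).comp g) (bcMap h A z) := by
  induction z using TensorProduct.induction_on with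
  | zero => simp
  | add x y hx hy => simp only [map_add, hx, hy]
  | tmul u a =>
    rw [GLLift.bcMap_tmul, Sq.smul_tmul_one u a, map_smul, Sq.bcMap_smul, Sq.ext₁_one_tmul,
      Sq.smul_tmul_one (h u) a, map_smul, Sq.ext₁_one_tmul]
    rfl

section Build

variable {T : Type u} [CommRing T] [Algebra S T] {C : Type u} [CommRing C] [HopfAlgebra S C]
  {M : Type u} [CommGroup M]

/-- inverse maps with group-like images form a splitting -/
theorem isDiag_of_maps (φ : MonoidAlgebra S M →ₐ[S] T ⊗[S] C) (ψ : C →ₐ[S] T ⊗[S] MonoidAlgebra S M)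
    (h1 : ∀ c, Sq.ext₁ φ (ψ c) = (1 : T) ⊗ₜ[S] c) (h2 : ∀ x, Sq.ext₁ ψ (φ x) = (1 : T) ⊗ₜ[S] x)
    {s : Set M} (hs : Submonoid.closure s = ⊤)
    (hgl : ∀ m ∈ s, IsGroupLikeElem T (φ (MonoidAlgebra.single m 1))) :
    Nonempty (T ⊗[S] C ≃ₐc[T] MonoidAlgebra T M) := by
  let z : M →* T ⊗[S] C :=
    (φ : MonoidAlgebra S M →* T ⊗[S] C).comp (MonoidAlgebra.of S M)
  have hz : ∀ m, IsGroupLikeElem T (z m) := by
    intro m
    have hm : m ∈ Submonoid.closure s := hs ▸ trivial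
    induction hm using Submonoid.closure_induction with
    | mem x hx => exact hgl x hx
    | one => rw [map_one]; exact IsGroupLikeElem.one
    | mul a b _ _ ha hb => rw [map_mul]; exact ha.mul hb
  let g : M →* _root_.GroupLike T (T ⊗[S] C) :=
    { toFun := fun m => ⟨z m, hz m⟩
      map_one' := _root_.GroupLike.val_injective (map_one z)
      map_mul' := fun a b => _root_.GroupLike.val_injective (map_mul z a b) }
  let Φ : MonoidAlgebra T M →ₐc[T] T ⊗[S] C :=
    MonoidAlgebra.liftGroupLikeBialgHom.comp (MonoidAlgebra.mapDomainBialgHom T g)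
  have hΦ : ∀ a, Φ (MonoidAlgebra.single a 1) = φ (MonoidAlgebra.single a 1) := fun a => by
    change MonoidAlgebra.liftGroupLikeBialgHom (MonoidAlgebra.mapDomainBialgHom T g (MonoidAlgebra.single a 1)) = _
    rw [MonoidAlgebra.mapDomainBialgHom_single]
    simp [MonoidAlgebra.liftGroupLikeBialgHom, g, z]
  have h12 : (Sq.ext₁ φ).comp (Sq.ext₁ ψ) = AlgHom.id T (T ⊗[S] C) := Sq.eq_of_one_tmul fun c => by
    rw [AlgHom.comp_apply, Sq.ext₁_one_tmul, h1]; rfl
  have h21 : (Sq.ext₁ ψ).comp (Sq.ext₁ φ) = AlgHom.id T _ := Sq.eq_of_one_tmul fun x => by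
    rw [AlgHom.comp_apply, Sq.ext₁_one_tmul, h2]; rfl
  let E : T ⊗[S] MonoidAlgebra S M ≃ₐ[T] T ⊗[S] C := AlgEquiv.ofAlgHom _ _ h12 h21
  let s₀ := Split.scalarBialgEquiv S T M
  have hΦE : ∀ v, Φ v = E (s₀.symm v) := by
    intro v
    induction v using MonoidAlgebra.induction_linear with
    | zero => simp
    | add a b ha hb => simp only [map_add, ha, hb]
    | single m r =>
      rw [show MonoidAlgebra.single m r = r • MonoidAlgebra.single m (1 : T) by simp, map_smul, map_smul, map_smul, hΦ]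
      congr 1
      have h3 : s₀.symm (MonoidAlgebra.single m (1 : T)) = (1 : T) ⊗ₜ[S] MonoidAlgebra.single m (1 : S) := by
        apply s₀.toAlgEquiv.injective
        change s₀ (s₀.symm _) = MonoidAlgebra.scalarTensorEquiv S T ((1 : T) ⊗ₜ[S] MonoidAlgebra.single m (1 : S))
        rw [show s₀ (s₀.symm (MonoidAlgebra.single m (1 : T))) = MonoidAlgebra.single m 1 from
          s₀.toAlgEquiv.apply_symm_apply _]
        simp
      rw [h3]
      exact (Sq.ext₁_one_tmul φ _).symm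
  refine ⟨(BialgEquiv.ofBijective Φ ?_).symm⟩
  rw [show ⇑Φ = fun v => E (s₀.symm v) from funext hΦE]
  exact E.bijective.comp s₀.symm.bijective

end Build

theorem finitePresentation_monoidAlgebra (S : Type u) [CommRing S] (M : Type u) [CommGroup M] [Group.FG M] :
    Algebra.FinitePresentation S (MonoidAlgebra S M) := by
  haveI : Algebra.FiniteType ℤ (MonoidAlgebra ℤ M) := MonoidAlgebra.finiteType_iff_group_fg.mpr inferInstance
  haveI : Algebra.FinitePresentation ℤ (MonoidAlgebra ℤ M) := Algebra.FinitePresentation.of_finiteType.mp inferInstance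
  exact Algebra.FinitePresentation.equiv (MonoidAlgebra.scalarTensorEquiv ℤ S : S ⊗[ℤ] MonoidAlgebra ℤ M ≃ₐ[S] _)

variable {C : Type u} [CommRing C] [HopfAlgebra S C]

/-- a splitting over the strict henselisation descends to an étale neighbourhood -/
theorem exists_etale_split [Algebra.FinitePresentation S C] {M : Type u} [CommGroup M] [Group.FG M]
    (e : SLoc p ⊗[S] C ≃ₐc[SLoc p] MonoidAlgebra (SLoc p) M) :
    ∃ (T : Type u) (_ : CommRing T) (_ : Algebra S T) (_ : Algebra.Etale S T) (_ : T →ₐ[S] SLoc p),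
      Nonempty (T ⊗[S] C ≃ₐc[T] MonoidAlgebra T M) := by
  classical
  let W := SLoc p
  haveI := finitePresentation_monoidAlgebra S M
  let s₀ := Split.scalarBialgEquiv S W M
  let E : W ⊗[S] MonoidAlgebra S M ≃ₐc[W] W ⊗[S] C := s₀.trans e.symm
  let φ₀ : MonoidAlgebra S M →ₐ[S] W ⊗[S] C :=
    (E.toAlgEquiv.toAlgHom.restrictScalars S).comp Algebra.TensorProduct.includeRight
  let ψ₀ : C →ₐ[S] W ⊗[S] MonoidAlgebra S M :=
    (E.symm.toAlgEquiv.toAlgHom.restrictScalars S).comp Algebra.TensorProduct.includeRight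
  have hE : Sq.ext₁ φ₀ = E.toAlgEquiv.toAlgHom := Sq.eq_of_one_tmul fun x => Sq.ext₁_one_tmul φ₀ x
  have hE' : Sq.ext₁ ψ₀ = E.symm.toAlgEquiv.toAlgHom := Sq.eq_of_one_tmul fun x => Sq.ext₁_one_tmul ψ₀ x
  obtain ⟨T₁, _, _, _, θ₁, φ₁, hφ₁⟩ := exists_hom φ₀
  obtain ⟨T₂, _, _, _, θ₂, ψ₂, hψ₂⟩ := exists_hom ψ₀
  haveI : Algebra.Etale S (T₁ ⊗[S] T₂) := Algebra.Etale.comp S T₁ _
  let θ₃ : T₁ ⊗[S] T₂ →ₐ[S] W := Algebra.TensorProduct.lift θ₁ θ₂ fun _ _ => Commute.all _ _
  let φ₃ := (bcMap (Algebra.TensorProduct.includeLeft : T₁ →ₐ[S] T₁ ⊗[S] T₂) C).comp φ₁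
  let ψ₃ := (bcMap (Algebra.TensorProduct.includeRight : T₂ →ₐ[S] T₁ ⊗[S] T₂) (MonoidAlgebra S M)).comp ψ₂
  have hl : θ₃.comp (Algebra.TensorProduct.includeLeft : T₁ →ₐ[S] T₁ ⊗[S] T₂) = θ₁ := by ext t; simp [θ₃]
  have hr : θ₃.comp (Algebra.TensorProduct.includeRight : T₂ →ₐ[S] T₁ ⊗[S] T₂) = θ₂ := by ext t; simp [θ₃]
  have hφ₃ : (bcMap θ₃ C).comp φ₃ = φ₀ := AlgHom.ext fun x => by
    simp only [φ₃, AlgHom.comp_apply, bcMap_bcMap, hl, hφ₁]
  have hψ₃ : (bcMap θ₃ (MonoidAlgebra S M)).comp ψ₃ = ψ₀ := AlgHom.ext fun x => by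
    simp only [ψ₃, AlgHom.comp_apply, bcMap_bcMap, hr, hψ₂]
  -- the composites
  obtain ⟨T₄, _, _, _, f₄, θ₄, h₄, e₄⟩ := exists_hom_eq θ₃
    (((Sq.ext₁ φ₃).restrictScalars S).comp ψ₃) Algebra.TensorProduct.includeRight fun c => by
      rw [AlgHom.comp_apply, AlgHom.restrictScalars_apply, bcMap_ext₁, hφ₃, ← AlgHom.comp_apply, hψ₃,
        Algebra.TensorProduct.includeRight_apply, GLLift.bcMap_tmul, map_one, hE]
      exact E.toAlgEquiv.apply_symm_apply _
  let φ₄ := (bcMap f₄ C).comp φ₃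
  let ψ₄ := (bcMap f₄ (MonoidAlgebra S M)).comp ψ₃
  have hφ₄ : (bcMap θ₄ C).comp φ₄ = φ₀ := AlgHom.ext fun x => by
    simp only [φ₄, AlgHom.comp_apply, bcMap_bcMap, h₄]
    exact AlgHom.congr_fun hφ₃ x
  have hψ₄ : (bcMap θ₄ (MonoidAlgebra S M)).comp ψ₄ = ψ₀ := AlgHom.ext fun x => by
    simp only [ψ₄, AlgHom.comp_apply, bcMap_bcMap, h₄]
    exact AlgHom.congr_fun hψ₃ x
  obtain ⟨T₅, _, _, _, f₅, θ₅, h₅, e₅⟩ := exists_hom_eq θ₄
    (((Sq.ext₁ ψ₄).restrictScalars S).comp φ₄) Algebra.TensorProduct.includeRight fun x => by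
      rw [AlgHom.comp_apply, AlgHom.restrictScalars_apply, bcMap_ext₁, hψ₄, ← AlgHom.comp_apply, hφ₄,
        Algebra.TensorProduct.includeRight_apply, GLLift.bcMap_tmul, map_one, hE']
      exact E.toAlgEquiv.symm_apply_apply _
  let φ₅ := (bcMap f₅ C).comp φ₄
  have hφ₅ : ∀ x, bcMap θ₅ C (φ₅ x) = φ₀ x := fun x => by
    simp only [φ₅, AlgHom.comp_apply, bcMap_bcMap, h₅]
    exact AlgHom.congr_fun hφ₄ x
  -- group-like images of generators
  obtain ⟨gens, hgens⟩ : ∃ t : Finset M, Submonoid.closure (t : Set M) = ⊤ :=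
    (inferInstance : Monoid.FG M).fg_top
  let x₅ : gens → T₅ ⊗[S] C := fun m => φ₅ (MonoidAlgebra.single (m : M) 1)
  have hx : ∀ m, IsGroupLikeElem W (bcMap θ₅ C (x₅ m)) := fun m => by
    rw [hφ₅]
    have hs1 : IsGroupLikeElem S (MonoidAlgebra.single (m : M) (1 : S)) :=
      MonoidAlgebra.isGroupLikeElem_single_one (m : M)
    exact (GroupLike.isGroupLikeElem_one_tmul (R := S) W hs1).map E
  obtain ⟨T₆, _, _, _, f₆, θ₆, h₆, e₆⟩ := exists_eqs (N := C ⊗[S] C) θ₅
    (fun m => Algebra.TensorProduct.map (AlgHom.id T₅ T₅) (Bialgebra.comulAlgHom S C) (x₅ m))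
    (fun m => GroupLike.sq S C T₅ (x₅ m)) fun m => by
      rw [GroupLike.bcMap_comul, GroupLike.bcMap_sq]
      exact ((GroupLike.iff_sq _).mp (hx m)).2
  let x₆ : gens → T₆ ⊗[S] C := fun m => bcMap f₆ C (x₅ m)
  obtain ⟨T₇, _, _, _, f₇, θ₇, h₇, e₇⟩ := exists_eqs (N := S) θ₆
    (fun m => (counit (R := T₆) (x₆ m)) ⊗ₜ[S] (1 : S)) (fun _ => 1 ⊗ₜ[S] (1 : S)) fun m => by
      rw [GLLift.bcMap_tmul, GLLift.bcMap_tmul, map_one, ← GroupLike.bcMap_counit]
      simp only [x₆, bcMap_bcMap, h₆, ((GroupLike.iff_sq _).mp (hx m)).1]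
  let g : (T₁ ⊗[S] T₂) →ₐ[S] T₇ := (f₇.comp (f₆.comp f₅)).comp f₄
  refine ⟨T₇, inferInstance, inferInstance, inferInstance, θ₇,
    isDiag_of_maps ((bcMap g C).comp φ₃) ((bcMap g _).comp ψ₃) (fun c => ?_) (fun x => ?_) hgens (fun m hm => ?_)⟩
  · have h1 := congrArg (bcMap (f₇.comp (f₆.comp f₅)) C) (e₄ c)
    simp only [AlgHom.comp_apply, AlgHom.restrictScalars_apply, Algebra.TensorProduct.includeRight_apply,
      bcMap_bcMap, GLLift.bcMap_tmul, map_one] at h1
    rw [bcMap_ext₁] at h1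
    exact h1
  · have h1 := congrArg (bcMap (f₇.comp f₆) (MonoidAlgebra S M)) (e₅ x)
    simp only [φ₄, ψ₄, AlgHom.comp_apply, AlgHom.restrictScalars_apply, Algebra.TensorProduct.includeRight_apply,
      bcMap_bcMap, GLLift.bcMap_tmul, map_one, bcMap_ext₁] at h1
    refine Eq.trans ?_ h1
    simp only [g, AlgHom.comp_assoc, ← AlgHom.comp_assoc, AlgHom.comp_apply, bcMap_bcMap]
    congr 2
    ext c
    simp only [AlgHom.comp_apply, bcMap_bcMap, AlgHom.comp_assoc]
  · have hx7 : bcMap g C (φ₃ (MonoidAlgebra.single m 1)) = bcMap f₇ C (x₆ ⟨m, hm⟩) := by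
      simp only [g, x₆, x₅, φ₅, φ₄, AlgHom.comp_apply, bcMap_bcMap, AlgHom.comp_assoc]
    rw [AlgHom.comp_apply, hx7, GroupLike.iff_sq]
    refine ⟨?_, ?_⟩
    · rw [GroupLike.bcMap_counit]
      have h0 := e₇ ⟨m, hm⟩
      rw [GLLift.bcMap_tmul, GLLift.bcMap_tmul, map_one] at h0
      have h1 := congrArg (Algebra.TensorProduct.rid S S T₇) h0
      simpa using h1
    · rw [← GroupLike.bcMap_comul, ← GroupLike.bcMap_sq]
      simp only [x₆]
      rw [← GroupLike.bcMap_comul, ← GroupLike.bcMap_sq, e₆ ⟨m, hm⟩]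

end

end Groth.Agent.MultType.SplitStage
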