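import Groth.Agent.MultType.HenselSplit
import Groth.Agent.MultType.SplitStage
import Groth.Agent.MultType.LiftApps

/-!
# Quasi-isotriviality of groups of multiplicative type and finite type

* `isQuasiIsotrivial_of_points`, `exists_split_sh`, `isQuasiIsotrivial_of_local`.
-/

open Coalgebra TensorProduct

universe u

namespace Groth.Agent.MultType.QIGlobal

open Groth.Agent.AzInvLib (SLoc KSep)

noncomputable section

/-- base change of a group of multiplicative type to a local ring -/
theorem isMultType_bc_local {R : Type u} [CommRing R] {A : Type u} [CommRing A] [HopfAlgebra R A]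
    (h : SGA3b.IsMultType R A) (W : Type u) [CommRing W] [IsLocalRing W] [Algebra R W] :
    SGA3b.IsMultType W (W ⊗[R] A) := by
  classical
  obtain ⟨ι, _, T, _, _, hff, hM⟩ := Integral.exists_split_family h
  let p := (IsLocalRing.maximalIdeal W).comap (algebraMap R W)
  haveI : p.IsPrime := Ideal.IsPrime.comap _
  obtain ⟨P, hP⟩ := PrimeSpectrum.comap_surjective_of_faithfullyFlat (A := W) (B := W ⊗[R] (∀ i, T i))
    (IsLocalRing.closedPoint W)
  let e : (W ⊗[R] (∀ i, T i)) ≃ₐ[W] ∀ i, W ⊗[R] T i := Algebra.TensorProduct.piRight R W W T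
  obtain ⟨⟨i, q⟩, hq⟩ : ∃ x : Σ i, PrimeSpectrum (W ⊗[R] T i),
      PrimeSpectrum.sigmaToPi (fun i => W ⊗[R] T i) x =
        PrimeSpectrum.comap (e.symm : _ →+* W ⊗[R] (∀ i, T i)) P :=
    (PrimeSpectrum.sigmaToPi_bijective (fun i => W ⊗[R] T i)).2 _
  obtain ⟨M, _, ⟨eM⟩⟩ := hM i
  haveI : Module.Flat R (T i) :=
    Module.Flat.of_retract (LinearMap.single R T i) (LinearMap.proj i) (by ext x; simp)
  let U := Localization.AtPrime q.asIdeal
  haveI : Module.Flat W U :=
    haveI : Module.Flat (W ⊗[R] T i) U := IsLocalization.flat U q.asIdeal.primeCompl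
    Module.Flat.trans W (W ⊗[R] T i) U
  have hqc : q.asIdeal.comap (algebraMap W (W ⊗[R] T i)) = IsLocalRing.maximalIdeal W := by
    have h1 := congrArg (fun x => Ideal.comap (algebraMap W (∀ i, W ⊗[R] T i)) (PrimeSpectrum.asIdeal x)) hq
    have h2 := congrArg PrimeSpectrum.asIdeal hP
    simp only [PrimeSpectrum.comap_asIdeal] at h1 h2
    rw [Ideal.comap_comap, show (e.symm : _ →+* W ⊗[R] (∀ i, T i)).comp (algebraMap W (∀ i, W ⊗[R] T i)) =
      algebraMap W (W ⊗[R] (∀ i, T i)) from RingHom.ext fun w => e.symm.commutes w, h2] at h1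
    exact h1
  haveI : IsLocalHom (algebraMap W U) := by
    refine ⟨fun w hw => ?_⟩
    by_contra hns
    have h1 : algebraMap W (W ⊗[R] T i) w ∈ q.asIdeal := by
      rw [← Ideal.mem_comap, hqc]
      exact hns
    rw [IsScalarTower.algebraMap_apply W (W ⊗[R] T i) U] at hw
    exact ((IsLocalization.AtPrime.isUnit_to_map_iff U q.asIdeal _).mp hw) h1
  haveI : Module.FaithfullyFlat W U := Module.FaithfullyFlat.of_flat_of_isLocalHom
  let g : T i →ₐ[R] U :=
    (IsScalarTower.toAlgHom R (W ⊗[R] T i) U).comp Algebra.TensorProduct.includeRight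
  exact Diag.isMultType_of_diag U ⟨M, inferInstance,
    ⟨(Split.cancel (R := R) (S := W) (T := U) (A := A)).trans (GLLift.extend eM g)⟩⟩

/-- over a separably closed field a group of multiplicative type and finite type is diagonalisable -/
theorem isDiag_of_isSepClosed {k : Type u} [Field k] [IsSepClosed k] {A : Type u} [CommRing A] [HopfAlgebra k A]
    (h : SGA3b.IsMultType k A) (hft : Algebra.FiniteType k A) : SGA3b.IsDiag k A := by
  obtain ⟨k', _, _, hfin, hsep, M, _, _, ⟨e⟩⟩ := FieldSplit.exists_separable_split h hft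
  let i : k ≃ₐ[k] k' := AlgEquiv.ofBijective (Algebra.ofId k k')
    ⟨(algebraMap k k').injective, IsSepClosed.algebraMap_surjective k k'⟩
  let e₀ := GLLift.extend e i.symm.toAlgHom
  exact ⟨M, inferInstance, ⟨(BialgEquiv.ofAlgEquiv (Algebra.TensorProduct.lid k A)
    (Algebra.TensorProduct.ext (by ext) (by ext a; simp))
    (Algebra.TensorProduct.ext (by ext) (by
      ext a
      simp only [AlgHom.coe_comp, Function.comp_apply, AlgHom.coe_restrictScalars', AlgEquiv.coe_toAlgHom,
        Algebra.TensorProduct.includeRight_apply, Algebra.TensorProduct.lid_tmul, one_smul,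
        Bialgebra.comulAlgHom_apply, TensorProduct.comul_tmul]
      rw [← (Coalgebra.Repr.arbitrary k a).eq]
      simp [TensorProduct.tmul_sum]))).symm.trans e₀⟩⟩

/-- multiplicative type at a prime: split over the strict henselisation -/
theorem exists_split_sh {S : Type u} [CommRing S] {C : Type u} [CommRing C] [HopfAlgebra S C]
    (hft : Algebra.FiniteType S C) (p : Ideal S) [p.IsPrime]
    (h : SGA3b.IsMultType (Localization.AtPrime p) (Localization.AtPrime p ⊗[S] C)) :
    ∃ (M : Type u) (_ : CommGroup M), Group.FG M ∧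
      Nonempty (SLoc p ⊗[S] C ≃ₐc[SLoc p] MonoidAlgebra (SLoc p) M) := by
  haveI := hft
  let W := SLoc p
  have hu : ∀ t : p.primeCompl, IsUnit (algebraMap S W t) := fun t =>
    isUnit_of_map_unit (Hens.point S (KSep p)).toRingHom _ (by
      show IsUnit (Hens.point S (KSep p) (algebraMap S W t))
      rw [AlgHom.commutes, IsScalarTower.algebraMap_apply S p.ResidueField (KSep p)]
      exact IsUnit.mk0 _ ((_root_.map_ne_zero _).2 fun h0 =>
        t.2 (Ideal.algebraMap_residueField_eq_zero.1 h0)))
  letI : Algebra (Localization.AtPrime p) W := (IsLocalization.lift (M := p.primeCompl) hu).toAlgebra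
  haveI : IsScalarTower S (Localization.AtPrime p) W :=
    IsScalarTower.of_algebraMap_eq fun s => (IsLocalization.lift_eq hu s).symm
  let E := Split.cancel (R := S) (S := Localization.AtPrime p) (T := W) (A := C)
  have hW := isMultType_bc_local h W
  haveI : IsSepClosed (IsLocalRing.ResidueField W) := AzInvLib.isSepClosed_residue p
  haveI : Algebra.FiniteType (Localization.AtPrime p) (Localization.AtPrime p ⊗[S] C) := inferInstance
  obtain ⟨M, _, hfg, ⟨e⟩⟩ := HenselSplit.isDiag_of_henselian hW
    (isDiag_of_isSepClosed (Isotrivial.isMultType_field hW (IsLocalRing.ResidueField W)) inferInstance)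
  exact ⟨M, inferInstance, hfg, ⟨E.symm.trans e⟩⟩

/-- split étale neighbourhoods give quasi-isotriviality -/
theorem isQuasiIsotrivial_of_points {S : Type u} [CommRing S] {C : Type u} [CommRing C] [HopfAlgebra S C]
    (h : ∀ p : PrimeSpectrum S, ∃ (T : Type u) (_ : CommRing T) (_ : Algebra S T) (_ : Algebra.Etale S T),
      p ∈ Set.range (PrimeSpectrum.comap (algebraMap S T)) ∧ SGA3b.IsDiag T (T ⊗[S] C)) :
    SGA3b.IsQuasiIsotrivial S C := by
  choose T iC iA hE hmem hd using h
  have hopen : ∀ p, IsOpen (Set.range (PrimeSpectrum.comap (algebraMap S (T p)))) := fun p =>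
    IsOpenMap.isOpen_range PrimeSpectrum.isOpenMap_comap_of_hasGoingDown_of_finitePresentation
  have hf : ∀ p : PrimeSpectrum S, ∃ f : S, f ∉ p.asIdeal ∧
      ↑(PrimeSpectrum.basicOpen f) ⊆ Set.range (PrimeSpectrum.comap (algebraMap S (T p))) := fun p => by
    obtain ⟨_, ⟨f, rfl⟩, hpf, hsub⟩ :=
      PrimeSpectrum.isTopologicalBasis_basic_opens.exists_subset_of_mem_open (hmem p) (hopen p)
    exact ⟨f, hpf, hsub⟩
  choose f hfp hfsub using hf
  refine ⟨Set.range f, ?_, ?_⟩
  · by_contra hne
    obtain ⟨m, hm, hle⟩ := Ideal.exists_le_maximal _ hne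
    exact hfp ⟨m, hm.isPrime⟩ (hle (Ideal.subset_span ⟨_, rfl⟩))
  rintro _ ⟨p, rfl⟩
  let L := Localization.Away (f p)
  let U := L ⊗[S] T p
  haveI : Module.FaithfullyFlat L U := by
    refine Module.FaithfullyFlat.of_comap_surjective fun q => ?_
    have hq : f p ∉ (PrimeSpectrum.comap (algebraMap S L) q).asIdeal := fun hfq =>
      q.isPrime.ne_top (Ideal.eq_top_of_isUnit_mem _ hfq (IsLocalization.Away.algebraMap_isUnit (f p)))
    obtain ⟨r, hr⟩ := hfsub p (show PrimeSpectrum.comap (algebraMap S L) q ∈
      (PrimeSpectrum.basicOpen (f p) : Set _) from hq)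
    letI : Algebra (T p) U := Algebra.TensorProduct.rightAlgebra
    haveI : IsScalarTower S (T p) U := inferInstance
    haveI : IsLocalization.Away (algebraMap S (T p) (f p)) U := IsLocalization.Away.tensorRight _ _
    have hr' : r ∈ PrimeSpectrum.basicOpen (algebraMap S (T p) (f p)) := fun h' => hq (by
      rw [← hr]; exact h')
    rw [← SetLike.mem_coe, ← PrimeSpectrum.localization_away_comap_range U] at hr'
    obtain ⟨u, hu⟩ := hr'
    refine ⟨u, PrimeSpectrum.localization_comap_injective L (Submonoid.powers (f p)) ?_⟩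
    rw [← hr, ← hu, ← PrimeSpectrum.comap_comp_apply, ← PrimeSpectrum.comap_comp_apply,
      ← IsScalarTower.algebraMap_eq, ← IsScalarTower.algebraMap_eq]
  obtain ⟨M, _, ⟨e⟩⟩ := hd p
  exact ⟨U, inferInstance, inferInstance, inferInstance, inferInstance, M, inferInstance,
    ⟨(Split.cancel (R := S) (S := L) (T := U) (A := C)).trans
      (GLLift.extend e (Algebra.TensorProduct.includeRight : T p →ₐ[S] U))⟩⟩

/-- of multiplicative type at every prime and finitely presented: quasi-isotrivial -/
theorem isQuasiIsotrivial_of_local {S : Type u} [CommRing S] {C : Type u} [CommRing C] [HopfAlgebra S C]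
    (hfp : Algebra.FinitePresentation S C)
    (h : ∀ (p : Ideal S) [p.IsPrime], SGA3b.IsMultType (Localization.AtPrime p) (Localization.AtPrime p ⊗[S] C)) :
    SGA3b.IsQuasiIsotrivial S C := by
  haveI := hfp
  refine isQuasiIsotrivial_of_points fun p => ?_
  obtain ⟨M, _, hfg, ⟨e⟩⟩ := exists_split_sh (inferInstance : Algebra.FiniteType S C) p.asIdeal (h p.asIdeal)
  haveI := hfg
  obtain ⟨T, _, _, hT, θ, ⟨eT⟩⟩ := SplitStage.exists_etale_split e
  refine ⟨T, inferInstance, inferInstance, hT,
    ⟨⟨RingHom.ker ((Hens.point S (KSep p.asIdeal)).comp θ).toRingHom, RingHom.ker_isPrime _⟩,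
      PrimeSpectrum.ext (AzInvLib.comap_ker_point _ θ)⟩, M, inferInstance, ⟨eT⟩⟩

/-- multiplicative type of finite type: finite presentation -/
theorem finitePresentation_of_isMultType {S : Type u} [CommRing S] {C : Type u} [CommRing C] [HopfAlgebra S C]
    (hft : Algebra.FiniteType S C) (h : SGA3b.IsMultType S C) : Algebra.FinitePresentation S C := by
  classical
  obtain ⟨ι, _, T, _, _, hff, hM⟩ := Integral.exists_split_family h
  haveI : ∀ i, Algebra.FinitePresentation (T i) (T i ⊗[S] C) := fun i => by
    rcases subsingleton_or_nontrivial (T i) with hT | hT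
    · haveI : Subsingleton (T i ⊗[S] C) := Module.subsingleton (T i) _
      exact Algebra.FinitePresentation.of_surjective (f := Algebra.ofId (T i) (T i ⊗[S] C))
        (fun y => ⟨0, Subsingleton.elim _ _⟩) (by
          convert! (Submodule.fg_bot : (⊥ : Ideal (T i)).FG)
          exact Subsingleton.elim _ _)
    obtain ⟨M, _, ⟨e⟩⟩ := hM i
    haveI : Group.FG M := Diag.group_fg_of_finiteType e.toAlgEquiv
    haveI := SplitStage.finitePresentation_monoidAlgebra (T i) M
    exact Algebra.FinitePresentation.equiv e.toAlgEquiv.symm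
  let P := ∀ i, T i
  let B := P ⊗[S] C
  haveI hP : Algebra.FinitePresentation P B := by
    letI : ∀ i, Algebra P (T i) := fun i => (Pi.evalRingHom T i).toAlgebra
    haveI : ∀ i, IsScalarTower S P (T i) := fun i => IsScalarTower.of_algebraMap_eq fun s => rfl
    haveI hloc : ∀ i, IsLocalization.Away (Pi.single i 1 : P) (T i) := fun i => by
      refine IsLocalization.away_of_isIdempotentElem ?_ (RingHom.ker_evalRingHom _ _)
        (Pi.evalRingHom T i).surjective
      simp [IsIdempotentElem, ← Pi.single_mul_left]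
    letI : ∀ i, Algebra B (T i ⊗[P] B) := fun i => Algebra.TensorProduct.rightAlgebra
    haveI : ∀ i, IsScalarTower P B (T i ⊗[P] B) := fun i => inferInstance
    haveI : ∀ i, IsLocalization.Away (algebraMap P B (Pi.single i 1)) (T i ⊗[P] B) := fun i =>
      IsLocalization.Away.tensorRight _ _
    haveI : ∀ i, Algebra.FinitePresentation P (T i ⊗[P] B) := fun i => by
      haveI : Algebra.FinitePresentation (T i) (T i ⊗[P] B) :=
        Algebra.FinitePresentation.equiv (Algebra.TensorProduct.cancelBaseChange S P (T i) (T i) C).symm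
      haveI : Algebra.FinitePresentation P (T i) :=
        IsLocalization.Away.finitePresentation (Pi.single i 1 : P)
      exact Algebra.FinitePresentation.trans P (T i) (T i ⊗[P] B)
    refine Algebra.FinitePresentation.of_span_eq_top_target_of_isLocalizationAway
      (fun i => algebraMap P B (Pi.single i 1)) ?_ (fun i => T i ⊗[P] B)
    have h0 := congrArg (Ideal.map (algebraMap P B)) (Ideal.span_single_eq_top T)
    rw [Ideal.map_span, Ideal.map_top, ← Set.range_comp] at h0
    exact h0
  exact Algebra.FinitePresentation.of_finitePresentation_tensorProduct_of_faithfullyFlat P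

end

end Groth.Agent.MultType.QIGlobal
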