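import Groth.Agent.MultType.LiftApps
import Mathlib.GroupTheory.FiniteAbelian.Basic
import Mathlib.RingTheory.Spectrum.Prime.Noetherian
import Mathlib.FieldTheory.IsAlgClosed.AlgebraicClosure
import Mathlib.RingTheory.HopfAlgebra.Convolution

/-!
# An open subgroup of multiplicative type containing all torsion points is everything
-/

open Coalgebra TensorProduct WithConv

universe u

namespace Groth.Agent.MultType.TorsionFinite

noncomputable section

theorem finite_idempotents (R : Type u) [CommRing R] [IsNoetherianRing R] : {e : R | IsIdempotentElem e}.Finite := by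
  have hcomp : (irreducibleComponents (PrimeSpectrum R)).Finite :=
    TopologicalSpace.NoetherianSpace.finite_irreducibleComponents
  refine Set.Finite.of_injOn (f := fun e : R => {c : Set (PrimeSpectrum R) | c ∈ irreducibleComponents (PrimeSpectrum R) ∧
      c ⊆ (PrimeSpectrum.basicOpen e : Set (PrimeSpectrum R))}) (t := {s | s ⊆ irreducibleComponents (PrimeSpectrum R)})
    (fun e _ c hc => hc.1) ?_ hcomp.finite_subsets
  intro a ha b hb hab
  refine PrimeSpectrum.basicOpen_injOn_isIdempotentElem ha hb (SetLike.coe_injective ?_)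
  have key : ∀ {a b : R}, IsIdempotentElem a → IsIdempotentElem b →
      {c : Set (PrimeSpectrum R) | c ∈ irreducibleComponents (PrimeSpectrum R) ∧
        c ⊆ (PrimeSpectrum.basicOpen a : Set (PrimeSpectrum R))} =
      {c : Set (PrimeSpectrum R) | c ∈ irreducibleComponents (PrimeSpectrum R) ∧
        c ⊆ (PrimeSpectrum.basicOpen b : Set (PrimeSpectrum R))} →
      (PrimeSpectrum.basicOpen a : Set (PrimeSpectrum R)) ⊆ PrimeSpectrum.basicOpen b := by
    intro a b ha hb h x hx
    have hclo : IsClopen (PrimeSpectrum.basicOpen a : Set (PrimeSpectrum R)) :=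
      ⟨PrimeSpectrum.basicOpen_eq_zeroLocus_of_mul_add a (1 - a) (by rw [mul_sub, mul_one, ha.eq, sub_self])
        (add_sub_cancel a 1) ▸ PrimeSpectrum.isClosed_zeroLocus _, (PrimeSpectrum.basicOpen a).2⟩
    have hsub : irreducibleComponent x ⊆ (PrimeSpectrum.basicOpen a : Set (PrimeSpectrum R)) :=
      (isIrreducible_irreducibleComponent.isConnected.isPreconnected).subset_isClopen hclo
        ⟨x, mem_irreducibleComponent, hx⟩
    have h2 : irreducibleComponent x ∈ {c : Set (PrimeSpectrum R) | c ∈ irreducibleComponents (PrimeSpectrum R) ∧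
        c ⊆ (PrimeSpectrum.basicOpen b : Set (PrimeSpectrum R))} :=
      h ▸ ⟨irreducibleComponent_mem_irreducibleComponents x, hsub⟩
    exact h2.2 mem_irreducibleComponent
  exact Set.Subset.antisymm (key ha hb hab) (key hb ha hab.symm)

section Roots

variable {M : Type u} [CommGroup M]

/-- roots of powers of characters -/
theorem exists_root (hM : Group.FG M) {G : Type u} [CommGroup G]
    (hdiv : ∀ (g : G) (k : ℕ), 0 < k → ∃ y, y ^ k = g) :
    ∃ m : ℕ, 0 < m ∧ ∀ (χ : M →* G) (N : ℕ), 0 < N → ∃ ψ : M →* G, ψ ^ (N * m) = χ ^ m := by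
  classical
  haveI := hM
  obtain ⟨n, ι, _, p, hp, e, ⟨f⟩⟩ := AddCommGroup.equiv_free_prod_directSum_zmod (Additive M)
  haveI : ∀ i, NeZero (p i ^ e i) := fun i => ⟨pow_ne_zero _ (hp i).ne_zero⟩
  haveI : Finite (DirectSum ι fun i => ZMod (p i ^ e i)) :=
    Finite.of_equiv _ (DirectSum.linearEquivFunOnFintype ℤ ι fun i => ZMod (p i ^ e i)).toEquiv.symm
  let F := DirectSum ι fun i => ZMod (p i ^ e i)
  refine ⟨Nat.card F, Nat.card_pos, fun χ N hN => ?_⟩
  set m := Nat.card F
  let χ' : (Fin n →₀ ℤ) × F →+ Additive G := (MonoidHom.toAdditive χ).comp f.symm.toAddMonoidHom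
  choose y hy using fun i : Fin n => hdiv (Additive.toMul (χ' (Finsupp.single i 1, 0))) N hN
  let ψ₁ : (Fin n →₀ ℤ) →+ Additive G := Finsupp.liftAddHom fun i => zmultiplesHom (Additive G) (Additive.ofMul (y i))
  let ψ' : (Fin n →₀ ℤ) × F →+ Additive G := ψ₁.comp (AddMonoidHom.fst _ _)
  have h1 : ∀ x, (N * m) • ψ' x = m • χ' x := by
    rintro ⟨a, b⟩
    have hb : m • χ' ((0 : Fin n →₀ ℤ), b) = 0 := by
      rw [← map_nsmul, Prod.smul_mk, smul_zero, card_nsmul_eq_zero', ← Prod.zero_eq_mk, map_zero]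
    have ha : N • ψ₁ a = χ' (a, 0) := by
      suffices h : N • ψ₁ = χ'.comp (AddMonoidHom.inl _ F) from DFunLike.congr_fun h a
      ext i
      change N • ψ₁ (Finsupp.single i 1) = χ' (Finsupp.single i 1, 0)
      rw [Finsupp.liftAddHom_apply_single, zmultiplesHom_apply, one_smul, ← ofMul_pow, hy, ofMul_toMul]
    change (N * m) • ψ₁ a = m • χ' (a, b)
    rw [show ((a, b) : (Fin n →₀ ℤ) × F) = (a, 0) + (0, b) by simp, map_add, nsmul_add, hb, add_zero, ← ha,
      smul_smul, mul_comm]
  refine ⟨MonoidHom.toAdditive.symm (ψ'.comp f.toAddMonoidHom), MonoidHom.ext fun x => ?_⟩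
  rw [MonoidHom.pow_apply, MonoidHom.pow_apply]
  have h2 := congrArg Additive.toMul (h1 (f (Additive.ofMul x)))
  simpa [χ', toMul_nsmul] using h2

end Roots

section Points

variable {A : Type u} [CommRing A] {B : Type u} [CommRing B] [HopfAlgebra A B] {K : Type u} [CommRing K] [Algebra A K]
  {L : Type u} [CommRing L] [Algebra A L] [Algebra K L] [IsScalarTower A K L]

/-- the extension of a point -/
def hat (g : WithConv (B →ₐ[A] L)) : WithConv (K ⊗[A] B →ₐ[K] L) :=
  toConv (Algebra.TensorProduct.lift (Algebra.ofId K L) g.ofConv fun _ _ => Commute.all _ _)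

theorem hat_one_tmul (g : WithConv (B →ₐ[A] L)) (b : B) : (hat (K := K) g).ofConv (1 ⊗ₜ b) = g b := by
  simp [hat]

theorem hat_mul (g g' : WithConv (B →ₐ[A] L)) : hat (K := K) (g * g') = hat g * hat g' := by
  apply WithConv.ext
  refine Sq.eq_of_one_tmul fun b => ?_
  rw [hat_one_tmul, AlgHom.convMul_apply, AlgHom.convMul_apply, Lift.comul_red]
  generalize comul (R := A) b = w
  induction w using TensorProduct.induction_on with
  | zero => simp
  | add p q hp hq => simp only [map_add, hp, hq]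
  | tmul p q => simp [Lift.red₂_tmul, hat_one_tmul]

theorem hat_one : hat (K := K) (1 : WithConv (B →ₐ[A] L)) = 1 := by
  apply WithConv.ext
  refine Sq.eq_of_one_tmul fun b => ?_
  rw [hat_one_tmul, AlgHom.convOne_apply, AlgHom.convOne_apply, TensorProduct.counit_tmul]
  simp [Algebra.smul_def, ← IsScalarTower.algebraMap_apply]

theorem hat_pow (g : WithConv (B →ₐ[A] L)) : ∀ n : ℕ, hat (K := K) (g ^ n) = hat (K := K) g ^ n
  | 0 => by rw [pow_zero, pow_zero, hat_one]
  | n + 1 => by rw [pow_succ, pow_succ, hat_mul, hat_pow g n]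

theorem apply_pow (G : WithConv (K ⊗[A] B →ₐ[K] L)) {z : K ⊗[A] B} (hz : IsGroupLikeElem K z) :
    ∀ n : ℕ, (G ^ n) z = G z ^ n
  | 0 => by rw [pow_zero, pow_zero, AlgHom.convOne_apply, hz.counit_eq_one, map_one]
  | n + 1 => by
    rw [pow_succ, pow_succ, AlgHom.convMul_apply, hz.comul_eq_tmul_self, Algebra.TensorProduct.lift_tmul,
      apply_pow G hz n]

theorem exists_point_root {K : Type u} [Field K] [Algebra A K] [IsAlgClosed K] [Algebra.FiniteType A B] {M : Type u}
    [CommGroup M] (e : K ⊗[A] B ≃ₐc[K] MonoidAlgebra K M) :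
    ∃ m : ℕ, 0 < m ∧ ∀ (g : WithConv (B →ₐ[A] K)) (N : ℕ), 0 < N →
      ∃ g' : WithConv (B →ₐ[A] K), g' ^ (N * m) = g ^ m := by
  obtain ⟨m, hm, hroot⟩ := exists_root (M := M) (G := Kˣ) (Diag.group_fg_of_finiteType e.toAlgEquiv) fun g k hk => by
    obtain ⟨y, hy⟩ := IsAlgClosed.exists_pow_nat_eq (g : K) hk
    have hy0 : y ≠ 0 := fun h => g.ne_zero (by rw [← hy, h, zero_pow hk.ne'])
    exact ⟨Units.mk0 y hy0, Units.ext hy⟩
  refine ⟨m, hm, fun g N hN => ?_⟩
  have hgl : ∀ x : M, IsGroupLikeElem K (e.symm (MonoidAlgebra.single x 1)) := fun x =>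
    (MonoidAlgebra.isGroupLikeElem_single_one x).map e.symm
  let c : M →* K := (((hat (K := K) g).ofConv.comp (e.symm : MonoidAlgebra K M →ₐ[K] K ⊗[A] B)) :
    MonoidAlgebra K M →* K).comp (MonoidAlgebra.of K M)
  obtain ⟨ψ, hψ⟩ := hroot c.toHomUnits N hN
  let G' : K ⊗[A] B →ₐ[K] K :=
    (MonoidAlgebra.lift K K M ((Units.coeHom K).comp ψ)).comp (e : K ⊗[A] B →ₐ[K] MonoidAlgebra K M)
  refine ⟨toConv ((G'.restrictScalars A).comp Algebra.TensorProduct.includeRight), ?_⟩
  set g' : WithConv (B →ₐ[A] K) := toConv ((G'.restrictScalars A).comp Algebra.TensorProduct.includeRight)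
  have hg' : hat (K := K) g' = toConv G' := WithConv.ext (Sq.eq_of_one_tmul fun b => hat_one_tmul g' b)
  suffices h : hat (K := K) (g' ^ (N * m)) = hat (g ^ m) by
    apply WithConv.ext
    ext b
    rw [← hat_one_tmul (K := K) (g' ^ (N * m)), ← hat_one_tmul (K := K) (g ^ m), h]
  rw [hat_pow, hat_pow, hg']
  apply WithConv.ext
  refine AlgHom.ext fun z => ?_
  rw [← show e.symm (e z) = z from e.toAlgEquiv.symm_apply_apply z]
  generalize e z = y
  induction y using MonoidAlgebra.induction_linear with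
  | zero => simp
  | add p q hp hq => simp only [map_add, hp, hq]
  | single x r =>
    rw [show MonoidAlgebra.single x r = r • MonoidAlgebra.single x (1 : K) by simp, map_smul e.symm, map_smul, map_smul]
    congr 1
    refine (apply_pow _ (hgl x) _).trans (Eq.trans ?_ (apply_pow _ (hgl x) _).symm)
    change G' (e.symm (MonoidAlgebra.single x 1)) ^ _ = c x ^ m
    rw [show G' (e.symm (MonoidAlgebra.single x 1)) =
        MonoidAlgebra.lift K K M ((Units.coeHom K).comp ψ) (MonoidAlgebra.single x 1) from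
          congrArg (MonoidAlgebra.lift K K M ((Units.coeHom K).comp ψ)) (e.toAlgEquiv.apply_symm_apply _),
      MonoidAlgebra.lift_single, one_smul]
    have h2 := congrArg Units.val (DFunLike.congr_fun hψ x)
    simpa using h2

end Points

section Main

variable {A : Type u} [CommRing A] {C : Type u} [CommRing C] [HopfAlgebra A C] [IsCocomm A C]
  {B : Type u} [CommRing B] [HopfAlgebra A B]

theorem comp_powConv {K : Type u} [CommRing K] [Algebra A K] (h : WithConv (C →ₐ[A] K)) (c : C) :
    ∀ n : ℕ, h (SGA3b.powConv A C n c) = (h ^ n) c := by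
  suffices key : ∀ n : ℕ, toConv (h.ofConv.comp (SGA3b.powConv A C n)) = h ^ n from fun n =>
    congrArg (fun f : WithConv (C →ₐ[A] K) => f c) (key n)
  intro n
  induction n with
  | zero =>
    apply WithConv.ext
    ext x
    change h (((toConv (AlgHom.id A C)) ^ 0).ofConv x) = ((h ^ 0) : WithConv (C →ₐ[A] K)) x
    rw [pow_zero, pow_zero, AlgHom.convOne_apply]
    exact h.ofConv.commutes _
  | succ n ih =>
    rw [pow_succ h, ← ih]
    apply WithConv.ext
    change h.ofConv.comp ((toConv (AlgHom.id A C) ^ (n + 1)).ofConv) = _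
    rw [pow_succ, AlgHom.comp_convMul_distrib]
    rfl

/-- points of a commutative group form a group -/
@[reducible] def instPointsGroup {K : Type u} [CommRing K] [Algebra A K] : CommGroup (WithConv (C →ₐ[A] K)) :=
  { (inferInstance : CommMonoid (WithConv (C →ₐ[A] K))) with
    inv := fun f => toConv (f.ofConv.comp (HopfAlgebra.antipodeAlgHom A C))
    inv_mul_cancel := fun f => by
      apply WithConv.ext
      have h := AlgHom.comp_convMul_distrib f.ofConv (toConv (HopfAlgebra.antipodeAlgHom A C))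
        (toConv (AlgHom.id A C))
      rw [AlgHom.antipode_id_cancel] at h
      refine h.symm.trans ?_
      ext c
      exact f.ofConv.commutes _ }

attribute [local instance] instPointsGroup

theorem eq_zero_of_points [Algebra.FiniteType A C] (φ : C →ₐc[A] B) (hφ : Function.Surjective φ) {e : C}
    (he : IsIdempotentElem e) (hker : RingHom.ker (φ : C →ₐ[A] B) = Ideal.span {e}) (hB : SGA3b.IsIsotrivial A B)
    (htors : ∀ n : ℕ, 0 < n → e ∈ SGA3b.torsionIdeal A C n) : e = 0 := by
  classical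
  refine he.eq_zero_of_isNilpotent ?_
  rw [nilpotent_iff_mem_prime]
  intro q hq
  let K := AlgebraicClosure q.ResidueField
  suffices h : ∀ h : WithConv (C →ₐ[A] K), h e = 0 by
    have h0 : algebraMap C K e = 0 := h (toConv (IsScalarTower.toAlgHom A C K))
    rw [IsScalarTower.algebraMap_apply C q.ResidueField K, map_eq_zero_iff _ (RingHom.injective _)] at h0
    exact Ideal.algebraMap_residueField_eq_zero.mp h0
  have hεe : counit (R := A) e = 0 := by
    have h1 : φ e = 0 := (hker ▸ Ideal.subset_span rfl : e ∈ RingHom.ker (φ : C →ₐ[A] B))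
    rw [← CoalgHomClass.counit_comp_apply φ e, h1, map_zero]
  haveI : Algebra.FiniteType A B := Algebra.FiniteType.of_surjective (φ : C →ₐ[A] B) hφ
  -- splitting over `K`
  obtain ⟨T, _, _, _, hTfin, hTff, M, _, ⟨eT⟩⟩ := hB
  haveI : Nontrivial (K ⊗[A] T) := Module.FaithfullyFlat.rTensor_nontrivial (R := A) T K
  obtain ⟨p, hp⟩ := Ideal.exists_maximal (K ⊗[A] T)
  haveI := hp
  letI : Field ((K ⊗[A] T) ⧸ p) := Ideal.Quotient.field p
  let ι₀ : K ≃ₐ[K] (K ⊗[A] T) ⧸ p := AlgEquiv.ofBijective (Algebra.ofId K _)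
    (IsAlgClosed.algebraMap_bijective_of_isIntegral (k := K) (K := (K ⊗[A] T) ⧸ p))
  let gT : T →ₐ[A] K := ((ι₀.symm : _ →ₐ[K] K).restrictScalars A).comp
    ((Ideal.Quotient.mkₐ A p).comp Algebra.TensorProduct.includeRight)
  obtain ⟨m, hm, hroot⟩ := exists_point_root (GLLift.extend eT gT)
  -- points of the subgroup
  let res : WithConv (B →ₐ[A] K) → WithConv (C →ₐ[A] K) := fun g => toConv (g.ofConv.comp (φ : C →ₐ[A] B))
  have res_mul : ∀ g g', res (g * g') = res g * res g' := fun g g' =>
    congrArg toConv (AlgHom.convMul_comp_bialgHom_distrib g g' φ)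
  have res_e : ∀ g, res g e = 0 := fun g => by
    change g (φ e) = 0
    rw [show φ e = 0 from (hker ▸ Ideal.subset_span rfl : e ∈ RingHom.ker (φ : C →ₐ[A] B))]
    exact map_zero g.ofConv
  have res_one : res 1 = 1 := by
    apply WithConv.ext; ext c
    change algebraMap A K (counit (φ c)) = algebraMap A K (counit c)
    rw [CoalgHomClass.counit_comp_apply]
  have res_pow : ∀ g n, res (g ^ n) = res g ^ n := fun g n => by
    induction n with
    | zero => rw [pow_zero, pow_zero, res_one]
    | succ n ih => rw [pow_succ, pow_succ, res_mul, ih]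
  have mem_res : ∀ h : WithConv (C →ₐ[A] K), h e = 0 → ∃ g, res g = h := by
    intro h he0
    have hle : RingHom.ker (φ : C →ₐ[A] B) ≤ RingHom.ker h.ofConv := by
      rw [hker, Ideal.span_singleton_le_iff_mem]; exact he0
    refine ⟨toConv (AlgHom.liftOfSurjective (φ : C →ₐ[A] B) hφ h.ofConv hle), WithConv.ext (AlgHom.ext fun c => ?_)⟩
    exact AlgHom.liftOfSurjective_apply (φ : C →ₐ[A] B) hφ h.ofConv hle c
  intro h
  -- some power lies in the subgroup
  let τ : WithConv (C →ₐ[A] K) → K ⊗[A] C := fun g =>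
    Algebra.TensorProduct.map g.ofConv (AlgHom.id A C) (comul (R := A) e)
  have hτ : ∀ g x : WithConv (C →ₐ[A] K),
      (g * x) e = Algebra.TensorProduct.lift (Algebra.ofId K K) x.ofConv (fun _ _ => Commute.all _ _) (τ g) := by
    intro g x
    rw [AlgHom.convMul_apply]
    simp only [τ]
    generalize comul (R := A) e = w
    induction w using TensorProduct.induction_on with
    | zero => simp
    | add a b ha hb => simp only [map_add, ha, hb]
    | tmul a b => simp
  have hidem : ∀ g, IsIdempotentElem (τ g) := fun g =>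
    (he.map (Bialgebra.comulAlgHom A C)).map (Algebra.TensorProduct.map g.ofConv (AlgHom.id A C))
  haveI : IsNoetherianRing (K ⊗[A] C) := Algebra.FiniteType.isNoetherianRing K _
  obtain ⟨i, j, hij, heq⟩ : ∃ i j : ℕ, i < j ∧ τ (h ^ i) = τ (h ^ j) := by
    obtain ⟨i, _, j, _, hne, heq⟩ := Set.infinite_univ.exists_ne_map_eq_of_mapsTo
      (f := fun i : ℕ => τ (h ^ i)) (t := {x | IsIdempotentElem x}) (fun i _ => hidem _) (finite_idempotents _)
    rcases lt_or_gt_of_ne hne with h' | h'
    · exact ⟨i, j, h', heq⟩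
    · exact ⟨j, i, h', heq.symm⟩
  have hN : (h ^ (j - i)) e = 0 := by
    have h1 := hτ (h ^ j) (h ^ i)⁻¹
    rw [← heq, ← hτ (h ^ i) (h ^ i)⁻¹, mul_inv_cancel, AlgHom.convOne_apply, hεe, map_zero, ← pow_sub h hij.le] at h1
    exact h1
  obtain ⟨g, hg⟩ := mem_res _ hN
  obtain ⟨g', hg'⟩ := hroot g (j - i) (Nat.sub_pos_of_lt hij)
  let h' := h * (res g')⁻¹
  have hh' : h' ^ ((j - i) * m) = 1 := by
    rw [mul_pow, inv_pow, ← res_pow, hg', res_pow, hg, ← pow_mul, mul_inv_cancel]
  have h'e : h' e = 0 := by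
    refine (Ideal.span_le.mpr ?_ (htors _ (Nat.mul_pos (Nat.sub_pos_of_lt hij) hm)) : e ∈ RingHom.ker h'.ofConv)
    rintro _ ⟨x, hx, rfl⟩
    change h' (SGA3b.powConv A C _ x) = 0
    rw [comp_powConv, hh', AlgHom.convOne_apply, show counit (R := A) x = 0 from hx, map_zero]
  obtain ⟨g'', hg''⟩ := mem_res _ h'e
  have hfin : h = res (g'' * g') := by rw [res_mul, hg'', inv_mul_cancel_right]
  rw [hfin]
  exact res_e _

theorem mem_torsionIdeal_of_finite {I : Ideal A} (hI : I ≤ Ideal.jacobson ⊥) {e : C} (he : IsIdempotentElem e)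
    (heI : e ∈ Ideal.map (algebraMap A C) I) (n : ℕ) [Module.Finite A (C ⧸ SGA3b.torsionIdeal A C n)] :
    e ∈ SGA3b.torsionIdeal A C n := by
  let D := C ⧸ SGA3b.torsionIdeal A C n
  let d : D := Ideal.Quotient.mk _ e
  rw [← Ideal.Quotient.eq_zero_iff_mem]
  have h1 : d ∈ Ideal.map (algebraMap A D) I := by
    have h2 := Ideal.mem_map_of_mem (Ideal.Quotient.mk (SGA3b.torsionIdeal A C n)) heI
    rw [Ideal.map_map] at h2
    exact h2
  haveI : Algebra.IsIntegral A D := Algebra.IsIntegral.of_finite A D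
  have hu : IsUnit (1 - d) := by
    by_contra hnu
    obtain ⟨P, hP, hP1⟩ := exists_max_ideal_of_mem_nonunits (mem_nonunits_iff.mpr hnu)
    have hc : (P.comap (algebraMap A D)).IsMaximal := Ideal.isMaximal_comap_of_isIntegral_of_isMaximal P
    have hd : d ∈ P :=
      (Ideal.map_le_iff_le_comap.mpr (le_trans hI (sInf_le ⟨bot_le, hc⟩)) : Ideal.map (algebraMap A D) I ≤ P) h1
    exact hP.ne_top ((Ideal.eq_top_iff_one _).mpr (by simpa using add_mem hP1 hd))
  have h3 : d * (1 - d) = 0 := by
    rw [mul_sub, mul_one, (he.map (Ideal.Quotient.mk (SGA3b.torsionIdeal A C n))).eq, sub_self]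
  exact hu.mul_left_eq_zero.mp h3

end Main

end

end Groth.Agent.MultType.TorsionFinite
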