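import Groth.Agent.MultType.KerHom

/-!
# A closed subgroup of a diagonalisable group with finite closed fibre is torsion
-/

open TensorProduct WithConv Coalgebra

universe u v w

namespace Groth.Agent.MultType.FinSub

open KerHom

noncomputable section

variable {T : Type u} [CommRing T] {M : Type u} [CommGroup M] {B : Type u} [CommRing B] [HopfAlgebra T B]

theorem kills_fibre (π : MonoidAlgebra T M →ₐc[T] B) (hπ : Function.Surjective π) (K : Type u) [Field K]
    [Algebra T K] {x : MonoidAlgebra T M} (hx : π x = 0) :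
    MonoidAlgebra.mapRingHom (M ⧸ kerGrp (piK π K)) (algebraMap T K)
      (MonoidAlgebra.mapDomainBialgHom T (QuotientGroup.mk' _) x) = 0 := by
  rw [← mapDomain_mapRingHom, ← ker_of_field _ (piK_surjective hπ K), piK_map, hx, TensorProduct.tmul_zero]

/-- specialisation: the subgroup of the closed fibre lies in that of every fibre -/
theorem kerGrp_le' [IsLocalRing T] (π : MonoidAlgebra T M →ₐc[T] B) (hπ : Function.Surjective π) (q : Ideal T)
    [q.IsPrime] : kerGrp (piK π (IsLocalRing.ResidueField T)) ≤ kerGrp (piK π q.ResidueField) := by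
  intro n hn
  let H := kerGrp (piK π q.ResidueField)
  let K₀ := IsLocalRing.ResidueField T
  let ηK : MonoidAlgebra K₀ M →ₐ[K₀] MonoidAlgebra K₀ (M ⧸ H) :=
    (MonoidAlgebra.mapDomainBialgHom K₀ (QuotientGroup.mk' H) : MonoidAlgebra K₀ M →ₐc[K₀] MonoidAlgebra K₀ (M ⧸ H))
  have hmem : MonoidAlgebra.single n (1 : K₀) - 1 ∈ (RingHom.ker (π : MonoidAlgebra T M →ₐ[T] B)).map
      (MonoidAlgebra.mapRingHom M (algebraMap T K₀)) :=
    piK_eq_zero hπ _ (by rw [map_sub, mem_kerGrp.mp hn, map_one, sub_self])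
  have hle : (RingHom.ker (π : MonoidAlgebra T M →ₐ[T] B)).map (MonoidAlgebra.mapRingHom M (algebraMap T K₀)) ≤
      RingHom.ker ηK := by
    refine Ideal.map_le_iff_le_comap.mpr fun x hx => ?_
    exact (mapDomain_mapRingHom _ _).trans (mapRing_zero_of_mem q (kills_fibre π hπ q.ResidueField hx))
  have hz := hle hmem
  rw [RingHom.mem_ker, map_sub, map_one, sub_eq_zero] at hz
  by_contra hne
  have hne' : (QuotientGroup.mk n : M ⧸ H) ≠ 1 := fun h => hne ((QuotientGroup.eq_one_iff n).mp h)
  have h3 := congrArg (fun w => w.coeff (1 : M ⧸ H)) hz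
  simp [ηK, MonoidAlgebra.mapDomainBialgHom, MonoidAlgebra.one_def, hne'] at h3

/-- the exponent of a finite closed fibre -/
theorem exists_pow_mem [IsLocalRing T] (π : MonoidAlgebra T M →ₐc[T] B) (hπ : Function.Surjective π)
    (hfin : Module.Finite (IsLocalRing.ResidueField T) (IsLocalRing.ResidueField T ⊗[T] B)) :
    ∃ n : ℕ, 0 < n ∧ ∀ a : M, ∀ (q : Ideal T) [q.IsPrime], a ^ n ∈ kerGrp (piK π q.ResidueField) := by
  let K₀ := IsLocalRing.ResidueField T
  set N := kerGrp (piK π K₀)
  obtain ⟨e, -⟩ := exists_equiv_of_indep _ (piK_surjective hπ K₀) (indep_of_field (piK π K₀))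
  haveI : Module.Finite K₀ (MonoidAlgebra K₀ (M ⧸ N)) := Module.Finite.equiv e.toAlgEquiv.toLinearEquiv
  haveI : Finite (M ⧸ N) := Module.Finite.finite_basis (MonoidAlgebra.basis (M ⧸ N) K₀)
  refine ⟨Nat.card (M ⧸ N), Nat.card_pos, fun a q _ => kerGrp_le' π hπ q ?_⟩
  rw [← QuotientGroup.eq_one_iff, QuotientGroup.mk_pow, pow_card_eq_one']

/-- the ideal of the elements `g ^ n - 1` -/
def powIdeal (π : MonoidAlgebra T M →ₐc[T] B) (n : ℕ) : Ideal B :=
  Ideal.span (Set.range fun a : M => π (MonoidAlgebra.single (a ^ n) 1) - 1)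

theorem powIdeal_fg [Group.FG M] (π : MonoidAlgebra T M →ₐc[T] B) (n : ℕ) : (powIdeal π n).FG := by
  classical
  obtain ⟨S, hS⟩ := (subgroup_fg ((powMonoidHom n : M →* M).range) : Subgroup.FG _)
  refine ⟨S.image fun b => π (MonoidAlgebra.single b 1) - 1, le_antisymm (Ideal.span_le.mpr ?_) (Ideal.span_le.mpr ?_)⟩
  · intro z hz
    obtain ⟨b, hb, rfl⟩ := Finset.mem_image.mp hz
    have hb' : b ∈ (powMonoidHom n : M →* M).range := hS ▸ Subgroup.subset_closure hb
    obtain ⟨a, rfl⟩ := hb'
    exact Ideal.subset_span ⟨a, rfl⟩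
  · rintro _ ⟨a, rfl⟩
    set Q := Ideal.span ((S.image fun b => π (MonoidAlgebra.single b 1) - 1 : Finset B) : Set B)
    let f : M →* B ⧸ Q := (Ideal.Quotient.mk Q : B →* B ⧸ Q).comp (imgHom π)
    have h : (powMonoidHom n : M →* M).range ≤ f.toHomUnits.ker := by
      rw [← hS, Subgroup.closure_le]
      intro b hb
      refine MonoidHom.mem_ker.mpr (Units.ext ?_)
      change Ideal.Quotient.mk Q (π (MonoidAlgebra.single b 1)) = 1
      rw [← map_one (Ideal.Quotient.mk Q), Ideal.Quotient.eq]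
      exact Ideal.subset_span (Finset.mem_image_of_mem _ hb)
    have h1 := congrArg Units.val (MonoidHom.mem_ker.mp (h ⟨a, rfl⟩))
    refine Ideal.Quotient.eq_zero_iff_mem.mp ?_
    rw [map_sub, map_one, sub_eq_zero]
    exact h1

/-- a denominator in the base for a congruence valid in the fibre -/
theorem exists_denominator (π : MonoidAlgebra T M →ₐc[T] B) (hπ : Function.Surjective π) (q : Ideal T) [q.IsPrime]
    {a : M} (ha : a ∈ kerGrp (piK π q.ResidueField)) :
    ∃ s ∉ q, algebraMap T B s * (π (MonoidAlgebra.single a 1) - 1) ∈ q.map (algebraMap T B) := by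
  let S := Algebra.algebraMapSubmonoid B q.primeCompl
  let φ : MonoidAlgebra T M →+* Localization S :=
    (algebraMap B (Localization S)).comp (π : MonoidAlgebra T M →ₐ[T] B).toRingHom
  have hφ : ∀ r ∉ q, IsUnit (φ (algebraMap T (MonoidAlgebra T M) r)) := fun r hr => by
    change IsUnit (algebraMap B (Localization S) ((π : MonoidAlgebra T M →ₐ[T] B) (algebraMap T _ r)))
    rw [AlgHom.commutes]
    exact IsLocalization.map_units (Localization S) (⟨algebraMap T B r, r, hr, rfl⟩ : S)
  have hmem : MonoidAlgebra.single a (1 : q.ResidueField) - 1 ∈ (RingHom.ker (π : MonoidAlgebra T M →ₐ[T] B)).map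
      (MonoidAlgebra.mapRingHom M (algebraMap T q.ResidueField)) :=
    piK_eq_zero hπ _ (by rw [map_sub, mem_kerGrp.mp ha, map_one, sub_self])
  have h := mem_localization _ φ q hφ hmem
  have hle : (RingHom.ker (π : MonoidAlgebra T M →ₐ[T] B) ⊔ q.map (algebraMap T (MonoidAlgebra T M))).map φ ≤
      (q.map (algebraMap T B)).map (algebraMap B (Localization S)) := by
    refine Ideal.map_le_iff_le_comap.mpr (sup_le (fun x hx => ?_) (Ideal.map_le_iff_le_comap.mpr fun r hr => ?_))
    · rw [Ideal.mem_comap]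
      change algebraMap B (Localization S) (π x) ∈ (q.map (algebraMap T B)).map (algebraMap B (Localization S))
      rw [show π x = 0 from hx, map_zero]
      exact zero_mem _
    · rw [Ideal.mem_comap, Ideal.mem_comap]
      change algebraMap B (Localization S) ((π : MonoidAlgebra T M →ₐ[T] B) (algebraMap T (MonoidAlgebra T M) r)) ∈
        (q.map (algebraMap T B)).map (algebraMap B (Localization S))
      rw [AlgHom.commutes]
      exact Ideal.mem_map_of_mem _ (Ideal.mem_map_of_mem _ hr)
  obtain ⟨⟨b, s⟩, hbs⟩ := (IsLocalization.mem_map_algebraMap_iff S (Localization S)).mp (hle h)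
  have hbs' : algebraMap B (Localization S) ((π (MonoidAlgebra.single a 1) - 1) * (s : B)) =
      algebraMap B (Localization S) (b : B) := by
    rw [map_mul]
    refine Eq.trans ?_ hbs
    simp [φ]
  obtain ⟨c, hc⟩ := (IsLocalization.eq_iff_exists S (Localization S)).mp hbs'
  obtain ⟨s₀, hs₀, hs⟩ := s.2
  obtain ⟨c₀, hc₀, hc'⟩ := c.2
  refine ⟨c₀ * s₀, fun h => (Ideal.IsPrime.mem_or_mem inferInstance h).elim hc₀ hs₀, ?_⟩
  rw [map_mul, hc', hs,
    show (c : B) * (s : B) * (π (MonoidAlgebra.single a 1) - 1) =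
      (c : B) * ((π (MonoidAlgebra.single a 1) - 1) * (s : B)) by ring, hc]
  exact Ideal.mul_mem_left _ _ b.2

theorem pow_sub_one_mem {A : Type u} [CommRing A] {I : Ideal A} {g : A} (hg : g - 1 ∈ I) (n : ℕ) :
    (g ^ n - 1) - (n : A) * (g - 1) ∈ I * I := by
  induction n with
  | zero => simp
  | succ k ih =>
    have hk : g ^ k - 1 ∈ I := I.mem_of_dvd (sub_one_dvd_pow_sub_one g k) hg
    have : g ^ (k + 1) - 1 - ((k + 1 : ℕ) : A) * (g - 1) =
        (g ^ k - 1 - (k : A) * (g - 1)) + (g ^ k - 1) * (g - 1) := by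
      push_cast; ring
    rw [this]
    exact add_mem ih (Ideal.mul_mem_mul hk hg)

variable [Group.FG M] (π : MonoidAlgebra T M →ₐc[T] B)

omit [Group.FG M] in
theorem imgHom_pow (a : M) (n : ℕ) : π (MonoidAlgebra.single (a ^ n) 1) = π (MonoidAlgebra.single a 1) ^ n :=
  map_pow (imgHom π) a n

omit [Group.FG M] in
/-- the key congruence: `n I ≤ (q + I) I` near `q` -/
theorem key_congr (hπ : Function.Surjective π) {n : ℕ} (q : Ideal T) [q.IsPrime] (a : M)
    (hn : a ^ n ∈ kerGrp (piK π q.ResidueField)) :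
    ∃ s ∉ q, (algebraMap T B s * (n : B)) * (π (MonoidAlgebra.single (a ^ n) 1) - 1) ∈
      (q.map (algebraMap T B) ⊔ powIdeal π n) * powIdeal π n := by
  obtain ⟨s, hs, hmem⟩ := exists_denominator π hπ q hn
  refine ⟨s, hs, ?_⟩
  set I := powIdeal π n
  have hq : q.map (algebraMap T B) =
      (q.map (algebraMap T (MonoidAlgebra T M))).map (π : MonoidAlgebra T M →ₐ[T] B).toRingHom := by
    rw [Ideal.map_map]
    congr 1
    exact ((π : MonoidAlgebra T M →ₐ[T] B).comp_algebraMap).symm
  rw [hq, Ideal.mem_map_iff_of_surjective (π : MonoidAlgebra T M →ₐ[T] B).toRingHom (show Function.Surjective (π : MonoidAlgebra T M →ₐ[T] B).toRingHom from hπ)] at hmem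
  obtain ⟨μ, hμ, hμe⟩ := hmem
  change π μ = _ at hμe
  have hε : counit (R := T) μ = 0 := by
    have hg : IsGroupLikeElem T (π (MonoidAlgebra.single (a ^ n) 1)) :=
      (MonoidAlgebra.isGroupLikeElem_of (a ^ n)).map π
    rw [← CoalgHomClass.counit_comp_apply π μ, hμe, Bialgebra.counit_mul, map_sub, Bialgebra.counit_one,
      hg.counit_eq_one, sub_self, mul_zero]
  let Pn : MonoidAlgebra T M →ₐ[T] MonoidAlgebra T M :=
    (MonoidAlgebra.mapDomainBialgHom T (powMonoidHom n : M →* M) : MonoidAlgebra T M →ₐc[T] MonoidAlgebra T M)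
  have hsum : ∀ x ∈ (q.map (algebraMap T (MonoidAlgebra T M))).restrictScalars T,
      π (Pn x) - algebraMap T B (counit (R := T) x) ∈ q.map (algebraMap T B) * I := by
    intro x hx
    rw [← Ideal.smul_top_eq_map] at hx
    refine Submodule.smul_induction_on hx (fun r hr w _ => ?_) (fun u v hu hv => ?_)
    · rw [map_smul, map_smul, map_smul, smul_eq_mul, map_mul, Algebra.smul_def, ← mul_sub]
      refine Ideal.mul_mem_mul (Ideal.mem_map_of_mem _ hr) ?_
      rename_i hw
      clear hw
      induction w using MonoidAlgebra.induction_linear with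
      | zero => simp
      | add u v hu hv => rw [map_add, map_add, map_add, map_add, add_sub_add_comm]; exact add_mem hu hv
      | single m c =>
        have h1 : MonoidAlgebra.single m c = c • MonoidAlgebra.single m (1 : T) := by simp
        rw [h1, map_smul, map_smul, map_smul, smul_eq_mul, map_mul, Algebra.smul_def, ← mul_sub]
        refine Ideal.mul_mem_left _ _ ?_
        have h2 : Pn (MonoidAlgebra.single m 1) = MonoidAlgebra.single (m ^ n) 1 := by
          simp [Pn, MonoidAlgebra.mapDomainBialgHom]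
        rw [h2, MonoidAlgebra.counit_single, CommSemiring.counit_apply, map_one]
        exact Ideal.subset_span ⟨m, rfl⟩
    · rw [map_add, map_add, map_add, map_add, add_sub_add_comm]; exact add_mem hu hv
  have h1 := hsum μ hμ
  rw [hε, map_zero, sub_zero] at h1
  have hPn : π (Pn μ) = algebraMap T B s * (π (MonoidAlgebra.single ((a ^ n) ^ n) 1) - 1) := by
    have hint : ∀ x, π (Pn x) = SGA3b.powConv T B n (π x) := by
      intro x
      induction x using MonoidAlgebra.induction_linear with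
      | zero => simp
      | add u v hu hv => simp only [map_add, hu, hv]
      | single m c =>
        have hg : IsGroupLikeElem T (π (MonoidAlgebra.single m 1)) := (MonoidAlgebra.isGroupLikeElem_of m).map π
        rw [show MonoidAlgebra.single m c = c • MonoidAlgebra.single m (1 : T) by simp, map_smul, map_smul,
          map_smul, map_smul]
        congr 1
        rw [show SGA3b.powConv T B n (π (MonoidAlgebra.single m 1)) =
          ((toConv (AlgHom.id T B)) ^ n) (π (MonoidAlgebra.single m 1)) from rfl, OpenSub.apply_convPow _ hg]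
        change _ = π (MonoidAlgebra.single m 1) ^ n
        rw [← imgHom_pow]
        congr 1
        simp [Pn, MonoidAlgebra.mapDomainBialgHom]
    have hg : IsGroupLikeElem T (π (MonoidAlgebra.single (a ^ n) 1)) :=
      (MonoidAlgebra.isGroupLikeElem_of (a ^ n)).map π
    rw [hint, hμe, map_mul, AlgHom.commutes, map_sub, map_one]
    congr 2
    rw [show SGA3b.powConv T B n (π (MonoidAlgebra.single (a ^ n) 1)) =
      ((toConv (AlgHom.id T B)) ^ n) (π (MonoidAlgebra.single (a ^ n) 1)) from rfl, OpenSub.apply_convPow _ hg,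
      imgHom_pow π (a ^ n) n]
    rfl
  rw [hPn, imgHom_pow π (a ^ n) n] at h1
  have hxI : π (MonoidAlgebra.single (a ^ n) 1) - 1 ∈ I := Ideal.subset_span ⟨a, rfl⟩
  have h2 := pow_sub_one_mem hxI n
  rw [show algebraMap T B s * (n : B) * (π (MonoidAlgebra.single (a ^ n) 1) - 1) =
    algebraMap T B s * (π (MonoidAlgebra.single (a ^ n) 1) ^ n - 1) -
      algebraMap T B s * (π (MonoidAlgebra.single (a ^ n) 1) ^ n - 1 -
        (n : B) * (π (MonoidAlgebra.single (a ^ n) 1) - 1)) by ring]
  refine sub_mem (Ideal.mul_mono_left le_sup_left h1) (Ideal.mul_mem_left _ _ ?_)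
  exact Ideal.mul_mono_left le_sup_right h2

omit [Group.FG M] in
theorem powIdeal_le (hπ : Function.Surjective π) {n : ℕ}
    (hn : ∀ a : M, ∀ (q : Ideal T) [q.IsPrime], a ^ n ∈ kerGrp (piK π q.ResidueField)) (P : Ideal B) [P.IsPrime] :
    powIdeal π n ≤ P := by
  rw [powIdeal, Ideal.span_le]
  rintro _ ⟨a, rfl⟩
  obtain ⟨s, hs, hmem⟩ := exists_denominator π hπ (P.comap (algebraMap T B)) (hn a _)
  exact (Ideal.IsPrime.mem_or_mem inferInstance (Ideal.map_comap_le hmem)).resolve_left hs

theorem pow_kills_powIdeal (hπ : Function.Surjective π) {n : ℕ}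
    (hn : ∀ a : M, ∀ (q : Ideal T) [q.IsPrime], a ^ n ∈ kerGrp (piK π q.ResidueField)) :
    ∃ k : ℕ, ∀ x ∈ powIdeal π n, (n : B) ^ k * x = 0 := by
  classical
  set I := powIdeal π n
  suffices h : (n : B) ∈ (Submodule.annihilator I).radical by
    obtain ⟨k, hk⟩ := h
    exact ⟨k, fun x hx => Submodule.mem_annihilator.mp hk x hx⟩
  rw [Ideal.radical_eq_sInf]
  refine Submodule.mem_sInf.mpr fun (P : Ideal B) (hPP : P ∈ {J : Ideal B | Submodule.annihilator I ≤ J ∧ J.IsPrime}) => ?_
  obtain ⟨hP, hPp⟩ := hPP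
  by_contra hnP
  haveI : P.IsPrime := hPp
  let L := Localization.AtPrime P
  let φ : B →+* L := algebraMap B L
  let q := P.comap (algebraMap T B)
  have hle : I.map φ ≤ ⊥ := by
    refine Submodule.le_of_le_smul_of_le_jacobson_bot (I := P.map φ) ((powIdeal_fg π n).map φ) ?_ ?_
    · refine le_trans ?_ (IsLocalRing.maximalIdeal_le_jacobson _)
      rw [Localization.AtPrime.map_eq_maximalIdeal]
    · rw [Ideal.smul_eq_mul, bot_sup_eq, ← Ideal.map_mul, show I = Ideal.span _ from rfl, Ideal.map_span,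
        Ideal.span_le]
      rintro _ ⟨_, ⟨a, rfl⟩, rfl⟩
      obtain ⟨s, hs, hmem⟩ := key_congr π hπ q a (hn a q)
      have hu : IsUnit (φ (algebraMap T B s * (n : B))) := IsLocalization.map_units L
        (⟨algebraMap T B s * (n : B), fun h => (hPp.mem_or_mem h).elim hs hnP⟩ : P.primeCompl)
      have h2 := Ideal.mem_map_of_mem φ
        (Ideal.mul_mono_left (sup_le Ideal.map_comap_le (powIdeal_le π hπ hn P)) hmem)
      rw [map_mul] at h2
      exact (Ideal.unit_mul_mem_iff_mem _ hu).mp h2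
  obtain ⟨G, hG⟩ := powIdeal_fg π n
  have hc : ∀ x ∈ I, ∃ c : P.primeCompl, (c : B) * x = 0 := fun x hx =>
    (IsLocalization.map_eq_zero_iff P.primeCompl L x).mp
      ((Submodule.mem_bot L).mp (hle (Ideal.mem_map_of_mem φ hx)))
  choose c hc using hc
  have hGI : ∀ x : {x // x ∈ G}, x.1 ∈ I := fun x => by
    change x.1 ∈ powIdeal π n; rw [← hG]; exact Ideal.subset_span x.2
  have hmem : ∏ x ∈ G.attach, (c x.1 (hGI x) : B) ∈ Submodule.annihilator I := by
    rw [Submodule.mem_annihilator]
    intro y hy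
    have hy' : y ∈ Ideal.span (G : Set B) := by rw [hG]; exact hy
    refine Submodule.span_induction (fun x hx => ?_) (smul_zero _)
      (fun u v _ _ hu hv => by rw [smul_add, hu, hv, add_zero]) (fun r u _ hu => by rw [smul_comm, hu, smul_zero]) hy'
    obtain ⟨d, hd⟩ := Finset.dvd_prod_of_mem (fun x : {x // x ∈ G} => (c x.1 (hGI x) : B))
      (Finset.mem_attach G ⟨x, hx⟩)
    rw [hd, smul_eq_mul, mul_right_comm, hc, zero_mul]
  obtain ⟨x, -, hx⟩ := (Ideal.IsPrime.prod_mem_iff).mp (hP hmem)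
  exact (c x.1 (hGI x)).2 hx

omit [Group.FG M] in
theorem iterate_step {A : Type u} [CommRing A] {I : Ideal A} (n j : ℕ) (h : A)
    (ih : h - 1 ∈ (Ideal.span {(n : A)} ⊔ I) ^ j * I) : h ^ n - 1 ∈ (Ideal.span {(n : A)} ⊔ I) ^ (j + 1) * I := by
  have hgI : h - 1 ∈ I := (Ideal.mul_le_right : (Ideal.span {(n : A)} ⊔ I) ^ j * I ≤ I) ih
  have hsum : (∑ i ∈ Finset.range n, h ^ i) ∈ Ideal.span {(n : A)} ⊔ I := by
    have h1 : (∑ i ∈ Finset.range n, h ^ i) = (n : A) + ∑ i ∈ Finset.range n, (h ^ i - 1) := by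
      rw [Finset.sum_sub_distrib]; simp
    rw [h1]
    exact add_mem (Ideal.mem_sup_left (Ideal.mem_span_singleton_self _))
      (Ideal.mem_sup_right (sum_mem fun i _ => I.mem_of_dvd (sub_one_dvd_pow_sub_one h i) hgI))
  rw [← geom_sum_mul h n, pow_succ' (Ideal.span {(n : A)} ⊔ I) j, mul_assoc]
  exact Ideal.mul_mem_mul hsum ih

/-- `g ≡ 1` modulo a nilpotent ideal killed by `n ^ k` is killed by a power of `n` -/
theorem iterate_eq_zero {A : Type u} [CommRing A] {I : Ideal A} {g : A} {n k N : ℕ}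
    (hk : ∀ x ∈ I, (n : A) ^ k * x = 0) (hN : I ^ N = ⊥) (hg : g - 1 ∈ I) : g ^ n ^ (k + N) - 1 = 0 := by
  let E : Ideal A := Ideal.span {(n : A)} ⊔ I
  have hiter : ∀ j : ℕ, g ^ n ^ j - 1 ∈ E ^ j * I := by
    intro j
    induction j with
    | zero =>
      rw [pow_zero, pow_zero, pow_one, Ideal.one_eq_top, Ideal.top_mul]
      exact hg
    | succ j ih =>
      rw [pow_succ n j, pow_mul]
      exact iterate_step n j (g ^ n ^ j) ih
  have hzero : E ^ (k + N) * I ≤ ⊥ := by
    refine le_trans (Ideal.mul_mono_left (Ideal.sup_pow_add_le_pow_sup_pow (I := Ideal.span {(n : A)}) (J := I) (n := k) (m := N))) ?_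
    rw [hN, sup_bot_eq, Ideal.span_singleton_pow, Ideal.mul_le]
    intro u hu v hv
    obtain ⟨w, rfl⟩ := Ideal.mem_span_singleton'.mp hu
    rw [mul_assoc, hk v hv, mul_zero]
    exact zero_mem _
  exact (Submodule.mem_bot A).mp (hzero (hiter (k + N)))

omit [Group.FG M] in
/-- convolution powers commute with isomorphisms -/
theorem powConv_map {U : Type u} [CommRing U] {X Y : Type u} [CommRing X] [HopfAlgebra U X] [CommRing Y]
    [HopfAlgebra U Y] (e : X ≃ₐc[U] Y) (n : ℕ) (x : X) :
    SGA3b.powConv U Y n (e x) = e (SGA3b.powConv U X n x) := by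
  have h2 := OpenSub.pow_comp (toConv (AlgHom.id U Y)) (e : X →ₐc[U] Y) n
  have h3 := OpenSub.apply_powConv (toConv ((AlgHom.id U Y).comp ((e : X →ₐc[U] Y) : X →ₐ[U] Y))) x n
  rw [h2] at h3
  exact h3.symm

/-- **a closed subgroup with finite closed fibre is killed by an integer** -/
theorem exists_pow_eq_one [IsLocalRing T] (hπ : Function.Surjective π)
    (hfin : Module.Finite (IsLocalRing.ResidueField T) (IsLocalRing.ResidueField T ⊗[T] B)) :
    ∃ n : ℕ, 0 < n ∧ ∀ a : M, π (MonoidAlgebra.single (a ^ n) 1) = 1 := by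
  obtain ⟨n, hn0, hn⟩ := exists_pow_mem π hπ hfin
  obtain ⟨k, hk⟩ := pow_kills_powIdeal π hπ hn
  set I := powIdeal π n
  obtain ⟨N, hN⟩ : ∃ N, I ^ N = ⊥ := by
    refine Ideal.exists_pow_le_of_le_radical_of_fg (J := ⊥) ?_ (powIdeal_fg π n) |>.imp fun N h => le_bot_iff.mp h
    rw [Ideal.radical_eq_sInf]
    exact le_sInf fun P ⟨_, hP⟩ => powIdeal_le π hπ hn P
  refine ⟨n * n ^ (k + N), by positivity, fun a => ?_⟩
  rw [pow_mul, imgHom_pow π (a ^ n)]
  exact sub_eq_zero.mp (iterate_eq_zero hk hN (Ideal.subset_span ⟨a, rfl⟩))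

omit [Group.FG M] in
/-- the multiplication by `n` is trivial on a quotient killing the `n`-th powers of the characters -/
theorem apply_powConv_eq {n : ℕ} (h : ∀ a : M, π (MonoidAlgebra.single (a ^ n) 1) = 1) (x : MonoidAlgebra T M) :
    π (SGA3b.powConv T (MonoidAlgebra T M) n x) = algebraMap T B (counit (R := T) x) := by
  induction x using MonoidAlgebra.induction_linear with
  | zero => simp
  | add u v hu hv => simp only [map_add, hu, hv]
  | single m c =>
    rw [show MonoidAlgebra.single m c = c • MonoidAlgebra.single m (1 : T) by simp, map_smul, map_smul, map_smul,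
      Algebra.smul_def, smul_eq_mul, map_mul]
    congr 1
    rw [show SGA3b.powConv T (MonoidAlgebra T M) n (MonoidAlgebra.single m 1) =
      ((toConv (AlgHom.id T (MonoidAlgebra T M))) ^ n) (MonoidAlgebra.single m 1) from rfl,
      OpenSub.apply_convPow _ (MonoidAlgebra.isGroupLikeElem_of m)]
    change π (MonoidAlgebra.single m (1 : T) ^ n) = _
    rw [MonoidAlgebra.single_pow, one_pow, h, MonoidAlgebra.counit_single, CommSemiring.counit_apply, map_one]

omit [Group.FG M] in
/-- the residue fibre stays finite after a local extension -/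
theorem finite_residue_bc {R : Type u} [CommRing R] [IsLocalRing R] {X : Type u} [AddCommGroup X] [Module R X]
    (hs : Module.Finite (IsLocalRing.ResidueField R) (IsLocalRing.ResidueField R ⊗[R] X)) (U : Type u) [CommRing U]
    [IsLocalRing U] [Algebra R U] [IsLocalHom (algebraMap R U)] :
    Module.Finite (IsLocalRing.ResidueField U) (IsLocalRing.ResidueField U ⊗[U] (U ⊗[R] X)) := by
  let κ := IsLocalRing.ResidueField R
  let κU := IsLocalRing.ResidueField U
  haveI := hs
  haveI : Module.Finite κU (κU ⊗[κ] (κ ⊗[R] X)) := inferInstance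
  haveI : Module.Finite κU (κU ⊗[R] X) :=
    Module.Finite.equiv (TensorProduct.AlgebraTensorModule.cancelBaseChange R κ κU κU X)
  exact Module.Finite.equiv (TensorProduct.AlgebraTensorModule.cancelBaseChange R U κU κU X).symm

omit [Group.FG M] in
/-- **a closed subgroup with finite closed fibre lies in a torsion subgroup** -/
theorem exists_torsion_le {R : Type u} [CommRing R] [IsLocalRing R]
    {A : Type u} [CommRing A] [HopfAlgebra R A] (hft : Algebra.FiniteType R A) (hH : SGA3b.IsMultType R A)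
    (J : Ideal A) [J.IsHopfIdeal R]
    (hs : Module.Finite (IsLocalRing.ResidueField R) (IsLocalRing.ResidueField R ⊗[R] (A ⧸ J))) :
    ∃ n : ℕ, 0 < n ∧ SGA3b.torsionIdeal R A n ≤ J := by
  haveI := Isotrivial.isCocomm_of_isMultType hH
  obtain ⟨U, _, _, iW, iR, tow, hff, M, _, ⟨e⟩⟩ := exists_local_split hH R
  obtain rfl : iR = iW := Algebra.algebra_ext _ _ fun r =>
    (@IsScalarTower.algebraMap_apply R R U _ _ _ (Algebra.id R) iW iR tow r).trans rfl
  haveI := hff
  haveI : IsLocalHom (algebraMap R U) := ⟨fun r hr => by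
    by_contra hns
    obtain ⟨P, hP⟩ := PrimeSpectrum.comap_surjective_of_faithfullyFlat (A := R) (B := U) (IsLocalRing.closedPoint R)
    have : algebraMap R U r ∈ P.asIdeal := by
      rw [← Ideal.mem_comap, ← PrimeSpectrum.comap_asIdeal, hP]
      exact hns
    exact P.isPrime.ne_top (Ideal.eq_top_of_isUnit_mem _ this hr)⟩
  haveI : Algebra.FiniteType R A := hft
  haveI : Group.FG M := Diag.group_fg_of_finiteType (R := U) (A := U ⊗[R] A) e.toAlgEquiv
  let π : MonoidAlgebra U M →ₐc[U] U ⊗[R] (A ⧸ J) :=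
    (KerPow.projBC (R := R) J U).comp (e.symm : MonoidAlgebra U M →ₐc[U] U ⊗[R] A)
  obtain ⟨n, hn0, hn⟩ := exists_pow_eq_one π ((KerPow.projBC_surjective (R := R) J U).comp e.symm.surjective)
    (finite_residue_bc hs U)
  refine ⟨n, hn0, Ideal.map_le_iff_le_comap.mpr fun a ha => ?_⟩
  have ha0 : counit (R := R) a = 0 := ha
  have h1 : (SGA3b.powConv U (MonoidAlgebra U M) n) (e (1 ⊗ₜ a)) = e ((1 : U) ⊗ₜ[R] SGA3b.powConv R A n a) := by
    rw [← LocalMult.powConv_one_tmul]
    exact powConv_map e n _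
  have h2 := apply_powConv_eq π hn (e ((1 : U) ⊗ₜ[R] a))
  rw [h1, CoalgHomClass.counit_comp_apply, TensorProduct.counit_tmul, ha0, zero_smul, map_zero] at h2
  change SGA3b.powConv R A n a ∈ J
  refine Ideal.Quotient.eq_zero_iff_mem.mp (Module.FaithfullyFlat.tensorProduct_mk_injective (A := R) (B := U) (A ⧸ J) ?_)
  rw [map_zero, TensorProduct.mk_apply]
  refine Eq.trans ?_ h2
  change _ = (KerPow.projBC (R := R) J U) (e.symm (e ((1 : U) ⊗ₜ[R] SGA3b.powConv R A n a)))
  rw [show e.symm (e ((1 : U) ⊗ₜ[R] SGA3b.powConv R A n a)) = (1 : U) ⊗ₜ[R] SGA3b.powConv R A n a from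
    e.toAlgEquiv.symm_apply_apply _]
  rfl

end

end Groth.Agent.MultType.FinSub
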