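import Groth.Agent.MultType.TorsionFinite

/-!
# The torsion of a group of multiplicative type and finite type is finite
-/

open Coalgebra TensorProduct WithConv

universe u

namespace Groth.Agent.MultType.TorsionMult

noncomputable section

theorem finite_of_family {R : Type u} [CommRing R] {ι : Type u} [Fintype ι] (T : ι → Type u) [∀ i, CommRing (T i)]
    [∀ i, Algebra R (T i)] [Module.FaithfullyFlat R (∀ i, T i)] (X : Type u) [AddCommGroup X] [Module R X]
    (h : ∀ i, Module.Finite (T i) (T i ⊗[R] X)) : Module.Finite R X := by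
  classical
  choose F hF using fun i => (h i).fg_top
  choose G hG using fun (i : ι) (x : T i ⊗[R] X) => TensorProduct.exists_finset x
  let S : Finset X := Finset.univ.biUnion fun i => (F i).biUnion fun x => (G i x).image Prod.snd
  refine ⟨⟨S, ?_⟩⟩
  set N := Submodule.span R (S : Set X)
  rw [eq_top_iff]
  intro z _
  suffices h0 : N.mkQ z = 0 from (Submodule.Quotient.mk_eq_zero N).mp h0
  refine Family.eq_of_family (R := R) T fun i => ?_
  have h1 : ∀ y : T i ⊗[R] X, N.mkQ.lTensor (T i) y = 0 := by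
    intro y
    have hy : y ∈ Submodule.span (T i) (F i : Set (T i ⊗[R] X)) := by rw [hF]; trivial
    induction hy using Submodule.span_induction with
    | zero => simp
    | add p q _ _ hp hq => rw [map_add, hp, hq, add_zero]
    | smul t p _ hp =>
      have h2 : ∀ w : T i ⊗[R] X, N.mkQ.lTensor (T i) (t • w) = t • N.mkQ.lTensor (T i) w := by
        intro w
        induction w using TensorProduct.induction_on with
        | zero => simp
        | add a b ha hb => simp only [smul_add, map_add, ha, hb]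
        | tmul a b => simp [TensorProduct.smul_tmul']
      rw [h2, hp, smul_zero]
    | mem x hx =>
      rw [hG i x, map_sum]
      refine Finset.sum_eq_zero fun p hp => ?_
      have hmem : p.2 ∈ N := Submodule.subset_span (Finset.mem_coe.mpr (Finset.mem_biUnion.mpr
        ⟨i, Finset.mem_univ i, Finset.mem_biUnion.mpr ⟨x, hx, Finset.mem_image.mpr ⟨p, hp, rfl⟩⟩⟩))
      rw [LinearMap.lTensor_tmul, show N.mkQ p.2 = 0 from (Submodule.Quotient.mk_eq_zero N).mpr hmem,
        TensorProduct.tmul_zero]
  rw [TensorProduct.tmul_zero]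
  exact h1 ((1 : T i) ⊗ₜ z)

variable {R : Type u} [CommRing R] {C : Type u} [CommRing C] [HopfAlgebra R C] [IsCocomm R C]

theorem finite_torsion_split [Algebra.FiniteType R C] {T : Type u} [CommRing T] [Algebra R T] [Nontrivial T]
    {M : Type u} [CommGroup M] (e : T ⊗[R] C ≃ₐc[T] MonoidAlgebra T M) {n : ℕ} (hn : 0 < n) :
    Module.Finite T (T ⊗[R] (C ⧸ SGA3b.torsionIdeal R C n)) := by
  classical
  set J := SGA3b.torsionIdeal R C n
  haveI : Group.FG M := Diag.group_fg_of_finiteType e.toAlgEquiv
  let P : C →ₐ[R] T ⊗[R] (C ⧸ J) :=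
    (Algebra.TensorProduct.includeRight : C ⧸ J →ₐ[R] T ⊗[R] (C ⧸ J)).comp (Ideal.Quotient.mkₐ R J)
  let q : T ⊗[R] C →ₐ[T] T ⊗[R] (C ⧸ J) := Algebra.TensorProduct.map (AlgHom.id T T) (Ideal.Quotient.mkₐ R J)
  have hP : (toConv P) ^ n = 1 := by
    apply WithConv.ext
    ext c
    change ((toConv P) ^ n) c = (1 : WithConv (C →ₐ[R] T ⊗[R] (C ⧸ J))) c
    rw [← TorsionFinite.comp_powConv, AlgHom.convOne_apply]
    have hc : c - algebraMap R C (counit c) ∈ RingHom.ker (Bialgebra.counitAlgHom R C) := by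
      rw [RingHom.mem_ker, map_sub, AlgHom.commutes]
      exact sub_self _
    have h1 : SGA3b.powConv R C n (c - algebraMap R C (counit c)) ∈ J := Ideal.mem_map_of_mem _ hc
    have h2 : P (SGA3b.powConv R C n c) = P (algebraMap R C (counit c)) := by
      rw [map_sub, AlgHom.commutes] at h1
      change (1 : T) ⊗ₜ[R] (Ideal.Quotient.mk J _) = (1 : T) ⊗ₜ[R] (Ideal.Quotient.mk J _)
      rw [Ideal.Quotient.eq.mpr h1]
    exact h2.trans (P.commutes _)
  have hpow : ∀ z : T ⊗[R] C, IsGroupLikeElem T z → q z ^ n = 1 := by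
    intro z hz
    have hq : TorsionFinite.hat (K := T) (toConv P) = toConv q :=
      WithConv.ext (Sq.eq_of_one_tmul fun c => by
        rw [TorsionFinite.hat_one_tmul]
        rfl)
    have h1 := TorsionFinite.apply_pow (TorsionFinite.hat (K := T) (toConv P)) hz n
    rw [← TorsionFinite.hat_pow, hP, TorsionFinite.hat_one, AlgHom.convOne_apply, hz.counit_eq_one, map_one, hq] at h1
    exact h1.symm
  let z : M →* T ⊗[R] (C ⧸ J) :=
    ((q.comp (e.symm : MonoidAlgebra T M →ₐ[T] T ⊗[R] C)) : MonoidAlgebra T M →* T ⊗[R] (C ⧸ J)).comp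
      (MonoidAlgebra.of T M)
  let H : Subgroup M := (powMonoidHom n : M →* M).range
  haveI : Finite (M ⧸ H) := by
    refine CommGroup.finite_of_fg_torsion (M ⧸ H) fun x => ?_
    obtain ⟨x, rfl⟩ := QuotientGroup.mk_surjective x
    exact isOfFinOrder_iff_pow_eq_one.mpr ⟨n, hn, (QuotientGroup.eq_one_iff _).mpr ⟨x, rfl⟩⟩
  have hdep : ∀ x y : M, (x : M ⧸ H) = (y : M ⧸ H) → z x = z y := by
    intro x y hxy
    obtain ⟨w, hw⟩ := (QuotientGroup.eq.mp hxy : x⁻¹ * y ∈ H)
    have hy : y = x * w ^ n := by rw [show w ^ n = x⁻¹ * y from hw, mul_inv_cancel_left]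
    rw [hy, map_mul, map_pow,
      show z w ^ n = 1 from hpow _ ((MonoidAlgebra.isGroupLikeElem_single_one w).map e.symm), mul_one]
  have hqs : Function.Surjective q := by
    intro y
    induction y using TensorProduct.induction_on with
    | zero => exact ⟨0, map_zero _⟩
    | add a b ha hb =>
      obtain ⟨a', rfl⟩ := ha; obtain ⟨b', rfl⟩ := hb
      exact ⟨a' + b', map_add _ _ _⟩
    | tmul t c =>
      obtain ⟨c', rfl⟩ := Ideal.Quotient.mk_surjective c
      exact ⟨t ⊗ₜ c', rfl⟩
  cases nonempty_fintype (M ⧸ H)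
  refine ⟨⟨Finset.univ.image fun x : M ⧸ H => z x.out, ?_⟩⟩
  rw [eq_top_iff]
  intro y _
  obtain ⟨x, rfl⟩ := hqs y
  rw [← show e.symm (e x) = x from e.toAlgEquiv.symm_apply_apply x]
  generalize e x = v
  induction v using MonoidAlgebra.induction_linear with
  | zero => rw [map_zero, map_zero]; exact zero_mem _
  | add a b ha hb => rw [map_add, map_add]; exact add_mem ha hb
  | single m r =>
    rw [show MonoidAlgebra.single m r = r • MonoidAlgebra.single m (1 : T) by simp, map_smul e.symm, map_smul q]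
    refine Submodule.smul_mem _ r (Submodule.subset_span (Finset.mem_coe.mpr (Finset.mem_image.mpr
      ⟨(m : M ⧸ H), Finset.mem_univ _, hdep _ _ (QuotientGroup.out_eq' (m : M ⧸ H))⟩)))

theorem finite_torsion [Algebra.FiniteType R C] (h : SGA3b.IsMultType R C) {n : ℕ} (hn : 0 < n) :
    Module.Finite R (C ⧸ SGA3b.torsionIdeal R C n) := by
  obtain ⟨ι, _, T, _, _, hff, hM⟩ := Integral.exists_split_family h
  refine finite_of_family T _ fun i => ?_
  rcases subsingleton_or_nontrivial (T i) with hT | hT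
  · haveI : Subsingleton (T i ⊗[R] (C ⧸ SGA3b.torsionIdeal R C n)) := Module.subsingleton (T i) _
    infer_instance
  · obtain ⟨M, _, ⟨e⟩⟩ := hM i
    exact finite_torsion_split e hn

end

end Groth.Agent.MultType.TorsionMult
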