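import Groth.Agent.MultType.Fibres
import Groth.Agent.MultType.KerHom
import Groth.Agent.MultType.FinSub
import Groth.Agent.MultType.TorsionMult
import Groth.Agent.MultType.KerPow

/-!
# Flat closed subgroups of groups of multiplicative type
-/

universe u

open TensorProduct

namespace Groth.Agent.MultType.ClosedSub

/-- Quotient Hopf algebras of multiplicative type over a field are of multiplicative type. -/
theorem isMultType_quot_field {k : Type u} [Field k] {A B : Type u} [CommRing A] [HopfAlgebra k A] [CommRing B]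
    [HopfAlgebra k B] (π : A →ₐc[k] B) (hπ : Function.Surjective π) (h : SGA3b.IsMultType k A) :
    SGA3b.IsMultType k B := by
  obtain ⟨ι, _, T, _, _, hff, hM⟩ := Integral.exists_split_family h
  haveI := hff
  haveI : Nontrivial (∀ i, T i) := by
    haveI := Module.FaithfullyFlat.rTensor_nontrivial (R := k) (∀ i, T i) k
    exact (TensorProduct.lid k (∀ i, T i)).symm.toEquiv.nontrivial
  obtain ⟨i, hi⟩ : ∃ i, Nontrivial (T i) := by
    by_contra hcon
    simp only [not_exists, not_nontrivial_iff_subsingleton] at hcon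
    exact not_subsingleton (∀ i, T i) inferInstance
  obtain ⟨m, hm⟩ := Ideal.exists_maximal (T i)
  letI := Ideal.Quotient.field m
  obtain ⟨M, _, ⟨e⟩⟩ := hM i
  let L := T i ⧸ m
  let eL : L ⊗[k] A ≃ₐc[L] MonoidAlgebra L M :=
    (Split.cancel (R := k) (S := T i) (T := L) (A := A)).symm.trans
      ((LocalMult.congrBC L e).trans (Split.scalarBialgEquiv (T i) L M))
  let q : MonoidAlgebra L M →ₐc[L] L ⊗[k] B :=
    (Bialgebra.TensorProduct.map (BialgHom.id L L) π).comp (eL.symm : MonoidAlgebra L M →ₐc[L] L ⊗[k] A)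
  have hq : Function.Surjective q := by
    intro y
    have h1 : Function.Surjective (Bialgebra.TensorProduct.map (BialgHom.id L L) π) := by
      intro z
      induction z using TensorProduct.induction_on with
      | zero => exact ⟨0, map_zero _⟩
      | add a b ha hb =>
        obtain ⟨a', rfl⟩ := ha
        obtain ⟨b', rfl⟩ := hb
        exact ⟨a' + b', map_add _ _ _⟩
      | tmul t c =>
        obtain ⟨c', rfl⟩ := hπ c
        exact ⟨t ⊗ₜ c', rfl⟩
    obtain ⟨z, rfl⟩ := h1 y
    refine ⟨eL z, ?_⟩
    show Bialgebra.TensorProduct.map (BialgHom.id L L) π (eL.symm (eL z)) = _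
    rw [BialgEquiv.symm_apply_apply]
  obtain ⟨ψ, -⟩ := KerHom.exists_equiv_of_indep q hq (KerHom.indep_of_field q)
  haveI : Module.FaithfullyFlat k L := inferInstance
  exact Diag.isMultType_of_diag L ⟨_, inferInstance, ⟨ψ⟩⟩

/-- A flat, finitely presented quotient Hopf algebra of a Hopf algebra of multiplicative type is of
multiplicative type. -/
theorem isMultType_quot {R : Type u} [CommRing R] {A B : Type u} [CommRing A] [HopfAlgebra R A] [CommRing B]
    [HopfAlgebra R B] [Module.Flat R B] (π : A →ₐc[R] B) (hπ : Function.Surjective π)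
    (h : SGA3b.IsMultType R A) (hA : Algebra.FiniteType R A) (hB : Algebra.FinitePresentation R B) :
    SGA3b.IsMultType R B := by
  haveI : Coalgebra.IsCocomm R A := Isotrivial.isCocomm_of_isMultType h
  haveI : Coalgebra.IsCocomm R B := by
    refine ⟨LinearMap.ext fun b => ?_⟩
    obtain ⟨a, rfl⟩ := hπ b
    rw [LinearMap.comp_apply]
    have h1 := CoalgHomClass.map_comp_comul_apply π a
    rw [← h1]
    show TensorProduct.comm R B B (TensorProduct.map (π : A →ₗ[R] B) (π : A →ₗ[R] B) _) = _
    rw [← TensorProduct.map_comm]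
    congr 1
    exact Coalgebra.comm_comul R a
  refine Fibres.isMultType_of_fibres_torsion_finite hB (fun p _ => ?_) fun n hn => ?_
  · refine isMultType_quot_field (Bialgebra.TensorProduct.map (BialgHom.id p.ResidueField p.ResidueField) π) ?_
      (Isotrivial.isMultType_field h p.ResidueField)
    intro z
    induction z using TensorProduct.induction_on with
    | zero => exact ⟨0, map_zero _⟩
    | add a b ha hb =>
      obtain ⟨a', rfl⟩ := ha
      obtain ⟨b', rfl⟩ := hb
      exact ⟨a' + b', map_add _ _ _⟩
    | tmul t c =>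
      obtain ⟨c', rfl⟩ := hπ c
      exact ⟨t ⊗ₜ c', rfl⟩
  · haveI := TorsionMult.finite_torsion (R := R) (C := A) h hn
    let I := SGA3b.torsionIdeal R A n
    let J := SGA3b.torsionIdeal R B n
    have hIJ : I ≤ J.comap (π : A →ₐ[R] B) := by
      refine Ideal.map_le_iff_le_comap.mpr fun x hx => ?_
      show π (SGA3b.powConv R A n x) ∈ J
      have h2 := OpenSub.pow_comp (WithConv.toConv (AlgHom.id R B)) π n
      have h3 := OpenSub.apply_powConv (WithConv.toConv ((AlgHom.id R B).comp (π : A →ₐ[R] B))) x n
      rw [h2] at h3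
      have h4 : SGA3b.powConv R B n (π x) = π (SGA3b.powConv R A n x) := h3.symm
      rw [← h4]
      refine Ideal.mem_map_of_mem _ ?_
      rw [RingHom.mem_ker] at hx ⊢
      rw [← hx]
      exact CoalgHomClass.counit_comp_apply π x
    let f : (A ⧸ I) →ₐ[R] (B ⧸ J) := Ideal.quotientMapₐ J (π : A →ₐ[R] B) hIJ
    refine Module.Finite.of_surjective f.toLinearMap ?_
    intro y
    obtain ⟨b, rfl⟩ := Ideal.Quotient.mk_surjective y
    obtain ⟨a, rfl⟩ := hπ b
    exact ⟨Ideal.Quotient.mk I a, rfl⟩

end Groth.Agent.MultType.ClosedSub
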