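import Groth.Agent.MultType.Lift

/-!
# Congruent homomorphisms out of a group of multiplicative type are conjugate
-/

open Coalgebra Bialgebra TensorProduct WithConv

universe u

namespace Groth.Agent.MultType.Conj

open Groth.Agent.FinHopf.Deligne Groth.Agent.MultType.SqZero Groth.Agent.MultType.Lift
open Groth.Agent.MultType.Integral (IsIntegral)

noncomputable section

variable {R : Type u} [CommRing R] {A : Type u} [CommRing A] [Algebra R A] {C : Type u} [CommRing C] [HopfAlgebra R C]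

/-- conjugate by a point of the base -/
def conj (E : WithConv (C →ₐ[R] R)) (F : WithConv (C →ₐ[R] A)) : WithConv (C →ₐ[R] A) :=
  postHom (Algebra.ofId R A) E * F * postHom (Algebra.ofId R A) (inv' E)

theorem postHom_ofId {B : Type u} [CommRing B] [Algebra R B] (g : A →ₐ[R] B) (E : WithConv (C →ₐ[R] R)) :
    postHom g (postHom (Algebra.ofId R A) E) = postHom (Algebra.ofId R B) E := by
  apply WithConv.ext; ext c
  exact g.commutes _

theorem postHom_conj {B : Type u} [CommRing B] [Algebra R B] (g : A →ₐ[R] B) (E : WithConv (C →ₐ[R] R))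
    (F : WithConv (C →ₐ[R] A)) : postHom g (conj E F) = conj E (postHom g F) := by
  simp only [conj, map_mul, postHom_ofId]

theorem inv'_unique {x y : WithConv (C →ₐ[R] A)} (h : y * x = 1) : y = inv' x := by
  have := congrArg (· * inv' x) h
  simpa [mul_assoc, mul_inv'] using this

theorem conj_conj (E₂ E₁ : WithConv (C →ₐ[R] R)) (F : WithConv (C →ₐ[R] A)) :
    conj E₂ (conj E₁ F) = conj (E₂ * E₁) F := by
  have h : inv' E₁ * inv' E₂ = inv' (E₂ * E₁) := inv'_unique (by
    rw [mul_assoc, ← mul_assoc (inv' E₂), inv'_mul, one_mul, inv'_mul])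
  simp only [conj, ← h, map_mul, mul_assoc]

theorem conj_cong {J : Ideal R} {E : WithConv (C →ₐ[R] R)} (hE : Cong J E 1) (F : WithConv (C →ₐ[R] A)) :
    Cong J (conj E F) F := by
  have h1 := (hE.map_one' (Algebra.ofId R A)).mul (Cong.refl F) |>.mul (hE.inv.map_one' (Algebra.ofId R A))
  rwa [one_mul, mul_one] at h1

section Hom

variable {A : Type u} [CommRing A] [HopfAlgebra R A]

theorem conj_isHom (E : WithConv (C →ₐ[R] R)) {F : WithConv (C →ₐ[R] A)}
    (hF : postHom ι₁ F * postHom ι₂ F = postHom μΔ F) :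
    postHom ι₁ (conj E F) * postHom ι₂ (conj E F) = postHom μΔ (conj E F) := by
  simp only [conj, map_mul, postHom_ofId, ← hF]
  simp only [mul_assoc]
  congr 2
  rw [← mul_assoc (postHom (Algebra.ofId R (A ⊗[R] A)) (inv' E)), ← map_mul, inv'_mul, map_one, one_mul]

theorem exists_conj_of_pow : ∀ (n : ℕ) (R : Type u) [CommRing R] (I : Ideal R), I ^ (n + 1) = ⊥ →
    ∀ (A : Type u) [CommRing A] [HopfAlgebra R A] (l : A →ₗ[R] R), IsIntegral R A l →
    ∀ (C : Type u) [CommRing C] [HopfAlgebra R C] [Algebra.FormallySmooth R C] (F F' : WithConv (C →ₐ[R] A)),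
      postHom ι₁ F * postHom ι₂ F = postHom μΔ F → postHom ι₁ F' * postHom ι₂ F' = postHom μΔ F' → Cong I F' F →
      ∃ E : WithConv (C →ₐ[R] R), Cong I E 1 ∧ F' = conj E F := by
  intro n
  induction n with
  | zero =>
    intro R _ I hI A _ _ l hl C _ _ _ F F' hF hF' h
    rw [zero_add, pow_one] at hI
    subst hI
    obtain ⟨E, hE, hE'⟩ := SqZero.exists_conj (hl.toMod ⊥) (by simp) (by simp) F F' hF hF' h
    exact ⟨E, hE, hE'⟩
  | succ n ih =>
    intro R _ I hI A _ _ l hl C _ _ _ F F' hF hF' h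
    let J := I ^ (n + 1)
    have hJ : J * J = ⊥ := by
      rw [eq_bot_iff, ← hI, ← pow_add]
      exact Ideal.pow_le_pow_right (by omega)
    have hJle : J ≤ I := Ideal.pow_le_self (Nat.succ_ne_zero n)
    have hs : Function.Surjective (algebraMap R (R ⧸ J)) := Ideal.Quotient.mk_surjective
    have hker : RingHom.ker (algebraMap R (R ⧸ J)) = J := Ideal.mk_ker
    let φ := Bialgebra.TensorProduct.map (BialgHom.id (R ⧸ J) (R ⧸ J)) (toHom F hF)
    let φ' := Bialgebra.TensorProduct.map (BialgHom.id (R ⧸ J) (R ⧸ J)) (toHom F' hF')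
    have hφ : ∀ t c, φ (t ⊗ₜ[R] c) = t ⊗ₜ[R] F c := fun t c => rfl
    have hφ' : ∀ t c, φ' (t ⊗ₜ[R] c) = t ⊗ₜ[R] F' c := fun t c => rfl
    have hcong : Cong (Ideal.map (algebraMap R (R ⧸ J)) I) (toConv (φ' : (R ⧸ J) ⊗[R] C →ₐ[R ⧸ J] (R ⧸ J) ⊗[R] A))
        (toConv (φ : (R ⧸ J) ⊗[R] C →ₐ[R ⧸ J] (R ⧸ J) ⊗[R] A)) := fun z => by
      change φ' z - φ z ∈ _
      induction z using TensorProduct.induction_on with
      | zero => simp
      | add p q hp hq => simp only [map_add]; rw [add_sub_add_comm]; exact add_mem hp hq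
      | tmul t c =>
        rw [hφ, hφ', ← TensorProduct.tmul_sub]
        have hle : Ideal.map (algebraMap R A) I ≤
            (Ideal.map (algebraMap (R ⧸ J) ((R ⧸ J) ⊗[R] A)) (Ideal.map (algebraMap R (R ⧸ J)) I)).comap
              (red (R := R) (R ⧸ J) A) := by
          rw [Ideal.map_le_iff_le_comap]
          intro i hi
          rw [Ideal.mem_comap, Ideal.mem_comap, AlgHom.commutes, IsScalarTower.algebraMap_apply R (R ⧸ J)]
          exact Ideal.mem_map_of_mem _ (Ideal.mem_map_of_mem _ hi)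
        rw [show t ⊗ₜ[R] (F' c - F c) = (t ⊗ₜ[R] (1 : A)) * ((1 : R ⧸ J) ⊗ₜ[R] (F' c - F c)) by simp]
        exact Ideal.mul_mem_left _ _ (hle (h c))
    obtain ⟨E', hE', hEeq⟩ := ih (R ⧸ J) (Ideal.map (algebraMap R (R ⧸ J)) I)
      (by rw [← Ideal.map_pow]; exact Ideal.map_quotient_self J)
      ((R ⧸ J) ⊗[R] A) (SqZero.Λ l (R ⧸ J)) (hl.baseChange (R ⧸ J)) ((R ⧸ J) ⊗[R] C) _ _ (hom_eq φ) (hom_eq φ') hcong
    have hn : IsNilpotent (RingHom.ker (Algebra.ofId R (R ⧸ J) : R →+* R ⧸ J)) := by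
      change IsNilpotent (RingHom.ker (algebraMap R (R ⧸ J)))
      rw [hker]; exact ⟨2, by rw [pow_two, hJ]; rfl⟩
    let E : WithConv (C →ₐ[R] R) := toConv (Algebra.FormallySmooth.liftOfSurjective
      (restrict (R := R) (R ⧸ J) E').ofConv (Algebra.ofId R (R ⧸ J)) hs hn)
    have hEred : ∀ c, algebraMap R (R ⧸ J) (E c) = E' ((1 : R ⧸ J) ⊗ₜ[R] c) := fun c =>
      Algebra.FormallySmooth.liftOfSurjective_apply _ (Algebra.ofId R (R ⧸ J)) hs hn c
    have hEI : Cong I E 1 := fun c => by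
      rw [AlgHom.convOne_apply, Algebra.algebraMap_self, Ideal.map_id]
      have h1 := hE' ((1 : R ⧸ J) ⊗ₜ[R] c)
      rw [AlgHom.convOne_apply, TensorProduct.counit_tmul, ← hEred, Algebra.algebraMap_self, Ideal.map_id] at h1
      rw [CommSemiring.counit_apply, Algebra.smul_def, mul_one, RingHom.id_apply, ← map_sub,
        Ideal.mem_map_iff_of_surjective _ hs] at h1
      obtain ⟨x, hx, hxe⟩ := h1
      have h2 : x - (E c - counit c) ∈ J := by
        rw [← hker, RingHom.mem_ker, map_sub, hxe, sub_self]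
      rw [RingHom.id_apply, ← sub_sub_cancel x (E c - counit c)]
      exact sub_mem hx (hJle h2)
    have hred : restrict (R := R) ((R ⧸ J) ⊗[R] A) (conj E' (toConv (φ : (R ⧸ J) ⊗[R] C →ₐ[R ⧸ J] (R ⧸ J) ⊗[R] A))) =
        postHom (red (R ⧸ J) A) (conj E F) := by
      have h1 : restrict (R := R) ((R ⧸ J) ⊗[R] A) (postHom (Algebra.ofId (R ⧸ J) _) E') =
          postHom (red (R ⧸ J) A) (postHom (Algebra.ofId R A) E) := by
        apply WithConv.ext; ext c
        change algebraMap (R ⧸ J) _ (E' ((1 : R ⧸ J) ⊗ₜ[R] c)) = (1 : R ⧸ J) ⊗ₜ[R] algebraMap R A (E c)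
        rw [← hEred, ← IsScalarTower.algebraMap_apply]
        exact ((red (R := R) (R ⧸ J) A).commutes (E c)).symm
      have h2 : restrict (R := R) ((R ⧸ J) ⊗[R] A) (postHom (Algebra.ofId (R ⧸ J) _) (inv' E')) =
          postHom (red (R ⧸ J) A) (postHom (Algebra.ofId R A) (inv' E)) := by
        rw [postHom_inv', postHom_inv', postHom_inv']
        refine inv'_unique ?_
        rw [← h1, ← map_mul, inv'_mul, map_one]
      simp only [conj, map_mul, h1, h2]
      rfl
    have hcongJ : Cong J F' (conj E F) := fun c => by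
      rw [← hker, ← red_eq_iff hs]
      have h1 := congrArg (restrict (R := R) ((R ⧸ J) ⊗[R] A)) hEeq
      rw [hred] at h1
      exact AlgHom.congr_fun (congrArg WithConv.ofConv h1) c
    obtain ⟨E₂, hE₂, hE₂'⟩ := SqZero.exists_conj (hl.toMod ⊥) hJ (by simp) (conj E F) F' (conj_isHom E hF) hF' hcongJ
    refine ⟨E₂ * E, ?_, ?_⟩
    · exact Cong.mul_one' (fun c => Ideal.map_mono hJle (hE₂ c)) hEI
    · rw [hE₂', ← conj_conj]; rfl

/-- congruent homomorphisms are conjugate -/
theorem exists_conj [Algebra.FormallySmooth R C] {I : Ideal R} (hI : IsNilpotent I) {l : A →ₗ[R] R}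
    (hl : IsIntegral R A l) (φ ψ : C →ₐc[R] A) (h : ∀ c, ψ c - φ c ∈ Ideal.map (algebraMap R A) I) :
    ∃ E : WithConv (C →ₐ[R] R), Cong I E 1 ∧
      toConv (ψ : C →ₐ[R] A) = conj E (toConv (φ : C →ₐ[R] A)) := by
  obtain ⟨n, hn⟩ := hI
  exact exists_conj_of_pow n R I (by rw [pow_succ, hn]; simp) A l hl C _ _ (hom_eq φ) (hom_eq ψ) h

end Hom

end

end Groth.Agent.MultType.Conj
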