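import Groth.Agent.MultType.Lift
import Groth.Agent.MultType.GroupLike
import Groth.Agent.MultType.Coef
import Mathlib.RingTheory.Flat.EquationalCriterion
import Mathlib.RingTheory.Nakayama
import Mathlib.LinearAlgebra.TensorProduct.Basis

/-!
# A flat deformation of a diagonalisable group over a nilpotent ideal is diagonalisable
-/

open Coalgebra Bialgebra TensorProduct WithConv

universe u

namespace Groth.Agent.MultType.Deform

open Groth.Agent.FinHopf.Deligne Groth.Agent.MultType.SqZero Groth.Agent.MultType.Lift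

noncomputable section

section Basis

variable {R : Type u} [CommRing R] {A : Type u} [AddCommGroup A] [Module R A] {R' : Type u} [CommRing R'] [Algebra R R']
  (hs : Function.Surjective (algebraMap R R')) {ι : Type u}

include hs in
/-- families independent modulo a small ideal are independent in a flat module -/
theorem linearIndependent_of_flat [Module.Flat R A] (hJ : RingHom.ker (algebraMap R R') ≤ Ideal.jacobson ⊥)
    (b : ι → A) (coord : ι → A →ₗ[R] R') [DecidableEq ι] (hc : ∀ i j, coord i (b j) = if i = j then 1 else 0) :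
    LinearIndependent R b := by
  rw [linearIndependent_iff']
  intro s r hr i hi
  have hr' : ∑ k : s, r k • b k = 0 := by rw [Finset.sum_coe_sort s (fun k => r k • b k)]; exact hr
  obtain ⟨p, a, y, hy, ha⟩ := Module.Flat.isTrivialRelation_of_sum_smul_eq_zero hr'
  choose c hc' using fun (k : s) (j : Fin p) => hs (coord k (y j))
  let N : Ideal R := Ideal.span (Set.range fun k : s => r k)
  have hle : N ≤ RingHom.ker (algebraMap R R') • N := by
    refine Ideal.span_le.mpr ?_
    rintro _ ⟨k, rfl⟩
    have h1 : ∀ l : s, (if k = l then 1 else 0) - ∑ j, a l j * c k j ∈ RingHom.ker (algebraMap R R') := by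
      intro l
      have h2 := congrArg (coord k) (hy l)
      rw [hc, map_sum] at h2
      rw [RingHom.mem_ker, map_sub, map_sum]
      simp only [map_mul, hc']
      simp only [map_smul, Algebra.smul_def] at h2
      rw [← h2]
      split_ifs <;> simp_all
    have h3 : r k = ∑ l : s, ((if k = l then 1 else 0) - ∑ j, a l j * c k j) • r l := by
      simp only [smul_eq_mul, sub_mul, Finset.sum_sub_distrib, Finset.sum_mul]
      rw [Finset.sum_comm (f := fun (l : s) (j : Fin p) => a l j * c k j * r l)]
      have h4 : ∀ j : Fin p, ∑ l : s, a l j * c k j * r l = 0 := fun j => by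
        have h5 := congrArg (· * c k j) (ha j)
        simp only [Finset.sum_mul, zero_mul] at h5
        rw [← h5]
        exact Finset.sum_congr rfl fun l _ => by ring
      rw [Finset.sum_eq_zero (fun j _ => h4 j), sub_zero]
      simp
    change r k ∈ RingHom.ker (algebraMap R R') • N
    rw [h3]
    exact Submodule.sum_mem _ fun l _ => Submodule.smul_mem_smul (h1 l) (Ideal.subset_span ⟨l, rfl⟩)
  have hbot : N = ⊥ :=
    Submodule.eq_bot_of_le_smul_of_le_jacobson_bot _ N (Submodule.fg_span (Set.finite_range _)) hle hJ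
  have h6 : r i ∈ N := Ideal.subset_span ⟨⟨i, hi⟩, rfl⟩
  rwa [hbot, Ideal.mem_bot] at h6

omit [Algebra R R'] in
/-- families spanning modulo a nilpotent ideal span -/
theorem span_eq_top {J : Ideal R} (hJ : IsNilpotent J) (N : Submodule R A) (h : ⊤ ≤ N ⊔ J • (⊤ : Submodule R A)) :
    N = ⊤ := by
  have hk : ∀ k : ℕ, ⊤ ≤ N ⊔ (J ^ k) • (⊤ : Submodule R A) := by
    intro k
    induction k with
    | zero => simp
    | succ k ih =>
      refine ih.trans (sup_le le_sup_left ?_)
      calc (J ^ k) • (⊤ : Submodule R A) ≤ (J ^ k) • (N ⊔ J • ⊤) := Submodule.smul_mono le_rfl h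
        _ = (J ^ k) • N ⊔ (J ^ k) • (J • ⊤) := Submodule.smul_sup _ _ _
        _ ≤ N ⊔ J ^ (k + 1) • ⊤ := sup_le_sup Submodule.smul_le_right
            (le_of_eq (by rw [pow_succ, ← smul_eq_mul, Submodule.smul_assoc]))
  obtain ⟨n, hn⟩ := hJ
  have := hk n
  rw [hn] at this
  simpa using this

end Basis

section Unit

variable {R : Type u} [CommRing R] {A : Type u} [CommRing A] [HopfAlgebra R A]

/-- `u ⊗ u - Δ u` -/
abbrev glDefect (R : Type u) [CommRing R] {A : Type u} [CommRing A] [HopfAlgebra R A] (u : A) : A ⊗[R] A :=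
  u ⊗ₜ[R] u - comul u

theorem isGroupLikeElem_of_isUnit {g : A} (hg : IsUnit g) (h : comul (R := R) g = g ⊗ₜ[R] g) : IsGroupLikeElem R g := by
  have h1 := congrArg (TensorProduct.lid R A) (Coalgebra.rTensor_counit_comul (R := R) g)
  rw [h, LinearMap.rTensor_tmul, TensorProduct.lid_tmul, TensorProduct.lid_tmul, one_smul] at h1
  refine ⟨?_, h⟩
  have h2 : algebraMap R A (counit g) = 1 := by
    apply hg.mul_right_cancel
    rwa [← Algebra.smul_def, one_mul]
  have h3 := congrArg (counit (R := R)) h2
  rwa [Bialgebra.counit_algebraMap, Bialgebra.counit_one] at h3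

/-- the square zero step -/
theorem exists_groupLike_of_sq {I J : Ideal R} {l : A →ₗ[R] R} (hl : IsIntegralMod A I l) (hJ : J * J = ⊥)
    (hJI : J * I = ⊥) (u : Aˣ) (hu : glDefect R (u : A) ∈ Ideal.map (algebraMap R (A ⊗[R] A)) J) :
    ∃ g : A, IsGroupLikeElem R g ∧ g - u ∈ Ideal.map (algebraMap R A) J := by
  let C := MonoidAlgebra R (Multiplicative ℤ)
  let f : C →ₐ[R] A := MonoidAlgebra.lift R A (Multiplicative ℤ) ((Units.coeHom A).comp (zpowersHom Aˣ u))
  have hf : f (MonoidAlgebra.single (Multiplicative.ofAdd 1) 1) = (u : A) :=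
    (MonoidAlgebra.lift_single _ _ _).trans (by simp [zpowersHom_apply])
  have hd : Cong J (SqZero.defect (toConv f)) 1 := by
    have h1 : Cong J (postHom ι₁ (toConv f) * postHom ι₂ (toConv f)) (postHom μΔ (toConv f)) := by
      rw [cong_iff]
      apply WithConv.ext
      apply MonoidAlgebra.algHom_ext'
      case single_one_left => exact Subsingleton.elim _ _
      apply MonoidHom.ext_mint
      change Ideal.Quotient.mk _ ((postHom ι₁ (toConv f) * postHom ι₂ (toConv f))
          (MonoidAlgebra.single (Multiplicative.ofAdd 1) 1)) =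
        Ideal.Quotient.mk _ (comul (f (MonoidAlgebra.single (Multiplicative.ofAdd 1) 1)))
      rw [conv_ι_apply, MonoidAlgebra.comul_single, Ideal.Quotient.eq]
      simpa [hf] using hu
    have h2 := h1.mul (Cong.refl (inv' (postHom μΔ (toConv f))))
    rw [mul_inv'] at h2
    exact h2
  obtain ⟨F, hF, hF'⟩ := SqZero.exists_hom hl hJ hJI (toConv f) hd
  let s : C := MonoidAlgebra.single (Multiplicative.ofAdd 1) 1
  refine ⟨F s, isGroupLikeElem_of_isUnit ?_ ?_, ?_⟩
  · exact ((Group.isUnit (Multiplicative.ofAdd (1 : ℤ))).map (MonoidAlgebra.of R (Multiplicative ℤ))).map F.ofConv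
  · have h3 := AlgHom.congr_fun (congrArg WithConv.ofConv hF') s
    rw [show (postHom ι₁ F * postHom ι₂ F).ofConv s = (postHom ι₁ F * postHom ι₂ F) s from rfl, conv_ι_apply] at h3
    refine h3.symm.trans ?_
    rw [(MonoidAlgebra.isGroupLikeElem_single_one (R := R) (Multiplicative.ofAdd (1 : ℤ))).comul_eq_tmul_self,
      Algebra.TensorProduct.map_tmul]
  · have h4 := hF s
    rwa [show (toConv f) s = (u : A) from hf] at h4

theorem IsIntegralMod.baseChange {I : Ideal R} {l : A →ₗ[R] R} (hl : IsIntegralMod A I l) (T : Type u) [CommRing T]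
    [Algebra R T] : IsIntegralMod (T ⊗[R] A) (Ideal.map (algebraMap R T) I) (Λ l T) := by
  refine ⟨Λ_one hl T, fun z => ?_⟩
  induction z using TensorProduct.induction_on with
  | zero => simp
  | add p q hp hq => simp only [map_add, add_smul]; rw [add_sub_add_comm]; exact add_mem hp hq
  | tmul t a =>
    have hta : t ⊗ₜ[R] a = t • ((1 : T) ⊗ₜ[R] a) := by simp [TensorProduct.smul_tmul']
    have key : ∀ s : A ⊗[R] A, TensorProduct.rid T (T ⊗[R] A) ((Λ l T).lTensor (T ⊗[R] A) (red₂ T A s)) =
        (1 : T) ⊗ₜ[R] TensorProduct.rid R A (l.lTensor A s) := by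
      intro s
      induction s using TensorProduct.induction_on with
      | zero => simp
      | add p q hp hq => simp only [TensorProduct.tmul_add, map_add, hp, hq]
      | tmul p q =>
        simp only [red₂_tmul, LinearMap.lTensor_tmul, TensorProduct.rid_tmul, Λ_tmul, TensorProduct.tmul_smul]
        rw [← algebraMap_smul T (l q), map_smul, TensorProduct.rid_tmul, one_smul, algebraMap_smul]
    rw [hta, map_smul, map_smul, map_smul, map_smul, comul_red, key, smul_assoc, ← smul_sub, Λ_tmul,
      Algebra.TensorProduct.one_def, smul_assoc, one_smul, ← TensorProduct.tmul_smul, ← TensorProduct.tmul_sub,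
      Algebra.smul_def]
    refine Ideal.mul_mem_left _ _ ?_
    have hle : Ideal.map (algebraMap R A) I ≤
        (Ideal.map (algebraMap T (T ⊗[R] A)) (Ideal.map (algebraMap R T) I)).comap (red (R := R) T A) := by
      rw [Ideal.map_le_iff_le_comap]
      intro i hi
      rw [Ideal.mem_comap, Ideal.mem_comap, AlgHom.commutes, IsScalarTower.algebraMap_apply R T]
      exact Ideal.mem_map_of_mem _ (Ideal.mem_map_of_mem _ hi)
    exact hle (hl.invariant a)

end Unit

theorem exists_groupLike_of_pow : ∀ (n : ℕ) (R : Type u) [CommRing R] (I : Ideal R), I ^ (n + 1) = ⊥ →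
    ∀ (A : Type u) [CommRing A] [HopfAlgebra R A] (l : A →ₗ[R] R), IsIntegralMod A I l →
    ∀ (u : Aˣ), glDefect R (u : A) ∈ Ideal.map (algebraMap R (A ⊗[R] A)) I →
    ∃ g : A, IsGroupLikeElem R g ∧ g - u ∈ Ideal.map (algebraMap R A) I := by
  intro n
  induction n with
  | zero =>
    intro R _ I hI A _ _ l hl u hu
    rw [zero_add, pow_one] at hI
    subst hI
    exact exists_groupLike_of_sq hl (by simp) (by simp) u hu
  | succ n ih =>
    intro R _ I hI A _ _ l hl u hu
    let J := I ^ (n + 1)
    have hJ : J * J = ⊥ := by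
      rw [eq_bot_iff, ← hI, ← pow_add]
      exact Ideal.pow_le_pow_right (by omega)
    have hJI : J * I = ⊥ := by rw [← hI, pow_succ I (n + 1)]
    have hJle : J ≤ I := Ideal.pow_le_self (Nat.succ_ne_zero n)
    have hs : Function.Surjective (algebraMap R (R ⧸ J)) := Ideal.Quotient.mk_surjective
    have hker : RingHom.ker (algebraMap R (R ⧸ J)) = J := Ideal.mk_ker
    let π := red (R := R) (R ⧸ J) A
    obtain ⟨g', hg', hgu⟩ := ih (R ⧸ J) (Ideal.map (algebraMap R (R ⧸ J)) I)
      (by rw [← Ideal.map_pow]; exact Ideal.map_quotient_self J)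
      ((R ⧸ J) ⊗[R] A) (Λ l (R ⧸ J)) (IsIntegralMod.baseChange hl (R ⧸ J)) (Units.map π.toMonoidHom u)
      (by
        have h1 := red₂_mem (R' := R ⧸ J) hu
        rwa [glDefect, map_sub, red₂_tmul, ← comul_red] at h1)
    obtain ⟨w, hw⟩ := red_surjective (R := R) (S := A) hs g'
    have hnil : IsNilpotent (Ideal.map (algebraMap R A) J) :=
      ⟨2, by rw [pow_two, ← Ideal.map_mul, hJ, Ideal.map_bot]; rfl⟩
    have hwu : IsUnit w := by
      obtain ⟨v, hv⟩ := red_surjective (R := R) (S := A) hs (↑(hg'.isUnit).unit⁻¹ : (R ⧸ J) ⊗[R] A)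
      have h2 : π (w * v - 1) = 0 := by
        rw [map_sub, map_mul, map_one, hw, hv, IsUnit.mul_val_inv, sub_self]
      have h3 : IsNilpotent (w * v - 1) := by
        obtain ⟨k, hk⟩ := hnil
        refine ⟨k, ?_⟩
        have h4 : w * v - 1 ∈ Ideal.map (algebraMap R A) J := by
          rw [← hker, ← red_ker hs]; exact h2
        have h5 := Ideal.pow_mem_pow h4 k
        rwa [hk] at h5
      have h6 := h3.isUnit_add_one
      rw [sub_add_cancel] at h6
      exact isUnit_of_mul_isUnit_left h6
    have hw' : glDefect R w ∈ Ideal.map (algebraMap R (A ⊗[R] A)) J := by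
      rw [← hker]
      refine red₂_ker hs ?_
      rw [glDefect, map_sub, red₂_tmul, ← comul_red, sub_eq_zero]
      change π w ⊗ₜ[R ⧸ J] π w = comul (π w)
      rw [hw]
      exact hg'.comul_eq_tmul_self.symm
    obtain ⟨g, hg, hgw⟩ := exists_groupLike_of_sq hl hJ hJI hwu.unit hw'
    refine ⟨g, hg, ?_⟩
    rw [IsUnit.unit_spec] at hgw
    rw [← sub_add_sub_cancel g w (u : A)]
    refine add_mem (Ideal.map_mono hJle hgw) ?_
    obtain ⟨x, hx, hxe⟩ : ∃ x ∈ Ideal.map (algebraMap R A) I, π x = π (w - u) := by
      have hle : Ideal.map (algebraMap (R ⧸ J) ((R ⧸ J) ⊗[R] A)) (Ideal.map (algebraMap R (R ⧸ J)) I) ≤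
          Ideal.map π (Ideal.map (algebraMap R A) I) := by
        rw [Ideal.map_map, ← IsScalarTower.algebraMap_eq, Ideal.map_le_iff_le_comap]
        intro i hi
        rw [Ideal.mem_comap, ← π.commutes i]
        exact Ideal.mem_map_of_mem _ (Ideal.mem_map_of_mem _ hi)
      refine (Ideal.mem_map_iff_of_surjective _ (red_surjective hs)).mp (hle ?_)
      rw [map_sub, hw]
      exact hgu
    have h7 := (red_eq_iff hs).mp hxe.symm
    rw [hker] at h7
    rw [← sub_add_cancel (w - (u : A)) x]
    exact add_mem (Ideal.map_mono hJle h7) hx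

section Main

variable {R : Type u} [CommRing R] {A : Type u} [CommRing A] [HopfAlgebra R A] {R' : Type u} [CommRing R']
  [Algebra R R'] {M : Type u} [CommGroup M]

theorem isBasis_of_lifts [Module.Flat R A] (hs : Function.Surjective (algebraMap R R'))
    (hn : IsNilpotent (RingHom.ker (algebraMap R R'))) (e : R' ⊗[R] A ≃ₐc[R'] MonoidAlgebra R' M) (b : M → A)
    (hb : ∀ m, e ((1 : R') ⊗ₜ b m) = MonoidAlgebra.single m 1) :
    LinearIndependent R b ∧ Submodule.span R (Set.range b) = ⊤ := by
  classical
  have hj : RingHom.ker (algebraMap R R') ≤ Ideal.jacobson ⊥ := by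
    obtain ⟨n, hn⟩ := hn
    intro x hx
    refine Ideal.radical_le_jacobson ⟨n, ?_⟩
    have := Ideal.pow_mem_pow hx n
    rwa [hn] at this
  refine ⟨linearIndependent_of_flat hs hj b (fun m => ((Coef.coeffLin (R := R') m).restrictScalars R) ∘ₗ
    ((e : R' ⊗[R] A →ₐ[R'] MonoidAlgebra R' M).toLinearMap.restrictScalars R) ∘ₗ TensorProduct.mk R R' A 1)
    (fun m k => ?_), span_eq_top hn _ fun a _ => ?_⟩
  · change (e ((1 : R') ⊗ₜ b k)).coeff m = _
    rw [hb, MonoidAlgebra.coeff_single, Finsupp.single_apply]
    simp [eq_comm]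
  · choose c hc using fun m => hs ((e ((1 : R') ⊗ₜ a)).coeff m)
    let z := ∑ m ∈ (e ((1 : R') ⊗ₜ a)).coeff.support, c m • b m
    have hz : (1 : R') ⊗ₜ[R] a = (1 : R') ⊗ₜ[R] z := by
      apply e.toAlgEquiv.injective
      change e ((1 : R') ⊗ₜ[R] a) = e ((1 : R') ⊗ₜ[R] z)
      simp only [z, TensorProduct.tmul_sum, map_sum, TensorProduct.tmul_smul]
      conv_lhs => rw [← MonoidAlgebra.sum_coeff_single (e ((1 : R') ⊗ₜ a)), Finsupp.sum]
      refine Finset.sum_congr rfl fun m _ => ?_
      rw [← algebraMap_smul R', map_smul, hb, hc, MonoidAlgebra.smul_single, smul_eq_mul, mul_one]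
    have h1 := (red_eq_iff hs).mp hz
    rw [← sub_add_cancel a z, add_comm]
    refine Submodule.add_mem_sup (Submodule.sum_mem _ fun m _ => Submodule.smul_mem _ _
      (Submodule.subset_span ⟨m, rfl⟩)) ?_
    rw [Ideal.smul_top_eq_map]
    exact h1

/-- a normalised integral modulo the kernel -/
theorem exists_integralMod [Module.Flat R A] (hs : Function.Surjective (algebraMap R R'))
    (hn : IsNilpotent (RingHom.ker (algebraMap R R'))) (e : R' ⊗[R] A ≃ₐc[R'] MonoidAlgebra R' M) :
    ∃ l : A →ₗ[R] R, IsIntegralMod A (RingHom.ker (algebraMap R R')) l := by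
  classical
  choose b₀ hb₀ using fun m => red_surjective (R := R) (S := A) hs (e.symm (MonoidAlgebra.single m 1))
  let b := Function.update b₀ 1 1
  have hb : ∀ m, e ((1 : R') ⊗ₜ b m) = MonoidAlgebra.single m 1 := fun m => by
    by_cases hm : m = 1
    · subst hm
      simp only [b, Function.update_self]
      exact _root_.map_one (e : R' ⊗[R] A →ₐc[R'] MonoidAlgebra R' M)
    · simp only [b, Function.update_of_ne hm]
      refine (congrArg e (hb₀ m)).trans ?_
      exact e.toAlgEquiv.apply_symm_apply _
  obtain ⟨hli, hsp⟩ := isBasis_of_lifts hs hn e b hb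
  let B := Module.Basis.mk hli hsp.ge
  let l₀ : R' ⊗[R] A →ₗ[R'] R' :=
    Coef.coeffLin (1 : M) ∘ₗ (e : R' ⊗[R] A →ₐc[R'] MonoidAlgebra R' M).toLinearMap
  have hl₀ : Integral.IsIntegral R' (R' ⊗[R] A) l₀ := (Integral.isIntegral_coeffLin M).transport e
  have hcoord : ∀ a, algebraMap R R' (B.coord 1 a) = l₀ ((1 : R') ⊗ₜ a) := by
    intro a
    have h1 : Algebra.linearMap R R' ∘ₗ B.coord 1 = l₀.restrictScalars R ∘ₗ TensorProduct.mk R R' A 1 := by
      apply B.ext
      intro m
      rw [Module.Basis.mk_apply]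
      change algebraMap R R' (B.repr (b m) 1) = (e ((1 : R') ⊗ₜ b m)).coeff 1
      rw [show b m = B m from (Module.Basis.mk_apply hli hsp.ge m).symm, B.repr_self, Finsupp.single_apply,
        Module.Basis.mk_apply, hb, MonoidAlgebra.coeff_single, Finsupp.single_apply]
      split_ifs <;> simp
    exact LinearMap.congr_fun h1 a
  refine ⟨B.coord 1, ?_, fun a => ?_⟩
  · have hb1 : B 1 = 1 := by rw [Module.Basis.mk_apply]; simp [b]
    rw [Module.Basis.coord_apply, ← hb1, B.repr_self]
    simp
  · rw [← red_ker hs, RingHom.mem_ker, map_sub, sub_eq_zero]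
    have key : ∀ s : A ⊗[R] A, red (R := R) R' A (TensorProduct.rid R A ((B.coord 1).lTensor A s)) =
        TensorProduct.rid R' (R' ⊗[R] A) (l₀.lTensor (R' ⊗[R] A) (red₂ R' A s)) := by
      intro s
      induction s using TensorProduct.induction_on with
      | zero => simp
      | add p q hp hq => simp only [map_add, hp, hq]
      | tmul p q =>
        simp only [LinearMap.lTensor_tmul, TensorProduct.rid_tmul, red₂_tmul, Algebra.TensorProduct.includeRight_apply,
          ← hcoord, TensorProduct.tmul_smul, algebraMap_smul]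
    rw [key, ← comul_red, hl₀.invariant, ← hcoord, algebraMap_smul, map_smul, map_one]

/-- **deformations of diagonalisable groups** -/
theorem exists_equiv_lift [Module.Flat R A] (hs : Function.Surjective (algebraMap R R'))
    (hn : IsNilpotent (RingHom.ker (algebraMap R R'))) (e : R' ⊗[R] A ≃ₐc[R'] MonoidAlgebra R' M) :
    Nonempty (A ≃ₐc[R] MonoidAlgebra R M) := by
  classical
  let I := RingHom.ker (algebraMap R R')
  obtain ⟨l, hl⟩ := exists_integralMod hs hn e
  obtain ⟨n, hn'⟩ := id hn
  have hI : I ^ (n + 1) = ⊥ := by rw [pow_succ, hn']; simp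
  have hnilA : IsNilpotent (Ideal.map (algebraMap R A) I) :=
    ⟨n, by rw [← Ideal.map_pow, hn', Ideal.zero_eq_bot, Ideal.map_bot]; rfl⟩
  have hlift : ∀ m : M, ∃ g : A, IsGroupLikeElem R g ∧ e ((1 : R') ⊗ₜ g) = MonoidAlgebra.single m 1 := by
    intro m
    obtain ⟨w, hw⟩ := red_surjective (R := R) (S := A) hs (e.symm (MonoidAlgebra.single m 1))
    obtain ⟨v, hv⟩ := red_surjective (R := R) (S := A) hs (e.symm (MonoidAlgebra.single m⁻¹ 1))
    have hwu : IsUnit w := by
      have h2 : w * v - 1 ∈ Ideal.map (algebraMap R A) I := by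
        rw [← red_ker hs, RingHom.mem_ker, map_sub, map_mul, map_one, hw, hv, sub_eq_zero]
        apply e.toAlgEquiv.injective
        rw [map_mul, map_one]
        change e.toAlgEquiv (e.toAlgEquiv.symm _) * e.toAlgEquiv (e.toAlgEquiv.symm _) = 1
        rw [AlgEquiv.apply_symm_apply, AlgEquiv.apply_symm_apply, MonoidAlgebra.single_mul_single,
          mul_inv_cancel, mul_one, MonoidAlgebra.one_def]
      have h3 : IsNilpotent (w * v - 1) := by
        obtain ⟨k, hk⟩ := hnilA
        exact ⟨k, by have h5 := Ideal.pow_mem_pow h2 k; rwa [hk] at h5⟩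
      have h6 := h3.isUnit_add_one
      rw [sub_add_cancel] at h6
      exact isUnit_of_mul_isUnit_left h6
    have hgl : IsGroupLikeElem R' (red (R := R) R' A w) := by
      rw [hw]
      exact (MonoidAlgebra.isGroupLikeElem_single_one m).map e.symm
    have hdef : glDefect R w ∈ Ideal.map (algebraMap R (A ⊗[R] A)) I := by
      refine red₂_ker hs ?_
      rw [glDefect, map_sub, red₂_tmul, ← comul_red, sub_eq_zero]
      exact hgl.comul_eq_tmul_self.symm
    obtain ⟨g, hg, hgw⟩ := exists_groupLike_of_pow n R I hI A l hl hwu.unit hdef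
    refine ⟨g, hg, ?_⟩
    rw [IsUnit.unit_spec] at hgw
    have h7 := (red_eq_iff (R := R) (S := A) hs).mpr hgw
    exact ((congrArg e h7).trans (congrArg e hw)).trans (e.toAlgEquiv.apply_symm_apply _)
  choose g hg hge using hlift
  obtain ⟨hli, hsp⟩ := isBasis_of_lifts hs hn e g hge
  let B := Module.Basis.mk hli hsp.ge
  have hB : ∀ m, B m = g m := Module.Basis.mk_apply hli hsp.ge
  -- group-like elements are determined by their reductions
  have huniq : ∀ x : A, IsGroupLikeElem R x → ∀ m, e ((1 : R') ⊗ₜ x) = MonoidAlgebra.single m 1 → x = g m := by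
    intro x hx m hxm
    let c := B.repr x
    have hxsum : x = ∑ j ∈ c.support, c j • g j := by
      conv_lhs => rw [← B.linearCombination_repr x, Finsupp.linearCombination_apply, Finsupp.sum]
      simp [hB, c]
    have hcomul : comul (R := R) x = ∑ j ∈ c.support, c j • (B j ⊗ₜ[R] B j) := by
      conv_lhs => rw [hxsum]
      rw [map_sum]
      simp only [map_smul, (hg _).comul_eq_tmul_self, hB]
    have horth : ∀ i j, c i * c j = if i = j then c i else 0 := by
      intro i j
      have h1 := congrArg (fun z => (B.tensorProduct B).repr z (i, j)) (hx.comul_eq_tmul_self.symm.trans hcomul)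
      simp only [Module.Basis.tensorProduct_repr_tmul_apply, map_sum, map_smul, Finsupp.coe_finsetSum, Finset.sum_apply,
        Finsupp.coe_smul, Pi.smul_apply, B.repr_self, Finsupp.single_apply, smul_eq_mul] at h1
      rw [mul_comm (c i) (c j)]
      rw [h1]
      split_ifs with hij
      · subst hij
        rw [Finset.sum_eq_single i]
        · simp
        · intro k _ hk; simp [hk]
        · intro hi; simp [Finsupp.notMem_support_iff.mp hi]
      · refine Finset.sum_eq_zero fun k _ => ?_
        by_cases hki : k = i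
        · subst hki; simp [hij]
        · simp [hki]
    have hidem : ∀ j, IsIdempotentElem (c j) := fun j => by
      have := horth j j
      rwa [if_pos rfl] at this
    have hred : ∀ j, algebraMap R R' (c j) = (e ((1 : R') ⊗ₜ x)).coeff j := by
      intro j
      rw [hxsum, TensorProduct.tmul_sum, map_sum, MonoidAlgebra.coeff_sum, Finset.sum_apply']
      simp only [TensorProduct.tmul_smul, ← algebraMap_smul R' (c _), map_smul, hge, MonoidAlgebra.smul_single,
        MonoidAlgebra.coeff_single, smul_eq_mul, mul_one, Finsupp.single_apply]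
      rw [Finset.sum_ite_eq']
      split_ifs with hj
      · rfl
      · simp [Finsupp.notMem_support_iff.mp hj]
    have hc : c = Finsupp.single m 1 := by
      ext j
      have hs1 : IsIdempotentElem (Finsupp.single m (1 : R) j) := by
        rw [Finsupp.single_apply]; split_ifs
        · exact IsIdempotentElem.one
        · exact IsIdempotentElem.zero
      refine eq_of_isNilpotent_sub_of_isIdempotentElem (hidem j) hs1 ⟨n, ?_⟩
      have h2 : c j - Finsupp.single m (1 : R) j ∈ I := by
        rw [RingHom.mem_ker, map_sub, hred, hxm, MonoidAlgebra.coeff_single, Finsupp.single_apply, Finsupp.single_apply]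
        split_ifs <;> simp
      have h3 := Ideal.pow_mem_pow h2 n
      rwa [hn'] at h3
    apply B.repr.injective
    change c = _
    rw [hc, ← hB, B.repr_self]
  let χ : M →* A :=
    { toFun := g
      map_one' := (huniq 1 IsGroupLikeElem.one 1 (_root_.map_one (e : R' ⊗[R] A →ₐc[R'] MonoidAlgebra R' M))).symm
      map_mul' := fun a b => (huniq (g a * g b) ((hg a).mul (hg b)) (a * b) (by
        rw [← one_mul (1 : R'), ← Algebra.TensorProduct.tmul_mul_tmul,
          show ∀ p q, e (p * q) = e p * e q from fun p q => e.toAlgEquiv.map_mul p q, hge, hge,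
          MonoidAlgebra.single_mul_single, one_mul])).symm }
  let ψ : MonoidAlgebra R M →ₐ[R] A := MonoidAlgebra.lift R A M χ
  have hψ : ∀ m, ψ (MonoidAlgebra.single m 1) = g m := fun m => by simp [ψ, χ]
  have hψl : ψ.toLinearMap = (MonoidAlgebra.basis M R).equiv B (Equiv.refl M) := by
    apply (MonoidAlgebra.basis M R).ext
    intro m
    rw [MonoidAlgebra.basis_apply, AlgHom.toLinearMap_apply, hψ, ← hB, ← MonoidAlgebra.basis_apply R m]
    exact ((MonoidAlgebra.basis M R).equiv_apply m B (Equiv.refl M)).symm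
  have hbij : Function.Bijective ψ := by
    change Function.Bijective ψ.toLinearMap
    rw [hψl]
    exact ((MonoidAlgebra.basis M R).equiv B (Equiv.refl M)).bijective
  refine ⟨(BialgEquiv.ofAlgEquiv (AlgEquiv.ofBijective ψ hbij) ?_ ?_).symm⟩
  · apply MonoidAlgebra.algHom_ext'
    case single_one_left => exact Subsingleton.elim _ _
    ext m
    simp [hψ, (hg m).counit_eq_one]
  · apply MonoidAlgebra.algHom_ext'
    case single_one_left => exact Subsingleton.elim _ _
    ext m
    simp [hψ, (hg m).comul_eq_tmul_self]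

theorem isDiag_of_flat [Module.Flat R A] (hs : Function.Surjective (algebraMap R R'))
    (hn : IsNilpotent (RingHom.ker (algebraMap R R'))) (h : SGA3b.IsDiag R' (R' ⊗[R] A)) : SGA3b.IsDiag R A := by
  obtain ⟨M, _, ⟨e⟩⟩ := h
  exact ⟨M, inferInstance, exists_equiv_lift hs hn e⟩

end Main

end

end Groth.Agent.MultType.Deform
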