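import Groth.Agent.MultType.FinSub
import Groth.Agent.MultType.TorsionHopf
import Mathlib.GroupTheory.FiniteAbelian.Basic
import Mathlib.RingTheory.RootsOfUnity.AlgebraicallyClosed
import Mathlib.RingTheory.Filtration
import Mathlib.LinearAlgebra.TensorProduct.Quotient
import Mathlib.RingTheory.FiniteType

/-!
# The torsion subgroups of a group of multiplicative type are schematically dense
-/

open TensorProduct WithConv Coalgebra

universe u v w

namespace Groth.Agent.MultType.Dense

noncomputable section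

/-- the reduction to the level `n` of a group algebra -/
def level (T : Type u) [CommRing T] (M : Type v) [CommGroup M] (n : ℕ) :
    MonoidAlgebra T M →+* MonoidAlgebra T (M ⧸ (powMonoidHom n : M →* M).range) :=
  MonoidAlgebra.mapDomainRingHom T (QuotientGroup.mk' _)

theorem level_single (T : Type u) [CommRing T] (M : Type v) [CommGroup M] (n : ℕ) (m : M) (c : T) :
    level T M n (MonoidAlgebra.single m c) = MonoidAlgebra.single (QuotientGroup.mk m) c := by
  simp [level]

/-! ### fields -/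

section Field

variable {J : Type v} [Fintype J]

/-- the torsion characters -/
def torsionChar (L : Type v) [CommGroup L] (K : Type u) [Field K] : Submonoid (L →* K) where
  carrier := {χ | ∃ n : ℕ, 0 < n ∧ ∀ l, χ l ^ n = 1}
  one_mem' := ⟨1, one_pos, fun l => by simp⟩
  mul_mem' := by
    rintro χ ψ ⟨n, hn, h⟩ ⟨m, hm, h'⟩
    exact ⟨n * m, Nat.mul_pos hn hm, fun l => by
      rw [MonoidHom.mul_apply, mul_pow, pow_mul, h, one_pow, one_mul, mul_comm n m, pow_mul, h', one_pow]⟩

/-- evaluation of torsion characters -/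
def evChar (L : Type v) [CommGroup L] (K : Type u) [Field K] (l : L) : torsionChar L K →* K where
  toFun χ := χ.1 l
  map_one' := rfl
  map_mul' _ _ := rfl

theorem evChar_injective (K : Type u) [Field K] [IsAlgClosed K] :
    Function.Injective (evChar (J → Multiplicative ℤ) K) := by
  intro l l' h
  by_contra hne
  obtain ⟨i, hi⟩ := Function.ne_iff.mp hne
  obtain ⟨p, hp⟩ := CharP.exists K
  obtain ⟨z, hz⟩ : ∃ z : ℤ, z = (l i).toAdd - (l' i).toAdd := ⟨_, rfl⟩
  have hz0 : z ≠ 0 := by
    rw [hz, sub_ne_zero]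
    exact fun h => hi (Multiplicative.toAdd.injective h)
  obtain ⟨q, hq, hqp⟩ := Nat.exists_infinite_primes (z.natAbs + p + 1)
  have hqK : (q : K) ≠ 0 := by
    rw [Ne, CharP.cast_eq_zero_iff K p q]
    intro hdvd
    rcases (Nat.dvd_prime hqp).mp hdvd with h1 | h1
    · exact CharP.char_ne_one K p h1
    · omega
  haveI : NeZero (q : K) := ⟨hqK⟩
  obtain ⟨ζ, hζ⟩ := HasEnoughRootsOfUnity.exists_primitiveRoot K q
  obtain ⟨u, hu⟩ := hζ.isUnit hqp.ne_zero
  have hζu : IsPrimitiveRoot u q := by
    rw [← IsPrimitiveRoot.coe_units_iff, hu]; exact hζ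
  let χ : (J → Multiplicative ℤ) →* K :=
    ((Units.coeHom K).comp (zpowersHom Kˣ u)).comp (Pi.evalMonoidHom (fun _ : J => Multiplicative ℤ) i)
  have hχ : χ ∈ torsionChar (J → Multiplicative ℤ) K := ⟨q, hqp.pos, fun m => by
    change ((u ^ (m i).toAdd : Kˣ) : K) ^ q = 1
    rw [← Units.val_pow_eq_pow_val, ← zpow_natCast (u ^ (m i).toAdd), ← zpow_mul, mul_comm, zpow_mul, zpow_natCast,
      hζu.pow_eq_one, one_zpow, Units.val_one]⟩
  have h0 : evChar (J → Multiplicative ℤ) K l ⟨χ, hχ⟩ = evChar (J → Multiplicative ℤ) K l' ⟨χ, hχ⟩ := by rw [h]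
  have h1 : ((u ^ (l i).toAdd : Kˣ) : K) = ((u ^ (l' i).toAdd : Kˣ) : K) := h0
  have h2 : u ^ z = 1 := by rw [hz, zpow_sub, Units.ext h1, mul_inv_cancel]
  have h3 : (q : ℤ) ∣ z := (hζu.zpow_eq_one_iff_dvd z).mp h2
  have h4 := Nat.le_of_dvd (Int.natAbs_pos.mpr hz0) (Int.natCast_dvd.mp h3)
  omega

theorem exists_char_ne_zero {K : Type u} [Field K] [IsAlgClosed K] {f : MonoidAlgebra K (J → Multiplicative ℤ)}
    (hf : f ≠ 0) :
    ∃ χ : torsionChar (J → Multiplicative ℤ) K, MonoidAlgebra.lift K K (J → Multiplicative ℤ) χ.1 f ≠ 0 := by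
  by_contra! h
  apply hf
  have hli := (linearIndependent_monoidHom (torsionChar (J → Multiplicative ℤ) K) K).comp _ (evChar_injective K)
  refine MonoidAlgebra.coeff_injective (Eq.trans ?_ MonoidAlgebra.coeff_zero.symm)
  refine linearIndependent_iff.mp hli f.coeff (funext fun χ => ?_)
  refine Eq.trans ?_ (h χ)
  rw [Finsupp.linearCombination_apply, Finsupp.sum, Finset.sum_apply, MonoidAlgebra.lift_apply, Finsupp.sum]
  simp [evChar]

theorem dense_field {k : Type u} [Field k] (a x : MonoidAlgebra k (J → Multiplicative ℤ))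
    (h : ∀ n : ℕ, 0 < n → ∃ N : ℕ, level k (J → Multiplicative ℤ) n (a ^ N * x) = 0) : ∃ N : ℕ, a ^ N * x = 0 := by
  refine ⟨1, ?_⟩
  by_contra hne
  rw [pow_one] at hne
  let K := AlgebraicClosure k
  let ι := MonoidAlgebra.mapRingHom (J → Multiplicative ℤ) (algebraMap k K)
  have hι : ι (a * x) ≠ 0 := fun h0 => hne (MonoidAlgebra.coeff_injective (Finsupp.ext fun l => by
    have h1 := congrArg (fun w => w.coeff l) h0
    simp only [ι, MonoidAlgebra.coeff_mapRingHom, MonoidAlgebra.coeff_zero, Finsupp.zero_apply] at h1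
    simpa using h1))
  obtain ⟨⟨χ, n, hn, hχ⟩, hne'⟩ := exists_char_ne_zero hι
  obtain ⟨N, hN⟩ := h n hn
  apply hne'
  let Λ : MonoidAlgebra k (J → Multiplicative ℤ) →+* K :=
    (MonoidAlgebra.lift K K (J → Multiplicative ℤ) χ).toRingHom.comp ι
  let χ' : ((J → Multiplicative ℤ) ⧸ (powMonoidHom n : (J → Multiplicative ℤ) →* _).range) →* K :=
    (Units.coeHom K).comp (QuotientGroup.lift _ χ.toHomUnits (by
      rintro _ ⟨l, rfl⟩
      refine MonoidHom.mem_ker.mpr (Units.ext ?_)
      change χ (l ^ n) = 1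
      rw [map_pow, hχ]))
  have hfac : ∀ w, Λ w = MonoidAlgebra.lift k K _ χ' (level k (J → Multiplicative ℤ) n w) := by
    intro w
    induction w using MonoidAlgebra.induction_linear with
    | zero => simp
    | add u v hu hv => simp only [map_add, hu, hv]
    | single l c =>
      rw [level_single]
      simp [Λ, ι, χ', MonoidAlgebra.lift_single, Algebra.smul_def]
  have h0 : Λ a ^ N * Λ x = 0 := by rw [← map_pow, ← map_mul, hfac, hN, map_zero]
  change Λ (a * x) = 0
  rw [map_mul]
  rcases mul_eq_zero.mp h0 with h1 | h1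
  · rw [pow_eq_zero_iff'] at h1
    rw [h1.1, zero_mul]
  · rw [h1, mul_zero]

end Field

/-! ### Noetherian rings -/

section Noeth

theorem mem_map_of_coeff_mem {T : Type u} [CommRing T] {L : Type v} [CommMonoid L] {I : Ideal T}
    {y : MonoidAlgebra T L} (h : ∀ l, y.coeff l ∈ I) : y ∈ I.map (algebraMap T (MonoidAlgebra T L)) := by
  rw [← MonoidAlgebra.sum_coeff_single y, Finsupp.sum]
  refine sum_mem fun l _ => ?_
  have : MonoidAlgebra.single l (y.coeff l) = algebraMap T (MonoidAlgebra T L) (y.coeff l) * MonoidAlgebra.single l 1 := by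
    simp [MonoidAlgebra.coe_algebraMap]
  rw [this]
  exact Ideal.mul_mem_right _ _ (Ideal.mem_map_of_mem _ (h l))

theorem coeff_mem_of_mem_map {T : Type u} [CommRing T] {L : Type v} [CommMonoid L] {I : Ideal T}
    {y : MonoidAlgebra T L} (h : y ∈ I.map (algebraMap T (MonoidAlgebra T L))) (l : L) : y.coeff l ∈ I := by
  have hle : I.map (algebraMap T (MonoidAlgebra T L)) ≤
      RingHom.ker (MonoidAlgebra.mapRingHom L (Ideal.Quotient.mk I)) := by
    refine Ideal.map_le_iff_le_comap.mpr fun r hr => ?_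
    rw [Ideal.mem_comap, RingHom.mem_ker, MonoidAlgebra.coe_algebraMap, Function.comp_apply,
      MonoidAlgebra.mapRingHom_single, show Ideal.Quotient.mk I (algebraMap T T r) = 0 from
        Ideal.Quotient.eq_zero_iff_mem.mpr hr, MonoidAlgebra.single_zero]
  have h1 := congrArg (fun w => w.coeff l) (hle h)
  simpa [Ideal.Quotient.eq_zero_iff_mem] using h1

variable {T : Type u} [CommRing T] {J : Type v} [Fintype J]

omit [Fintype J] in
theorem mapDomain_mapRingHom' {L P : Type v} [CommMonoid L] [CommMonoid P] {K : Type u} [CommRing K] [Algebra T K]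
    (f : L →* P) (w : MonoidAlgebra T L) :
    MonoidAlgebra.mapDomainRingHom K f (MonoidAlgebra.mapRingHom L (algebraMap T K) w) =
      MonoidAlgebra.mapRingHom P (algebraMap T K) (MonoidAlgebra.mapDomainRingHom T f w) := by
  induction w using MonoidAlgebra.induction_linear with
  | zero => simp
  | add u v hu hv => simp only [map_add, hu, hv]
  | single l c => simp

omit [Fintype J] in
/-- the combination of the leading terms computes the functional on the coefficients -/
theorem coeff_combination (K : Type u) [CommRing K] [Algebra T K] {L P : Type v} [CommMonoid L] [CommMonoid P]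
    (f : L →* P) {ι : Type w} [Fintype ι] {I : Ideal T} (g : ι → I) (y : ι → MonoidAlgebra T L) {z : MonoidAlgebra T L}
    (hz : z = ∑ i, y i * algebraMap T _ (g i : T)) (lam : I →ₗ[T] K) (w : MonoidAlgebra T L) (p : P)
    (hp : (MonoidAlgebra.mapDomainRingHom T f (w * z)).coeff p ∈ I) :
    (MonoidAlgebra.mapDomainRingHom K f (MonoidAlgebra.mapRingHom L (algebraMap T K) w *
      ∑ i, MonoidAlgebra.mapRingHom L (algebraMap T K) (y i) * algebraMap K _ (lam (g i)))).coeff p = lam ⟨_, hp⟩ := by
  have e0 : ∀ (R : Type u) [CommRing R] (u : MonoidAlgebra R L) (r : R),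
      (MonoidAlgebra.mapDomainRingHom R f (u * algebraMap R _ r)).coeff p =
        (MonoidAlgebra.mapDomainRingHom R f u).coeff p * r := by
    intro R _ u r
    rw [mul_comm u, ← Algebra.smul_def, MonoidAlgebra.mapDomainRingHom_apply, MonoidAlgebra.mapDomain_smul,
      MonoidAlgebra.coeff_smul, Finsupp.smul_apply, smul_eq_mul, mul_comm]
    rfl
  have e1 : (MonoidAlgebra.mapDomainRingHom T f (w * z)).coeff p =
      ∑ i, (MonoidAlgebra.mapDomainRingHom T f (w * y i)).coeff p * (g i : T) := by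
    rw [hz, Finset.mul_sum, map_sum, MonoidAlgebra.coeff_sum, Finsupp.finsetSum_apply]
    exact Finset.sum_congr rfl fun i _ => by rw [← mul_assoc, e0]
  have e2 : (⟨_, hp⟩ : I) = ∑ i, (MonoidAlgebra.mapDomainRingHom T f (w * y i)).coeff p • g i := by
    refine Subtype.ext ?_
    rw [Submodule.coe_sum]
    exact e1
  rw [e2, map_sum, Finset.mul_sum, map_sum, MonoidAlgebra.coeff_sum, Finsupp.finsetSum_apply]
  refine Finset.sum_congr rfl fun i _ => ?_
  rw [map_smul, Algebra.smul_def, ← mul_assoc, ← map_mul (MonoidAlgebra.mapRingHom L (algebraMap T K)), e0,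
    mapDomain_mapRingHom', MonoidAlgebra.coeff_mapRingHom]

omit [Fintype J] in
theorem coeff_level_zero (K : Type u) [CommRing K] [Algebra T K] {L P : Type v} [CommMonoid L] [CommMonoid P]
    (a x : MonoidAlgebra T L) (N : ℕ) {ι : Type w} [Fintype ι] {I : Ideal T} (g : ι → I)
    (y : ι → MonoidAlgebra T L) (hy : a ^ N * x = ∑ i, y i * algebraMap T _ (g i : T)) (lam : I →ₗ[T] K) (f : L →* P)
    (m : ℕ) (hm : MonoidAlgebra.mapDomainRingHom T f (a ^ m * x) = 0) (p : P) :
    (MonoidAlgebra.mapDomainRingHom K f (MonoidAlgebra.mapRingHom L (algebraMap T K) a ^ m *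
      ∑ i, MonoidAlgebra.mapRingHom L (algebraMap T K) (y i) * algebraMap K _ (lam (g i)))).coeff p =
      (0 : MonoidAlgebra K P).coeff p := by
  have hz : (MonoidAlgebra.mapDomainRingHom T f (a ^ m * (a ^ N * x))).coeff p = 0 := by
    rw [show a ^ m * (a ^ N * x) = a ^ N * (a ^ m * x) by ring, map_mul, hm, mul_zero]
    simp
  have hp : (MonoidAlgebra.mapDomainRingHom T f (a ^ m * (a ^ N * x))).coeff p ∈ I := by rw [hz]; exact zero_mem _
  rw [← map_pow, coeff_combination K f g y hy lam (a ^ m) p hp]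
  have h2 : (⟨_, hp⟩ : I) = 0 := Subtype.ext hz
  rw [h2, map_zero, MonoidAlgebra.coeff_zero, Finsupp.zero_apply]

/-- the field case applied to a combination of leading terms -/
theorem exists_pow_mul_combination (K : Type u) [Field K] [Algebra T K] (a x : MonoidAlgebra T (J → Multiplicative ℤ))
    (N : ℕ) {ι : Type w} [Fintype ι] {I : Ideal T} (g : ι → I) (y : ι → MonoidAlgebra T (J → Multiplicative ℤ))
    (hy : a ^ N * x = ∑ i, y i * algebraMap T _ (g i : T)) (lam : I →ₗ[T] K)
    (h : ∀ n : ℕ, 0 < n → ∃ N : ℕ, level T (J → Multiplicative ℤ) n (a ^ N * x) = 0) :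
    ∃ N' : ℕ, MonoidAlgebra.mapRingHom (J → Multiplicative ℤ) (algebraMap T K) a ^ N' *
      (∑ i, MonoidAlgebra.mapRingHom (J → Multiplicative ℤ) (algebraMap T K) (y i) *
        algebraMap K _ (lam (g i))) = 0 := by
  refine dense_field _ _ fun n hn => ?_
  obtain ⟨m, hm⟩ := h n hn
  refine ⟨m, MonoidAlgebra.coeff_injective (Finsupp.ext fun p => ?_)⟩
  unfold level at hm ⊢
  generalize (QuotientGroup.mk' (powMonoidHom n : (J → Multiplicative ℤ) →* J → Multiplicative ℤ).range) = f at hm p ⊢
  exact coeff_level_zero K a x N g y hy lam f m hm p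

theorem step [IsLocalRing T] [IsNoetherianRing T] (a x : MonoidAlgebra T (J → Multiplicative ℤ))
    (h : ∀ n : ℕ, 0 < n → ∃ N : ℕ, level T (J → Multiplicative ℤ) n (a ^ N * x) = 0) (i : ℕ) :
    ∃ N : ℕ, ∀ l, (a ^ N * x).coeff l ∈ IsLocalRing.maximalIdeal T ^ i := by
  classical
  set m := IsLocalRing.maximalIdeal T
  induction i with
  | zero => exact ⟨0, fun l => by simp⟩
  | succ i ih =>
    obtain ⟨N, hN⟩ := ih
    let κ := IsLocalRing.ResidueField T
    set I : Ideal T := m ^ i with hI
    have hfg : I.FG := IsNoetherian.noetherian _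
    obtain ⟨G, hG⟩ := hfg
    have hgI : ∀ g : G, (g : T) ∈ I := fun g => hG ▸ Submodule.subset_span g.2
    have hy : a ^ N * x ∈ I.map (algebraMap T (MonoidAlgebra T (J → Multiplicative ℤ))) := mem_map_of_coeff_mem hN
    obtain ⟨y, hy⟩ : ∃ y : G → MonoidAlgebra T (J → Multiplicative ℤ), a ^ N * x = ∑ g, y g * algebraMap T _ (g : T) := by
      have h1 : a ^ N * x ∈ Ideal.span (Set.range fun g : G => algebraMap T (MonoidAlgebra T (J → Multiplicative ℤ)) (g : T)) := by
        refine Ideal.span_mono ?_ (mem_map_of_coeff_mem hN |> fun h => by rwa [← hG, Ideal.map_span] at h)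
        rintro _ ⟨g, hg, rfl⟩
        exact ⟨⟨g, hg⟩, rfl⟩
      obtain ⟨c, hc⟩ := Ideal.mem_span_range_iff_exists_fun.mp h1
      exact ⟨c, hc.symm⟩
    haveI : Module.Finite T I := Module.Finite.iff_fg.mpr ⟨G, hG⟩
    let b := Module.finBasis κ (κ ⊗[T] I)
    let lam : Fin (Module.finrank κ (κ ⊗[T] I)) → I →ₗ[T] κ := fun j =>
      ((b.coord j).restrictScalars T) ∘ₗ (TensorProduct.mk T κ I 1)
    let red := MonoidAlgebra.mapRingHom (J → Multiplicative ℤ) (algebraMap T κ)
    let ybar : Fin (Module.finrank κ (κ ⊗[T] I)) → MonoidAlgebra κ (J → Multiplicative ℤ) := fun j =>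
      ∑ g : G, red (y g) * algebraMap κ _ (lam j ⟨g, hgI g⟩)
    have hzero : ∀ j, ∃ N' : ℕ, red a ^ N' * ybar j = 0 := fun j =>
      exists_pow_mul_combination κ a x N (fun g : G => (⟨g, hgI g⟩ : I)) y hy (lam j) h
    choose N' hN' using hzero
    let K := Finset.univ.sup N'
    refine ⟨K + N, fun l => ?_⟩
    have hl : (a ^ K * (a ^ N * x)).coeff l ∈ I :=
      coeff_mem_of_mem_map (Ideal.mul_mem_left _ _ (mem_map_of_coeff_mem hN)) l
    have hl' : ((MonoidAlgebra.mapDomainRingHom T (MonoidHom.id (J → Multiplicative ℤ))) (a ^ K * (a ^ N * x))).coeff l ∈ I := by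
      simpa using hl
    have hall : ∀ j, lam j ⟨_, hl'⟩ = 0 := fun j => by
      rw [← coeff_combination κ (MonoidHom.id (J → Multiplicative ℤ)) (fun g : G => (⟨g, hgI g⟩ : I)) y hy (lam j) (a ^ K) l hl', map_pow]
      obtain ⟨d, hd⟩ := Nat.exists_eq_add_of_le' (Finset.le_sup (f := N') (Finset.mem_univ j))
      change ((MonoidAlgebra.mapDomainRingHom κ _) (red a ^ K * ybar j)).coeff l = 0
      rw [show K = d + N' j from hd, pow_add, mul_assoc, hN', mul_zero]
      simp
    have h0 : (1 : κ) ⊗ₜ[T] (⟨_, hl'⟩ : I) = 0 := b.ext_elem fun j => by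
      rw [map_zero, Finsupp.zero_apply]
      exact hall j
    have hm1 : (⟨_, hl'⟩ : I) ∈ (m • ⊤ : Submodule T I) := by
      have h2 := congrArg (TensorProduct.quotTensorEquivQuotSMul I m) h0
      rw [show (1 : κ) = Ideal.Quotient.mk m 1 from rfl] at h2
      erw [TensorProduct.quotTensorEquivQuotSMul_mk_tmul, map_zero] at h2
      rwa [one_smul, Submodule.Quotient.mk_eq_zero] at h2
    rw [Submodule.mem_smul_top_iff, smul_eq_mul] at hm1
    replace hm1 := (le_of_eq (show m * I = m ^ (i + 1) from by rw [hI, pow_succ' m i])) hm1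
    rw [pow_add a K N, mul_assoc]
    simpa using hm1

theorem dense_noetherian [IsNoetherianRing T] (a x : MonoidAlgebra T (J → Multiplicative ℤ))
    (h : ∀ n : ℕ, 0 < n → ∃ N : ℕ, level T (J → Multiplicative ℤ) n (a ^ N * x) = 0) :
    ∃ N : ℕ, a ^ N * x = 0 := by
  classical
  haveI : Algebra.FiniteType T (MonoidAlgebra T (J → Multiplicative ℤ)) := MonoidAlgebra.finiteType_of_fg
  haveI : IsNoetherianRing (MonoidAlgebra T (J → Multiplicative ℤ)) := Algebra.FiniteType.isNoetherianRing T _
  suffices ha : a ∈ (Submodule.annihilator (Ideal.span {x})).radical by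
    obtain ⟨N, hN⟩ := ha
    exact ⟨N, Submodule.mem_annihilator.mp hN x (Ideal.mem_span_singleton_self x)⟩
  rw [Ideal.radical_eq_sInf]
  refine Submodule.mem_sInf.mpr fun (P : Ideal (MonoidAlgebra T (J → Multiplicative ℤ)))
    (hPP : P ∈ {Q : Ideal (MonoidAlgebra T (J → Multiplicative ℤ)) | Submodule.annihilator (Ideal.span {x}) ≤ Q ∧ Q.IsPrime}) => ?_
  obtain ⟨hP, hPp⟩ := hPP
  by_contra haP
  haveI : P.IsPrime := hPp
  let A := Localization.AtPrime P
  let φ : MonoidAlgebra T (J → Multiplicative ℤ) →+* A := algebraMap (MonoidAlgebra T (J → Multiplicative ℤ)) A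
  haveI : IsNoetherianRing A := IsLocalization.isNoetherianRing P.primeCompl A inferInstance
  let q := P.comap (algebraMap T (MonoidAlgebra T (J → Multiplicative ℤ)))
  haveI : q.IsPrime := Ideal.IsPrime.comap _
  let Tq := Localization.AtPrime q
  haveI : IsNoetherianRing Tq := IsLocalization.isNoetherianRing q.primeCompl Tq inferInstance
  let red := MonoidAlgebra.mapRingHom (J → Multiplicative ℤ) (algebraMap T Tq)
  have hred : ∀ n : ℕ, 0 < n → ∃ N : ℕ, level Tq (J → Multiplicative ℤ) n (red a ^ N * red x) = 0 := fun n hn => by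
    obtain ⟨N, hN⟩ := h n hn
    refine ⟨N, ?_⟩
    have hcomm : ∀ w, level Tq (J → Multiplicative ℤ) n (red w) = MonoidAlgebra.mapRingHom _ (algebraMap T Tq) (level T (J → Multiplicative ℤ) n w) := by
      intro w
      induction w using MonoidAlgebra.induction_linear with
      | zero => simp
      | add u v hu hv => simp only [map_add, hu, hv]
      | single l c => simp [red, level_single]
    rw [← map_pow, ← map_mul, hcomm, hN, map_zero]
  let fT : Tq →+* A := IsLocalization.lift (M := q.primeCompl) (g := φ.comp (algebraMap T (MonoidAlgebra T (J → Multiplicative ℤ))))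
    fun r => IsLocalization.map_units A (⟨algebraMap T (MonoidAlgebra T (J → Multiplicative ℤ)) r, r.2⟩ : P.primeCompl)
  let θ : MonoidAlgebra Tq (J → Multiplicative ℤ) →+* A :=
    MonoidAlgebra.liftNCRingHom fT ((φ : MonoidAlgebra T (J → Multiplicative ℤ) →* A).comp (MonoidAlgebra.of T (J → Multiplicative ℤ))) fun _ _ => Commute.all _ _
  have hθ : ∀ w, θ (red w) = φ w := by
    intro w
    induction w using MonoidAlgebra.induction_linear with
    | zero => simp
    | add u v hu hv => simp only [map_add, hu, hv]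
    | single l c =>
      rw [MonoidAlgebra.mapRingHom_single]
      refine (MonoidAlgebra.liftNC_single _ _ _ _).trans ?_
      change fT (algebraMap T Tq c) * φ (MonoidAlgebra.single l 1) = _
      rw [IsLocalization.lift_eq, RingHom.comp_apply, ← map_mul]
      congr 1
      simp [MonoidAlgebra.coe_algebraMap]
  have hmem : ∀ i : ℕ, φ x ∈ IsLocalRing.maximalIdeal A ^ i • (⊤ : Submodule A A) := by
    intro i
    obtain ⟨N, hN⟩ := step (red a) (red x) hred i
    have h1 := Ideal.mem_map_of_mem θ (mem_map_of_coeff_mem hN)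
    rw [Ideal.map_pow, Ideal.map_pow, map_mul, map_pow, hθ, hθ, Ideal.map_map] at h1
    have hle : (IsLocalRing.maximalIdeal Tq).map (θ.comp (algebraMap Tq (MonoidAlgebra Tq (J → Multiplicative ℤ)))) ≤
        IsLocalRing.maximalIdeal A := by
      rw [← Localization.AtPrime.map_eq_maximalIdeal, Ideal.map_map, Ideal.map_le_iff_le_comap]
      intro r hr
      rw [Ideal.mem_comap, RingHom.comp_apply, RingHom.comp_apply,
        show algebraMap Tq (MonoidAlgebra Tq (J → Multiplicative ℤ)) (algebraMap T Tq r) = red (algebraMap T _ r) by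
          simp [red, MonoidAlgebra.coe_algebraMap], hθ]
      rw [← Localization.AtPrime.map_eq_maximalIdeal]
      exact Ideal.mem_map_of_mem _ hr
    have hu : IsUnit (φ a ^ N) := (IsLocalization.map_units A (⟨a, haP⟩ : P.primeCompl)).pow N
    rw [Ideal.smul_top_eq_map, Algebra.algebraMap_self, Ideal.map_id]
    exact (Ideal.unit_mul_mem_iff_mem _ hu).mp (Ideal.pow_right_mono hle i h1)
  have hz : φ x = 0 := by
    have h2 : φ x ∈ (⨅ i : ℕ, IsLocalRing.maximalIdeal A ^ i • ⊤ : Submodule A A) := Submodule.mem_iInf _ |>.mpr hmem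
    rwa [Ideal.iInf_pow_smul_eq_bot_of_isLocalRing _ (IsLocalRing.maximalIdeal.isMaximal A).ne_top, Submodule.mem_bot] at h2
  obtain ⟨c, hc⟩ := (IsLocalization.map_eq_zero_iff P.primeCompl A x).mp hz
  refine c.2 (hP (Submodule.mem_annihilator.mpr fun y hy => ?_))
  obtain ⟨w, rfl⟩ := Ideal.mem_span_singleton'.mp hy
  rw [smul_eq_mul, mul_left_comm, hc, mul_zero]

end Noeth

/-! ### general rings -/

/-- **density of the levels in a group algebra** -/
theorem dense_group {T : Type u} [CommRing T] {M : Type u} [CommGroup M] [Group.FG M] (a x : MonoidAlgebra T M)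
    (h : ∀ n : ℕ, 0 < n → ∃ N : ℕ, level T M n (a ^ N * x) = 0) : ∃ N : ℕ, a ^ N * x = 0 := by
  classical
  let s : Set T := (a.coeff.support.image a.coeff ∪ x.coeff.support.image x.coeff : Finset T)
  let T₀ := Algebra.adjoin ℤ s
  haveI : IsNoetherianRing T₀ := by
    haveI : Algebra.FiniteType ℤ T₀ :=
      ⟨(Subalgebra.fg_top _).mpr (Subalgebra.fg_adjoin_finset _)⟩
    exact Algebra.FiniteType.isNoetherianRing ℤ T₀
  let inc : T₀ →+* T := T₀.val.toRingHom
  have hinc : Function.Injective inc := Subtype.val_injective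
  have hlift : ∀ z : MonoidAlgebra T M, (∀ l, z.coeff l ∈ T₀) → ∃ z₀, MonoidAlgebra.mapRingHom M inc z₀ = z := by
    intro z hz
    refine ⟨z.coeff.support.sum fun l => MonoidAlgebra.single l ⟨z.coeff l, hz l⟩, ?_⟩
    rw [map_sum]
    conv_rhs => rw [← MonoidAlgebra.sum_coeff_single z, Finsupp.sum]
    exact Finset.sum_congr rfl fun l _ => by rw [MonoidAlgebra.mapRingHom_single]; rfl
  have hmem : ∀ (z : MonoidAlgebra T M), ((z.coeff.support.image z.coeff : Finset T) : Set T) ⊆ s → ∀ l, z.coeff l ∈ T₀ := by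
    intro z hz l
    by_cases hl : l ∈ z.coeff.support
    · exact Algebra.subset_adjoin (hz (Finset.mem_image_of_mem _ hl))
    · rw [Finsupp.notMem_support_iff.mp hl]; exact zero_mem _
  obtain ⟨a₀, ha₀⟩ := hlift a (hmem a (Finset.coe_subset.mpr Finset.subset_union_left))
  obtain ⟨x₀, hx₀⟩ := hlift x (hmem x (Finset.coe_subset.mpr Finset.subset_union_right))
  obtain ⟨ι, J, _, _, p, hp, e, ⟨E⟩⟩ := CommGroup.equiv_free_prod_prod_multiplicative_zmod M
  let F := (i : ι) → Multiplicative (ZMod (p i ^ e i))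
  haveI : ∀ i, NeZero (p i ^ e i) := fun i => ⟨pow_ne_zero _ (hp i).ne_zero⟩
  haveI : Finite F := inferInstance
  let Φ : MonoidAlgebra T₀ M →+* MonoidAlgebra (MonoidAlgebra T₀ F) (J → Multiplicative ℤ) :=
    (MonoidAlgebra.curryRingEquiv : MonoidAlgebra T₀ ((J → Multiplicative ℤ) × F) ≃+* _).toRingHom.comp
      (MonoidAlgebra.mapDomainRingHom T₀ E.toMonoidHom)
  haveI : Algebra.FiniteType T₀ (MonoidAlgebra T₀ F) := MonoidAlgebra.finiteType_of_fg
  haveI : IsNoetherianRing (MonoidAlgebra T₀ F) := Algebra.FiniteType.isNoetherianRing T₀ _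
  have hΦinj : Function.Injective Φ :=
    (MonoidAlgebra.curryRingEquiv : MonoidAlgebra T₀ ((J → Multiplicative ℤ) × F) ≃+* _).injective.comp
      (MonoidAlgebra.mapDomain_injective E.injective)
  obtain ⟨N, hN⟩ := dense_noetherian (Φ a₀) (Φ x₀) fun n hn => by
    obtain ⟨N, hN⟩ := h (n * Nat.card F) (Nat.mul_pos hn Nat.card_pos)
    refine ⟨N, ?_⟩
    let Q := (J → Multiplicative ℤ) ⧸ (powMonoidHom n : (J → Multiplicative ℤ) →* _).range
    let g : M ⧸ (powMonoidHom (n * Nat.card F) : M →* M).range →* Q × F :=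
      QuotientGroup.lift _ (((QuotientGroup.mk' _).prodMap (MonoidHom.id F)).comp E.toMonoidHom) (by
        rintro _ ⟨m, rfl⟩
        rw [MonoidHom.mem_ker, powMonoidHom_apply, map_pow]
        refine Prod.ext ?_ ?_
        · change (QuotientGroup.mk (E m).1 : Q) ^ (n * Nat.card F) = 1
          rw [pow_mul, ← QuotientGroup.mk_pow]
          rw [show (((E m).1 ^ n : J → Multiplicative ℤ) : Q) = 1 from
            (QuotientGroup.eq_one_iff _).mpr (MonoidHom.mem_range.mpr ⟨(E m).1, rfl⟩), one_pow]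
        · change (E m).2 ^ (n * Nat.card F) = 1
          rw [mul_comm, pow_mul, pow_card_eq_one', one_pow])
    have hcomm : ∀ w, level (MonoidAlgebra T₀ F) (J → Multiplicative ℤ) n (Φ w) =
        MonoidAlgebra.curryRingEquiv (MonoidAlgebra.mapDomainRingHom T₀ g (level T₀ M (n * Nat.card F) w)) := by
      intro w
      induction w using MonoidAlgebra.induction_linear with
      | zero => simp
      | add u v hu hv => simp only [map_add, hu, hv]
      | single m c =>
        have h1 : Φ (MonoidAlgebra.single m c) = MonoidAlgebra.single (E m).1 (MonoidAlgebra.single (E m).2 c) := by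
          simp only [Φ, RingHom.comp_apply, MonoidAlgebra.mapDomainRingHom_apply, MonoidAlgebra.mapDomain_single]
          exact MonoidAlgebra.curryRingEquiv_single _ _ _
        rw [h1, level_single, level_single, MonoidAlgebra.mapDomainRingHom_apply, MonoidAlgebra.mapDomain_single]
        exact (MonoidAlgebra.curryRingEquiv_single _ _ _).symm
    rw [← map_pow, ← map_mul, hcomm]
    have hz : level T₀ M (n * Nat.card F) (a₀ ^ N * x₀) = 0 := by
      have hc : ∀ w, MonoidAlgebra.mapRingHom _ inc (level T₀ M (n * Nat.card F) w) =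
          level T M (n * Nat.card F) (MonoidAlgebra.mapRingHom M inc w) := by
        intro w
        induction w using MonoidAlgebra.induction_linear with
        | zero => simp
        | add u v hu hv => simp only [map_add, hu, hv]
        | single m c => simp [level_single]
      have h2 := hc (a₀ ^ N * x₀)
      rw [map_mul (MonoidAlgebra.mapRingHom M inc), map_pow, ha₀, hx₀, hN] at h2
      refine MonoidAlgebra.coeff_injective (Finsupp.ext fun m => hinc ?_)
      have h3 := congrArg (fun w => w.coeff m) h2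
      rw [MonoidAlgebra.coeff_mapRingHom] at h3
      simpa using h3
    rw [hz, map_zero, map_zero]
  refine ⟨N, ?_⟩
  rw [← map_pow, ← map_mul, ← map_zero Φ] at hN
  rw [← ha₀, ← hx₀, ← map_pow, ← map_mul, hΦinj hN, map_zero]

theorem exists_pow_mul_mem {R : Type u} [CommRing R] {A : Type u} [CommRing A] [HopfAlgebra R A] (a x : A) (j : ℕ)
    (z : Localization.Away a)
    (hj : z * algebraMap A (Localization.Away a) (a ^ j) = algebraMap A (Localization.Away a) x)
    (hz : z ∈ ⨅ n : {n : ℕ // 0 < n}, Ideal.map (algebraMap A (Localization.Away a)) (SGA3b.torsionIdeal R A n.1))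
    (n : ℕ) (hn : 0 < n) : ∃ N : ℕ, a ^ N * x ∈ SGA3b.torsionIdeal R A n := by
  have h1 : algebraMap A (Localization.Away a) x ∈
      (SGA3b.torsionIdeal R A n).map (algebraMap A (Localization.Away a)) := by
    have h0 := Submodule.mem_iInf _ |>.mp hz ⟨n, hn⟩
    rw [← hj]
    exact Ideal.mul_mem_right _ _ h0
  obtain ⟨⟨b, ⟨_, i, rfl⟩⟩, hb⟩ := (IsLocalization.mem_map_algebraMap_iff (Submonoid.powers a) _).mp h1
  rw [← map_mul] at hb
  obtain ⟨⟨_, k, rfl⟩, hk⟩ := (IsLocalization.eq_iff_exists (Submonoid.powers a) _).mp hb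
  refine ⟨k + i, ?_⟩
  rw [show a ^ (k + i) * x = a ^ k * (x * a ^ i) by rw [pow_add]; ring]
  dsimp only at hk
  rw [hk]
  exact Ideal.mul_mem_left _ _ b.2

/-- **the torsion subgroups of a group of multiplicative type are schematically dense** -/
theorem iInf_torsion_away {R : Type u} [CommRing R] {A : Type u} [CommRing A] [HopfAlgebra R A]
    (hft : Algebra.FiniteType R A) (h : SGA3b.IsMultType R A) (a : A) :
    ⨅ n : {n : ℕ // 0 < n}, Ideal.map (algebraMap A (Localization.Away a)) (SGA3b.torsionIdeal R A n.1) = ⊥ := by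
  classical
  haveI := hft
  haveI := Isotrivial.isCocomm_of_isMultType h
  rw [eq_bot_iff]
  intro z hz
  obtain ⟨⟨x, ⟨_, j, rfl⟩⟩, hj⟩ := IsLocalization.surj (Submonoid.powers a) z
  have hlev : ∀ n : ℕ, 0 < n → ∃ N : ℕ, a ^ N * x ∈ SGA3b.torsionIdeal R A n := exists_pow_mul_mem a x j z hj hz
  obtain ⟨ι, _, T, _, _, hff, hM⟩ := Integral.exists_split_family h
  choose M instM he using hM
  have hi : ∀ i, ∃ N : ℕ, ((1 : T i) ⊗ₜ[R] (a ^ N * x) : T i ⊗[R] A) = 0 := by
    intro i
    rcases subsingleton_or_nontrivial (T i) with hT | hT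
    · exact ⟨0, by rw [Subsingleton.elim (1 : T i) 0, TensorProduct.zero_tmul]⟩
    obtain ⟨e⟩ := he i
    haveI : Group.FG (M i) := Diag.group_fg_of_finiteType (R := T i) (A := T i ⊗[R] A) e.toAlgEquiv
    have hpow : ∀ (N : ℕ), e ((1 : T i) ⊗ₜ[R] (a ^ N * x)) =
        e ((1 : T i) ⊗ₜ[R] a) ^ N * e ((1 : T i) ⊗ₜ[R] x) := fun N => by
      rw [← map_pow, ← map_mul, Algebra.TensorProduct.tmul_pow, one_pow, Algebra.TensorProduct.tmul_mul_tmul, one_mul]
    obtain ⟨N, hN⟩ := dense_group (e ((1 : T i) ⊗ₜ[R] a)) (e ((1 : T i) ⊗ₜ[R] x)) fun n hn => by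
      obtain ⟨N, hN⟩ := hlev n hn
      refine ⟨N, ?_⟩
      obtain ⟨ψ, hψ⟩ := TorsionHopf.exists_torsion_split e n
      rw [← hpow]
      refine (hψ _).symm.trans ?_
      have h0 : TorsionHopf.qT (T i) n ((1 : T i) ⊗ₜ[R] (a ^ N * x)) = 0 := by
        change (1 : T i) ⊗ₜ[R] Ideal.Quotient.mk (SGA3b.torsionIdeal R A n) (a ^ N * x) = 0
        rw [Ideal.Quotient.eq_zero_iff_mem.mpr hN, TensorProduct.tmul_zero]
      rw [h0, map_zero]
    exact ⟨N, e.toAlgEquiv.injective ((hpow N).trans (hN.trans (map_zero _).symm))⟩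
  choose N hN using hi
  let K := Finset.univ.sup N
  have hzero : a ^ K * x = 0 := by
    refine Module.FaithfullyFlat.tensorProduct_mk_injective (A := R) (B := ∀ i, T i) A ?_
    rw [map_zero, TensorProduct.mk_apply]
    have hcomp : ∀ i, (Algebra.TensorProduct.map (Pi.evalAlgHom R T i) (AlgHom.id R A))
        ((1 : ∀ i, T i) ⊗ₜ[R] (a ^ K * x)) = 0 := fun i => by
      change (1 : T i) ⊗ₜ[R] (a ^ K * x) = 0
      obtain ⟨d, hd⟩ := Nat.exists_eq_add_of_le' (Finset.le_sup (f := N) (Finset.mem_univ i))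
      rw [show K = d + N i from hd, pow_add, mul_assoc,
        ← one_mul (1 : T i), ← Algebra.TensorProduct.tmul_mul_tmul, hN i, mul_zero]
    refine (TensorProduct.piLeft R A T).injective (funext fun i => ?_)
    rw [map_zero, Pi.zero_apply]
    simp only [TensorProduct.piLeft, LinearEquiv.trans_apply, TensorProduct.comm_tmul, TensorProduct.piRight_apply,
      TensorProduct.piRightHom_tmul, LinearEquiv.piCongrRight_apply]
    exact hcomp i
  have hxz : algebraMap A (Localization.Away a) x = 0 :=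
    (IsLocalization.map_eq_zero_iff (Submonoid.powers a) _ x).mpr ⟨⟨_, K, rfl⟩, hzero⟩
  rw [hxz] at hj
  have hu : IsUnit (algebraMap A (Localization.Away a) (a ^ j)) :=
    IsLocalization.map_units (M := Submonoid.powers a) (Localization.Away a) ⟨_, j, rfl⟩
  exact (Submodule.mem_bot _).mpr (hu.mul_left_eq_zero.mp hj)

end

end Groth.Agent.MultType.Dense
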