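import Groth.Agent.MultType.Rigid
import Mathlib.RingTheory.HopfAlgebra.Quotient
import Mathlib.LinearAlgebra.LinearIndependent.Lemmas
import Mathlib.RingTheory.Ideal.Operations

/-!
# A closed subgroup with trivial closed fibre is trivial
-/

open TensorProduct WithConv Coalgebra

universe u v w

namespace Groth.Agent.MultType.Trivial

open Coef Split

noncomputable section

theorem ker_counit_fg (R : Type u) [CommRing R] (A : Type v) [CommRing A] [Bialgebra R A] [Algebra.FiniteType R A] :
    (RingHom.ker (Bialgebra.counitAlgHom R A)).FG := by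
  classical
  obtain ⟨s, hs⟩ := ‹Algebra.FiniteType R A›.out
  refine ⟨s.image fun x => x - algebraMap R A (counit x), le_antisymm ?_ ?_⟩
  · rw [Ideal.span_le]
    intro y hy
    obtain ⟨x, -, rfl⟩ := Finset.mem_image.mp hy
    simp [RingHom.mem_ker]
  · set K : Ideal A := Ideal.span ((s.image fun x => x - algebraMap R A (counit x) : Finset A) : Set A)
    have h : ∀ a, a - algebraMap R A (counit a) ∈ K := by
      intro a
      have ha : a ∈ Algebra.adjoin R (s : Set A) := by rw [hs]; trivial
      induction ha using Algebra.adjoin_induction with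
      | mem x hx => exact Ideal.subset_span (Finset.mem_coe.mpr (Finset.mem_image_of_mem _ hx))
      | algebraMap r => simp
      | add x y _ _ hx hy =>
        rw [map_add, map_add, add_sub_add_comm]; exact add_mem hx hy
      | mul x y _ _ hx hy =>
        have : x * y - algebraMap R A (counit (x * y)) =
            x * (y - algebraMap R A (counit y)) + algebraMap R A (counit y) * (x - algebraMap R A (counit x)) := by
          rw [Bialgebra.counit_mul, map_mul]; ring
        rw [this]
        exact add_mem (Ideal.mul_mem_left _ _ hy) (Ideal.mul_mem_left _ _ hx)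
    intro a ha
    have := h a
    rwa [show counit (R := R) a = 0 from ha, map_zero, sub_zero] at this

variable {R : Type u} [CommRing R] {A : Type u} [CommRing A] [HopfAlgebra R A] (J : Ideal A) [J.IsHopfIdeal R]

theorem conv_kills {K : Type w} [CommRing K] [Algebra R K] {f h : WithConv (A →ₐ[R] K)}
    (hf : ∀ a ∈ J, f a = 0) (hh : ∀ a ∈ J, h a = 0) {a : A} (ha : a ∈ J) : (f * h) a = 0 := by
  let f' : A ⧸ J →ₐ[R] K := Ideal.Quotient.liftₐ J f.ofConv hf
  let h' : A ⧸ J →ₐ[R] K := Ideal.Quotient.liftₐ J h.ofConv hh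
  have key : (f * h) a = (toConv f' * toConv h') (Ideal.Quotient.mk J a) := by
    rw [AlgHom.convMul_apply, AlgHom.convMul_apply, Bialgebra.Quotient.comul_mk]
    generalize comul (R := R) a = t
    induction t using TensorProduct.induction_on with
    | zero => simp
    | tmul x y => rfl
    | add x y hx hy => simp [map_add, hx, hy]
  rw [key, Ideal.Quotient.eq_zero_iff_mem.mpr ha, map_zero]

theorem pow_kills {K : Type w} [CommRing K] [Algebra R K] {f : WithConv (A →ₐ[R] K)}
    (hf : ∀ a ∈ J, f a = 0) (n : ℕ) {a : A} (ha : a ∈ J) : (f ^ n) a = 0 := by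
  induction n generalizing a with
  | zero =>
    rw [pow_zero, AlgHom.convOne_apply, Submodule.IsCoideal.counit_eq_zero (I := J.restrictScalars R) ha,
      map_zero]
  | succ n ih =>
    rw [pow_succ]
    exact conv_kills J (fun a ha => ih ha) hf ha

variable {p : PrimeSpectrum R} (S : SplitAt R A p)

/-- `A → T[M]` -/
def gHom : A →+* MonoidAlgebra S.T S.M :=
  (S.equiv : S.T ⊗[R] A →ₐ[S.T] MonoidAlgebra S.T S.M).toRingHom.comp
    Algebra.TensorProduct.includeRight.toRingHom

theorem gHom_apply (a : A) : gHom S a = S.equiv ((1 : S.T) ⊗ₜ[R] a) := rfl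

theorem counit_gHom (a : A) : counit (R := S.T) (gHom S a) = algebraMap R S.T (counit a) := by
  rw [gHom_apply, CoalgHomClass.counit_comp_apply]
  simp [Algebra.algebraMap_eq_smul_one]

/-- restriction of points of `T[M]` to `A` -/
def pts {K : Type w} [CommRing K] [Algebra R K] [Algebra S.T K] [IsScalarTower R S.T K] :
    WithConv (MonoidAlgebra S.T S.M →ₐ[S.T] K) →* WithConv (A →ₐ[R] K) where
  toFun F := toConv (((F.ofConv.comp (S.equiv : S.T ⊗[R] A →ₐ[S.T] MonoidAlgebra S.T S.M)).restrictScalars R).comp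
    Algebra.TensorProduct.includeRight)
  map_one' := by
    apply WithConv.ext; ext a
    change (1 : WithConv (MonoidAlgebra S.T S.M →ₐ[S.T] K)) (gHom S a) = _
    rw [AlgHom.convOne_apply, counit_gHom, ← IsScalarTower.algebraMap_apply]
    rfl
  map_mul' F G := by
    apply WithConv.ext; ext a
    change (F * G) (S.equiv ((1 : S.T) ⊗ₜ[R] a)) = _
    rw [AlgHom.convMul_apply, AlgHom.convMul_apply, ← CoalgHomClass.map_comp_comul_apply S.equiv,
      ← (ℛ R a).eq]
    simp [← (ℛ R a).eq, TensorProduct.tmul_sum]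

theorem pts_apply {K : Type w} [CommRing K] [Algebra R K] [Algebra S.T K] [IsScalarTower R S.T K]
    (F : WithConv (MonoidAlgebra S.T S.M →ₐ[S.T] K)) (a : A) : pts S F a = F (gHom S a) := rfl

theorem mem_map_gHom {z : MonoidAlgebra S.T S.M} (hz : counit (R := S.T) z = 0) :
    z ∈ Ideal.map (gHom S) (RingHom.ker (Bialgebra.counitAlgHom R A)) := by
  obtain ⟨w, rfl⟩ : ∃ w, S.equiv w = z := ⟨S.equiv.symm z, S.equiv.apply_symm_apply z⟩
  rw [CoalgHomClass.counit_comp_apply] at hz
  suffices h : ∀ w : S.T ⊗[R] A, S.equiv w - algebraMap S.T _ (counit w) ∈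
      Ideal.map (gHom S) (RingHom.ker (Bialgebra.counitAlgHom R A)) by
    simpa [hz] using h w
  intro w
  induction w using TensorProduct.induction_on with
  | zero => simp
  | add x y hx hy => simp only [map_add]; rw [add_sub_add_comm]; exact add_mem hx hy
  | tmul t a =>
    have h1 : S.equiv (t ⊗ₜ[R] a) - algebraMap S.T _ (counit (t ⊗ₜ[R] a)) =
        algebraMap S.T _ t * gHom S (a - algebraMap R A (counit a)) := by
      have h2 : t ⊗ₜ[R] a = t • ((1 : S.T) ⊗ₜ[R] a) := by simp [TensorProduct.smul_tmul']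
      have h3 : gHom S (algebraMap R A (counit a)) = algebraMap S.T _ (algebraMap R S.T (counit a)) := by
        have h4 : (1 : S.T) ⊗ₜ[R] algebraMap R A (counit a) =
            algebraMap S.T (S.T ⊗[R] A) (algebraMap R S.T (counit a)) := by
          simp [Algebra.algebraMap_eq_smul_one, TensorProduct.tmul_smul, Algebra.TensorProduct.one_def]
        rw [gHom_apply, h4, AlgHomClass.commutes]
      rw [map_sub (gHom S), h3, gHom_apply, mul_sub, ← Algebra.smul_def, ← map_smul, ← h2,
        ← (algebraMap S.T (MonoidAlgebra S.T S.M)).map_mul, TensorProduct.counit_tmul]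
      congr 2
      simp [Algebra.smul_def, mul_comm]
    rw [h1]
    exact Ideal.mul_mem_left _ _ (Ideal.mem_map_of_mem _ (by simp [RingHom.mem_ker]))

theorem coeff_zero_of_sum {T₀ : Type u} [CommRing T₀] {K : Type w} [CommRing K] [IsDomain K] {N : Type v} [CommGroup N] [Algebra T₀ K]
    (ψ : N →* K) (hψ : Function.Injective ψ) (z : MonoidAlgebra T₀ N)
    (h : ∀ k : ℕ, MonoidAlgebra.lift T₀ K N (ψ ^ k) z = 0) (n : N) : algebraMap T₀ K (z.coeff n) = 0 := by
  classical
  have hinj : Function.Injective fun n : N => (powersHom K (ψ n) : Multiplicative ℕ →* K) := fun a b hab => by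
    apply hψ
    simpa using DFunLike.congr_fun hab (Multiplicative.ofAdd 1)
  have hli := (linearIndependent_monoidHom (Multiplicative ℕ) K).comp _ hinj
  rw [linearIndependent_iff'] at hli
  by_cases hn : n ∈ z.coeff.support
  · refine hli z.coeff.support (fun m => algebraMap T₀ K (z.coeff m)) (funext fun k => ?_) n hn
    simp only [Finset.sum_apply, Pi.smul_apply, Function.comp_apply, powersHom_apply, smul_eq_mul, Pi.zero_apply]
    refine Eq.trans ?_ (h k.toAdd)
    rw [MonoidAlgebra.lift_apply, Finsupp.sum]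
    refine Finset.sum_congr rfl fun m _ => ?_
    simp [Algebra.smul_def]
  · simp [Finsupp.notMem_support_iff.mp hn]

variable [IsLocalRing R]

omit [IsLocalRing R] in
/-- a point of `T[M]` killing `J`, and its powers -/
theorem coeff_map_mem_ker {K : Type u} [CommRing K] [IsDomain K] [Algebra R K] [Algebra S.T K]
    [IsScalarTower R S.T K] (χ : S.M →* K) (hJ : ∀ a ∈ J, MonoidAlgebra.lift S.T K S.M χ (gHom S a) = 0)
    (a : A) (ha : a ∈ J) (n : S.M ⧸ χ.toHomUnits.ker) :
    algebraMap S.T K ((MonoidAlgebra.mapDomainAlgHom S.T S.T (QuotientGroup.mk' χ.toHomUnits.ker) (gHom S a)).coeff n) = 0 := by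
  refine coeff_zero_of_sum ((Units.coeHom K).comp (QuotientGroup.kerLift χ.toHomUnits))
    (Units.val_injective.comp (QuotientGroup.kerLift_injective _)) _ (fun k => ?_) n
  have h1 : ∀ a ∈ J, pts S (MonoidAlgebra.liftMulEquiv S.T K S.M χ) a = 0 := fun a ha => by
    rw [pts_apply]; exact hJ a ha
  have h2 := pow_kills J h1 k ha
  rw [← map_pow (pts S), pts_apply, ← map_pow (MonoidAlgebra.liftMulEquiv S.T K S.M)] at h2
  refine Eq.trans ?_ h2
  change _ = MonoidAlgebra.lift S.T K S.M (χ ^ k) (gHom S a)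
  rw [← AlgHom.comp_apply]
  congr 1
  refine MonoidAlgebra.algHom_ext (fun m => ?_) (by ext)
  simp [MonoidAlgebra.mapDomain_single]

theorem aug_le_radical (hm : Ideal.map (algebraMap R S.T) (IsLocalRing.maximalIdeal R) ≤ Ideal.jacobson ⊥)
    [IsLocalRing S.T]
    (hs : RingHom.ker (Bialgebra.counitAlgHom R A) ≤ J ⊔ Ideal.map (algebraMap R A) (IsLocalRing.maximalIdeal R)) :
    Ideal.map (gHom S) (RingHom.ker (Bialgebra.counitAlgHom R A)) ≤ (Ideal.map (gHom S) J).radical := by
  rw [Ideal.radical_eq_sInf]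
  refine le_sInf fun P ⟨hJP, hP⟩ => ?_
  have : IsDomain (MonoidAlgebra S.T S.M ⧸ P) := Ideal.Quotient.isDomain P
  let χ : S.M →* MonoidAlgebra S.T S.M ⧸ P :=
    (Ideal.Quotient.mk P).toMonoidHom.comp (MonoidAlgebra.of S.T S.M)
  have hlift : MonoidAlgebra.lift S.T _ S.M χ = Ideal.Quotient.mkₐ S.T P := by
    refine MonoidAlgebra.algHom_ext (fun m => ?_) (by ext)
    simp [χ]
  have hJ : ∀ a ∈ J, MonoidAlgebra.lift S.T _ S.M χ (gHom S a) = 0 := fun a ha => by
    rw [hlift]
    exact Ideal.Quotient.eq_zero_iff_mem.mpr (hJP (Ideal.mem_map_of_mem _ ha))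
  by_contra hnle
  obtain ⟨m₀, hm₀⟩ : ∃ m₀, χ m₀ ≠ 1 := by
    by_contra! hall
    apply hnle
    rw [Ideal.map_le_iff_le_comap]
    intro a ha
    rw [Ideal.mem_comap, ← Ideal.Quotient.eq_zero_iff_mem, ← Ideal.Quotient.mkₐ_eq_mk S.T, ← hlift]
    change (MonoidAlgebra.liftMulEquiv S.T _ S.M χ) (gHom S a) = 0
    rw [show χ = 1 from MonoidHom.ext hall, map_one, AlgHom.convOne_apply, counit_gHom,
      show counit (R := R) a = 0 from ha, map_zero, map_zero]
  let N := χ.toHomUnits.ker
  let pr : MonoidAlgebra S.T S.M →ₐ[S.T] MonoidAlgebra S.T (S.M ⧸ N) :=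
    MonoidAlgebra.mapDomainAlgHom S.T S.T (QuotientGroup.mk' N)
  have hcoef : ∀ a ∈ J, ∀ n, algebraMap S.T (MonoidAlgebra S.T S.M ⧸ P) ((pr (gHom S a)).coeff n) = 0 :=
    fun a ha n => coeff_map_mem_ker J S χ hJ a ha n
  -- reduce to the closed fibre
  let π : MonoidAlgebra S.T S.M →+* MonoidAlgebra (IsLocalRing.ResidueField S.T) (S.M ⧸ N) :=
    (MonoidAlgebra.mapRingHom (S.M ⧸ N) (IsLocalRing.residue S.T)).comp pr.toRingHom
  have hπJ : ∀ a ∈ J, π (gHom S a) = 0 := by
    intro a ha
    ext n
    simp only [π, RingHom.comp_apply, MonoidAlgebra.coeff_mapRingHom, MonoidAlgebra.coeff_zero, Finsupp.zero_apply,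
      IsLocalRing.residue_eq_zero_iff]
    refine IsLocalRing.le_maximalIdeal (J := RingHom.ker (algebraMap S.T (MonoidAlgebra S.T S.M ⧸ P))) ?_ (hcoef a ha n)
    exact RingHom.ker_ne_top _
  have hπm : ∀ r ∈ IsLocalRing.maximalIdeal R, π (gHom S (algebraMap R A r)) = 0 := by
    intro r hr
    have h4 : gHom S (algebraMap R A r) = algebraMap S.T _ (algebraMap R S.T r) := by
      have h5 : (1 : S.T) ⊗ₜ[R] algebraMap R A r = algebraMap S.T (S.T ⊗[R] A) (algebraMap R S.T r) := by
        simp [Algebra.algebraMap_eq_smul_one, TensorProduct.tmul_smul, Algebra.TensorProduct.one_def]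
      rw [gHom_apply, h5, AlgHomClass.commutes]
    have h6 : IsLocalRing.residue S.T (algebraMap R S.T r) = 0 := by
      rw [IsLocalRing.residue_eq_zero_iff]
      exact (hm (Ideal.mem_map_of_mem _ hr) : _) |> fun h => by
        rwa [IsLocalRing.jacobson_eq_maximalIdeal _ bot_ne_top] at h
    rw [h4]
    ext n
    simp only [π, RingHom.comp_apply, AlgHom.toRingHom_eq_coe, RingHom.coe_coe, AlgHom.commutes,
      MonoidAlgebra.coeff_mapRingHom, MonoidAlgebra.coeff_zero, Finsupp.zero_apply]
    classical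
    rw [MonoidAlgebra.coe_algebraMap, Function.comp_apply, MonoidAlgebra.coeff_single, Finsupp.single_apply]
    split_ifs
    · exact h6
    · simp
  have hker : Ideal.map (gHom S) (RingHom.ker (Bialgebra.counitAlgHom R A)) ≤ RingHom.ker π := by
    refine le_trans (Ideal.map_mono hs) ?_
    rw [Ideal.map_sup, sup_le_iff, Ideal.map_le_iff_le_comap, Ideal.map_le_iff_le_comap, Ideal.map_le_iff_le_comap]
    exact ⟨hπJ, hπm⟩
  have hd : MonoidAlgebra.single m₀ (1 : S.T) - 1 ∈ RingHom.ker π :=
    hker (mem_map_gHom S (by simp))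
  rw [RingHom.mem_ker, map_sub, map_one, sub_eq_zero] at hd
  apply hm₀
  have h7 := congrArg (fun z => MonoidAlgebra.coeff z (QuotientGroup.mk' N m₀)) hd
  by_contra hne
  have hne' : QuotientGroup.mk' N m₀ ≠ 1 := fun h => hne (congrArg Units.val (MonoidHom.mem_ker.mp ((QuotientGroup.eq_one_iff m₀).mp h)))
  rw [MonoidAlgebra.one_def] at h7
  simp only [π, pr, RingHom.comp_apply, AlgHom.toRingHom_eq_coe, RingHom.coe_coe, MonoidAlgebra.mapDomainAlgHom_apply,
    MonoidAlgebra.mapDomain_single, MonoidAlgebra.coeff_mapRingHom, MonoidAlgebra.coeff_single,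
    map_one, Finsupp.single_eq_same, Finsupp.single_eq_of_ne hne'] at h7
  exact one_ne_zero h7

theorem eq_aug (hft : Algebra.FiniteType R A) [IsLocalRing S.T] [Module.FaithfullyFlat R S.T]
    (hm : Ideal.map (algebraMap R S.T) (IsLocalRing.maximalIdeal R) ≤ Ideal.jacobson ⊥)
    (hs : RingHom.ker (Bialgebra.counitAlgHom R A) ≤ J ⊔ Ideal.map (algebraMap R A) (IsLocalRing.maximalIdeal R)) :
    RingHom.ker (Bialgebra.counitAlgHom R A) ≤ J := by
  classical
  set I' := Ideal.map (gHom S) (RingHom.ker (Bialgebra.counitAlgHom R A)) with hI'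
  set J' := Ideal.map (gHom S) J
  have hfg : I'.FG := (ker_counit_fg R A).map _
  obtain ⟨n, hn⟩ := Ideal.exists_pow_le_of_le_radical_of_fg (aug_le_radical J S hm hs) hfg
  have hmemI : ∀ z, z ∈ I' ↔ counit (R := S.T) z = 0 := by
    refine fun z => ⟨fun hz => ?_, mem_map_gHom S⟩
    have : I' ≤ RingHom.ker (Bialgebra.counitAlgHom S.T (MonoidAlgebra S.T S.M)) := by
      rw [hI', Ideal.map_le_iff_le_comap]
      intro a ha
      rw [Ideal.mem_comap, RingHom.mem_ker]
      change counit (R := S.T) (gHom S a) = 0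
      rw [counit_gHom, show counit (R := R) a = 0 from ha, map_zero]
    exact this hz
  set 𝔪 := Ideal.map (algebraMap R S.T) (IsLocalRing.maximalIdeal R)
  -- `I' ≤ J' + 𝔪 I'`
  have h1 : ∀ z ∈ I', z ∈ (J'.restrictScalars S.T) ⊔ 𝔪 • (I'.restrictScalars S.T) := by
    intro z hz
    have h2 : I' ≤ J' ⊔ Ideal.map (algebraMap S.T _) 𝔪 := by
      refine le_trans (Ideal.map_mono hs) ?_
      rw [Ideal.map_sup, Ideal.map_map, Ideal.map_map]
      refine sup_le_sup_left (le_of_eq ?_) _
      congr 1
      ext r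
      have h5 : (1 : S.T) ⊗ₜ[R] algebraMap R A r = algebraMap S.T (S.T ⊗[R] A) (algebraMap R S.T r) := by
        simp [Algebra.algebraMap_eq_smul_one, TensorProduct.tmul_smul, Algebra.TensorProduct.one_def]
      simp only [RingHom.comp_apply, gHom_apply, h5, AlgHomClass.commutes]
    obtain ⟨j, hj, μ, hμ, rfl⟩ := Submodule.mem_sup.mp (h2 hz)
    have hμ0 : counit (R := S.T) μ = 0 := by
      have hjI : j ∈ I' := Ideal.map_mono (fun a ha => Submodule.IsCoideal.counit_eq_zero (I := J.restrictScalars R) ha) hj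
      simpa [(hmemI j).mp hjI] using (hmemI _).mp hz
    refine Submodule.add_mem_sup hj ?_
    have h3 : ∀ μ ∈ Ideal.map (algebraMap S.T (MonoidAlgebra S.T S.M)) 𝔪,
        μ - algebraMap S.T _ (counit μ) ∈ 𝔪 • (I'.restrictScalars S.T) := by
      intro μ hμ
      have hμ' : μ ∈ (Ideal.map (algebraMap S.T (MonoidAlgebra S.T S.M)) 𝔪).restrictScalars S.T := hμ
      rw [← Ideal.smul_top_eq_map] at hμ'
      refine Submodule.smul_induction_on hμ' (fun r hr b _ => ?_) (fun x y hx hy => ?_)
      · have : r • b - algebraMap S.T _ (counit (R := S.T) (r • b)) = r • (b - algebraMap S.T _ (counit b)) := by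
          rw [smul_sub, map_smul, smul_eq_mul, map_mul, Algebra.smul_def, Algebra.smul_def]
        rw [this]
        exact Submodule.smul_mem_smul hr ((hmemI _).mpr (by simp))
      · rw [map_add, map_add, add_sub_add_comm]; exact add_mem hx hy
    have := h3 μ hμ
    rwa [hμ0, map_zero, sub_zero] at this
  obtain ⟨G, hG⟩ := hfg
  set L := (J' ⊔ I' ^ 2).restrictScalars S.T
  set N := Submodule.span S.T (G : Set (MonoidAlgebra S.T S.M))
  have hGI : ∀ x ∈ G, x ∈ I' := fun x hx => hG ▸ Ideal.subset_span hx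
  have hIN : I'.restrictScalars S.T ≤ L ⊔ N := by
    intro z hz
    have hz' : z ∈ Ideal.span (G : Set (MonoidAlgebra S.T S.M)) := by rw [hG]; exact hz
    clear hz
    induction hz' using Submodule.span_induction with
    | mem x hx => exact Submodule.mem_sup_right (Submodule.subset_span hx)
    | zero => exact zero_mem _
    | add x y _ _ hx hy => exact add_mem hx hy
    | smul b x hx ih =>
      have hxI : x ∈ I' := hG ▸ hx
      have hsplit : b • x = (b - algebraMap S.T _ (counit b)) * x + counit (R := S.T) b • x := by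
        change b * x = _
        rw [Algebra.smul_def]; ring
      rw [hsplit]
      refine add_mem (Submodule.mem_sup_left (Submodule.mem_sup_right ?_)) (Submodule.smul_mem _ _ ih)
      rw [pow_two]
      exact Ideal.mul_mem_mul ((hmemI _).mpr (by simp)) hxI
  have hNL : N ≤ L := by
    refine Submodule.le_of_le_smul_of_le_jacobson_bot ⟨G, rfl⟩ hm ?_
    intro z hz
    have hzI : z ∈ I' := (Submodule.span_le.mpr (fun x hx => hGI x hx) : N ≤ I'.restrictScalars S.T) hz
    have hle' : J'.restrictScalars S.T ⊔ 𝔪 • I'.restrictScalars S.T ≤ L ⊔ 𝔪 • N := by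
      refine sup_le (le_trans (fun x hx => Ideal.mem_sup_left hx : J'.restrictScalars S.T ≤ L) le_sup_left) ?_
      refine le_trans (Submodule.smul_mono le_rfl hIN) ?_
      rw [Submodule.smul_sup]
      exact sup_le_sup_right Submodule.smul_le_right _
    exact hle' (h1 z hzI)
  have hsq : I' ≤ J' ⊔ I' ^ 2 := fun z hz => (sup_le le_rfl hNL : L ⊔ N ≤ L) (hIN hz)
  have hpow : ∀ k, I' ≤ J' ⊔ I' ^ (k + 1) := by
    intro k
    induction k with
    | zero => simp
    | succ k ih =>
      refine hsq.trans (sup_le le_sup_left ?_)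
      rw [pow_two]
      refine le_trans (Ideal.mul_mono_right ih) ?_
      rw [Ideal.mul_sup, ← pow_succ']
      exact sup_le (le_sup_of_le_left Ideal.mul_le_right) le_sup_right
  have hle : I' ≤ J' := (hpow n).trans (sup_le le_rfl ((Ideal.pow_le_pow_right (Nat.le_succ n)).trans hn))
  -- descend
  let e : MonoidAlgebra S.T S.M →+* A ⊗[R] S.T :=
    (Algebra.TensorProduct.comm R S.T A : S.T ⊗[R] A →ₐ[R] A ⊗[R] S.T).toRingHom.comp
      (S.equiv.symm : MonoidAlgebra S.T S.M →ₐ[S.T] S.T ⊗[R] A).toRingHom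
  have he : e.comp (gHom S) = algebraMap A (A ⊗[R] S.T) := by ext a; simp [e, gHom]
  intro a ha
  rw [← Ideal.comap_map_eq_self_of_faithfullyFlat (B := A ⊗[R] S.T) J, Ideal.mem_comap, ← he, ← Ideal.map_map]
  exact Ideal.mem_map_of_mem e (hle (Ideal.mem_map_of_mem _ ha))

end

end Groth.Agent.MultType.Trivial
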