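import Groth.Agent.MultType.FinSub
import Groth.Agent.FinHopf.Deligne
import Groth.Agent.MultType.Trivial
import Mathlib.RingTheory.ZariskisMainTheorem
import Mathlib.RingTheory.QuasiFinite.Basic

/-!
# Quasi-finite commutative group schemes are killed by an integer
-/

open TensorProduct WithConv Coalgebra

universe u

namespace Groth.Agent.MultType.Killed

noncomputable section

/-! ### bounded fibre dimensions -/

theorem exists_local_bound (R C : Type u) [CommRing R] [CommRing C] [Algebra R C] [Algebra.QuasiFinite R C]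
    [Algebra.FiniteType R C] :
    ∃ (s : Finset (PrimeSpectrum C)) (S : PrimeSpectrum C → Subalgebra R C) (r : PrimeSpectrum C → C),
      (∀ p, Module.Finite R (S p) ∧ r p ∈ S p ∧ ∀ c : C, ∃ k : ℕ, c * r p ^ k ∈ S p) ∧
      Ideal.span (r '' (s : Set (PrimeSpectrum C))) = ⊤ := by
  have h := fun p : PrimeSpectrum C =>
    Algebra.QuasiFiniteAt.exists_fg_and_exists_notMem_and_awayMap_bijective (R := R) p.asIdeal
  choose S hS r hr hbij using h
  obtain ⟨s, hs⟩ := isCompact_univ.elim_finite_subcover
    (fun p : PrimeSpectrum C => (PrimeSpectrum.basicOpen (r p).1 : Set (PrimeSpectrum C)))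
    (fun p => (PrimeSpectrum.basicOpen _).2) fun p _ => Set.mem_iUnion.mpr ⟨p, hr p⟩
  refine ⟨s, S, fun p => (r p).1, fun p => ⟨Module.Finite.iff_fg.mpr (hS p), (r p).2, fun c => ?_⟩, ?_⟩
  · obtain ⟨x, hx⟩ := (hbij p).2 (algebraMap C (Localization.Away ((S p).val.toRingHom (r p))) c)
    obtain ⟨⟨a, ⟨_, k, rfl⟩⟩, ha⟩ := IsLocalization.surj (Submonoid.powers (r p)) x
    dsimp only at ha
    have h1 := congrArg (Localization.awayMap (S p).val.toRingHom (r p)) ha
    rw [map_mul, hx] at h1
    simp only [Localization.awayMap, IsLocalization.Away.map, IsLocalization.map_eq] at h1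
    rw [← map_mul] at h1
    rw [map_pow] at h1
    obtain ⟨⟨_, m, rfl⟩, hm⟩ :=
      (IsLocalization.eq_iff_exists (Submonoid.powers ((S p).val.toRingHom (r p))) _).mp h1
    dsimp only at hm
    refine ⟨m + k, ?_⟩
    rw [show c * (r p).1 ^ (m + k) = (r p).1 ^ m * (c * (r p).1 ^ k) by rw [pow_add]; ring]
    change ((S p).val.toRingHom (r p)) ^ m * (c * ((S p).val.toRingHom (r p)) ^ k) ∈ S p
    rw [hm]
    exact (S p).mul_mem (Subalgebra.pow_mem _ (r p).2 m) a.2
  · by_contra hne
    obtain ⟨P, hP, hle⟩ := Ideal.exists_le_maximal _ hne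
    obtain ⟨p, hp, hpP⟩ := Set.mem_iUnion₂.mp (hs (Set.mem_univ (⟨P, hP.isPrime⟩ : PrimeSpectrum C)))
    exact hpP (hle (Ideal.subset_span ⟨p, hp, rfl⟩))

theorem finrank_le_of_cover {R C : Type u} [CommRing R] [CommRing C] [Algebra R C] {ι : Type u} (s : Finset ι)
    (S : ι → Subalgebra R C) (r : ι → C) (n : ι → ℕ)
    (hS : ∀ p, (∃ π : (Fin (n p) → R) →ₗ[R] S p, Function.Surjective π) ∧ r p ∈ S p ∧
      ∀ c : C, ∃ k : ℕ, c * r p ^ k ∈ S p)
    (hr : Ideal.span (r '' (s : Set ι)) = ⊤) (K : Type u) [Field K] [Algebra R K]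
    [Module.Finite K (K ⊗[R] C)] :
    Module.finrank K (K ⊗[R] C) ≤ ∑ p ∈ s, n p := by
  classical
  let X := K ⊗[R] C
  let ri : ι → X := fun p => (1 : K) ⊗ₜ[R] r p
  let Loc : ι → Type u := fun p => Localization.Away (ri p)
  let f : ∀ p, X →ₐ[K] Loc p := fun p => IsScalarTower.toAlgHom K X (Loc p)
  let Φ : X →ₗ[K] ∀ p : s, Loc p.1 := LinearMap.pi fun p => (f p.1).toLinearMap
  have hsur : ∀ p, Function.Surjective ((f p).toLinearMap ∘ₗ ((S p).val.toLinearMap.baseChange K)) := by
    intro p
    let g : K ⊗[R] S p →ₐ[K] Loc p := (f p).comp (Algebra.TensorProduct.map (AlgHom.id K K) (S p).val)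
    suffices hg : Function.Surjective g by
      intro y
      obtain ⟨z, hz⟩ := hg y
      refine ⟨z, Eq.trans ?_ hz⟩
      change f p _ = f p _
      congr 1
    obtain ⟨π, hπ⟩ := (hS p).1
    haveI : Module.Finite R (S p) := Module.Finite.of_surjective π hπ
    haveI : Module.Finite K g.range := Module.Finite.of_surjective g.rangeRestrict.toLinearMap g.rangeRestrict_surjective
    let u : g.range := g.rangeRestrict ((1 : K) ⊗ₜ[R] ⟨r p, (hS p).2.1⟩)
    have hu : IsUnit (f p (ri p)) := IsLocalization.Away.algebraMap_isUnit (ri p)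
    have hinj : Function.Injective (LinearMap.mulLeft K u) := fun a b hab => by
      refine Subtype.ext (hu.mul_left_cancel ?_)
      exact congrArg Subtype.val hab
    obtain ⟨v, hv⟩ := LinearMap.surjective_of_injective hinj 1
    have hv' : f p (ri p) * v.1 = 1 := congrArg Subtype.val hv
    have hmem : ∀ x : X, f p x ∈ g.range := by
      intro x
      induction x using TensorProduct.induction_on with
      | zero => rw [map_zero]; exact zero_mem _
      | add a b ha hb => rw [map_add]; exact add_mem ha hb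
      | tmul t c =>
        obtain ⟨k, hk⟩ := (hS p).2.2 c
        have h1 : f p (t ⊗ₜ[R] c) = f p (t ⊗ₜ[R] (c * r p ^ k)) * v.1 ^ k := by
          have h2 : (t ⊗ₜ[R] (c * r p ^ k) : X) = t ⊗ₜ[R] c * ri p ^ k := by
            change _ = (t ⊗ₜ[R] c : K ⊗[R] C) * ((1 : K) ⊗ₜ[R] r p) ^ k
            rw [Algebra.TensorProduct.tmul_pow, one_pow]
            refine Eq.trans ?_ (Algebra.TensorProduct.tmul_mul_tmul t (1 : K) c (r p ^ k)).symm
            rw [mul_one]
          rw [h2, map_mul, map_pow, mul_assoc, ← mul_pow, hv', one_pow, mul_one]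
        rw [h1]
        exact mul_mem ⟨t ⊗ₜ[R] (⟨_, hk⟩ : S p), rfl⟩ (pow_mem v.2 k)
    intro y
    obtain ⟨⟨x, ⟨_, k, rfl⟩⟩, hx⟩ := IsLocalization.surj (Submonoid.powers (ri p)) y
    have hy : y = f p x * v.1 ^ k := by
      have hx' : y * f p (ri p) ^ k = f p x := by
        rw [← map_pow]; exact hx
      rw [← hx', mul_assoc, ← mul_pow, hv', one_pow, mul_one]
    have hyr : y ∈ g.range := by rw [hy]; exact mul_mem (hmem x) (pow_mem v.2 k)
    exact hyr
  have hΦ : Function.Injective Φ := by
    rw [injective_iff_map_eq_zero]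
    intro x hx
    have hann : Ideal.span (ri '' (s : Set ι)) = ⊤ := by
      have := congrArg (Ideal.map (Algebra.TensorProduct.includeRight : C →ₐ[R] X)) hr
      rwa [Ideal.map_span, Ideal.map_top, ← Set.image_comp] at this
    by_contra hx0
    obtain ⟨P, hP, hle⟩ := Ideal.exists_le_maximal (Submodule.annihilator (Ideal.span {x}))
      (fun h => hx0 (by
        have := Submodule.mem_annihilator.mp (h ▸ Submodule.mem_top : (1 : X) ∈ Submodule.annihilator (Ideal.span {x})) x
          (Ideal.mem_span_singleton_self x)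
        simpa using this))
    refine hP.ne_top (top_le_iff.mp (hann ▸ Ideal.span_le.mpr ?_))
    rintro _ ⟨p, hp, rfl⟩
    obtain ⟨⟨_, k, rfl⟩, hk⟩ := (IsLocalization.map_eq_zero_iff (Submonoid.powers (ri p)) (Loc p) x).mp
      (congrFun hx ⟨p, hp⟩)
    refine hP.isPrime.mem_of_pow_mem k (hle (Submodule.mem_annihilator.mpr fun y hy => ?_))
    obtain ⟨w, rfl⟩ := Ideal.mem_span_singleton'.mp hy
    dsimp only at hk
    rw [smul_eq_mul, mul_left_comm, hk, mul_zero]
  have hb : ∀ p : s, Module.Finite K (Loc p.1) ∧ Module.finrank K (Loc p.1) ≤ n p.1 := by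
    intro p
    obtain ⟨π, hπ⟩ := (hS p.1).1
    have h2 : Function.Surjective (((f p.1).toLinearMap ∘ₗ ((S p.1).val.toLinearMap.baseChange K)) ∘ₗ π.baseChange K) :=
      (hsur p.1).comp (by
        intro t
        induction t using TensorProduct.induction_on with
        | zero => exact ⟨0, map_zero _⟩
        | tmul k c =>
          obtain ⟨v, rfl⟩ := hπ c
          exact ⟨k ⊗ₜ v, rfl⟩
        | add a b ha hb =>
          obtain ⟨x, rfl⟩ := ha
          obtain ⟨y, rfl⟩ := hb
          exact ⟨x + y, map_add _ _ _⟩)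
    refine ⟨Module.Finite.of_surjective _ h2, (LinearMap.finrank_le_finrank_of_surjective h2).trans ?_⟩
    haveI : Nontrivial R := (algebraMap R K).domain_nontrivial
    rw [Module.finrank_baseChange, Module.finrank_fin_fun]
  haveI := fun p => (hb p).1
  refine (LinearMap.finrank_le_finrank_of_injective hΦ).trans ?_
  rw [Module.finrank_pi_fintype, ← Finset.sum_coe_sort s n]
  exact Finset.sum_le_sum fun p _ => (hb p).2

/-- quasi-finite algebras of finite type have bounded fibres -/
theorem exists_finrank_bound (R C : Type u) [CommRing R] [CommRing C] [Algebra R C] [Algebra.QuasiFinite R C]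
    [Algebra.FiniteType R C] :
    ∃ d : ℕ, ∀ (p : Ideal R) [p.IsPrime],
      Module.Finite p.ResidueField (p.ResidueField ⊗[R] C) ∧
        Module.finrank p.ResidueField (p.ResidueField ⊗[R] C) ≤ d := by
  obtain ⟨s, S, r, hS, hr⟩ := exists_local_bound R C
  have hg := fun p => (hS p).1.exists_fin' R (S p)
  choose n π hπ using hg
  refine ⟨∑ p ∈ s, n p, fun p _ => ?_⟩
  haveI : Module.Finite p.ResidueField (p.ResidueField ⊗[R] C) := Algebra.QuasiFinite.finite_fiber p
  exact ⟨inferInstance, finrank_le_of_cover s S r n (fun q => ⟨⟨π q, hπ q⟩, (hS q).2⟩) hr p.ResidueField⟩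

/-! ### killed by an integer -/

variable {R : Type u} [CommRing R] {C : Type u} [CommRing C] [HopfAlgebra R C]

/-- the augmentation ideal -/
abbrev aug (R C : Type u) [CommRing R] [CommRing C] [HopfAlgebra R C] : Ideal C :=
  RingHom.ker (Bialgebra.counitAlgHom R C)

theorem sub_counit_mem (c : C) : c - algebraMap R C (counit c) ∈ aug R C := by simp [aug, RingHom.mem_ker]

theorem counit_powConv (n : ℕ) (c : C) : counit (R := R) (SGA3b.powConv R C n c) = counit c := by
  have h := OpenSub.apply_powConv (toConv (Bialgebra.counitAlgHom R C)) c n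
  have h1 : (toConv (Bialgebra.counitAlgHom R C)) = (1 : WithConv (C →ₐ[R] R)) := by
    apply WithConv.ext
    ext x
    rw [AlgHom.convOne_apply]
    rfl
  rw [h1, one_pow, AlgHom.convOne_apply] at h
  exact h

/-- the `n`-th power map is multiplication by `n` on the cotangent space of the unit -/
theorem powConv_sub_smul_mem (n : ℕ) (y : C) (hy : y ∈ aug R C) :
    SGA3b.powConv R C n y - (n : C) * y ∈ aug R C * aug R C := by
  induction n generalizing y with
  | zero =>
    have h0 : SGA3b.powConv R C 0 y = 0 := by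
      change ((toConv (AlgHom.id R C)) ^ 0) y = 0
      rw [pow_zero, AlgHom.convOne_apply, show counit (R := R) y = 0 from hy, map_zero]
    simp [h0]
  | succ k ih =>
    let repr := Coalgebra.Repr.arbitrary R y
    have h1 : SGA3b.powConv R C (k + 1) y =
        ∑ i ∈ repr.index, SGA3b.powConv R C k (repr.left i) * repr.right i := by
      change ((toConv (AlgHom.id R C)) ^ (k + 1)) y = _
      rw [pow_succ, AlgHom.convMul_apply, ← repr.eq]
      simp only [map_sum]
      rfl
    have hl : (∑ i ∈ repr.index, algebraMap R C (counit (repr.left i)) * repr.right i) = y := by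
      conv_rhs => rw [← Coalgebra.sum_counit_smul repr]
      simp only [Algebra.smul_def]
    have hr : (∑ i ∈ repr.index, SGA3b.powConv R C k (repr.left i) * algebraMap R C (counit (repr.right i))) =
        SGA3b.powConv R C k y := by
      have h := congrArg (TensorProduct.rid R C) (Coalgebra.sum_tmul_counit_eq repr)
      simp only [map_sum, TensorProduct.rid_tmul, one_smul] at h
      conv_rhs => rw [← h]
      rw [map_sum]
      exact Finset.sum_congr rfl fun i _ => by rw [Algebra.smul_def, map_mul, AlgHom.commutes, mul_comm]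
    have hc : (∑ i ∈ repr.index, algebraMap R C (counit (repr.left i)) * algebraMap R C (counit (repr.right i))) = 0 := by
      simp only [← map_mul, ← map_sum]
      have := congrArg (counit (R := R)) (Coalgebra.sum_counit_smul repr)
      simp only [map_sum, map_smul, smul_eq_mul] at this
      rw [this, show counit (R := R) y = 0 from hy, map_zero]
    have h2 : SGA3b.powConv R C (k + 1) y = SGA3b.powConv R C k y + y +
        ∑ i ∈ repr.index, SGA3b.powConv R C k (repr.left i - algebraMap R C (counit (repr.left i))) *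
          (repr.right i - algebraMap R C (counit (repr.right i))) := by
      have e1 : ∀ i ∈ repr.index, SGA3b.powConv R C k (repr.left i - algebraMap R C (counit (repr.left i))) *
          (repr.right i - algebraMap R C (counit (repr.right i))) =
          SGA3b.powConv R C k (repr.left i) * repr.right i -
            algebraMap R C (counit (repr.left i)) * repr.right i -
            SGA3b.powConv R C k (repr.left i) * algebraMap R C (counit (repr.right i)) +
            algebraMap R C (counit (repr.left i)) * algebraMap R C (counit (repr.right i)) := fun i _ => by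
        rw [map_sub, AlgHom.commutes]; ring
      rw [h1, Finset.sum_congr rfl e1, Finset.sum_add_distrib, Finset.sum_sub_distrib, Finset.sum_sub_distrib,
        hl, hr, hc]
      ring
    rw [h2]
    have hmem : (∑ i ∈ repr.index, SGA3b.powConv R C k (repr.left i - algebraMap R C (counit (repr.left i))) *
        (repr.right i - algebraMap R C (counit (repr.right i)))) ∈ aug R C * aug R C :=
      sum_mem fun i _ => Ideal.mul_mem_mul (by
        change counit (R := R) (SGA3b.powConv R C k _) = 0
        rw [counit_powConv]; exact sub_counit_mem _) (sub_counit_mem _)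
    have := add_mem (ih y hy) hmem
    convert this using 1
    push_cast; ring

theorem powConv_mem (n : ℕ) {y : C} (hy : y ∈ aug R C) : SGA3b.powConv R C n y ∈ SGA3b.torsionIdeal R C n :=
  Ideal.mem_map_of_mem _ hy

theorem powConv_mul_mem (n : ℕ) {z : C} (hz : z ∈ aug R C * aug R C) :
    SGA3b.powConv R C n z ∈ SGA3b.torsionIdeal R C n * SGA3b.torsionIdeal R C n := by
  have := Ideal.mem_map_of_mem (SGA3b.powConv R C n) hz
  rwa [Ideal.map_mul] at this

theorem powConv_powConv (m n : ℕ) (c : C) :
    SGA3b.powConv R C m (SGA3b.powConv R C n c) = SGA3b.powConv R C (m * n) c := by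
  have h := OpenSub.apply_powConv (toConv (SGA3b.powConv R C m)) c n
  refine h.trans ?_
  change (((toConv (AlgHom.id R C)) ^ m) ^ n) c = ((toConv (AlgHom.id R C)) ^ (m * n)) c
  rw [pow_mul]

section Main

variable [Algebra.FiniteType R C] {N : ℕ}
  (hN : ∀ (q : Ideal R) [q.IsPrime] (c : C), c ∈ aug R C → ∃ s ∉ q,
    algebraMap R C s * SGA3b.powConv R C N c ∈ q.map (algebraMap R C))

include hN in
omit [Algebra.FiniteType R C] in
theorem torsion_le_prime (P : Ideal C) [P.IsPrime] : SGA3b.torsionIdeal R C N ≤ P := by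
  refine Ideal.map_le_iff_le_comap.mpr fun c hc => ?_
  obtain ⟨s, hs, hmem⟩ := hN (P.comap (algebraMap R C)) c hc
  exact ((Ideal.IsPrime.mem_or_mem inferInstance (Ideal.map_comap_le hmem)).resolve_left hs)

include hN in
omit [Algebra.FiniteType R C] in
theorem key_congr (q : Ideal R) [q.IsPrime] {c : C} (hc : c ∈ aug R C) :
    ∃ s ∉ q, (algebraMap R C s * (N : C)) * SGA3b.powConv R C N c ∈
      (q.map (algebraMap R C) ⊔ SGA3b.torsionIdeal R C N) * SGA3b.torsionIdeal R C N := by
  obtain ⟨s, hs, hmem⟩ := hN q c hc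
  refine ⟨s, hs, ?_⟩
  set I := SGA3b.torsionIdeal R C N
  set P := SGA3b.powConv R C N
  have hsum : ∀ x ∈ (q.map (algebraMap R C)).restrictScalars R,
      P x - algebraMap R C (counit x) ∈ q.map (algebraMap R C) * I := by
    intro x hx
    rw [← Ideal.smul_top_eq_map] at hx
    refine Submodule.smul_induction_on hx (fun r hr w _ => ?_) (fun u v hu hv => ?_)
    · rw [map_smul, map_smul, smul_eq_mul, map_mul, Algebra.smul_def, ← mul_sub,
        ← AlgHom.commutes P (counit w), ← map_sub]
      exact Ideal.mul_mem_mul (Ideal.mem_map_of_mem _ hr) (powConv_mem N (sub_counit_mem w))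
    · rw [map_add, map_add, map_add, add_sub_add_comm]; exact add_mem hu hv
  have h1 := hsum _ hmem
  rw [map_mul, AlgHom.commutes, Bialgebra.counit_mul, counit_powConv, show counit (R := R) c = 0 from hc, mul_zero,
    map_zero, sub_zero] at h1
  have h2 : P (P c) - (N : C) * P c ∈ I * I := by
    have h := powConv_mul_mem N (powConv_sub_smul_mem N c hc)
    rwa [map_sub, map_mul, map_natCast] at h
  rw [show algebraMap R C s * (N : C) * P c =
    algebraMap R C s * P (P c) - algebraMap R C s * (P (P c) - (N : C) * P c) by ring]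
  exact sub_mem (Ideal.mul_mono_left le_sup_left h1)
    (Ideal.mul_mem_left _ _ (Ideal.mul_mono_left le_sup_right h2))

include hN in
theorem pow_kills : ∃ k : ℕ, ∀ x ∈ SGA3b.torsionIdeal R C N, (N : C) ^ k * x = 0 := by
  classical
  set I := SGA3b.torsionIdeal R C N
  have hfg : I.FG := (Trivial.ker_counit_fg R C).map _
  suffices h : (N : C) ∈ (Submodule.annihilator I).radical by
    obtain ⟨k, hk⟩ := h
    exact ⟨k, fun x hx => Submodule.mem_annihilator.mp hk x hx⟩
  rw [Ideal.radical_eq_sInf]
  refine Submodule.mem_sInf.mpr fun (P : Ideal C) (hPP : P ∈ {J : Ideal C | Submodule.annihilator I ≤ J ∧ J.IsPrime}) => ?_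
  obtain ⟨hP, hPp⟩ := hPP
  by_contra hnP
  haveI : P.IsPrime := hPp
  let L := Localization.AtPrime P
  let φ : C →+* L := algebraMap C L
  let q := P.comap (algebraMap R C)
  have hle : I.map φ ≤ ⊥ := by
    refine Submodule.le_of_le_smul_of_le_jacobson_bot (I := P.map φ) (hfg.map φ) ?_ ?_
    · refine le_trans ?_ (IsLocalRing.maximalIdeal_le_jacobson _)
      rw [Localization.AtPrime.map_eq_maximalIdeal]
    · rw [Ideal.smul_eq_mul, bot_sup_eq, ← Ideal.map_mul, Ideal.map_le_iff_le_comap]
      change Ideal.map (SGA3b.powConv R C N) (aug R C) ≤ _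
      refine Ideal.map_le_iff_le_comap.mpr fun c hc => ?_
      obtain ⟨s, hs, hmem⟩ := key_congr hN q hc
      have hu : IsUnit (φ (algebraMap R C s * (N : C))) := IsLocalization.map_units L
        (⟨algebraMap R C s * (N : C), fun h => (hPp.mem_or_mem h).elim hs hnP⟩ : P.primeCompl)
      have h2 := Ideal.mem_map_of_mem φ
        (Ideal.mul_mono_left (sup_le Ideal.map_comap_le (torsion_le_prime hN P)) hmem)
      rw [map_mul] at h2
      exact (Ideal.unit_mul_mem_iff_mem _ hu).mp h2
  obtain ⟨G, hG⟩ := hfg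
  have hc : ∀ x ∈ I, ∃ c : P.primeCompl, (c : C) * x = 0 := fun x hx =>
    (IsLocalization.map_eq_zero_iff P.primeCompl L x).mp
      ((Submodule.mem_bot L).mp (hle (Ideal.mem_map_of_mem φ hx)))
  choose c hc using hc
  have hGI : ∀ x : {x // x ∈ G}, x.1 ∈ I := fun x => hG ▸ Submodule.subset_span x.2
  have hG' : Submodule.span C (G : Set C) = I := hG
  have hmem : ∏ x ∈ G.attach, (c x.1 (hGI x) : C) ∈ Submodule.annihilator I := by
    rw [Submodule.mem_annihilator]
    intro y hy
    have hy' : y ∈ Submodule.span C (G : Set C) := by rw [hG']; exact hy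
    refine Submodule.span_induction (fun x hx => ?_) (smul_zero _)
      (fun u v _ _ hu hv => by rw [smul_add, hu, hv, add_zero]) (fun r u _ hu => by rw [smul_comm, hu, smul_zero]) hy'
    obtain ⟨d, hd⟩ := Finset.dvd_prod_of_mem (fun x : {x // x ∈ G} => (c x.1 (hGI x) : C))
      (Finset.mem_attach G ⟨x, hx⟩)
    rw [hd, smul_eq_mul, mul_right_comm, hc, zero_mul]
  obtain ⟨x, -, hx⟩ := (Ideal.IsPrime.prod_mem_iff).mp (hP hmem)
  exact (c x.1 (hGI x)).2 hx

omit [Algebra.FiniteType R C] in
theorem iterate_mem (j : ℕ) {c : C} (hc : c ∈ aug R C) :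
    SGA3b.powConv R C (N ^ (j + 1)) c ∈
      (Ideal.span {(N : C)} ⊔ SGA3b.torsionIdeal R C N) ^ j * SGA3b.torsionIdeal R C N := by
  induction j generalizing c with
  | zero => rw [zero_add, pow_one, pow_zero, one_mul]; exact powConv_mem N hc
  | succ j ih =>
    set I := SGA3b.torsionIdeal R C N
    set E := Ideal.span {(N : C)} ⊔ I
    set Q := SGA3b.powConv R C (N ^ (j + 1))
    have hX : SGA3b.torsionIdeal R C (N ^ (j + 1)) ≤ E ^ j * I :=
      Ideal.map_le_iff_le_comap.mpr fun y hy => ih hy
    rw [show N ^ (j + 1 + 1) = N ^ (j + 1) * N from pow_succ N (j + 1), ← powConv_powConv,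
      show SGA3b.powConv R C N c = (N : C) * c + (SGA3b.powConv R C N c - (N : C) * c) by ring, map_add, map_mul,
      map_natCast]
    have h2 := powConv_mul_mem (N ^ (j + 1)) (powConv_sub_smul_mem N c hc)
    rw [pow_succ' E j, mul_assoc]
    exact add_mem (Ideal.mul_mem_mul (Ideal.mem_sup_left (Ideal.mem_span_singleton_self _)) (ih hc))
      (Ideal.mul_mono ((Ideal.mul_le_right : E ^ j * I ≤ I).trans le_sup_right) le_rfl (Ideal.mul_mono hX hX h2))

include hN in
/-- killed by a power of `N` if all fibres are killed by `N` -/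
theorem exists_pow_eq_counit : ∃ j : ℕ, ∀ c : C, SGA3b.powConv R C (N ^ j) c = algebraMap R C (counit c) := by
  set I := SGA3b.torsionIdeal R C N
  obtain ⟨k, hk⟩ := pow_kills hN
  obtain ⟨m, hm⟩ : ∃ m, I ^ m = ⊥ := by
    refine Ideal.exists_pow_le_of_le_radical_of_fg (J := ⊥) ?_ ((Trivial.ker_counit_fg R C).map _) |>.imp
      fun _ h => le_bot_iff.mp h
    rw [Ideal.radical_eq_sInf]
    exact le_sInf fun P ⟨_, hP⟩ => torsion_le_prime hN P
  refine ⟨k + m + 1, fun c => ?_⟩
  rw [← sub_eq_zero, ← AlgHom.commutes (SGA3b.powConv R C (N ^ (k + m + 1))) (counit c), ← map_sub]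
  have h := Ideal.mul_mono_left (K := I)
    (Ideal.sup_pow_add_le_pow_sup_pow (I := Ideal.span {(N : C)}) (J := I) (n := k) (m := m))
    (iterate_mem (k + m) (sub_counit_mem c))
  rw [hm, sup_bot_eq, Ideal.span_singleton_pow] at h
  have hle : Ideal.span {(N : C) ^ k} * I ≤ ⊥ := Ideal.mul_le.mpr fun u hu v hv => by
    obtain ⟨w, rfl⟩ := Ideal.mem_span_singleton'.mp hu
    rw [mul_assoc, hk v hv, mul_zero]
    exact zero_mem _
  exact (Submodule.mem_bot C).mp (hle h)

end Main

theorem denominator_of_fibre {R C : Type u} [CommRing R] [CommRing C] [Algebra R C] (q : Ideal R) [q.IsPrime]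
    {x : C} (hx : (1 : q.ResidueField) ⊗ₜ[R] x = 0) :
    ∃ s ∉ q, algebraMap R C s * x ∈ q.map (algebraMap R C) := by
  let S := Algebra.algebraMapSubmonoid C q.primeCompl
  let L := Localization S
  let E : Ideal L := (q.map (algebraMap R C)).map (algebraMap C L)
  let gA : C →ₐ[R] L ⧸ E := (Ideal.Quotient.mkₐ R E).comp (IsScalarTower.toAlgHom R C L)
  let g : C →+* L ⧸ E := gA.toRingHom
  have hk1 : q ≤ RingHom.ker (g.comp (algebraMap R C)) := fun r hr =>
    Ideal.Quotient.eq_zero_iff_mem.mpr (Ideal.mem_map_of_mem _ (Ideal.mem_map_of_mem _ hr))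
  have hk2 : q.primeCompl ≤ (IsUnit.submonoid (L ⧸ E)).comap (g.comp (algebraMap R C)) := fun r hr =>
    (IsLocalization.map_units L (⟨algebraMap R C r, r, hr, rfl⟩ : S)).map (Ideal.Quotient.mk E)
  let fK : q.ResidueField →+* L ⧸ E := Ideal.ResidueField.lift q (g.comp (algebraMap R C)) hk1 hk2
  let fA : q.ResidueField →ₐ[R] L ⧸ E :=
    { fK with commutes' := fun r => (Ideal.ResidueField.lift_algebraMap q _ hk1 hk2 r).trans (gA.commutes r) }
  have h := congrArg (Algebra.TensorProduct.lift fA gA fun _ _ => Commute.all _ _) hx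
  rw [Algebra.TensorProduct.lift_tmul, map_one, one_mul, map_zero] at h
  obtain ⟨⟨b, s⟩, hbs⟩ := (IsLocalization.mem_map_algebraMap_iff S L).mp (Ideal.Quotient.eq_zero_iff_mem.mp h)
  dsimp only at hbs
  change algebraMap C L x * algebraMap C L (s : C) = algebraMap C L (b : C) at hbs
  rw [← map_mul] at hbs
  obtain ⟨c, hc⟩ := (IsLocalization.eq_iff_exists S L).mp hbs
  obtain ⟨s₀, hs₀, hs⟩ := s.2
  obtain ⟨c₀, hc₀, hc'⟩ := c.2
  refine ⟨c₀ * s₀, fun h => (Ideal.IsPrime.mem_or_mem inferInstance h).elim hc₀ hs₀, ?_⟩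
  rw [map_mul, hc', hs, show (c : C) * (s : C) * x = (c : C) * (x * (s : C)) by ring, hc]
  exact Ideal.mul_mem_left _ _ b.2

theorem fibre_killed [IsCocomm R C] (q : Ideal R) [q.IsPrime] (K : Type u) [Field K] [Algebra R K]
    [Module.Finite K (K ⊗[R] C)] {N : ℕ} (hdvd : Module.finrank K (K ⊗[R] C) ∣ N) {c : C} (hc : c ∈ aug R C) :
    (1 : K) ⊗ₜ[R] SGA3b.powConv R C N c = 0 := by
  have h0 := FinHopf.Deligne.convPow_id_eq_one (R := K) (A := K ⊗[R] C) (Module.finrank K (K ⊗[R] C))
    fun p => congrFun Module.rankAtStalk_eq_finrank_of_free p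
  obtain ⟨m, rfl⟩ := hdvd
  rw [← LocalMult.powConv_one_tmul]
  change ((toConv (AlgHom.id K (K ⊗[R] C))) ^ (Module.finrank K (K ⊗[R] C) * m)) ((1 : K) ⊗ₜ[R] c) = 0
  rw [pow_mul, h0, one_pow, AlgHom.convOne_apply, TensorProduct.counit_tmul, show counit (R := R) c = 0 from hc,
    zero_smul, map_zero]

/-- **quasi-finite commutative groups are killed by an integer** -/
theorem exists_killed [IsCocomm R C] (hfp : Algebra.FiniteType R C) [Algebra.QuasiFinite R C] :
    ∃ n : ℕ, 0 < n ∧ ∀ c : C, SGA3b.powConv R C n c = algebraMap R C (counit c) := by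
  haveI := hfp
  obtain ⟨d, hd⟩ := exists_finrank_bound R C
  obtain ⟨j, hj⟩ := exists_pow_eq_counit (N := d.factorial) fun q _ c hc => by
    haveI := (hd q).1
    haveI : Nontrivial (q.ResidueField ⊗[R] C) :=
      (Bialgebra.counitAlgHom q.ResidueField (q.ResidueField ⊗[R] C)).toRingHom.domain_nontrivial
    exact denominator_of_fibre q (fibre_killed q q.ResidueField
      (Nat.dvd_factorial Module.finrank_pos (hd q).2) hc)
  exact ⟨d.factorial ^ j, pow_pos (Nat.factorial_pos d) j, hj⟩

end

end Groth.Agent.MultType.Killed
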