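import Groth.Agent.MultType.Dense
import Groth.Agent.MultType.Killed
import Groth.Agent.FinHopf.Deligne
import Mathlib.RingTheory.Jacobson.Ring
import Mathlib.FieldTheory.IsAlgClosed.AlgebraicClosure

/-!
# Density of torsion for groups over a field with an open subgroup of multiplicative type
-/

open TensorProduct WithConv Coalgebra

universe u

namespace Groth.Agent.MultType.DenseOpen

noncomputable section

variable {K : Type u} [Field K] {C : Type u} [CommRing C] [HopfAlgebra K C]

/-- translation by a rational point -/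
def transl (t : WithConv (C →ₐ[K] K)) : C →ₐ[K] C :=
  (toConv ((Algebra.ofId K C).comp t.ofConv) * toConv (AlgHom.id K C)).ofConv

theorem comp_transl (t : WithConv (C →ₐ[K] K)) {L : Type u} [CommRing L] [Algebra K L] (g : C →ₐ[K] L) :
    toConv (g.comp (transl t)) = toConv ((Algebra.ofId K L).comp t.ofConv) * toConv g := by
  apply WithConv.ext
  rw [WithConv.ofConv_toConv, transl, AlgHom.comp_convMul_distrib]
  congr 1
  congr 1
  apply WithConv.ext
  rw [WithConv.ofConv_toConv, WithConv.ofConv_toConv, ← AlgHom.comp_assoc]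
  congr 1
  exact Subsingleton.elim _ _

theorem point_transl (t : WithConv (C →ₐ[K] K)) (g : WithConv (C →ₐ[K] K)) (z : C) :
    g (transl t z) = (t * g) z := by
  have h := congrArg (fun f : WithConv (C →ₐ[K] K) => f z) (comp_transl t g.ofConv)
  rwa [show Algebra.ofId K K = AlgHom.id K K from Subsingleton.elim _ _, AlgHom.id_comp, WithConv.toConv_ofConv,
    WithConv.toConv_ofConv] at h

theorem transl_transl (t s : WithConv (C →ₐ[K] K)) : (transl s).comp (transl t) = transl (t * s) := by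
  apply WithConv.toConv_injective
  rw [comp_transl, transl, transl, WithConv.toConv_ofConv, WithConv.toConv_ofConv, ← mul_assoc]
  congr 1
  exact (map_mul (FinHopf.Deligne.postHom (Algebra.ofId K C)) t s).symm

theorem transl_one : transl (1 : WithConv (C →ₐ[K] K)) = AlgHom.id K C := by
  apply WithConv.toConv_injective
  rw [transl, WithConv.toConv_ofConv]
  change FinHopf.Deligne.postHom (Algebra.ofId K C) (1 : WithConv (C →ₐ[K] K)) * _ = _
  rw [map_one, one_mul]

variable {M : Type u} [CommGroup M] (π : C →ₐc[K] MonoidAlgebra K M) {e : C}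

/-- the point of the subgroup given by a character -/
def charPt (χ : M →* K) : WithConv (C →ₐ[K] K) :=
  toConv ((MonoidAlgebra.lift K K M χ).comp (π : C →ₐ[K] MonoidAlgebra K M))

theorem charPt_pow (χ : M →* K) (n : ℕ) : charPt π χ ^ n = charPt π (χ ^ n) := by
  have h : (toConv (MonoidAlgebra.lift K K M χ)) ^ n = toConv (MonoidAlgebra.lift K K M (χ ^ n)) := by
    apply WithConv.ext
    refine MonoidAlgebra.algHom_ext (fun m => ?_) (by ext)
    refine (OpenSub.apply_convPow _ (MonoidAlgebra.isGroupLikeElem_of m) n).trans ?_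
    simp
  rw [charPt, OpenSub.pow_comp (toConv (MonoidAlgebra.lift K K M χ)) π n, h]
  rfl

variable (hπ : Function.Surjective π) (hker : RingHom.ker (π : C →ₐ[K] MonoidAlgebra K M) = Ideal.span {e})

include hker in
theorem pi_e : π e = 0 := by
  have : e ∈ RingHom.ker (π : C →ₐ[K] MonoidAlgebra K M) := hker ▸ Ideal.mem_span_singleton_self e
  exact this

include hker in
theorem counit_e : counit (R := K) e = 0 := by
  rw [← CoalgHomClass.counit_comp_apply π e, pi_e π hker, map_zero]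

include hπ hker in
theorem exists_char {g : WithConv (C →ₐ[K] K)} (hg : g e = 0) : ∃ χ : M →* K, g = charPt π χ := by
  obtain ⟨G, hG⟩ := OpenSub.exists_algFactor (π : C →ₐ[K] MonoidAlgebra K M) hπ g.ofConv fun z hz => by
    have : z ∈ Ideal.span {e} := hker ▸ (hz : z ∈ RingHom.ker (π : C →ₐ[K] MonoidAlgebra K M))
    obtain ⟨r, rfl⟩ := Ideal.mem_span_singleton'.mp this
    rw [map_mul, show g.ofConv e = 0 from hg, mul_zero]
  refine ⟨(MonoidAlgebra.lift K K M).symm G, WithConv.ext (AlgHom.ext fun z => ?_)⟩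
  rw [charPt, Equiv.apply_symm_apply]
  exact (hG z).symm

include hker in
theorem exists_pow_mem (he : IsIdempotentElem e) [IsNoetherianRing C] [IsCocomm K C] (h : WithConv (C →ₐ[K] K)) :
    ∃ N : ℕ, 0 < N ∧ (h ^ N) e = 0 := by
  haveI : Finite {x : C | IsIdempotentElem x} := (TorsionFinite.finite_idempotents C).to_subtype
  obtain ⟨i, j, hne, heq⟩ := Finite.exists_ne_map_eq_of_infinite
    (fun n : ℕ => (⟨transl (h ^ n) (1 - e), he.one_sub.map (transl (h ^ n))⟩ : {x : C | IsIdempotentElem x}))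
  have key : ∀ i j : ℕ, i < j → transl (h ^ i) (1 - e) = transl (h ^ j) (1 - e) → (h ^ (j - i)) e = 0 := by
    intro i j hij heq
    have h1 := congrArg (fun z => (FinHopf.Deligne.inv' (h ^ i)) z) heq
    simp only [point_transl] at h1
    rw [FinHopf.Deligne.mul_inv', AlgHom.convOne_apply, map_sub, Bialgebra.counit_one, counit_e π hker, sub_zero,
      map_one, show h ^ j = h ^ (j - i) * h ^ i by rw [← pow_add, Nat.sub_add_cancel hij.le], mul_assoc,
      FinHopf.Deligne.mul_inv', mul_one] at h1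
    have h2 : (h ^ (j - i)).ofConv (1 - e) = 1 := h1.symm
    rw [map_sub, map_one, sub_eq_self] at h2
    exact h2
  rcases lt_or_gt_of_ne hne with hij | hij
  · exact ⟨j - i, Nat.sub_pos_of_lt hij, key i j hij (congrArg Subtype.val heq)⟩
  · exact ⟨i - j, Nat.sub_pos_of_lt hij, key j i hij (congrArg Subtype.val heq).symm⟩

/-- a character has roots up to torsion -/
theorem exists_root_char [IsAlgClosed K] [Group.FG M] (χ : M →* K) {N : ℕ} (hN : 0 < N) :
    ∃ (d : ℕ) (ρ : M →* K), 0 < d ∧ ρ ^ (N * d) = χ ^ d := by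
  classical
  obtain ⟨ι, J, _, _, p, hp, e, ⟨E⟩⟩ := CommGroup.equiv_free_prod_prod_multiplicative_zmod M
  let F := (i : ι) → Multiplicative (ZMod (p i ^ e i))
  haveI : ∀ i, NeZero (p i ^ e i) := fun i => ⟨pow_ne_zero _ (hp i).ne_zero⟩
  have hF : 0 < Nat.card F := Nat.card_pos
  let v : J → Kˣ := fun j => χ.toHomUnits (E.symm (Pi.mulSingle j (Multiplicative.ofAdd 1), 1))
  have hroot : ∀ j, ∃ u : Kˣ, u ^ N = v j := fun j => by
    obtain ⟨z, hz⟩ := IsAlgClosed.exists_pow_nat_eq ((v j : Kˣ) : K) hN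
    have hz0 : z ≠ 0 := fun h0 => (v j).ne_zero (by rw [← hz, h0, zero_pow hN.ne'])
    exact ⟨Units.mk0 z hz0, Units.ext hz⟩
  choose u hu using hroot
  let ρ₀ : (J → Multiplicative ℤ) →* Kˣ := ∏ j, (zpowersHom Kˣ (u j)).comp (Pi.evalMonoidHom (fun _ : J => Multiplicative ℤ) j)
  let ρu : M →* Kˣ := ρ₀.comp ((MonoidHom.fst _ F).comp E.toMonoidHom)
  refine ⟨Nat.card F, (Units.coeHom K).comp ρu, hF, MonoidHom.ext fun m => ?_⟩
  have h1 : ∀ l : J → Multiplicative ℤ, ρ₀ l ^ N = χ.toHomUnits (E.symm (l, 1)) := by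
    have h2 : (powMonoidHom N : Kˣ →* Kˣ).comp ρ₀ =
        χ.toHomUnits.comp (E.symm.toMonoidHom.comp (MonoidHom.inl _ F)) := by
      refine MonoidHom.pi_ext fun j x => ?_
      have hx : Pi.mulSingle (M := fun _ : J => Multiplicative ℤ) j x =
          (Pi.mulSingle j (Multiplicative.ofAdd 1) : J → Multiplicative ℤ) ^ x.toAdd := by
        rw [← Pi.mulSingle_zpow, ← ofAdd_zsmul, smul_eq_mul, mul_one, ofAdd_toAdd]
      rw [hx, map_zpow, map_zpow]
      congr 1
      change ρ₀ (Pi.mulSingle j (Multiplicative.ofAdd 1)) ^ N = v j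
      rw [← hu j]
      congr 1
      simp only [ρ₀, MonoidHom.finsetProd_apply, MonoidHom.comp_apply, Pi.evalMonoidHom_apply]
      rw [Finset.prod_eq_single j (fun k _ hk => by rw [Pi.mulSingle_eq_of_ne hk]; simp)
        (fun hj => absurd (Finset.mem_univ j) hj), Pi.mulSingle_eq_same]
      simp
    exact fun l => DFunLike.congr_fun h2 l
  rw [MonoidHom.pow_apply, MonoidHom.pow_apply]
  change ((ρ₀ (E m).1 : Kˣ) : K) ^ (N * Nat.card F) = χ m ^ Nat.card F
  rw [pow_mul, ← Units.val_pow_eq_pow_val, h1, ← Units.val_pow_eq_pow_val, ← map_pow, ← map_pow,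
    MonoidHom.coe_toHomUnits, ← map_pow χ m]
  congr 1
  apply E.injective
  refine Prod.ext ?_ ?_
  · simp
  · simp only [map_pow, MulEquiv.apply_symm_apply, Prod.pow_snd, one_pow]
    exact (pow_card_eq_one' (G := F) (x := (E m).2)).symm

include hπ hker in
/-- every point is a torsion point times a point of the subgroup -/
theorem exists_decomp [IsAlgClosed K] [Group.FG M] (he : IsIdempotentElem e) [IsNoetherianRing C] [IsCocomm K C]
    (h : WithConv (C →ₐ[K] K)) :
    ∃ t g : WithConv (C →ₐ[K] K), h = t * g ∧ g e = 0 ∧ ∃ d : ℕ, 0 < d ∧ t ^ d = 1 := by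
  obtain ⟨N, hN, hNe⟩ := exists_pow_mem π hker he h
  obtain ⟨χ, hχ⟩ := exists_char π hπ hker hNe
  obtain ⟨d, ρ, hd, hρ⟩ := exists_root_char χ hN
  refine ⟨h * FinHopf.Deligne.inv' (charPt π ρ), charPt π ρ, ?_, ?_, N * d, Nat.mul_pos hN hd, ?_⟩
  · rw [mul_assoc, FinHopf.Deligne.inv'_mul, mul_one]
  · change MonoidAlgebra.lift K K M ρ (π e) = 0
    rw [pi_e π hker, map_zero]
  · have h1 : charPt π ρ ^ (N * d) * FinHopf.Deligne.inv' (charPt π ρ) ^ (N * d) = 1 := by
      rw [← mul_pow, FinHopf.Deligne.mul_inv', one_pow]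
    rw [mul_pow, pow_mul h, hχ, charPt_pow, ← hρ, ← charPt_pow, h1]

include hπ hker in
/-- a torsion translate of the subgroup sees only the zero element at all levels -/
theorem exists_translate_zero [Group.FG M] [IsCocomm K C] (he : IsIdempotentElem e) (a x : C)
    (hlev : ∀ n : ℕ, 0 < n → ∃ N : ℕ, a ^ N * x ∈ SGA3b.torsionIdeal K C n)
    {t : WithConv (C →ₐ[K] K)} {d : ℕ} (hd : 0 < d) (ht : t ^ d = 1) :
    ∃ N : ℕ, transl (FinHopf.Deligne.inv' t) (1 - e) * (a ^ N * x) = 0 := by
  obtain ⟨N, hN⟩ := Dense.dense_group (π (transl t a)) (π (transl t x)) fun n hn => by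
    obtain ⟨N, hN⟩ := hlev (n * d) (Nat.mul_pos hn hd)
    refine ⟨N, ?_⟩
    let η : MonoidAlgebra K M →ₐ[K] MonoidAlgebra K (M ⧸ (powMonoidHom n : M →* M).range) :=
      (MonoidAlgebra.mapDomainBialgHom K (QuotientGroup.mk' _) :
        MonoidAlgebra K M →ₐc[K] MonoidAlgebra K (M ⧸ (powMonoidHom n : M →* M).range))
    let L := MonoidAlgebra K (M ⧸ (powMonoidHom n : M →* M).range)
    let g : WithConv (C →ₐ[K] L) := toConv (η.comp (π : C →ₐ[K] MonoidAlgebra K M))
    have hg : g ^ n = 1 := by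
      have h2 := OpenSub.pow_comp (toConv η) π n
      have h3 : (toConv η) ^ n = 1 := OpenSub.pow_eq_one_of_group η fun m => by
        simp only [η]
        change (MonoidAlgebra.mapDomain _ (MonoidAlgebra.single m (1 : K))) ^ n = 1
        rw [MonoidAlgebra.mapDomain_single, MonoidAlgebra.single_pow, one_pow,
          show (QuotientGroup.mk' (powMonoidHom n : M →* M).range m) ^ n = 1 from by
            rw [QuotientGroup.mk'_apply, ← QuotientGroup.mk_pow]
            exact (QuotientGroup.eq_one_iff _).mpr (MonoidHom.mem_range.mpr ⟨m, rfl⟩),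
          MonoidAlgebra.one_def]
      refine h2.trans ?_
      rw [h3]
      apply WithConv.ext
      refine AlgHom.ext fun z => ?_
      change algebraMap K L (counit (R := K) (π z)) = algebraMap K L (counit (R := K) z)
      rw [CoalgHomClass.counit_comp_apply]
    have hh : (toConv (g.ofConv.comp (transl t))) ^ (n * d) = 1 := by
      rw [comp_transl, mul_pow]
      have h4 : (toConv ((Algebra.ofId K L).comp t.ofConv)) ^ (n * d) = 1 := by
        refine (map_pow (FinHopf.Deligne.postHom (Algebra.ofId K L)) t (n * d)).symm.trans ?_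
        rw [mul_comm, pow_mul, ht, one_pow, map_one]
      rw [h4, one_mul, WithConv.toConv_ofConv, pow_mul, hg, one_pow]
    have h5 : g.ofConv (transl t (a ^ N * x)) = 0 := OpenSub.torsion_le_ker _ hh hN
    rw [← map_pow, ← map_mul, ← map_pow, ← map_mul]
    exact h5
  refine ⟨N, ?_⟩
  rw [← map_pow, ← map_mul, ← map_pow, ← map_mul] at hN
  have hmem : transl t (a ^ N * x) ∈ RingHom.ker (π : C →ₐ[K] MonoidAlgebra K M) := hN
  rw [hker] at hmem
  obtain ⟨r, hr⟩ := Ideal.mem_span_singleton'.mp hmem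
  have hz : (1 - e) * transl t (a ^ N * x) = 0 := by
    rw [← hr]
    have : IsIdempotentElem e → (1 - e) * (r * e) = 0 := fun he => by
      rw [show (1 - e) * (r * e) = r * (e - e * e) by ring, he.eq, sub_self, mul_zero]
    exact this he
  have h6 := congrArg (transl (FinHopf.Deligne.inv' t)) hz
  rwa [map_mul, ← AlgHom.comp_apply, transl_transl, FinHopf.Deligne.mul_inv', transl_one, AlgHom.id_apply,
    map_zero] at h6

include hπ hker in
theorem dense_alg_closed [IsAlgClosed K] [Group.FG M] (he : IsIdempotentElem e) [Algebra.FiniteType K C]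
    [IsCocomm K C] (a x : C) (hlev : ∀ n : ℕ, 0 < n → ∃ N : ℕ, a ^ N * x ∈ SGA3b.torsionIdeal K C n) :
    ∃ N : ℕ, a ^ N * x = 0 := by
  haveI : IsNoetherianRing C := Algebra.FiniteType.isNoetherianRing K C
  let I : Ideal C :=
    { carrier := {y | ∃ N : ℕ, y * (a ^ N * x) = 0}
      zero_mem' := ⟨0, zero_mul _⟩
      add_mem' := by
        rintro y z ⟨N, hN⟩ ⟨N', hN'⟩
        refine ⟨N + N', ?_⟩
        rw [add_mul, pow_add,
          show y * (a ^ N * a ^ N' * x) = a ^ N' * (y * (a ^ N * x)) by ring, hN,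
          show z * (a ^ N * a ^ N' * x) = a ^ N * (z * (a ^ N' * x)) by ring, hN', mul_zero, mul_zero, add_zero]
      smul_mem' := by
        rintro r y ⟨N, hN⟩
        exact ⟨N, by rw [smul_eq_mul, mul_assoc, hN, mul_zero]⟩ }
  suffices hI : I = ⊤ by
    obtain ⟨N, hN⟩ := (hI ▸ Submodule.mem_top : (1 : C) ∈ I)
    exact ⟨N, by rwa [one_mul] at hN⟩
  by_contra hne
  obtain ⟨P, hP, hle⟩ := Ideal.exists_le_maximal I hne
  haveI := hP
  letI : Field (C ⧸ P) := Ideal.Quotient.field P
  haveI : Module.Finite K (C ⧸ P) := finite_of_finite_type_of_isJacobsonRing K (C ⧸ P)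
  haveI : Algebra.IsAlgebraic K (C ⧸ P) := Algebra.IsAlgebraic.of_finite K (C ⧸ P)
  let ε : K ≃ₐ[K] C ⧸ P := AlgEquiv.ofBijective (Algebra.ofId K (C ⧸ P)) IsAlgClosed.algebraMap_bijective_of_isIntegral
  let h : WithConv (C →ₐ[K] K) := toConv ((ε.symm : C ⧸ P →ₐ[K] K).comp (Ideal.Quotient.mkₐ K P))
  obtain ⟨t, g, htg, hge, d, hd, ht⟩ := exists_decomp π hπ hker he h
  obtain ⟨N, hN⟩ := exists_translate_zero π hπ hker he a x hlev hd ht
  have h1 : h (transl (FinHopf.Deligne.inv' t) (1 - e)) = 1 := by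
    rw [point_transl, htg, ← mul_assoc, FinHopf.Deligne.inv'_mul, one_mul]
    change g.ofConv (1 - e) = 1
    rw [map_sub, map_one, show g.ofConv e = 0 from hge, sub_zero]
  have h2 : h (transl (FinHopf.Deligne.inv' t) (1 - e)) = 0 := by
    change ε.symm (Ideal.Quotient.mk P _) = 0
    rw [Ideal.Quotient.eq_zero_iff_mem.mpr (hle ⟨N, hN⟩), map_zero]
  exact one_ne_zero (h1.symm.trans h2)

/-- **density of torsion with an open subgroup of multiplicative type** -/
theorem iInf_torsion_away_open (k : Type u) [Field k] (C : Type u) [CommRing C] [HopfAlgebra k C]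
    [IsCocomm k C] (hft : Algebra.FiniteType k C)
    (e : C) (he : IsIdempotentElem e) [(Ideal.span {e}).IsHopfIdeal k]
    (hG : SGA3b.IsMultType k (C ⧸ Ideal.span {e})) (a : C) :
    ⨅ n : {n : ℕ // 0 < n}, Ideal.map (algebraMap C (Localization.Away a)) (SGA3b.torsionIdeal k C n.1) = ⊥ := by
  classical
  haveI := hft
  rw [eq_bot_iff]
  intro z hz
  obtain ⟨⟨x, ⟨_, j, rfl⟩⟩, hj⟩ := IsLocalization.surj (Submonoid.powers a) z
  obtain ⟨L, _, _, M, _, ⟨eL⟩⟩ := Diag.exists_field_split hG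
  let K := AlgebraicClosure L
  let g : L →ₐ[k] K := IsScalarTower.toAlgHom k L K
  let eK : K ⊗[k] (C ⧸ Ideal.span {e}) ≃ₐc[K] MonoidAlgebra K M := GLLift.extend eL g
  let π : K ⊗[k] C →ₐc[K] MonoidAlgebra K M :=
    (eK : K ⊗[k] (C ⧸ Ideal.span {e}) →ₐc[K] MonoidAlgebra K M).comp (KerPow.projBC (R := k) (Ideal.span {e}) K)
  have hπ : Function.Surjective π := eK.surjective.comp (KerPow.projBC_surjective (R := k) (Ideal.span {e}) K)
  have hker : RingHom.ker (π : K ⊗[k] C →ₐ[K] MonoidAlgebra K M) = Ideal.span {(1 : K) ⊗ₜ[k] e} := by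
    have h1 : RingHom.ker (π : K ⊗[k] C →ₐ[K] MonoidAlgebra K M) =
        RingHom.ker (KerPow.projBC (R := k) (Ideal.span {e}) K : K ⊗[k] C →ₐ[K] K ⊗[k] (C ⧸ Ideal.span {e})) :=
      Ideal.ext fun w => map_eq_zero_iff _ eK.toAlgEquiv.injective
    have h2 : RingHom.ker (KerPow.projBC (R := k) (Ideal.span {e}) K : K ⊗[k] C →ₐ[K] K ⊗[k] (C ⧸ Ideal.span {e})) =
        (Ideal.span {e}).map (Algebra.TensorProduct.includeRight : C →ₐ[k] K ⊗[k] C) :=
      (Algebra.TensorProduct.lTensor_ker (Ideal.Quotient.mkₐ k (Ideal.span {e})) Ideal.Quotient.mk_surjective).trans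
        (congrArg (Ideal.map _) (Ideal.Quotient.mkₐ_ker k (Ideal.span {e})))
    rw [h1, h2, Ideal.map_span, Set.image_singleton]
    rfl
  haveI : Algebra.FiniteType K (MonoidAlgebra K M) := Algebra.FiniteType.of_surjective (π : K ⊗[k] C →ₐ[K] MonoidAlgebra K M) hπ
  haveI : Group.FG M := MonoidAlgebra.finiteType_iff_group_fg.mp ‹_›
  have he' : IsIdempotentElem ((1 : K) ⊗ₜ[k] e) :=
    he.map (Algebra.TensorProduct.includeRight : C →ₐ[k] K ⊗[k] C)
  have hlev : ∀ n : ℕ, 0 < n → ∃ N : ℕ,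
      ((1 : K) ⊗ₜ[k] a) ^ N * ((1 : K) ⊗ₜ[k] x) ∈ SGA3b.torsionIdeal K (K ⊗[k] C) n := fun n hn => by
    obtain ⟨N, hN⟩ := Dense.exists_pow_mul_mem a x j z hj hz n hn
    refine ⟨N, ?_⟩
    rw [Algebra.TensorProduct.tmul_pow, one_pow, Algebra.TensorProduct.tmul_mul_tmul, one_mul]
    have hle : (SGA3b.torsionIdeal k C n).map (Algebra.TensorProduct.includeRight : C →ₐ[k] K ⊗[k] C) ≤
        SGA3b.torsionIdeal K (K ⊗[k] C) n := KerHom.map_map_le (SGA3b.powConv k C n) _ fun c hc => by
      change (1 : K) ⊗ₜ[k] SGA3b.powConv k C n c ∈ _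
      rw [← LocalMult.powConv_one_tmul]
      exact Killed.powConv_mem n (by
        change counit (R := K) ((1 : K) ⊗ₜ[k] c) = 0
        rw [TensorProduct.counit_tmul, show counit (R := k) c = 0 from hc, zero_smul])
    exact hle (Ideal.mem_map_of_mem (Algebra.TensorProduct.includeRight : C →ₐ[k] K ⊗[k] C) hN)
  obtain ⟨N, hN⟩ := dense_alg_closed π hπ hker he' _ _ hlev
  rw [Algebra.TensorProduct.tmul_pow, one_pow, Algebra.TensorProduct.tmul_mul_tmul, one_mul] at hN
  have hzero : a ^ N * x = 0 := Module.FaithfullyFlat.tensorProduct_mk_injective (A := k) (B := K) C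
    (hN.trans (map_zero _).symm)
  have hxz : algebraMap C (Localization.Away a) x = 0 :=
    (IsLocalization.map_eq_zero_iff (Submonoid.powers a) _ x).mpr ⟨⟨_, N, rfl⟩, hzero⟩
  rw [hxz] at hj
  have hu : IsUnit (algebraMap C (Localization.Away a) (a ^ j)) :=
    IsLocalization.map_units (M := Submonoid.powers a) (Localization.Away a) ⟨_, j, rfl⟩
  exact (Submodule.mem_bot _).mpr (hu.mul_left_eq_zero.mp hj)

end

end Groth.Agent.MultType.DenseOpen
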