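import Groth.Agent.MultType.Integral
import Mathlib.RingTheory.TensorProduct.IncludeLeftSubRight
import Mathlib.LinearAlgebra.TensorProduct.Pi

/-!
# Faithfully flat descent of elements along a finite family
-/

open TensorProduct

universe u

namespace Groth.Agent.MultType.Family

noncomputable section

variable {R : Type u} [CommRing R] {ι : Type u} [Fintype ι] (T : ι → Type u) [∀ i, CommRing (T i)]
  [∀ i, Algebra R (T i)] [Module.FaithfullyFlat R (∀ i, T i)] {N : Type u} [AddCommGroup N] [Module R N]

omit [Fintype ι] [Module.FaithfullyFlat R (∀ i, T i)] in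
theorem eq_zero_of_pi [Finite ι] {x : N ⊗[R] (∀ i, T i)}
    (h : ∀ i, (LinearMap.proj i : (∀ i, T i) →ₗ[R] T i).lTensor N x = 0) : x = 0 := by
  classical
  cases nonempty_fintype ι
  apply (TensorProduct.piRight R R N T).injective
  rw [map_zero]
  funext i
  rw [Pi.zero_apply, ← h i, TensorProduct.piRight_apply]
  clear h
  induction x using TensorProduct.induction_on with
  | zero => simp
  | add p q hp hq => simp only [map_add, Pi.add_apply, hp, hq]
  | tmul p q => simp

theorem flat_of_family [h : ∀ i, Module.Flat R (T i ⊗[R] N)] : Module.Flat R N := by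
  classical
  let P := ∀ i, T i
  haveI : Module.Flat R (∀ i, T i ⊗[R] N) :=
    Module.Flat.of_linearEquiv (DirectSum.linearEquivFunOnFintype R ι fun i => T i ⊗[R] N).symm
  let e : P ⊗[R] N ≃ₗ[R] ∀ i, T i ⊗[R] N :=
    ((TensorProduct.comm R P N).trans (TensorProduct.piRight R R N T)).trans
      (LinearEquiv.piCongrRight fun i => TensorProduct.comm R N (T i))
  haveI : Module.Flat R (P ⊗[R] N) := Module.Flat.of_linearEquiv e
  rw [Module.Flat.iff_lTensor_preserves_injective_linearMap]
  intro N' N'' _ _ _ _ f hf
  rw [← Module.FaithfullyFlat.lTensor_injective_iff_injective R P]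
  have : LinearMap.lTensor P (LinearMap.lTensor N f) =
      (TensorProduct.assoc _ _ _ _).toLinearMap ∘ₗ LinearMap.lTensor (P ⊗[R] N) f ∘ₗ
        (TensorProduct.assoc _ _ _ _).symm.toLinearMap := by
    ext
    simp
  simpa [this] using Module.Flat.lTensor_preserves_injective_linearMap f hf

theorem eq_of_family {x y : N} (h : ∀ i, (1 : T i) ⊗ₜ[R] x = (1 : T i) ⊗ₜ[R] y) : x = y := by
  classical
  apply Module.FaithfullyFlat.tensorProduct_mk_injective (A := R) (B := ∀ i, T i) N
  rw [← sub_eq_zero]
  apply (TensorProduct.comm R (∀ i, T i) N).injective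
  rw [map_zero]
  refine eq_zero_of_pi T fun i => ?_
  apply (TensorProduct.comm R N (T i)).injective
  simp only [map_sub, TensorProduct.mk_apply, TensorProduct.comm_tmul, LinearMap.lTensor_tmul, map_zero]
  rw [sub_eq_zero]
  exact h i

/-- `T i ⊗ N → (T i ⊗ T j) ⊗ N` on the left -/
def inl (i j : ι) : T i ⊗[R] N →ₗ[R] (T i ⊗[R] T j) ⊗[R] N :=
  ((Algebra.TensorProduct.includeLeft : T i →ₐ[R] T i ⊗[R] T j).toLinearMap).rTensor N

/-- `T j ⊗ N → (T i ⊗ T j) ⊗ N` on the right -/
def inr (i j : ι) : T j ⊗[R] N →ₗ[R] (T i ⊗[R] T j) ⊗[R] N :=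
  ((Algebra.TensorProduct.includeRight : T j →ₐ[R] T i ⊗[R] T j).toLinearMap).rTensor N

omit [Fintype ι] [Module.FaithfullyFlat R (∀ i, T i)] in
theorem eq_zero_of_pi₂ [Finite ι] {x : N ⊗[R] ((∀ i, T i) ⊗[R] (∀ i, T i))}
    (h : ∀ i j, (TensorProduct.map (LinearMap.proj i : (∀ i, T i) →ₗ[R] T i)
      (LinearMap.proj j : (∀ i, T i) →ₗ[R] T j)).lTensor N x = 0) : x = 0 := by
  classical
  cases nonempty_fintype ι
  let P := ∀ i, T i
  let e : P ⊗[R] P ≃ₗ[R] ∀ j i, T i ⊗[R] T j :=
    (TensorProduct.piRight R R P T).trans (LinearEquiv.piCongrRight fun j =>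
      ((TensorProduct.comm R P (T j)).trans (TensorProduct.piRight R R (T j) T)).trans
        (LinearEquiv.piCongrRight fun i => TensorProduct.comm R (T j) (T i)))
  apply (TensorProduct.congr (LinearEquiv.refl R N) e).injective
  rw [map_zero]
  apply (TensorProduct.piRight R R N fun j => ∀ i, T i ⊗[R] T j).injective
  rw [map_zero]
  funext j
  apply (TensorProduct.piRight R R N fun i => T i ⊗[R] T j).injective
  rw [Pi.zero_apply, map_zero]
  funext i
  rw [Pi.zero_apply, ← h i j, TensorProduct.piRight_apply, TensorProduct.piRight_apply]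
  clear h
  induction x using TensorProduct.induction_on with
  | zero => simp
  | add p q hp hq => simp only [map_add, Pi.add_apply, hp, hq]
  | tmul n q =>
    induction q using TensorProduct.induction_on with
    | zero => simp
    | add p q hp hq => simp only [TensorProduct.tmul_add, map_add, Pi.add_apply, hp, hq]
    | tmul a b => rfl

theorem exists_of_family [Module.Flat R N] (y : ∀ i, T i ⊗[R] N) (hc : ∀ i j, inl T i j (y i) = inr T i j (y j)) :
    ∃ x : N, ∀ i, (1 : T i) ⊗ₜ[R] x = y i := by
  classical
  let P := ∀ i, T i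
  let z : N ⊗[R] P := (TensorProduct.piRight R R N T).symm fun i => TensorProduct.comm R (T i) N (y i)
  have hz : ∀ i, (LinearMap.proj i : P →ₗ[R] T i).lTensor N z = TensorProduct.comm R (T i) N (y i) := fun i => by
    have h1 : ∀ w : N ⊗[R] P, (LinearMap.proj i : P →ₗ[R] T i).lTensor N w = TensorProduct.piRight R R N T w i := by
      intro w
      induction w using TensorProduct.induction_on with
      | zero => simp
      | add p q hp hq => simp only [map_add, Pi.add_apply, hp, hq]
      | tmul n a => rfl
    rw [h1, LinearEquiv.apply_symm_apply]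
  have heff : Function.Exact ((Algebra.linearMap R P).lTensor N)
      ((Algebra.TensorProduct.includeLeftSubRight R P).lTensor N) :=
    Module.Flat.lTensor_exact N (Algebra.IsEffective.of_faithfullyFlat R P)
  have hker : (Algebra.TensorProduct.includeLeftSubRight R P).lTensor N z = 0 := by
    refine eq_zero_of_pi₂ T fun i j => ?_
    have h2 : ∀ w : N ⊗[R] P, (TensorProduct.map (LinearMap.proj i : P →ₗ[R] T i)
        (LinearMap.proj j : P →ₗ[R] T j)).lTensor N ((Algebra.TensorProduct.includeLeftSubRight R P).lTensor N w) =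
        TensorProduct.comm R _ N
          (inl T i j (TensorProduct.comm R N (T i) ((LinearMap.proj i : P →ₗ[R] T i).lTensor N w)) -
           inr T i j (TensorProduct.comm R N (T j) ((LinearMap.proj j : P →ₗ[R] T j).lTensor N w))) := by
      intro w
      induction w using TensorProduct.induction_on with
      | zero => simp
      | add p q hp hq => simp only [map_add, map_sub] at hp hq ⊢; rw [hp, hq]; abel
      | tmul n a => simp [inl, inr, TensorProduct.tmul_sub]; rfl
    rw [h2, hz, hz]
    have h3 : ∀ i, TensorProduct.comm R N (T i) (TensorProduct.comm R (T i) N (y i)) = y i := fun i =>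
      (TensorProduct.comm R N (T i)).symm.symm_apply_apply (y i) |>.trans rfl
    rw [h3, h3, hc, sub_self, map_zero]
  obtain ⟨w, hw⟩ := (heff z).mp hker
  refine ⟨TensorProduct.rid R N w, fun i => ?_⟩
  apply (TensorProduct.comm R (T i) N).injective
  rw [← hz i, ← hw]
  clear hw
  induction w using TensorProduct.induction_on with
  | zero => simp
  | add p q hp hq => simp only [map_add, TensorProduct.tmul_add, hp, hq]
  | tmul n r => simp [Algebra.algebraMap_eq_smul_one, TensorProduct.tmul_smul]; rfl

/-- groups of multiplicative type are flat -/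
theorem flat_of_isMultType {A : Type u} [CommRing A] [HopfAlgebra R A] (h : SGA3b.IsMultType R A) :
    Module.Flat R A := by
  obtain ⟨ι', _, T', _, _, hff, hM⟩ := Integral.exists_split_family h
  haveI : ∀ i, Module.Flat R (T' i ⊗[R] A) := fun i => by
    obtain ⟨M, _, ⟨e⟩⟩ := hM i
    haveI : Module.Flat (T' i) (T' i ⊗[R] A) := Module.Flat.of_linearEquiv e.toAlgEquiv.toLinearEquiv
    haveI : Module.Flat R (T' i) := by
      classical
      exact Module.Flat.of_retract (LinearMap.single R T' i) (LinearMap.proj i) (by ext x; simp)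
    exact Module.Flat.trans R (T' i) _
  exact flat_of_family T'

end

end Groth.Agent.MultType.Family
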