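import Groth.Agent.MultType.Sq
import Groth.Agent.MultType.Family
import Mathlib.RingTheory.Flat.Equalizer
import Mathlib.LinearAlgebra.TensorProduct.Pi

/-!
# Descent of Hopf algebras along a finite faithfully flat family
-/

open Coalgebra TensorProduct

universe u

namespace Groth.Agent.MultType.Descent

open GroupLike (bcMap)
open Sq

noncomputable section

variable {R : Type u} [CommRing R] {ι : Type u}

/-- the components of `T ⊗ ∏ (V p ⊗ E p)` -/
def q (T : Type u) [CommRing T] [Algebra R T] (V E : ι → Type u) [∀ i, CommRing (V i)] [∀ i, Algebra R (V i)]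
    [∀ i, CommRing (E i)] [∀ i, Algebra R (E i)] (i : ι) :
    T ⊗[R] (∀ i, V i ⊗[R] E i) →ₐ[R] (T ⊗[R] V i) ⊗[R] E i :=
  Algebra.TensorProduct.lift
    ((Algebra.TensorProduct.includeLeft : T ⊗[R] V i →ₐ[R] (T ⊗[R] V i) ⊗[R] E i).comp
      Algebra.TensorProduct.includeLeft)
    ((bcMap (Algebra.TensorProduct.includeRight : V i →ₐ[R] T ⊗[R] V i) (E i)).comp
      (Pi.evalAlgHom R (fun i => V i ⊗[R] E i) i))
    fun _ _ => Commute.all _ _

theorem q_tmul (T : Type u) [CommRing T] [Algebra R T] (V E : ι → Type u) [∀ i, CommRing (V i)] [∀ i, Algebra R (V i)]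
    [∀ i, CommRing (E i)] [∀ i, Algebra R (E i)] (i : ι) (t : T) (y : ∀ i, V i ⊗[R] E i) :
    q T V E i (t ⊗ₜ y) = (t ⊗ₜ[R] (1 : V i)) • bcMap (Algebra.TensorProduct.includeRight : V i →ₐ[R] T ⊗[R] V i) (E i) (y i) := by
  simp [q, Algebra.smul_def, Algebra.TensorProduct.algebraMap_apply]

theorem q_bijective [Fintype ι] (T : Type u) [CommRing T] [Algebra R T] (V E : ι → Type u) [∀ i, CommRing (V i)]
    [∀ i, Algebra R (V i)] [∀ i, CommRing (E i)] [∀ i, Algebra R (E i)] :
    Function.Bijective fun x i => q (R := R) T V E i x := by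
  classical
  let e : T ⊗[R] (∀ i, V i ⊗[R] E i) ≃ₗ[R] ∀ i, (T ⊗[R] V i) ⊗[R] E i :=
    (TensorProduct.piRight R R T fun i => V i ⊗[R] E i).trans
      (LinearEquiv.piCongrRight fun i => (TensorProduct.assoc R T (V i) (E i)).symm)
  have h : (fun x i => q (R := R) T V E i x) = e := by
    funext x i
    induction x using TensorProduct.induction_on with
    | zero => simp
    | add x y hx hy => simp only [map_add, Pi.add_apply, hx, hy]
    | tmul t y =>
      rw [q_tmul]
      simp only [e, LinearEquiv.trans_apply, LinearEquiv.piCongrRight_apply, TensorProduct.piRight_apply,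
        TensorProduct.piRightHom_tmul]
      generalize y i = z
      induction z using TensorProduct.induction_on with
      | zero => simp
      | add x y hx hy => simp only [TensorProduct.tmul_add, map_add, smul_add, hx, hy]
      | tmul v d => simp [bcMap, TensorProduct.smul_tmul', Algebra.TensorProduct.tmul_mul_tmul]
  rw [h]
  exact e.bijective

variable (T : ι → Type u) [∀ i, CommRing (T i)] [∀ i, Algebra R (T i)]

/-- left map into the overlap -/
abbrev inl (i j : ι) : T i →ₐ[R] T i ⊗[R] T j := Algebra.TensorProduct.includeLeft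

/-- right map into the overlap -/
abbrev inr (i j : ι) : T j →ₐ[R] T i ⊗[R] T j := Algebra.TensorProduct.includeRight

variable (D : ι → Type u) [∀ i, CommRing (D i)] [∀ i, HopfAlgebra R (D i)]

/-- descent datum for Hopf algebras -/
structure Datum where
  /-- the transition maps -/
  θ : ∀ i j, (T i ⊗[R] T j) ⊗[R] D i →ₐc[T i ⊗[R] T j] (T i ⊗[R] T j) ⊗[R] D j
  unit : ∀ i z, bcAlg (Algebra.TensorProduct.lmul' R : T i ⊗[R] T i →ₐ[R] T i)
    (θ i i : (T i ⊗[R] T i) ⊗[R] D i →ₐ[T i ⊗[R] T i] (T i ⊗[R] T i) ⊗[R] D i) z = z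
  cocycle : ∀ k i j z,
    bcAlg (Algebra.TensorProduct.includeRight : T i ⊗[R] T j →ₐ[R] T k ⊗[R] (T i ⊗[R] T j))
      (θ i j : (T i ⊗[R] T j) ⊗[R] D i →ₐ[T i ⊗[R] T j] (T i ⊗[R] T j) ⊗[R] D j)
      (bcAlg (Algebra.TensorProduct.map (AlgHom.id R (T k)) (inl T i j))
        (θ k i : (T k ⊗[R] T i) ⊗[R] D k →ₐ[T k ⊗[R] T i] (T k ⊗[R] T i) ⊗[R] D i) z) =
      bcAlg (Algebra.TensorProduct.map (AlgHom.id R (T k)) (inr T i j))
        (θ k j : (T k ⊗[R] T j) ⊗[R] D k →ₐ[T k ⊗[R] T j] (T k ⊗[R] T j) ⊗[R] D j) z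

variable {T D} (dat : Datum (R := R) T D)

/-- first arrow -/
def fA : (∀ i, T i ⊗[R] D i) →ₐ[R] ∀ p : ι × ι, (T p.1 ⊗[R] T p.2) ⊗[R] D p.2 :=
  AlgHom.pi fun p => ((dat.θ p.1 p.2 : (T p.1 ⊗[R] T p.2) ⊗[R] D p.1 →ₐ[T p.1 ⊗[R] T p.2]
    (T p.1 ⊗[R] T p.2) ⊗[R] D p.2).restrictScalars R).comp
      ((bcMap (inl T p.1 p.2) (D p.1)).comp (Pi.evalAlgHom R (fun i => T i ⊗[R] D i) p.1))

/-- second arrow -/
def gA (T : ι → Type u) [∀ i, CommRing (T i)] [∀ i, Algebra R (T i)] (D : ι → Type u) [∀ i, CommRing (D i)]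
    [∀ i, HopfAlgebra R (D i)] : (∀ i, T i ⊗[R] D i) →ₐ[R] ∀ p : ι × ι, (T p.1 ⊗[R] T p.2) ⊗[R] D p.2 :=
  AlgHom.pi fun p => (bcMap (inr T p.1 p.2) (D p.2)).comp (Pi.evalAlgHom R (fun i => T i ⊗[R] D i) p.2)

/-- the descended algebra -/
abbrev Obj : Type u := ↥(AlgHom.equalizer (fA dat) (gA (R := R) T D))

/-- projection -/
def π (i : ι) : Obj dat →ₐ[R] T i ⊗[R] D i :=
  (Pi.evalAlgHom R (fun i => T i ⊗[R] D i) i).comp (AlgHom.equalizer (fA dat) (gA (R := R) T D)).val

theorem rel (a : Obj dat) (i j : ι) :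
    dat.θ i j (bcMap (inl T i j) (D i) (π dat i a)) = bcMap (inr T i j) (D j) (π dat j a) :=
  congrFun (show fA dat a.1 = gA T D a.1 from a.2) (i, j)

variable [Fintype ι] [hff : Module.FaithfullyFlat R (∀ i, T i)]

include hff in
omit [∀ i, CommRing (D i)] [∀ i, HopfAlgebra R (D i)] in
theorem flat_T (i : ι) : Module.Flat R (T i) := by
  classical
  exact Module.Flat.of_retract (LinearMap.single R T i) (LinearMap.proj i) (by ext x; simp)

include hff in
theorem φ₀_bijective (k : ι) : Function.Bijective (ext₁ (π dat k)) := by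
  classical
  haveI := flat_T (R := R) (T := T) k
  set f := fA dat
  set g := gA (R := R) T D
  let incl : T k ⊗[R] Obj dat →ₐ[R] T k ⊗[R] (∀ i, T i ⊗[R] D i) :=
    Algebra.TensorProduct.map (AlgHom.id R (T k)) (AlgHom.equalizer f g).val
  have hincl : Function.Injective incl := Module.Flat.lTensor_preserves_injective_linearMap (M := T k)
    (AlgHom.equalizer f g).val.toLinearMap Subtype.val_injective
  have h1 : ∀ x, ext₁ (π dat k) x =
      bcMap (Algebra.TensorProduct.lmul' R : T k ⊗[R] T k →ₐ[R] T k) (D k) (q (T k) T D k (incl x)) := by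
    intro x
    induction x using TensorProduct.induction_on with
    | zero => simp
    | add x y hx hy => simp only [map_add, hx, hy]
    | tmul t a =>
      simp only [incl, Algebra.TensorProduct.map_tmul, AlgHom.coe_id, id_eq]
      rw [q_tmul, Sq.bcMap_smul, GLLift.bcMap_bcMap, smul_tmul_one, map_smul, ext₁_one_tmul,
        show (Algebra.TensorProduct.lmul' R : T k ⊗[R] T k →ₐ[R] T k).comp Algebra.TensorProduct.includeRight =
          AlgHom.id R (T k) from AlgHom.ext fun u => by simp,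
        show bcMap (AlgHom.id R (T k)) (D k) = AlgHom.id R _ from Algebra.TensorProduct.map_id]
      simp [π]
  have h2 : ∀ x i, q (T k) T D i (incl x) = dat.θ k i (bcMap (inl T k i) (D k) (ext₁ (π dat k) x)) := by
    intro x i
    induction x using TensorProduct.induction_on with
    | zero => simp
    | add x y hx hy => simp only [map_add, hx, hy]
    | tmul t a =>
      simp only [incl, Algebra.TensorProduct.map_tmul, AlgHom.coe_id, id_eq]
      rw [q_tmul, smul_tmul_one t a, map_smul, Sq.bcMap_smul, map_smul, ext₁_one_tmul, rel]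
      rfl
  refine ⟨fun x y hxy => hincl ((q_bijective (T k) T D).injective (funext fun i => ?_)), fun b => ?_⟩
  · simp only [h2, hxy]
  · obtain ⟨z, hz⟩ := (q_bijective (R := R) (T k) T D).surjective fun i => dat.θ k i (bcMap (inl T k i) (D k) b)
    have hz' : ∀ i, q (T k) T D i z = dat.θ k i (bcMap (inl T k i) (D k) b) := congrFun hz
    have hzeq : Algebra.TensorProduct.map (AlgHom.id R (T k)) f z = Algebra.TensorProduct.map (AlgHom.id R (T k)) g z := by
      refine (q_bijective (R := R) (T k) (fun p : ι × ι => T p.1 ⊗[R] T p.2) fun p => D p.2).injective (funext ?_)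
      rintro ⟨i, j⟩
      have hf : ∀ w, q (T k) (fun p : ι × ι => T p.1 ⊗[R] T p.2) (fun p => D p.2) (i, j)
          (Algebra.TensorProduct.map (AlgHom.id R (T k)) f w) =
          bcAlg (Algebra.TensorProduct.includeRight : T i ⊗[R] T j →ₐ[R] T k ⊗[R] (T i ⊗[R] T j))
            (dat.θ i j : (T i ⊗[R] T j) ⊗[R] D i →ₐ[T i ⊗[R] T j] (T i ⊗[R] T j) ⊗[R] D j)
            (bcMap (Algebra.TensorProduct.map (AlgHom.id R (T k)) (inl T i j)) (D i) (q (T k) T D i w)) := by
        intro w
        induction w using TensorProduct.induction_on with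
        | zero => simp
        | add x y hx hy => simp only [map_add, hx, hy]
        | tmul t y =>
          rw [Algebra.TensorProduct.map_tmul, q_tmul, q_tmul, Sq.bcMap_smul, map_smul, GLLift.bcMap_bcMap,
            show (Algebra.TensorProduct.map (AlgHom.id R (T k)) (inl T i j)).comp Algebra.TensorProduct.includeRight =
              (Algebra.TensorProduct.includeRight : T i ⊗[R] T j →ₐ[R] T k ⊗[R] (T i ⊗[R] T j)).comp (inl T i j) from
              AlgHom.ext fun u => rfl,
            ← GLLift.bcMap_bcMap, bcAlg_natural]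
          rfl
      have hg : ∀ w, q (T k) (fun p : ι × ι => T p.1 ⊗[R] T p.2) (fun p => D p.2) (i, j)
          (Algebra.TensorProduct.map (AlgHom.id R (T k)) g w) =
            bcMap (Algebra.TensorProduct.map (AlgHom.id R (T k)) (inr T i j)) (D j) (q (T k) T D j w) := by
        intro w
        induction w using TensorProduct.induction_on with
        | zero => simp
        | add x y hx hy => simp only [map_add, hx, hy]
        | tmul t y =>
          rw [Algebra.TensorProduct.map_tmul, q_tmul, q_tmul, Sq.bcMap_smul, GLLift.bcMap_bcMap,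
            show (Algebra.TensorProduct.map (AlgHom.id R (T k)) (inr T i j)).comp Algebra.TensorProduct.includeRight =
              (Algebra.TensorProduct.includeRight : T i ⊗[R] T j →ₐ[R] T k ⊗[R] (T i ⊗[R] T j)).comp (inr T i j) from
              AlgHom.ext fun u => rfl,
            ← GLLift.bcMap_bcMap]
          rfl
      rw [hf, hg, hz', hz']
      have key : ∀ (i' : ι) (g' : T k ⊗[R] T i' →ₐ[R] T k ⊗[R] (T i ⊗[R] T j)),
          bcMap g' (D i') (dat.θ k i' (bcMap (inl T k i') (D k) b)) =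
          bcAlg g' (dat.θ k i' : (T k ⊗[R] T i') ⊗[R] D k →ₐ[T k ⊗[R] T i'] (T k ⊗[R] T i') ⊗[R] D i')
            (bcMap (g'.comp (inl T k i')) (D k) b) := by
        intro i' g'
        rw [← GLLift.bcMap_bcMap, bcAlg_natural]
        rfl
      rw [key i, key j]
      have hl : ∀ (i' : ι) (h : T i' →ₐ[R] T i ⊗[R] T j),
          (Algebra.TensorProduct.map (AlgHom.id R (T k)) h).comp (inl T k i') =
            (Algebra.TensorProduct.includeLeft : T k →ₐ[R] T k ⊗[R] (T i ⊗[R] T j)) := fun i' h =>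
        AlgHom.ext fun u => by simp
      rw [hl, hl]
      exact dat.cocycle k i j _
    obtain ⟨x, hx⟩ := (AlgHom.tensorEqualizerEquiv R (T k) f g).surjective ⟨z, hzeq⟩
    have hx' : incl x = z := by
      have h3 := congrArg Subtype.val hx
      rw [AlgHom.tensorEqualizerEquiv_apply, AlgHom.coe_tensorEqualizer] at h3
      exact h3
    refine ⟨x, ?_⟩
    rw [h1, hx', hz']
    refine (bcAlg_natural (Algebra.TensorProduct.lmul' R : T k ⊗[R] T k →ₐ[R] T k)
      (dat.θ k k : (T k ⊗[R] T k) ⊗[R] D k →ₐ[T k ⊗[R] T k] (T k ⊗[R] T k) ⊗[R] D k) _).symm.trans ?_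
    rw [GLLift.bcMap_bcMap,
      show (Algebra.TensorProduct.lmul' R : T k ⊗[R] T k →ₐ[R] T k).comp (inl T k k) = AlgHom.id R (T k) from
        AlgHom.ext fun u => by simp,
      show bcMap (AlgHom.id R (T k)) (D k) = AlgHom.id R _ from Algebra.TensorProduct.map_id]
    exact dat.unit k b

/-- `T k ⊗ A ≅ T k ⊗ D k` -/
def φ (k : ι) : T k ⊗[R] Obj dat ≃ₐ[T k] T k ⊗[R] D k := AlgEquiv.ofBijective _ (φ₀_bijective dat k)

theorem φ_one_tmul (k : ι) (a : Obj dat) : φ dat k (1 ⊗ₜ a) = π dat k a := ext₁_one_tmul _ a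

include hff in
theorem flat (hD : ∀ i, Module.Flat R (D i)) : Module.Flat R (Obj dat) := by
  haveI : ∀ i, Module.Flat R (T i ⊗[R] Obj dat) := fun i => by
    haveI := flat_T (R := R) (T := T) i
    haveI := hD i
    haveI : Module.Flat R (T i ⊗[R] D i) := inferInstance
    exact Module.Flat.of_linearEquiv ((φ dat i).toLinearEquiv.restrictScalars R)
  exact Family.flat_of_family T

theorem rel' (i j : ι) (z : T i ⊗[R] Obj dat) :
    bcAlg (inr T i j) (φ dat j : T j ⊗[R] Obj dat →ₐ[T j] T j ⊗[R] D j) (bcMap (inl T i j) (Obj dat) z) =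
      dat.θ i j (bcMap (inl T i j) (D i) (φ dat i z)) := by
  induction z using TensorProduct.induction_on with
  | zero => simp
  | add x y hx hy => simp only [map_add, hx, hy]
  | tmul t a =>
    rw [smul_tmul_one t a, map_smul (φ dat i), Sq.bcMap_smul, Sq.bcMap_smul, map_smul, map_smul, φ_one_tmul, rel,
      GLLift.bcMap_tmul, map_one, bcAlg_one_tmul]
    exact congrArg _ (congrArg _ (φ_one_tmul dat j a))

theorem comul_compat (i j : ι) (a : Obj dat) (zi : T i ⊗[R] (Obj dat ⊗[R] Obj dat))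
    (zj : T j ⊗[R] (Obj dat ⊗[R] Obj dat))
    (hi : sq (φ dat i : T i ⊗[R] Obj dat →ₐ[T i] T i ⊗[R] D i) zi = Δ (T i) (D i) (π dat i a))
    (hj : sq (φ dat j : T j ⊗[R] Obj dat →ₐ[T j] T j ⊗[R] D j) zj = Δ (T j) (D j) (π dat j a)) :
    bcMap (inl T i j) (Obj dat ⊗[R] Obj dat) zi = bcMap (inr T i j) (Obj dat ⊗[R] Obj dat) zj := by
  let e := bcAlg (inr T i j) (φ dat j : T j ⊗[R] Obj dat →ₐ[T j] T j ⊗[R] D j)
  let e₀ := bcAlg (inl T i j) (φ dat i : T i ⊗[R] Obj dat →ₐ[T i] T i ⊗[R] D i)
  let θ : (T i ⊗[R] T j) ⊗[R] D i →ₐ[T i ⊗[R] T j] (T i ⊗[R] T j) ⊗[R] D j := dat.θ i j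
  have he : e = θ.comp e₀ := eq_of_one_tmul fun b => by
    simp only [e, e₀, AlgHom.comp_apply, bcAlg_one_tmul]
    refine Eq.trans ?_ ((congrArg _ (congrArg _ (φ_one_tmul dat i b))).trans (rel dat b i j)).symm
    exact congrArg _ (φ_one_tmul dat j b)
  have hinj : Function.Injective (sq e) := by
    let f := AlgEquiv.ofBijective e ⟨bcAlg_injective _ (φ dat j), fun y =>
      ⟨bcAlg (inr T i j) ((φ dat j).symm : T j ⊗[R] D j →ₐ[T j] T j ⊗[R] Obj dat) y, by
        rw [← AlgHom.comp_apply, ← bcAlg_comp]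
        simp [bcAlg_id]⟩⟩
    exact pair_injective f f
  apply hinj
  rw [sq_natural (inr T i j) (F := (φ dat j : T j ⊗[R] Obj dat →ₐ[T j] T j ⊗[R] D j)) (fun z => bcAlg_natural _ _ z),
    hj, bcMap_Δ, he, Sq.sq, pair_comp, AlgHom.comp_apply,
    show pair e₀ e₀ (bcMap (inl T i j) _ zi) = bcMap (inl T i j) _ (sq (φ dat i : T i ⊗[R] Obj dat →ₐ[T i] T i ⊗[R] D i) zi)
      from sq_natural (inl T i j) (fun z => bcAlg_natural _ _ z) zi,
    hi, bcMap_Δ, ← Δ_hom, rel]

theorem exists_comul (hD : ∀ i, Module.Flat R (D i)) (a : Obj dat) :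
    ∃ w : Obj dat ⊗[R] Obj dat, ∀ i, sq (φ dat i : T i ⊗[R] Obj dat →ₐ[T i] T i ⊗[R] D i) (1 ⊗ₜ w) =
      Δ (T i) (D i) (π dat i a) := by
  haveI := flat dat hD
  choose z hz using fun i => (pair_bijective (φ dat i) (φ dat i)).surjective (Δ (T i) (D i) (π dat i a))
  obtain ⟨w, hw⟩ := Family.exists_of_family (R := R) T z fun i j => comul_compat dat i j a (z i) (z j) (hz i) (hz j)
  exact ⟨w, fun i => by rw [hw]; exact hz i⟩

theorem exists_counit (a : Obj dat) : ∃ r : R, ∀ i, (1 : T i) ⊗ₜ[R] r = ε (T i) (D i) (π dat i a) := by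
  refine Family.exists_of_family (R := R) T _ fun i j => ?_
  change bcMap (inl T i j) R _ = bcMap (inr T i j) R _
  rw [bcMap_ε, bcMap_ε, ← rel dat a i j, ε_hom]

theorem exists_antipode (hD : ∀ i, Module.Flat R (D i)) (a : Obj dat) :
    ∃ b : Obj dat, ∀ i, π dat i b = S (T i) (D i) (π dat i a) := by
  haveI := flat dat hD
  choose z hz using fun i => (φ dat i).surjective (S (T i) (D i) (π dat i a))
  obtain ⟨b, hb⟩ := Family.exists_of_family (R := R) T z fun i j => by
    change bcMap (inl T i j) _ (z i) = bcMap (inr T i j) _ (z j)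
    refine bcAlg_injective (inr T i j) (φ dat j) ?_
    rw [rel', hz, bcAlg_natural]
    change _ = bcMap (inr T i j) (D j) (φ dat j (z j))
    rw [hz, bcMap_S, bcMap_S, ← S_hom, rel]
  exact ⟨b, fun i => by rw [← φ_one_tmul, hb, hz]⟩

variable [hD : ∀ i, Module.Flat R (D i)]

theorem eq_of_sq {w w' : Obj dat ⊗[R] Obj dat}
    (h : ∀ i, Sq.sq (φ dat i : T i ⊗[R] Obj dat →ₐ[T i] T i ⊗[R] D i) (1 ⊗ₜ w) =
      Sq.sq (φ dat i : T i ⊗[R] Obj dat →ₐ[T i] T i ⊗[R] D i) (1 ⊗ₜ w')) : w = w' :=
  Family.eq_of_family (R := R) T fun i => pair_injective (φ dat i) (φ dat i) (h i)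

theorem eq_of_π {a b : Obj dat} (h : ∀ i, π dat i a = π dat i b) : a = b := Subtype.ext (funext h)

theorem one_tmul_mul {U N : Type u} [CommRing U] [Algebra R U] [CommRing N] [Algebra R N] (x y : N) :
    (1 : U) ⊗ₜ[R] (x * y) = ((1 : U) ⊗ₜ[R] x) * ((1 : U) ⊗ₜ[R] y) := by
  rw [Algebra.TensorProduct.tmul_mul_tmul, one_mul]

/-- comultiplication -/
def Δ₀ : Obj dat →ₐ[R] Obj dat ⊗[R] Obj dat where
  toFun a := (exists_comul dat hD a).choose
  map_one' := eq_of_sq dat fun i => by
    rw [(exists_comul dat hD 1).choose_spec, ← Algebra.TensorProduct.one_def, map_one, map_one, map_one]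
  map_mul' a b := eq_of_sq dat fun i => by
    rw [(exists_comul dat hD (a * b)).choose_spec, one_tmul_mul, map_mul, map_mul, map_mul,
      (exists_comul dat hD a).choose_spec, (exists_comul dat hD b).choose_spec]
  map_zero' := eq_of_sq dat fun i => by
    rw [(exists_comul dat hD 0).choose_spec, TensorProduct.tmul_zero, map_zero, map_zero, map_zero]
  map_add' a b := eq_of_sq dat fun i => by
    rw [(exists_comul dat hD (a + b)).choose_spec, TensorProduct.tmul_add, map_add, map_add, map_add,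
      (exists_comul dat hD a).choose_spec, (exists_comul dat hD b).choose_spec]
  commutes' r := eq_of_sq dat fun i => by
    rw [(exists_comul dat hD _).choose_spec, AlgHom.commutes,
      show ∀ (N : Type u) [CommRing N] [Algebra R N], (1 : T i) ⊗ₜ[R] algebraMap R N r =
        algebraMap (T i) (T i ⊗[R] N) (algebraMap R (T i) r) from fun N _ _ => by
          rw [← IsScalarTower.algebraMap_apply, Algebra.algebraMap_eq_smul_one, TensorProduct.tmul_smul,
            Algebra.algebraMap_eq_smul_one (A := T i ⊗[R] N)]; rfl,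
      AlgHom.commutes, IsScalarTower.algebraMap_apply R (T i) (T i ⊗[R] D i), AlgHom.commutes]

theorem Δ₀_spec (a : Obj dat) (i : ι) :
    Sq.sq (φ dat i : T i ⊗[R] Obj dat →ₐ[T i] T i ⊗[R] D i) (1 ⊗ₜ Δ₀ dat a) = Δ (T i) (D i) (π dat i a) :=
  (exists_comul dat hD a).choose_spec i

/-- counit -/
def ε₀ : Obj dat →ₐ[R] R where
  toFun a := (exists_counit dat a).choose
  map_one' := Family.eq_of_family (R := R) T fun i => by
    rw [(exists_counit dat 1).choose_spec, map_one, map_one]; rfl
  map_mul' a b := Family.eq_of_family (R := R) T fun i => by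
    rw [(exists_counit dat (a * b)).choose_spec, one_tmul_mul, map_mul, map_mul,
      (exists_counit dat a).choose_spec, (exists_counit dat b).choose_spec]
  map_zero' := Family.eq_of_family (R := R) T fun i => by
    rw [(exists_counit dat 0).choose_spec, map_zero, map_zero, TensorProduct.tmul_zero]
  map_add' a b := Family.eq_of_family (R := R) T fun i => by
    rw [(exists_counit dat (a + b)).choose_spec, TensorProduct.tmul_add, map_add, map_add,
      (exists_counit dat a).choose_spec, (exists_counit dat b).choose_spec]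
  commutes' r := Family.eq_of_family (R := R) T fun i => by
    rw [(exists_counit dat _).choose_spec, AlgHom.commutes, IsScalarTower.algebraMap_apply R (T i) (T i ⊗[R] D i),
      AlgHom.commutes, ← IsScalarTower.algebraMap_apply, Algebra.algebraMap_eq_smul_one,
      Algebra.algebraMap_eq_smul_one (A := R) r, TensorProduct.tmul_smul]
    rfl

theorem ε₀_spec (a : Obj dat) (i : ι) : (1 : T i) ⊗ₜ[R] ε₀ dat a = ε (T i) (D i) (π dat i a) :=
  (exists_counit dat a).choose_spec i

/-- antipode -/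
def S₀ : Obj dat →ₐ[R] Obj dat where
  toFun a := (exists_antipode dat hD a).choose
  map_one' := eq_of_π dat fun i => by rw [(exists_antipode dat hD 1).choose_spec, map_one, map_one]
  map_mul' a b := eq_of_π dat fun i => by
    rw [(exists_antipode dat hD (a * b)).choose_spec, map_mul, map_mul, map_mul,
      (exists_antipode dat hD a).choose_spec, (exists_antipode dat hD b).choose_spec]
  map_zero' := eq_of_π dat fun i => by rw [(exists_antipode dat hD 0).choose_spec, map_zero, map_zero]
  map_add' a b := eq_of_π dat fun i => by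
    rw [(exists_antipode dat hD (a + b)).choose_spec, map_add, map_add, map_add,
      (exists_antipode dat hD a).choose_spec, (exists_antipode dat hD b).choose_spec]
  commutes' r := eq_of_π dat fun i => by
    rw [(exists_antipode dat hD _).choose_spec, AlgHom.commutes,
      IsScalarTower.algebraMap_apply R (T i) (T i ⊗[R] D i), AlgHom.commutes]

theorem tw_Δ (i : ι) : Tw (φ dat i : T i ⊗[R] Obj dat →ₐ[T i] T i ⊗[R] D i)
    (Sq.sq (φ dat i : T i ⊗[R] Obj dat →ₐ[T i] T i ⊗[R] D i)) (Δ₀ dat) (Bialgebra.comulAlgHom R (D i)) :=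
  eq_of_one_tmul fun a => by
    simp only [AlgHom.comp_apply, Algebra.TensorProduct.map_tmul, AlgHom.coe_id, id_eq, AlgEquiv.coe_toAlgHom]
    rw [Δ₀_spec, φ_one_tmul]
    rfl

theorem tw_ε (i : ι) : Tw (φ dat i : T i ⊗[R] Obj dat →ₐ[T i] T i ⊗[R] D i)
    (AlgHom.id (T i) (T i ⊗[R] R)) (ε₀ dat) (Bialgebra.counitAlgHom R (D i)) :=
  eq_of_one_tmul fun a => by
    simp only [AlgHom.comp_apply, Algebra.TensorProduct.map_tmul, AlgHom.coe_id, id_eq, AlgEquiv.coe_toAlgHom]
    rw [ε₀_spec, φ_one_tmul]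
    rfl

theorem tw_S (i : ι) : Tw (φ dat i : T i ⊗[R] Obj dat →ₐ[T i] T i ⊗[R] D i)
    (φ dat i : T i ⊗[R] Obj dat →ₐ[T i] T i ⊗[R] D i) (S₀ dat) (HopfAlgebra.antipodeAlgHom R (D i)) :=
  eq_of_one_tmul fun a => by
    simp only [AlgHom.comp_apply, Algebra.TensorProduct.map_tmul, AlgHom.coe_id, id_eq, AlgEquiv.coe_toAlgHom]
    rw [φ_one_tmul, φ_one_tmul]
    exact (exists_antipode dat hD a).choose_spec i

instance instBialgebra : Bialgebra R (Obj dat) :=
  Bialgebra.ofAlgHom (Δ₀ dat) (ε₀ dat)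
    (AlgHom.ext fun a => Family.eq_of_family (R := R) (N := Obj dat ⊗[R] (Obj dat ⊗[R] Obj dat)) T fun i => by
      exact Tw.eq ((tw_Δ dat i).comp (((tw_Δ dat i).prod Tw.id).comp Tw.assoc))
        ((tw_Δ dat i).comp (Tw.id.prod (tw_Δ dat i)))
        (AlgHom.ext fun d => Coalgebra.coassoc_apply d)
        (pair_injective (φ dat i) (AlgEquiv.ofBijective _ (pair_bijective (φ dat i) (φ dat i)))) a)
    (AlgHom.ext fun a => (Algebra.TensorProduct.lid R (Obj dat)).injective <| by
      refine Eq.trans ?_ ((Algebra.TensorProduct.lid R (Obj dat)).apply_symm_apply a).symm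
      exact Family.eq_of_family (R := R) (N := Obj dat) T fun i => by
        exact Tw.eq ((tw_Δ dat i).comp (((tw_ε dat i).prod Tw.id).comp Tw.lid)) Tw.id
          (AlgHom.ext fun d => by
            simp only [AlgHom.comp_apply, AlgEquiv.coe_toAlgHom, AlgHom.coe_id, id_eq]
            exact (congrArg (Algebra.TensorProduct.lid R (D i)) (Coalgebra.rTensor_counit_comul d)).trans (by simp))
          (φ dat i).injective a)
    (AlgHom.ext fun a => (Algebra.TensorProduct.rid R R (Obj dat)).injective <| by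
      refine Eq.trans ?_ ((Algebra.TensorProduct.rid R R (Obj dat)).apply_symm_apply a).symm
      exact Family.eq_of_family (R := R) (N := Obj dat) T fun i => by
        exact Tw.eq ((tw_Δ dat i).comp ((Tw.id.prod (tw_ε dat i)).comp Tw.rid)) Tw.id
          (AlgHom.ext fun d => by
            simp only [AlgHom.comp_apply, AlgEquiv.coe_toAlgHom, AlgHom.coe_id, id_eq]
            exact (congrArg (Algebra.TensorProduct.rid R R (D i)) (Coalgebra.lTensor_counit_comul d)).trans (by simp))
          (φ dat i).injective a)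

theorem lift_eq {N : Type u} [CommRing N] [Algebra R N] {M : Type u} [CommRing M] [Algebra R M] (f g : N →ₐ[R] M) :
    Algebra.TensorProduct.lift f g (fun _ _ => Commute.all _ _) =
      (Algebra.TensorProduct.lmul' R).comp (Algebra.TensorProduct.map f g) := by
  apply Algebra.TensorProduct.ext'
  intro a b
  simp

instance instHopf : HopfAlgebra R (Obj dat) :=
  HopfAlgebra.ofAlgHom (S₀ dat)
    (by
      rw [lift_eq]
      exact AlgHom.ext fun a => Family.eq_of_family (R := R) (N := Obj dat) T fun i => by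
        exact Tw.eq ((tw_Δ dat i).comp (((tw_S dat i).prod Tw.id).comp Tw.mul)) ((tw_ε dat i).comp Tw.unit)
          (AlgHom.ext fun d => HopfAlgebra.mul_antipode_rTensor_comul_apply d)
          (φ dat i).injective a)
    (by
      rw [lift_eq]
      exact AlgHom.ext fun a => Family.eq_of_family (R := R) (N := Obj dat) T fun i => by
        exact Tw.eq ((tw_Δ dat i).comp ((Tw.id.prod (tw_S dat i)).comp Tw.mul)) ((tw_ε dat i).comp Tw.unit)
          (AlgHom.ext fun d => HopfAlgebra.mul_antipode_lTensor_comul_apply d)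
          (φ dat i).injective a)

/-- the trivialisation is an isomorphism of bialgebras -/
def φc (i : ι) : T i ⊗[R] Obj dat ≃ₐc[T i] T i ⊗[R] D i :=
  BialgEquiv.ofAlgEquiv (φ dat i)
    (eq_of_one_tmul fun a => by
      simp only [AlgHom.comp_apply, AlgEquiv.coe_toAlgHom, Bialgebra.counitAlgHom_apply]
      apply (Algebra.TensorProduct.rid R (T i) (T i)).symm.injective
      simp only [Algebra.TensorProduct.rid_symm_apply]
      rw [← ε_eq, ← ε_eq, φ_one_tmul, ← ε₀_spec]
      rfl)
    (eq_of_one_tmul fun a => by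
      simp only [AlgHom.comp_apply, AlgEquiv.coe_toAlgHom, Bialgebra.comulAlgHom_apply]
      apply δ_injective
      rw [δ_comul]
      refine (sq_δ (φ dat i : T i ⊗[R] Obj dat →ₐ[T i] T i ⊗[R] D i) _).symm.trans ?_
      rw [δ_comul, φ_one_tmul]
      exact Δ₀_spec dat a i)

theorem φc_one_tmul (i : ι) (a : Obj dat) : φc dat i (1 ⊗ₜ a) = π dat i a := φ_one_tmul dat i a

end

end Groth.Agent.MultType.Descent
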