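import Groth.Agent.SecComp.Basic
import Mathlib.AlgebraicGeometry.Pullbacks

/-!
# A connected algebra with a rational point is geometrically connected
-/

universe u

open AlgebraicGeometry CategoryTheory Limits TensorProduct

namespace Groth.Agent.MultType.GeomConn

theorem connectedSpace_of_point {k : Type u} [Field k] {S : Type u} [CommRing S] [Algebra k S]
    (s : S →ₐ[k] k) [ConnectedSpace (PrimeSpectrum S)] (K : Type u) [Field K] [Algebra k K] :
    ConnectedSpace (PrimeSpectrum (K ⊗[k] S)) := by
  let π : Spec (CommRingCat.of S) ⟶ Spec (CommRingCat.of k) := Spec.map (CommRingCat.ofHom (algebraMap k S))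
  let σ : Spec (CommRingCat.of k) ⟶ Spec (CommRingCat.of S) := Spec.map (CommRingCat.ofHom s.toRingHom)
  have hσ : σ ≫ π = 𝟙 _ := by
    rw [← Spec.map_comp, ← CommRingCat.ofHom_comp, ← Spec.map_id]
    congr 1
    ext x
    exact s.commutes x
  haveI : ConnectedSpace ↥(Spec (CommRingCat.of S)) := ‹ConnectedSpace (PrimeSpectrum S)›
  have h1 := Groth.Agent.SecComp.isConnected_preimage_component (K := K) π σ hσ (⊥ : PrimeSpectrum k)
  rw [PreconnectedSpace.connectedComponent_eq_univ, Set.preimage_univ] at h1
  haveI : ConnectedSpace ↥(pullback π (Spec.map (CommRingCat.ofHom (algebraMap k K)))) :=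
    connectedSpace_iff_univ.mpr h1
  haveI : ConnectedSpace ↥(Spec (CommRingCat.of (S ⊗[k] K))) :=
    (pullbackSpecIso k S K).hom.homeomorph.surjective.connectedSpace
      (pullbackSpecIso k S K).hom.homeomorph.continuous
  have : ConnectedSpace (PrimeSpectrum (S ⊗[k] K)) := this
  let h := PrimeSpectrum.homeomorphOfRingEquiv (Algebra.TensorProduct.comm k S K).toRingEquiv
  exact h.surjective.connectedSpace h.continuous

end Groth.Agent.MultType.GeomConn
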