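import Groth.Agent.MultType.Model
import Groth.Agent.FlatOpen.Descend
import Groth.Agent.FlatMor.FlatAtBC
import Groth.Agent.FlatOpen.MapOpen

/-!
# Noetherian local models of Hopf algebras flat along the closed fibre

* `exists_local_model`
-/

open Coalgebra TensorProduct Function

universe u

namespace Groth.Agent.MultType.ModelFlat

noncomputable section

open Groth.Agent.FlatOpen (Vec Quot ext mapVec)

variable {R₀ : Type u} [CommRing R₀] {n : ℕ}

/-- a presentation of a module of rank one as a `Quot` -/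
def const (A : Type u) [CommRing A] (v : MvPolynomial (Fin n) A) : Vec n 1 A := fun _ => v

theorem exists_quot_equiv (A : Type u) [CommRing A] [Algebra R₀ A] {S : Type u} [CommRing S] [Algebra A S]
    (π : MvPolynomial (Fin n) A →ₐ[A] S) (hπ : Surjective π) (G : Set (MvPolynomial (Fin n) R₀))
    (hker : RingHom.ker π.toRingHom = Ideal.span (MvPolynomial.map (algebraMap R₀ A) '' G)) :
    ∃ E : Quot A (Submodule.span (MvPolynomial (Fin n) R₀) (const R₀ '' G) :
      Submodule (MvPolynomial (Fin n) R₀) (Vec n 1 R₀)) ≃ₗ[A] S, ∀ c x, E (c • x) = π c * E x := by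
  let P := MvPolynomial (Fin n) A
  let Z₀ : Submodule (MvPolynomial (Fin n) R₀) (Vec n 1 R₀) :=
    Submodule.span (MvPolynomial (Fin n) R₀) (const R₀ '' G)
  let f : Vec n 1 A →ₗ[A] S := π.toLinearMap ∘ₗ LinearMap.proj 0
  have hext : ext A Z₀ = Submodule.span P (const A '' (MvPolynomial.map (algebraMap R₀ A) '' G)) := by
    rw [Groth.Agent.FlatOpen.ext_span, Set.image_image, Set.image_image]
    congr 1
  have hval : ∀ v : Vec n 1 A, v = const A (v 0) := fun v => funext fun i => by
    rw [Subsingleton.elim i 0]; rfl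
  let cl : P →ₗ[P] Vec n 1 A := LinearMap.pi fun _ => LinearMap.id
  have hk : LinearMap.ker f = (ext A Z₀).restrictScalars A := by
    ext v
    rw [LinearMap.mem_ker, Submodule.restrictScalars_mem, hext]
    have hmap : Submodule.span P (const A '' (MvPolynomial.map (algebraMap R₀ A) '' G)) =
        Submodule.map cl (RingHom.ker π.toRingHom : Submodule P P) := by
      rw [hker]
      show _ = Submodule.map cl (Submodule.span P _)
      rw [Submodule.map_span]
      rfl
    rw [hmap, Submodule.mem_map]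
    constructor
    · intro h
      exact ⟨v 0, h, (hval v).symm⟩
    · rintro ⟨w, hw, rfl⟩
      exact hw
  have hsurj : Surjective f := fun s => by
    obtain ⟨w, hw⟩ := hπ s
    exact ⟨const A w, hw⟩
  refine ⟨(Submodule.Quotient.restrictScalarsEquiv A (ext A Z₀)).symm.trans
    ((Submodule.quotEquivOfEq _ _ hk.symm).trans (f.quotKerEquivOfSurjective hsurj)), fun c x => ?_⟩
  obtain ⟨v, rfl⟩ := Submodule.Quotient.mk_surjective _ x
  exact map_mul π c (v 0)

theorem flatAt_self_iff {R S : Type u} [CommRing R] [CommRing S] [Algebra R S] (q : Ideal S) [q.IsPrime] :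
    FlatCA.FlatAt R q S ↔ Module.Flat R (Localization.AtPrime q) := by
  let e : LocalizedModule q.primeCompl S ≃ₗ[R] Localization.AtPrime q :=
    (IsLocalizedModule.iso q.primeCompl (Algebra.linearMap S (Localization.AtPrime q))).restrictScalars R
  exact ⟨fun h => @Module.Flat.of_linearEquiv _ _ _ _ _ _ _ _ h e.symm, fun h =>
    @Module.Flat.of_linearEquiv _ _ _ _ _ _ _ _ h e⟩

/-- flat at the primes containing `a` -/
def FlatOn (A X : Type u) [CommRing A] [CommRing X] [Algebra A X] (a : Ideal A) : Prop :=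
  ∀ (q : Ideal X) [q.IsPrime], a.map (algebraMap A X) ≤ q → Module.Flat A (Localization.AtPrime q)

theorem FlatOn.bc {A X : Type u} [CommRing A] [CommRing X] [Algebra A X] {a : Ideal A} (h : FlatOn A X a)
    (B : Type u) [CommRing B] [Algebra A B] {b : Ideal B} (hab : a.map (algebraMap A B) ≤ b) :
    FlatOn B (B ⊗[A] X) b := by
  intro q' _ hq'
  letI := Algebra.TensorProduct.rightAlgebra (R := A) (A := B) (B := X)
  rw [← flatAt_self_iff]
  let q := q'.comap (algebraMap X (B ⊗[A] X))
  have hq : a.map (algebraMap A X) ≤ q := by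
    rw [Ideal.map_le_iff_le_comap]
    intro r hr
    show algebraMap X (B ⊗[A] X) (algebraMap A X r) ∈ q'
    rw [← IsScalarTower.algebraMap_apply, IsScalarTower.algebraMap_apply A B (B ⊗[A] X)]
    exact hq' (Ideal.mem_map_of_mem _ (hab (Ideal.mem_map_of_mem _ hr)))
  have : Algebra.IsPushout A X B (B ⊗[A] X) := Algebra.IsPushout.symm inferInstance
  exact FlatMor.FlatAtBC.flatAt_of_baseChange (Algebra.linearMap X (B ⊗[A] X))
    (IsBaseChange.linearMap X (B ⊗[A] X)) q q' rfl ((flatAt_self_iff q).2 (h q hq))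

/-- flatness transports along isomorphisms of algebras -/
theorem flatAt_self_congr {R S S' : Type u} [CommRing R] [CommRing S] [CommRing S'] [Algebra R S]
    [Algebra R S'] (π : S →ₐ[R] S') (hπ : Bijective π) (Q : Ideal S') [Q.IsPrime] :
    FlatCA.FlatAt R (Q.comap π.toRingHom) S ↔ FlatCA.FlatAt R Q S' :=
  FlatOpen.flatAt_comap_iff R S' π hπ.2 (AlgEquiv.ofBijective π hπ).toLinearEquiv (fun c x => map_mul π c x) Q

/-- finitely many elements of the maximal ideal cut out a flat neighbourhood of the closed fibre -/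
theorem exists_fg_trace {R C : Type u} [CommRing R] [IsLocalRing R] [CommRing C] [Algebra R C]
    (hfl : FlatOn R C (IsLocalRing.maximalIdeal R))
    (π : MvPolynomial (Fin n) R →ₐ[R] C) (hπ : Surjective π) (hF : (RingHom.ker π.toRingHom).FG) :
    ∃ s : Finset R, (↑s : Set R) ⊆ IsLocalRing.maximalIdeal R ∧
      ∀ (N : Type u) [AddCommGroup N] [Module (MvPolynomial (Fin n) R) N] [Module R N]
        [IsScalarTower R (MvPolynomial (Fin n) R) N] (E : N ≃ₗ[R] C), (∀ c x, E (c • x) = π c * E x) →
        ∀ (q : Ideal (MvPolynomial (Fin n) R)) [q.IsPrime],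
          (∀ r ∈ s, MvPolynomial.C r ∈ q) → FlatCA.FlatAt R q N := by
  classical
  let P := MvPolynomial (Fin n) R
  letI : Algebra P C := π.toRingHom.toAlgebra
  haveI : IsScalarTower R P C := IsScalarTower.of_algebraMap_eq fun a => (π.commutes a).symm
  haveI : Module.FinitePresentation P C :=
    Module.finitePresentation_of_surjective (Algebra.linearMap P C) hπ (by
      rw [show LinearMap.ker (Algebra.linearMap P C) = RingHom.ker π.toRingHom from by ext x; rfl]
      exact hF)
  let U := {q : PrimeSpectrum P | FlatCA.FlatAt R q.asIdeal C}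
  have hU : IsOpen U := FlatOpen.isOpen_flatLocus R P C
  obtain ⟨K, hK⟩ := (PrimeSpectrum.isClosed_iff_zeroLocus_ideal _).1 hU.isClosed_compl
  let mP := (IsLocalRing.maximalIdeal R).map (algebraMap R P)
  have hcl : ∀ q : PrimeSpectrum P, mP ≤ q.asIdeal → q ∈ U := by
    intro q hq
    by_cases hk : RingHom.ker π.toRingHom ≤ q.asIdeal
    · have hQ : (q.asIdeal.map π.toRingHom).IsPrime :=
        Ideal.map_isPrime_of_surjective hπ hk
      have hcomap : (q.asIdeal.map π.toRingHom).comap π.toRingHom = q.asIdeal := by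
        refine (Ideal.comap_map_of_surjective π.toRingHom hπ q.asIdeal).trans ?_
        exact sup_eq_left.2 hk
      have hmQ : (IsLocalRing.maximalIdeal R).map (algebraMap R C) ≤ q.asIdeal.map π.toRingHom := by
        have e : (algebraMap R C) = π.toRingHom.comp (algebraMap R P) := (π.comp_algebraMap).symm
        rw [e, ← Ideal.map_map]
        exact Ideal.map_mono hq
      show FlatCA.FlatAt R q.asIdeal C
      refine FlatOpen.flatAt_congr hcomap.symm ?_
      exact (FlatOpen.flatAt_comap_iff R C π hπ (LinearEquiv.refl R C)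
        (fun c x => Algebra.smul_def c x) _).2 ((flatAt_self_iff _).2 (hfl _ hmQ))
    · obtain ⟨g, hg, hgq⟩ := SetLike.not_le_iff_exists.1 hk
      have : Subsingleton (LocalizedModule q.asIdeal.primeCompl C) :=
        LocalizedModule.subsingleton_iff.2 fun x => ⟨g, hgq, by
          rw [Algebra.smul_def, show algebraMap P C g = 0 from hg, zero_mul]⟩
      show Module.Flat R (LocalizedModule q.asIdeal.primeCompl C)
      infer_instance
  have htop : (1 : P) ∈ K ⊔ mP := by
    by_contra h1
    obtain ⟨M, hM, hle⟩ := Ideal.exists_le_maximal _ ((Ideal.ne_top_iff_one _).2 h1)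
    have hm : (⟨M, hM.isPrime⟩ : PrimeSpectrum P) ∈ Uᶜ := by
      rw [hK]
      exact le_sup_left.trans hle
    exact hm (hcl _ (le_sup_right.trans hle))
  obtain ⟨k, hk, z, hz, hkz⟩ := Submodule.mem_sup.1 htop
  obtain ⟨G, hG, hzG⟩ := Submodule.mem_span_finite_of_mem_span
    (show z ∈ Ideal.span (algebraMap R P '' (IsLocalRing.maximalIdeal R : Set R)) from hz)
  obtain ⟨aset, haset, rfl⟩ := Finset.subset_set_image_iff.1 hG
  refine ⟨aset, haset, fun N _ _ _ _ E hE q hqP hq => ?_⟩
  have hz' : z ∈ q := by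
    refine (Submodule.span_le.2 ?_) hzG
    intro y hy
    obtain ⟨r, hr, rfl⟩ := Finset.mem_image.1 hy
    exact hq r hr
  have hk' : k ∉ q := fun hkq => hqP.ne_top ((Ideal.eq_top_iff_one _).2 (hkz ▸ q.add_mem hkq hz'))
  have hC : FlatCA.FlatAt R q C := by
    by_contra hn
    have : (⟨q, hqP⟩ : PrimeSpectrum P) ∈ Uᶜ := hn
    rw [hK] at this
    exact hk' (this hk)
  refine FlatOpen.flatAt_congr (Ideal.comap_id q).symm ?_
  exact (FlatOpen.flatAt_comap_iff R P (M := C) (AlgHom.id R P) Function.surjective_id E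
    (fun c x => (hE c x).trans (Algebra.smul_def c (E x)).symm) q).2 hC

theorem aeval_eq_map {A R C : Type u} [CommRing A] [CommRing R] [CommRing C] [Algebra A R] [Algebra R C]
    [Algebra A C] [IsScalarTower A R C] (π : MvPolynomial (Fin n) R →ₐ[R] C) (w : MvPolynomial (Fin n) A) :
    MvPolynomial.aeval (fun i => π (MvPolynomial.X i)) w = π (MvPolynomial.map (algebraMap A R) w) := by
  induction w using MvPolynomial.induction_on with
  | C r =>
    rw [MvPolynomial.map_C, MvPolynomial.aeval_C, ← MvPolynomial.algebraMap_eq, AlgHom.commutes,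
      ← IsScalarTower.algebraMap_apply]
  | add p q hp hq => simp only [map_add, hp, hq]
  | mul_X p i hp => rw [map_mul, map_mul, map_mul, hp, MvPolynomial.map_X, MvPolynomial.aeval_X]

/-- a presentation with coefficients in `A` gives a base change -/
theorem isBaseChange_quot {A R C : Type u} [CommRing A] [CommRing R] [CommRing C] [Algebra A R] [Algebra R C]
    [Algebra A C] [IsScalarTower A R C] (π : MvPolynomial (Fin n) R →ₐ[R] C) (hπ : Surjective π)
    {X : Type u} [CommRing X] [Algebra A X] (q : MvPolynomial (Fin n) A →ₐ[A] X) (hq : Surjective q)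
    (G : Set (MvPolynomial (Fin n) A)) (hqker : RingHom.ker q.toRingHom = Ideal.span G)
    (hker : RingHom.ker π.toRingHom = Ideal.span (MvPolynomial.map (algebraMap A R) '' G)) :
    ∃ ι : X →ₐ[A] C, IsBaseChange R ι.toLinearMap := by
  let ψ : MvPolynomial (Fin n) A →ₐ[A] C := MvPolynomial.aeval fun i => π (MvPolynomial.X i)
  have hJψ : RingHom.ker q.toRingHom ≤ RingHom.ker ψ.toRingHom := by
    rw [hqker, Ideal.span_le]
    intro g hg
    show ψ g = 0
    rw [aeval_eq_map π g]
    exact hker.ge (Ideal.subset_span ⟨g, hg, rfl⟩)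
  let ι : X →ₐ[A] C := AlgHom.liftOfSurjective q hq ψ hJψ
  have hι : ∀ w, ι (q w) = ψ w := fun w => AlgHom.liftOfSurjective_apply ..
  let gP : MvPolynomial (Fin n) R →ₐ[R] R ⊗[A] X :=
    MvPolynomial.aeval fun i => Algebra.TensorProduct.includeRight (q (MvPolynomial.X i))
  have hgP : ∀ w, gP (MvPolynomial.map (algebraMap A R) w) = (1 : R) ⊗ₜ[A] q w := by
    intro w
    rw [← aeval_eq_map gP w]
    refine AlgHom.congr_fun (φ₂ := (Algebra.TensorProduct.includeRight : X →ₐ[A] R ⊗[A] X).comp q)
      (MvPolynomial.algHom_ext fun i => ?_) w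
    rw [MvPolynomial.aeval_X, MvPolynomial.aeval_X]
    rfl
  have hgker : RingHom.ker π.toRingHom ≤ RingHom.ker gP.toRingHom := by
    rw [hker, Ideal.span_le]
    rintro _ ⟨g, hg, rfl⟩
    show gP _ = 0
    rw [hgP, show q g = 0 from hqker.ge (Ideal.subset_span hg), TensorProduct.tmul_zero]
  let bwd : C →ₐ[R] R ⊗[A] X := AlgHom.liftOfSurjective π hπ gP hgker
  have hbwd : ∀ p, bwd (π p) = gP p := fun p => AlgHom.liftOfSurjective_apply ..
  refine ⟨ι, ?_⟩
  have h1 : (Model.ext R ι).comp bwd = AlgHom.id R C := by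
    refine AlgHom.ext fun c => ?_
    obtain ⟨p, rfl⟩ := hπ c
    show Model.ext R ι (bwd (π p)) = π p
    rw [hbwd]
    refine AlgHom.congr_fun (φ₁ := (Model.ext R ι).comp gP) (φ₂ := π) (MvPolynomial.algHom_ext fun i => ?_) p
    show Model.ext R ι (gP (MvPolynomial.X i)) = _
    rw [MvPolynomial.aeval_X, Algebra.TensorProduct.includeRight_apply, Model.ext_tmul, map_one, one_mul, hι]
    exact MvPolynomial.aeval_X _ i
  have h2 : bwd.comp (Model.ext R ι) = AlgHom.id R _ := by
    refine Algebra.TensorProduct.ext (Subsingleton.elim _ _) (AlgHom.ext fun x => ?_)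
    obtain ⟨w, rfl⟩ := hq x
    show bwd (Model.ext R ι (1 ⊗ₜ q w)) = (1 : R) ⊗ₜ[A] q w
    rw [Model.ext_tmul, map_one, one_mul, hι, aeval_eq_map π w, hbwd, hgP]
  refine IsBaseChange.of_equiv (AlgEquiv.ofAlgHom (Model.ext R ι) bwd h1 h2).toLinearEquiv fun x => ?_
  show Model.ext R ι (1 ⊗ₜ x) = ι x
  rw [Model.ext_tmul, map_one, one_mul]

/-- the model of the algebra with given coefficients -/
theorem exists_model_of_gens {R₀ A R C : Type u} [CommRing R₀] [CommRing A] [IsNoetherianRing A] [CommRing R]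
    [CommRing C] [Algebra R₀ A] [Algebra A R] [Algebra R₀ R] [IsScalarTower R₀ A R] [Algebra R C]
    [Algebra A C] [IsScalarTower A R C] (π : MvPolynomial (Fin n) R →ₐ[R] C) (hπ : Surjective π)
    (G₀ : Set (MvPolynomial (Fin n) R₀))
    (hker : RingHom.ker π.toRingHom = Ideal.span (MvPolynomial.map (algebraMap R₀ R) '' G₀))
    (a₀ : Ideal R₀) (b : Ideal A) (hb : a₀.map (algebraMap R₀ A) ≤ b)
    (hflat : ∀ (Q : Ideal (MvPolynomial (Fin n) A)) [Q.IsPrime],
      (a₀.map MvPolynomial.C).map (MvPolynomial.map (algebraMap R₀ A)) ≤ Q →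
      FlatCA.FlatAt A Q (Quot A (Submodule.span (MvPolynomial (Fin n) R₀) (const R₀ '' G₀) :
        Submodule (MvPolynomial (Fin n) R₀) (Vec n 1 R₀)))) :
    ∃ (X : Type u) (_ : CommRing X) (_ : Algebra A X) (ι : X →ₐ[A] C),
      Algebra.FinitePresentation A X ∧ IsBaseChange R ι.toLinearMap ∧ FlatOn A X b := by
  let G₁ : Set (MvPolynomial (Fin n) A) := MvPolynomial.map (algebraMap R₀ A) '' G₀
  let J₁ : Ideal (MvPolynomial (Fin n) A) := Ideal.span G₁
  let q := Ideal.Quotient.mkₐ A J₁
  have hq : Surjective q := Ideal.Quotient.mk_surjective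
  have hqker : RingHom.ker q.toRingHom = J₁ := Ideal.mk_ker
  have hmm : (MvPolynomial.map (σ := Fin n) (algebraMap A R)).comp (MvPolynomial.map (algebraMap R₀ A)) =
      MvPolynomial.map (algebraMap R₀ R) :=
    MvPolynomial.ringHom_ext (fun r => by
      rw [RingHom.comp_apply, MvPolynomial.map_C, MvPolynomial.map_C, MvPolynomial.map_C]
      exact congrArg MvPolynomial.C (IsScalarTower.algebraMap_apply R₀ A R r).symm)
      fun i => by rw [RingHom.comp_apply, MvPolynomial.map_X, MvPolynomial.map_X, MvPolynomial.map_X]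
  obtain ⟨ι, hι⟩ := isBaseChange_quot π hπ q hq G₁ hqker (by
    rw [hker, Set.image_image, ← hmm]
    rfl)
  refine ⟨_, inferInstance, inferInstance, ι,
    Algebra.FinitePresentation.quotient (I := J₁) (IsNoetherian.noetherian J₁), hι, fun Q hQp hQ => ?_⟩
  rw [← flatAt_self_iff]
  obtain ⟨E₁, hE₁⟩ := exists_quot_equiv A q hq G₀ hqker
  refine (FlatOpen.flatAt_comap_iff A _ q hq E₁ hE₁ Q).1 (hflat _ ?_)
  rw [Ideal.map_le_iff_le_comap, Ideal.map_le_iff_le_comap]
  intro r hr
  simp only [Ideal.mem_comap, MvPolynomial.map_C]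
  exact hQ (Ideal.mem_map_of_mem _ (hb (Ideal.mem_map_of_mem _ hr)))

/-- a finitely presented algebra over a local ring, flat along the closed fibre, has a finitely
generated model, flat along the trace of the maximal ideal -/
theorem exists_algebra_model (R C : Type u) [CommRing R] [IsLocalRing R] [CommRing C] [Algebra R C]
    [Algebra.FinitePresentation R C]
    (hfl : FlatOn R C (IsLocalRing.maximalIdeal R)) :
    ∃ (A : Type u) (_ : CommRing A) (_ : IsNoetherianRing A) (_ : Algebra A R) (_ : Algebra A C)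
      (_ : IsScalarTower A R C) (X : Type u) (_ : CommRing X) (_ : Algebra A X) (ι : X →ₐ[A] C),
      Algebra.FinitePresentation A X ∧ IsBaseChange R ι.toLinearMap ∧
        FlatOn A X ((IsLocalRing.maximalIdeal R).comap (algebraMap A R)) := by
  classical
  obtain ⟨n, π, hπ, F, hF⟩ := (inferInstance : Algebra.FinitePresentation R C).out
  obtain ⟨aset, haset, hflatC⟩ := exists_fg_trace hfl π hπ ⟨F, hF⟩
  let co : Finset R := (F.biUnion fun v => v.coeffs) ∪ aset
  let R₀ := Algebra.adjoin ℤ (co : Set R)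
  haveI : IsNoetherianRing R₀ := isNoetherianRing_of_fg ⟨co, rfl⟩
  have hlift : ∀ v ∈ F, ∃ w : MvPolynomial (Fin n) R₀, MvPolynomial.map (algebraMap R₀ R) w = v :=
    fun v hv => MvPolynomial.mem_range_map_iff_coeffs_subset.2 fun x hx =>
      ⟨⟨x, Algebra.subset_adjoin (Finset.mem_union_left _ (Finset.mem_biUnion.2 ⟨v, hv, hx⟩))⟩, rfl⟩
  choose! v₀ hv₀ using hlift
  let G₀ : Set (MvPolynomial (Fin n) R₀) := v₀ '' (F : Set (MvPolynomial (Fin n) R))
  have hker : RingHom.ker π.toRingHom = Ideal.span (MvPolynomial.map (algebraMap R₀ R) '' G₀) := by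
    rw [← hF, Set.image_image]
    exact congrArg _ ((Set.image_congr hv₀).trans (Set.image_id' _)).symm
  let Z₀ : Submodule (MvPolynomial (Fin n) R₀) (Vec n 1 R₀) :=
    Submodule.span (MvPolynomial (Fin n) R₀) (const R₀ '' G₀)
  obtain ⟨E, hE⟩ := exists_quot_equiv R π hπ G₀ hker
  let a₀ : Ideal R₀ := (IsLocalRing.maximalIdeal R).comap (algebraMap R₀ R)
  obtain ⟨R₁, hR₁, hflat⟩ := FlatOpen.exists_model_flatOn Z₀ R (a₀.map MvPolynomial.C) (fun q _ hq =>
    hflatC _ E hE q fun r hr => by
      refine hq ?_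
      have hr0 : (⟨r, Algebra.subset_adjoin (Finset.mem_union_right _ hr)⟩ : R₀) ∈ a₀ := haset hr
      have := Ideal.mem_map_of_mem (MvPolynomial.map (σ := Fin n) (algebraMap R₀ R))
        (Ideal.mem_map_of_mem (MvPolynomial.C : R₀ →+* _) hr0)
      rwa [MvPolynomial.map_C] at this)
  haveI : IsNoetherianRing R₁ := isNoetherianRing_of_fg hR₁
  obtain ⟨X, _, _, ι, hfp, hι, hX⟩ := exists_model_of_gens (A := R₁) π hπ G₀ hker a₀
    ((IsLocalRing.maximalIdeal R).comap (algebraMap R₁ R)) (by
      rw [Ideal.map_le_iff_le_comap]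
      intro r hr
      simp only [Ideal.mem_comap]
      rw [← IsScalarTower.algebraMap_apply R₀ R₁ R r]
      exact hr) hflat
  exact ⟨R₁, inferInstance, inferInstance, inferInstance, inferInstance, inferInstance,
    X, inferInstance, inferInstance, ι, hfp, hι, hX⟩

open Model in
/-- localisation of a model at the trace of the maximal ideal -/
theorem exists_localised {T R C : Type u} [CommRing T] [IsNoetherianRing T] [CommRing R] [IsLocalRing R]
    [CommRing C] [HopfAlgebra R C] [Algebra T R] [Algebra T C] [IsScalarTower T R C]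
    {Z : Type u} [CommRing Z] [Algebra T Z] [Algebra.FiniteType T Z]
    (d : Data T Z) (hd : d.IsHopf) (ι : Z →ₐ[T] C) (hbc : IsBaseChange R ι.toLinearMap)
    (hcompat : Compat ι d (ofHopf R C))
    (hflat : FlatOn T Z ((IsLocalRing.maximalIdeal R).comap (algebraMap T R))) :
    ∃ (A : Type u) (_ : CommRing A) (_ : IsLocalRing A) (_ : IsNoetherianRing A) (_ : Algebra A R)
      (_ : IsLocalHom (algebraMap A R)) (X : Type u) (_ : CommRing X) (_ : HopfAlgebra A X),
      Algebra.FiniteType A X ∧ FlatOn A X (IsLocalRing.maximalIdeal A) ∧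
        Nonempty (R ⊗[A] X ≃ₐc[R] C) := by
  let mT := (IsLocalRing.maximalIdeal R).comap (algebraMap T R)
  haveI : mT.IsPrime := Ideal.IsPrime.comap _
  let A := Localization.AtPrime mT
  let φ : A →+* R := IsLocalization.lift (M := mT.primeCompl) (g := algebraMap T R) fun t => by
    by_contra h
    exact t.2 h
  letI : Algebra A R := φ.toAlgebra
  haveI : IsScalarTower T A R := IsScalarTower.of_algebraMap_eq fun t => (IsLocalization.lift_eq _ t).symm
  letI : Algebra A C := ((algebraMap R C).comp φ).toAlgebra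
  haveI : IsScalarTower A R C := IsScalarTower.of_algebraMap_eq fun _ => rfl
  haveI : IsScalarTower T A C := IsScalarTower.of_algebraMap_eq fun t => by
    rw [IsScalarTower.algebraMap_apply T R C, IsScalarTower.algebraMap_apply T A R]
    rfl
  have hloc : IsLocalHom (algebraMap A R) := by
    refine ⟨fun a ha => ?_⟩
    by_contra h
    obtain ⟨⟨x, t⟩, hxt⟩ := IsLocalization.surj mT.primeCompl a
    have hx : x ∈ mT := by
      by_contra hx
      have h1 : IsUnit (algebraMap T A x) := IsLocalization.map_units A (⟨x, hx⟩ : mT.primeCompl)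
      rw [← hxt] at h1
      exact h (isUnit_of_mul_isUnit_left h1)
    have h2 := congrArg (algebraMap A R) hxt
    rw [map_mul, ← IsScalarTower.algebraMap_apply, ← IsScalarTower.algebraMap_apply] at h2
    have h3 : IsUnit (algebraMap T R (t : T)) := by
      by_contra ht
      exact t.2 ht
    exact (show algebraMap T R x ∈ IsLocalRing.maximalIdeal R from hx) (h2 ▸ ha.mul h3)
  letI : HopfAlgebra A (A ⊗[T] Z) := (d.bc A).toHopf (hd.bc A)
  have hcA := compat_ext A hcompat
  obtain ⟨e, -⟩ := exists_bialgEquiv (Model.ext A ι) (isBaseChange_ext A hbc)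
    (fun x => hcA.comul x) (fun x => hcA.counit x)
  refine ⟨A, inferInstance, inferInstance, IsLocalization.isNoetherianRing mT.primeCompl A inferInstance,
    inferInstance, hloc, A ⊗[T] Z, inferInstance, inferInstance, inferInstance, ?_, ⟨e⟩⟩
  exact hflat.bc A (IsLocalization.AtPrime.map_eq_maximalIdeal mT A).le

theorem comap_map_le {A B R : Type u} [CommRing A] [CommRing B] [CommRing R] [Algebra A B] [Algebra A R]
    [Algebra B R] [IsScalarTower A B R] (I : Ideal R) :
    (I.comap (algebraMap A R)).map (algebraMap A B) ≤ I.comap (algebraMap B R) := by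
  rw [Ideal.map_le_iff_le_comap, Ideal.comap_comap, ← IsScalarTower.algebraMap_eq]

open Model in
/-- Noetherian local model -/
theorem exists_local_model (R C : Type u) [CommRing R] [IsLocalRing R] [CommRing C] [HopfAlgebra R C]
    [Algebra.FinitePresentation R C] (hfl : FlatOn R C (IsLocalRing.maximalIdeal R)) :
    ∃ (A : Type u) (_ : CommRing A) (_ : IsLocalRing A) (_ : IsNoetherianRing A) (_ : Algebra A R)
      (_ : IsLocalHom (algebraMap A R)) (X : Type u) (_ : CommRing X) (_ : HopfAlgebra A X),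
      Algebra.FiniteType A X ∧ FlatOn A X (IsLocalRing.maximalIdeal A) ∧
        Nonempty (R ⊗[A] X ≃ₐc[R] C) := by
  obtain ⟨B, _, _, _, _, _, Y, _, _, ι, hfp, hι, hflat⟩ := exists_algebra_model R C hfl
  obtain ⟨S, T, d, hS, hT, hd, hbc, hcompat⟩ := exists_hopf_model ι hι
  haveI : IsNoetherianRing S := isNoetherianRing_of_fg hS
  haveI : IsNoetherianRing T := isNoetherianRing_of_fg hT
  haveI : Algebra.FiniteType B Y := inferInstance
  haveI : Algebra.FiniteType S (S ⊗[B] Y) := inferInstance
  haveI : Algebra.FiniteType T (T ⊗[S] (S ⊗[B] Y)) := inferInstance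
  exact exists_localised d hd (Model.ext T (Model.ext S ι)) hbc hcompat
    ((hflat.bc S (comap_map_le _)).bc T (comap_map_le _))

end

end Groth.Agent.MultType.ModelFlat
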