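import Groth.Agent.MultType.LiftApps

/-!
# The type of a group of multiplicative type is detected on one reduction
-/

open Coalgebra TensorProduct

universe u

namespace Groth.Agent.MultType.TorusType

noncomputable section

variable {A : Type u} [CommRing A] {C : Type u} [CommRing C] [HopfAlgebra A C]

/-- a bialgebra isomorphism of group algebras over a domain comes from the groups -/
theorem nonempty_mulEquiv {K : Type u} [CommRing K] [IsDomain K] {M N : Type u} [CommGroup M] [CommGroup N]
    (f : MonoidAlgebra K M ≃ₐc[K] MonoidAlgebra K N) : Nonempty (M ≃* N) := by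
  let F := MonoidAlgebra.mapDomainOfBialgHom (f : MonoidAlgebra K M →ₐc[K] MonoidAlgebra K N)
  let G := MonoidAlgebra.mapDomainOfBialgHom (f.symm : MonoidAlgebra K N →ₐc[K] MonoidAlgebra K M)
  refine ⟨{ F with invFun := G, left_inv := fun m => ?_, right_inv := fun n => ?_ }⟩
  · apply MonoidAlgebra.single_left_injective (R := K) one_ne_zero
    change MonoidAlgebra.single (G (F m)) (1 : K) = MonoidAlgebra.single m 1
    rw [MonoidAlgebra.single_mapDomainOfBialgHom, MonoidAlgebra.single_mapDomainOfBialgHom]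
    exact f.toAlgEquiv.symm_apply_apply _
  · apply MonoidAlgebra.single_left_injective (R := K) one_ne_zero
    change MonoidAlgebra.single (F (G n)) (1 : K) = MonoidAlgebra.single n 1
    rw [MonoidAlgebra.single_mapDomainOfBialgHom, MonoidAlgebra.single_mapDomainOfBialgHom]
    exact f.toAlgEquiv.apply_symm_apply _

/-- if the reduction modulo an ideal in the radical of an isotrivial group is a torus, so is the group -/
theorem isTorus_of_red (I : Ideal A) (hI : I ≤ Ideal.jacobson ⊥) (hC : SGA3b.IsIsotrivial A C)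
    (h0 : SGA3b.IsTorus (A ⧸ I) ((A ⧸ I) ⊗[A] C)) : SGA3b.IsTorus A C := by
  classical
  rcases subsingleton_or_nontrivial A with hA | hA
  · exact ⟨∅, Subsingleton.elim _ _, fun f hf => hf.elim⟩
  obtain ⟨T, _, _, _, _, hff, M, _, ⟨e⟩⟩ := hC
  obtain ⟨m, hm⟩ := Ideal.exists_maximal A
  haveI := hm
  have hIm : I ≤ m := le_trans hI (sInf_le ⟨bot_le, hm⟩)
  obtain ⟨s, hs, hloc⟩ := h0
  obtain ⟨f, hf, hfm⟩ : ∃ f ∈ s, f ∉ m.map (Ideal.Quotient.mk I) := by
    by_contra! hcon
    have h1 : m.map (Ideal.Quotient.mk I) = ⊤ := top_le_iff.mp (hs ▸ Ideal.span_le.mpr hcon)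
    have h2 := congrArg (Ideal.comap (Ideal.Quotient.mk I)) h1
    rw [Ideal.comap_map_of_surjective' _ Ideal.Quotient.mk_surjective, Ideal.mk_ker, sup_eq_left.mpr hIm,
      Ideal.comap_top] at h2
    exact hm.ne_top h2
  obtain ⟨R', _, _, hR', n, ⟨g⟩⟩ := hloc f hf
  let L := Localization.Away f
  letI : Algebra (A ⧸ I) R' := ((algebraMap L R').comp (algebraMap (A ⧸ I) L)).toAlgebra
  haveI : IsScalarTower (A ⧸ I) L R' := IsScalarTower.of_algebraMap_eq fun x => rfl
  letI : Algebra A R' := ((algebraMap (A ⧸ I) R').comp (algebraMap A (A ⧸ I))).toAlgebra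
  haveI : IsScalarTower A (A ⧸ I) R' := IsScalarTower.of_algebraMap_eq fun x => rfl
  haveI : Nontrivial L := by
    by_contra hL
    rw [not_nontrivial_iff_subsingleton] at hL
    have h1 : algebraMap (A ⧸ I) L 1 = algebraMap (A ⧸ I) L 0 := Subsingleton.elim _ _
    obtain ⟨⟨_, k, rfl⟩, hk⟩ := (IsLocalization.eq_iff_exists (Submonoid.powers f) L).mp h1
    simp only [mul_one, mul_zero] at hk
    have hprime : (m.map (Ideal.Quotient.mk I)).IsPrime :=
      Ideal.map_isPrime_of_surjective Ideal.Quotient.mk_surjective (by rw [Ideal.mk_ker]; exact hIm)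
    exact hfm (hprime.mem_of_pow_mem k (hk ▸ zero_mem _))
  haveI : Nontrivial R' := by
    haveI := Module.FaithfullyFlat.rTensor_nontrivial (R := L) R' L
    exact (TensorProduct.lid L R').symm.toEquiv.nontrivial
  haveI : Nontrivial (T ⊗[A] R') := by
    haveI := Module.FaithfullyFlat.lTensor_nontrivial (R := A) T R'
    infer_instance
  let W := T ⊗[A] R'
  obtain ⟨p, hp⟩ := Ideal.exists_maximal W
  haveI := hp
  let K := W ⧸ p
  letI : Field K := Ideal.Quotient.field p
  let gT : T →ₐ[A] K := (Ideal.Quotient.mkₐ A p).comp Algebra.TensorProduct.includeLeft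
  let gR : R' →ₐ[A] K := (Ideal.Quotient.mkₐ A p).comp Algebra.TensorProduct.includeRight
  let g' : R' ⊗[A] C ≃ₐc[R'] MonoidAlgebra R' (ULift.{u} (Multiplicative (Fin n → ℤ))) :=
    (((Split.cancel (R := A) (S := A ⧸ I) (T := R') (A := C)).symm.trans
      (Split.cancel (R := A ⧸ I) (S := L) (T := R') (A := (A ⧸ I) ⊗[A] C)).symm).trans g).trans
      (MonoidAlgebra.domCongrBialgEquiv R' R' MulEquiv.ulift.symm)
  obtain ⟨σ⟩ := nonempty_mulEquiv (K := K) ((GLLift.extend e gT).symm.trans (GLLift.extend g' gR))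
  refine ⟨{1}, Ideal.span_singleton_one, ?_⟩
  rintro f₁ (rfl : f₁ = 1)
  let S := Localization.Away (1 : A)
  let W₁ := S ⊗[A] T
  exact ⟨W₁, inferInstance, inferInstance, inferInstance, n,
    ⟨((Split.cancel (R := A) (S := S) (T := W₁) (A := C)).trans
      (GLLift.extend e (Algebra.TensorProduct.includeRight : T →ₐ[A] W₁))).trans
      (MonoidAlgebra.domCongrBialgEquiv W₁ W₁ (σ.trans MulEquiv.ulift))⟩⟩

/-- an idempotent vanishing in every fibre is zero -/
theorem eq_zero_of_fibres {e : C} (he : IsIdempotentElem e)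
    (h : ∀ (p : Ideal A) [p.IsPrime], (1 : p.ResidueField) ⊗ₜ[A] e = 0) : e = 0 := by
  refine he.eq_zero_of_isNilpotent ?_
  rw [nilpotent_iff_mem_prime]
  intro q hq
  let p := q.comap (algebraMap A C)
  let g : p.ResidueField ⊗[A] C →ₐ[A] q.ResidueField :=
    Algebra.TensorProduct.lift (Ideal.ResidueField.mapₐ p q (Algebra.ofId A C) rfl)
      (IsScalarTower.toAlgHom A C q.ResidueField) fun _ _ => Commute.all _ _
  have h1 := congrArg g (h p)
  rw [map_zero, Algebra.TensorProduct.lift_tmul, map_one, one_mul] at h1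
  exact Ideal.algebraMap_residueField_eq_zero.mp h1

/-- an idempotent in the augmentation ideal vanishes if the fibres are connected -/
theorem eq_zero_of_connected {e : C} (he : IsIdempotentElem e) (hε : counit (R := A) e = 0)
    (hconn : ∀ (p : Ideal A) [p.IsPrime], ConnectedSpace (PrimeSpectrum (p.ResidueField ⊗[A] C))) : e = 0 := by
  refine eq_zero_of_fibres (A := A) he fun p _ => ?_
  let x : p.ResidueField ⊗[A] C := (1 : p.ResidueField) ⊗ₜ[A] e
  have hx : IsIdempotentElem x := by
    change _ * _ = _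
    rw [Algebra.TensorProduct.tmul_mul_tmul, one_mul, he.eq]
  haveI := hconn p
  have hclo : IsClopen (PrimeSpectrum.basicOpen x : Set (PrimeSpectrum (p.ResidueField ⊗[A] C))) :=
    ⟨PrimeSpectrum.basicOpen_eq_zeroLocus_of_mul_add x (1 - x) (by rw [mul_sub, mul_one, hx.eq, sub_self])
      (add_sub_cancel x 1) ▸ PrimeSpectrum.isClosed_zeroLocus _, (PrimeSpectrum.basicOpen x).2⟩
  rcases isClopen_iff.mp hclo with h | h
  · exact hx.eq_zero_of_isNilpotent ((PrimeSpectrum.basicOpen_eq_bot_iff x).mp (SetLike.coe_injective h))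
  · exfalso
    have hu : IsUnit x := by
      by_contra hnu
      obtain ⟨q, hq, hxq⟩ := exists_max_ideal_of_mem_nonunits (mem_nonunits_iff.mpr hnu)
      exact (h ▸ trivial : (⟨q, hq.isPrime⟩ : PrimeSpectrum _) ∈ (PrimeSpectrum.basicOpen x : Set _)) hxq
    have h1 : x = 1 := hu.mul_left_cancel (by rw [hx.eq, mul_one])
    have h2 := congrArg (counit (R := p.ResidueField)) h1
    simp [x, TensorProduct.counit_tmul, hε] at h2

end

end Groth.Agent.MultType.TorusType
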