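import Groth.Agent.S5285
import Groth.Agent.MultType.ModelFlat
import Groth.Agent.MultType.TorusType
import Groth.Agent.MultType.TorsionFinite
import Groth.Agent.MultType.GeomConn
import Groth.Agent.RegLoc.Completion

/-!
# Groups over a local ring with closed fibre of multiplicative type

* `exists_clopen_split`: after a faithfully flat local extension an open and closed isotrivial subgroup
  contains the closed fibre.
* `isMultType_of_connected`, `isMultType_of_torsion_finite`.
-/

open Coalgebra TensorProduct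

universe u

namespace Groth.Agent.MultType.LocalMult

noncomputable section

section BaseChange

variable {R : Type u} [CommRing R] (U : Type u) [CommRing U] [Algebra R U]

/-- base change of an equivalence -/
def congrBC {A A' : Type u} [CommRing A] [HopfAlgebra R A] [CommRing A'] [HopfAlgebra R A'] (e : A ≃ₐc[R] A') :
    U ⊗[R] A ≃ₐc[U] U ⊗[R] A' :=
  { Bialgebra.TensorProduct.map (BialgHom.id U U) (e : A →ₐc[R] A'),
    Algebra.TensorProduct.congr (AlgEquiv.refl : U ≃ₐ[U] U) e.toAlgEquiv with }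

theorem congrBC_tmul {A A' : Type u} [CommRing A] [HopfAlgebra R A] [CommRing A'] [HopfAlgebra R A']
    (e : A ≃ₐc[R] A') (x : U) (a : A) : congrBC U e (x ⊗ₜ a) = x ⊗ₜ e a := rfl

theorem isIsotrivial_bc {A : Type u} [CommRing A] [HopfAlgebra R A] (h : SGA3b.IsIsotrivial R A) :
    SGA3b.IsIsotrivial U (U ⊗[R] A) := by
  obtain ⟨T, _, _, het, hfin, hff, M, _, ⟨e⟩⟩ := h
  exact ⟨U ⊗[R] T, inferInstance, inferInstance, inferInstance, inferInstance, inferInstance, M, inferInstance,
    ⟨(Split.cancel (R := R) (S := U) (T := U ⊗[R] T) (A := A)).trans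
      (GLLift.extend e (Algebra.TensorProduct.includeRight : T →ₐ[R] U ⊗[R] T))⟩⟩

open WithConv in
theorem powConv_one_tmul {C : Type u} [CommRing C] [HopfAlgebra R C] [Coalgebra.IsCocomm R C] (n : ℕ) (c : C) :
    SGA3b.powConv U (U ⊗[R] C) n (1 ⊗ₜ c) = (1 : U) ⊗ₜ[R] SGA3b.powConv R C n c := by
  let h : WithConv (C →ₐ[R] U ⊗[R] C) := toConv Algebra.TensorProduct.includeRight
  have h1 : TorsionFinite.hat (K := U) h = toConv (AlgHom.id U (U ⊗[R] C)) := by
    apply WithConv.ext
    refine Sq.eq_of_one_tmul fun b => ?_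
    rw [TorsionFinite.hat_one_tmul]
    rfl
  have h2 : SGA3b.powConv U (U ⊗[R] C) n (1 ⊗ₜ c) = (h ^ n) c := by
    rw [SGA3b.powConv, ← h1, ← TorsionFinite.hat_pow, TorsionFinite.hat_one_tmul]
  rw [h2, ← TorsionFinite.comp_powConv]
  rfl

theorem finite_torsion_bc {C : Type u} [CommRing C] [HopfAlgebra R C] [Coalgebra.IsCocomm R C] (n : ℕ)
    [Module.Finite R (C ⧸ SGA3b.torsionIdeal R C n)] :
    Module.Finite U ((U ⊗[R] C) ⧸ SGA3b.torsionIdeal U (U ⊗[R] C) n) := by
  let J' := SGA3b.torsionIdeal U (U ⊗[R] C) n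
  let g : C →ₐ[R] (U ⊗[R] C) ⧸ J' :=
    ((Ideal.Quotient.mkₐ U J').restrictScalars R).comp Algebra.TensorProduct.includeRight
  have hg : ∀ a ∈ SGA3b.torsionIdeal R C n, g a = 0 := by
    suffices h : SGA3b.torsionIdeal R C n ≤ RingHom.ker g from fun a ha => h ha
    refine Ideal.map_le_iff_le_comap.mpr fun x hx => ?_
    change Ideal.Quotient.mk J' ((1 : U) ⊗ₜ[R] SGA3b.powConv R C n x) = 0
    rw [← powConv_one_tmul, Ideal.Quotient.eq_zero_iff_mem]
    refine Ideal.mem_map_of_mem _ ?_
    change counit (R := U) ((1 : U) ⊗ₜ[R] x) = 0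
    rw [TensorProduct.counit_tmul, show counit (R := R) x = 0 from hx, zero_smul]
  let f : U ⊗[R] (C ⧸ SGA3b.torsionIdeal R C n) →ₐ[U] (U ⊗[R] C) ⧸ J' :=
    Algebra.TensorProduct.lift (Algebra.ofId U _) (Ideal.Quotient.liftₐ _ g hg) fun _ _ => Commute.all _ _
  refine Module.Finite.of_surjective f.toLinearMap fun y => ?_
  obtain ⟨z, rfl⟩ := Ideal.Quotient.mk_surjective y
  induction z using TensorProduct.induction_on with
  | zero => exact ⟨0, map_zero _⟩
  | add a b ha hb =>
    obtain ⟨x, hx⟩ := ha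
    obtain ⟨x', hx'⟩ := hb
    exact ⟨x + x', by rw [map_add, hx, hx', map_add]⟩
  | tmul t c =>
    refine ⟨t ⊗ₜ Ideal.Quotient.mk _ c, ?_⟩
    change algebraMap U _ t * Ideal.Quotient.mk J' ((1 : U) ⊗ₜ[R] c) = _
    rw [IsScalarTower.algebraMap_apply U (U ⊗[R] C), Ideal.Quotient.algebraMap_eq, ← map_mul,
      Algebra.TensorProduct.algebraMap_apply, Algebra.algebraMap_self_apply,
      Algebra.TensorProduct.tmul_mul_tmul, mul_one, one_mul]

theorem isMultType_of_isotrivial_ff [Module.FaithfullyFlat R U] {C : Type u} [CommRing C] [HopfAlgebra R C]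
    (h : SGA3b.IsIsotrivial U (U ⊗[R] C)) : SGA3b.IsMultType R C := by
  obtain ⟨T, _, _, _, _, hff, M, _, ⟨e⟩⟩ := h
  letI : Algebra R T := ((algebraMap U T).comp (algebraMap R U)).toAlgebra
  haveI : IsScalarTower R U T := IsScalarTower.of_algebraMap_eq fun _ => rfl
  haveI : Module.FaithfullyFlat R T := Module.FaithfullyFlat.trans R U T
  exact Diag.isMultType_of_diag T ⟨M, inferInstance, ⟨(Split.cancel (R := R) (S := U) (T := T) (A := C)).symm.trans e⟩⟩

end BaseChange

/-- a closed fibre of multiplicative type remains so over any field extension of the residue field of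
the model -/
theorem isMultType_model_fibre {A R : Type u} [CommRing A] [IsLocalRing A] [CommRing R] [IsLocalRing R]
    [Algebra A R] [IsLocalHom (algebraMap A R)] {X : Type u} [CommRing X] [HopfAlgebra A X]
    {C : Type u} [CommRing C] [HopfAlgebra R C] (E : R ⊗[A] X ≃ₐc[R] C)
    (hs : SGA3b.IsMultType (IsLocalRing.ResidueField R) (IsLocalRing.ResidueField R ⊗[R] C)) :
    SGA3b.IsMultType (IsLocalRing.ResidueField A) (IsLocalRing.ResidueField A ⊗[A] X) := by
  let k := IsLocalRing.ResidueField R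
  let k₀ := IsLocalRing.ResidueField A
  obtain ⟨K, _, _, M, _, ⟨e⟩⟩ := Diag.exists_field_split hs
  letI : Algebra R K := ((algebraMap k K).comp (algebraMap R k)).toAlgebra
  haveI : IsScalarTower R k K := IsScalarTower.of_algebraMap_eq fun _ => rfl
  letI : Algebra A K := ((algebraMap R K).comp (algebraMap A R)).toAlgebra
  haveI : IsScalarTower A R K := IsScalarTower.of_algebraMap_eq fun _ => rfl
  letI : Algebra k₀ K := ((algebraMap k K).comp (IsLocalRing.ResidueField.map (algebraMap A R))).toAlgebra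
  haveI : IsScalarTower A k₀ K := IsScalarTower.of_algebraMap_eq fun a => by
    change _ = algebraMap k K (IsLocalRing.ResidueField.map (algebraMap A R) (IsLocalRing.residue A a))
    rw [IsLocalRing.ResidueField.map_residue]
    rfl
  refine Diag.isMultType_of_diag K ⟨M, inferInstance, ⟨?_⟩⟩
  exact (Split.cancel (R := A) (S := k₀) (T := K) (A := X)).trans
    ((Split.cancel (R := A) (S := R) (T := K) (A := X)).symm.trans ((congrBC K E).trans
      ((Split.cancel (R := R) (S := k) (T := K) (A := C)).symm.trans e)))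

/-- isotriviality over the residue field of a completion -/
theorem isIsotrivial_of_residue {A : Type u} [CommRing A] [IsLocalRing A] {B : Type u} [CommRing B]
    [IsLocalRing B] [Algebra A B] [IsLocalHom (algebraMap A B)] {X : Type u} [CommRing X] [HopfAlgebra A X]
    [Algebra.FiniteType A X]
    (h : SGA3b.IsMultType (IsLocalRing.ResidueField A) (IsLocalRing.ResidueField A ⊗[A] X)) :
    SGA3b.IsIsotrivial (B ⧸ IsLocalRing.maximalIdeal B)
      ((B ⧸ IsLocalRing.maximalIdeal B) ⊗[B] (B ⊗[A] X)) := by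
  let k₀ := IsLocalRing.ResidueField A
  let k₁ := B ⧸ IsLocalRing.maximalIdeal B
  letI : Field k₁ := Ideal.Quotient.field (IsLocalRing.maximalIdeal B)
  have hI : IsLocalRing.maximalIdeal A ≤ RingHom.ker (algebraMap A k₁) := fun a ha => by
    rw [RingHom.mem_ker, IsScalarTower.algebraMap_apply A B k₁, Ideal.Quotient.algebraMap_eq,
      Ideal.Quotient.eq_zero_iff_mem]
    exact map_nonunit (algebraMap A B) a ha
  letI : Algebra k₀ k₁ := (Ideal.Quotient.lift (IsLocalRing.maximalIdeal A) (algebraMap A k₁) hI).toAlgebra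
  haveI : IsScalarTower A k₀ k₁ := IsScalarTower.of_algebraMap_eq fun _ => rfl
  exact LiftApps.isIsotrivial_of_equiv
    ((Split.cancel (R := A) (S := k₀) (T := k₁) (A := X)).trans
      (Split.cancel (R := A) (S := B) (T := k₁) (A := X)).symm)
    (LiftApps.isIsotrivial_field (Isotrivial.isMultType_field h k₁) inferInstance)

/-- a local faithfully flat extension containing a given local extension of the model -/
theorem exists_local_ext {A R B : Type u} [CommRing A] [IsLocalRing A] [CommRing R] [IsLocalRing R]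
    [CommRing B] [IsLocalRing B] [Algebra A R] [IsLocalHom (algebraMap A R)] [Algebra A B]
    [Module.FaithfullyFlat A B] (hm : (IsLocalRing.maximalIdeal A).map (algebraMap A B) = IsLocalRing.maximalIdeal B) :
    ∃ (U : Type u) (_ : CommRing U) (_ : IsLocalRing U) (_ : Algebra R U) (_ : Algebra B U) (_ : Algebra A U),
      IsScalarTower A R U ∧ IsScalarTower A B U ∧ Module.FaithfullyFlat R U ∧
        IsLocalHom (algebraMap B U) := by
  let k := IsLocalRing.ResidueField R
  haveI : Nontrivial (k ⊗[A] B) := Module.FaithfullyFlat.rTensor_nontrivial (R := A) B k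
  obtain ⟨M, hM⟩ := Ideal.exists_maximal (k ⊗[A] B)
  let ψ : R ⊗[A] B →ₐ[A] k ⊗[A] B :=
    Algebra.TensorProduct.map (IsScalarTower.toAlgHom A R k) (AlgHom.id A B)
  let P := M.comap ψ
  haveI : P.IsPrime := Ideal.IsPrime.comap _
  letI : Algebra B (R ⊗[A] B) := Algebra.TensorProduct.rightAlgebra
  let U := Localization.AtPrime P
  have hR : ∀ r ∈ IsLocalRing.maximalIdeal R, algebraMap R (R ⊗[A] B) r ∈ P := fun r hr => by
    change ψ (r ⊗ₜ 1) ∈ M
    rw [show ψ (r ⊗ₜ 1) = algebraMap R k r ⊗ₜ[A] (1 : B) from rfl,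
      show algebraMap R k r = 0 from (IsLocalRing.residue_eq_zero_iff r).mpr hr, TensorProduct.zero_tmul]
    exact zero_mem _
  have hcomap : P.comap (algebraMap R (R ⊗[A] B)) = IsLocalRing.maximalIdeal R :=
    ((IsLocalRing.maximalIdeal.isMaximal R).eq_of_le (Ideal.IsPrime.comap _).ne_top hR).symm
  have hcomapB : P.comap (algebraMap B (R ⊗[A] B)) = IsLocalRing.maximalIdeal B := by
    refine ((IsLocalRing.maximalIdeal.isMaximal B).eq_of_le (Ideal.IsPrime.comap _).ne_top ?_).symm
    rw [← hm, Ideal.map_le_iff_le_comap]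
    intro a ha
    change algebraMap B (R ⊗[A] B) (algebraMap A B a) ∈ P
    rw [← IsScalarTower.algebraMap_apply, IsScalarTower.algebraMap_apply A R (R ⊗[A] B)]
    exact hR _ (map_nonunit (algebraMap A R) a ha)
  haveI : Module.Flat R U :=
    haveI : Module.Flat (R ⊗[A] B) U := IsLocalization.flat U P.primeCompl
    Module.Flat.trans R (R ⊗[A] B) U
  have loc : ∀ {S : Type u} [CommRing S] [IsLocalRing S] [Algebra S (R ⊗[A] B)],
      P.comap (algebraMap S (R ⊗[A] B)) = IsLocalRing.maximalIdeal S →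
      IsLocalHom ((algebraMap (R ⊗[A] B) U).comp (algebraMap S (R ⊗[A] B))) := by
    intro S _ _ _ h
    refine ⟨fun s hs => ?_⟩
    by_contra hns
    have h1 : algebraMap S (R ⊗[A] B) s ∈ P := by
      rw [← Ideal.mem_comap, h]
      exact hns
    exact ((IsLocalization.AtPrime.isUnit_to_map_iff U P _).mp hs) h1
  haveI : IsLocalHom (algebraMap R U) := by
    rw [IsScalarTower.algebraMap_eq R (R ⊗[A] B) U]
    exact loc hcomap
  refine ⟨U, inferInstance, inferInstance, inferInstance, inferInstance, inferInstance, inferInstance,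
    inferInstance, Module.FaithfullyFlat.of_flat_of_isLocalHom, ?_⟩
  rw [IsScalarTower.algebraMap_eq B (R ⊗[A] B) U]
  exact loc hcomapB

theorem ker_map_mkBialgHom {B U Y D₀ : Type u} [CommRing B] [CommRing U] [Algebra B U] [CommRing Y] [HopfAlgebra B Y]
    [CommRing D₀] [HopfAlgebra B D₀] {e : Y} (π : Y →ₐc[B] D₀) (hπ : Function.Surjective π)
    (hker : RingHom.ker (π : Y →ₐ[B] D₀) = Ideal.span {e}) :
    RingHom.ker ((Bialgebra.TensorProduct.map (BialgHom.id U U) π) : U ⊗[B] Y →ₐ[U] U ⊗[B] D₀) =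
      Ideal.span {(1 : U) ⊗ₜ[B] e} := by
  have h := Algebra.TensorProduct.lTensor_ker (A := U) (π : Y →ₐ[B] D₀) hπ
  rw [hker, Ideal.map_span, Set.image_singleton] at h
  exact h

/-- transport of an open and closed isotrivial subgroup -/
theorem exists_clopen_bc {B U : Type u} [CommRing B] [CommRing U] [Algebra B U]
    {Y : Type u} [CommRing Y] [HopfAlgebra B Y] {Z : Type u} [CommRing Z] [HopfAlgebra U Z]
    (Ψ : U ⊗[B] Y ≃ₐc[U] Z) {I : Ideal B} {J : Ideal U} (hIJ : I.map (algebraMap B U) ≤ J)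
    {e : Y} (he : IsIdempotentElem e) (heI : e ∈ I.map (algebraMap B Y))
    {D₀ : Type u} [CommRing D₀] [HopfAlgebra B D₀] (π : Y →ₐc[B] D₀) (hπ : Function.Surjective π)
    (hkerπ : RingHom.ker (π : Y →ₐ[B] D₀) = Ideal.span {e}) (hiso : SGA3b.IsIsotrivial B D₀) :
    ∃ (D : Type u) (_ : CommRing D) (_ : HopfAlgebra U D) (φ : Z →ₐc[U] D) (f : Z),
      Function.Surjective φ ∧ IsIdempotentElem f ∧ RingHom.ker (φ : Z →ₐ[U] D) = Ideal.span {f} ∧
        f ∈ J.map (algebraMap U Z) ∧ SGA3b.IsIsotrivial U D := by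
  let Φ : U ⊗[B] Y →ₐc[U] U ⊗[B] D₀ := Bialgebra.TensorProduct.map (BialgHom.id U U) π
  have hΦ : Function.Surjective Φ := fun z => by
    induction z using TensorProduct.induction_on with
    | zero => exact ⟨0, map_zero _⟩
    | add a b ha hb =>
      obtain ⟨x, hx⟩ := ha
      obtain ⟨y, hy⟩ := hb
      exact ⟨x + y, by rw [map_add, hx, hy]⟩
    | tmul t d =>
      obtain ⟨y, rfl⟩ := hπ d
      exact ⟨t ⊗ₜ y, rfl⟩
  let f : Z := Ψ ((1 : U) ⊗ₜ[B] e)
  let ψ : Z →ₐc[U] U ⊗[B] Y := (Ψ.symm : Z ≃ₐc[U] U ⊗[B] Y)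
  have hψ : Function.Surjective ψ := Ψ.symm.surjective
  have hψf : ψ f = (1 : U) ⊗ₜ[B] e := Ψ.toAlgEquiv.symm_apply_apply _
  have hD : SGA3b.IsIsotrivial U (U ⊗[B] D₀) := isIsotrivial_bc U hiso
  refine ⟨U ⊗[B] D₀, inferInstance, inferInstance, Φ.comp ψ, f, hΦ.comp hψ, ?_, ?_, ?_, hD⟩
  · exact (he.map (Algebra.TensorProduct.includeRight : Y →ₐ[B] U ⊗[B] Y)).map Ψ.toAlgEquiv
  · have hker : RingHom.ker (Φ : U ⊗[B] Y →ₐ[U] U ⊗[B] D₀) = Ideal.span {(1 : U) ⊗ₜ[B] e} := ker_map_mkBialgHom π hπ hkerπ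
    ext z
    rw [RingHom.mem_ker, Ideal.mem_span_singleton]
    constructor
    · intro hz
      have h1 : ψ z ∈ RingHom.ker (Φ : U ⊗[B] Y →ₐ[U] U ⊗[B] D₀) := hz
      rw [hker, Ideal.mem_span_singleton] at h1
      have h2 := map_dvd Ψ.toAlgEquiv h1
      rwa [show Ψ.toAlgEquiv (ψ z) = z from Ψ.toAlgEquiv.apply_symm_apply z] at h2
    · rintro ⟨w, rfl⟩
      change Φ (ψ (f * w)) = 0
      rw [map_mul, map_mul, hψf,
        show Φ ((1 : U) ⊗ₜ[B] e) = 0 from hker.ge (Ideal.subset_span rfl), zero_mul]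
  · let g : Y →+* Z := (Ψ.toAlgEquiv.toAlgHom.toRingHom).comp
      (Algebra.TensorProduct.includeRight : Y →ₐ[B] U ⊗[B] Y).toRingHom
    have hg : g.comp (algebraMap B Y) = (algebraMap U Z).comp (algebraMap B U) := RingHom.ext fun b => by
      change Ψ.toAlgEquiv ((Algebra.TensorProduct.includeRight : Y →ₐ[B] U ⊗[B] Y) (algebraMap B Y b)) = _
      rw [AlgHom.commutes, IsScalarTower.algebraMap_apply B U (U ⊗[B] Y), AlgEquiv.commutes]
      rfl
    have h2 : g e ∈ (I.map (algebraMap B Y)).map g := Ideal.mem_map_of_mem g heI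
    rw [Ideal.map_map, hg, ← Ideal.map_map] at h2
    exact Ideal.map_mono hIJ h2

/-- the base change from a complete model -/
theorem exists_clopen_split_of_complete {A R B : Type u} [CommRing A] [IsLocalRing A] [CommRing R] [IsLocalRing R]
    [CommRing B] [IsLocalRing B] [Algebra A R] [IsLocalHom (algebraMap A R)] [Algebra A B]
    [IsLocalHom (algebraMap A B)] [Module.Flat A B] [IsNoetherianRing B]
    [IsAdicComplete (IsLocalRing.maximalIdeal B) B]
    (hm : (IsLocalRing.maximalIdeal A).map (algebraMap A B) = IsLocalRing.maximalIdeal B)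
    {X : Type u} [CommRing X] [HopfAlgebra A X] [Algebra.FiniteType A X]
    (hflat : ModelFlat.FlatOn A X (IsLocalRing.maximalIdeal A))
    {C : Type u} [CommRing C] [HopfAlgebra R C] (E : R ⊗[A] X ≃ₐc[R] C)
    (hs : SGA3b.IsMultType (IsLocalRing.ResidueField R) (IsLocalRing.ResidueField R ⊗[R] C)) :
    ∃ (U : Type u) (_ : CommRing U) (_ : IsLocalRing U) (_ : Algebra R U) (D : Type u) (_ : CommRing D)
      (_ : HopfAlgebra U D) (φ : U ⊗[R] C →ₐc[U] D) (f : U ⊗[R] C),
      Module.FaithfullyFlat R U ∧ Function.Surjective φ ∧ IsIdempotentElem f ∧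
        RingHom.ker (φ : U ⊗[R] C →ₐ[U] D) = Ideal.span {f} ∧
        f ∈ (IsLocalRing.maximalIdeal U).map (algebraMap U (U ⊗[R] C)) ∧ SGA3b.IsIsotrivial U D := by
  haveI : Module.FaithfullyFlat A B := Module.FaithfullyFlat.of_flat_of_isLocalHom
  obtain ⟨e, he, heI, hHopf, hiso⟩ := Groth.Agent.S5285.result B (IsLocalRing.maximalIdeal B) (B ⊗[A] X)
    inferInstance (hflat.bc B hm.le) (isIsotrivial_of_residue (isMultType_model_fibre E hs))
  obtain ⟨U, _, _, _, _, _, _, _, hff, hloc⟩ := exists_local_ext (A := A) (R := R) (B := B) hm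
  let Ψ : U ⊗[B] (B ⊗[A] X) ≃ₐc[U] U ⊗[R] C :=
    (Split.cancel (R := A) (S := B) (T := U) (A := X)).trans
      ((Split.cancel (R := A) (S := R) (T := U) (A := X)).symm.trans (congrBC U E))
  obtain ⟨D, _, _, φ, f, h1, h2, h3, h4, h5⟩ := exists_clopen_bc Ψ (J := IsLocalRing.maximalIdeal U)
    (Ideal.map_le_iff_le_comap.mpr fun b hb => map_nonunit (algebraMap B U) b hb) he heI
    (Bialgebra.Quotient.mkBialgHom (R := B) (Ideal.span {e})) Ideal.Quotient.mk_surjective Ideal.mk_ker hiso
  exact ⟨U, inferInstance, inferInstance, inferInstance, D, inferInstance, inferInstance, φ, f,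
    hff, h1, h2, h3, h4, h5⟩

/-- after a faithfully flat local extension an open and closed isotrivial subgroup contains the closed
fibre -/
theorem exists_clopen_split (R C : Type u) [CommRing R] [IsLocalRing R] [CommRing C] [HopfAlgebra R C]
    (hfp : Algebra.FinitePresentation R C)
    (hfl : ModelFlat.FlatOn R C (IsLocalRing.maximalIdeal R))
    (hs : SGA3b.IsMultType (IsLocalRing.ResidueField R) (IsLocalRing.ResidueField R ⊗[R] C)) :
    ∃ (U : Type u) (_ : CommRing U) (_ : IsLocalRing U) (_ : Algebra R U) (D : Type u) (_ : CommRing D)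
      (_ : HopfAlgebra U D) (φ : U ⊗[R] C →ₐc[U] D) (f : U ⊗[R] C),
      Module.FaithfullyFlat R U ∧ Function.Surjective φ ∧ IsIdempotentElem f ∧
        RingHom.ker (φ : U ⊗[R] C →ₐ[U] D) = Ideal.span {f} ∧
        f ∈ (IsLocalRing.maximalIdeal U).map (algebraMap U (U ⊗[R] C)) ∧ SGA3b.IsIsotrivial U D := by
  haveI := hfp
  obtain ⟨A, _, _, _, _, _, X, _, _, hft, hflat, ⟨E⟩⟩ := ModelFlat.exists_local_model R C hfl
  haveI := hft
  haveI : IsNoetherianRing (AdicCompletion (IsLocalRing.maximalIdeal A) A) :=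
    Groth.Agent.RegLoc.Completion.isNoetherianRing_adicCompletion' _
  exact exists_clopen_split_of_complete (A := A) (B := AdicCompletion (IsLocalRing.maximalIdeal A) A)
    (hm := (AdicCompletion.maximalIdeal_eq_map).symm) hflat E hs

theorem isMultType_of_eq_zero {R C U D : Type u} [CommRing R] [CommRing C] [HopfAlgebra R C] [CommRing U]
    [Algebra R U] [Module.FaithfullyFlat R U] [CommRing D] [HopfAlgebra U D] (φ : U ⊗[R] C →ₐc[U] D)
    (hφ : Function.Surjective φ) {f : U ⊗[R] C}
    (hker : RingHom.ker (φ : U ⊗[R] C →ₐ[U] D) = Ideal.span {f}) (hD : SGA3b.IsIsotrivial U D)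
    (hf : f = 0) : SGA3b.IsMultType R C := by
  subst hf
  have hinj : Function.Injective φ := (injective_iff_map_eq_zero φ).mpr fun z hz => by
    have : z ∈ RingHom.ker (φ : U ⊗[R] C →ₐ[U] D) := hz
    rwa [hker, Ideal.span_singleton_eq_bot.mpr rfl, Ideal.mem_bot] at this
  exact isMultType_of_isotrivial_ff U
    (LiftApps.isIsotrivial_of_equiv (BialgEquiv.ofBijective φ ⟨hinj, hφ⟩).symm hD)

theorem isMultType_of_connected (R C : Type u) [CommRing R] [IsLocalRing R] [CommRing C] [HopfAlgebra R C]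
    (hfp : Algebra.FinitePresentation R C)
    (hfl : ModelFlat.FlatOn R C (IsLocalRing.maximalIdeal R))
    (hs : SGA3b.IsMultType (IsLocalRing.ResidueField R) (IsLocalRing.ResidueField R ⊗[R] C))
    (hconn : ∀ (p : Ideal R) [p.IsPrime], ConnectedSpace (PrimeSpectrum (p.ResidueField ⊗[R] C))) :
    SGA3b.IsMultType R C := by
  obtain ⟨U, _, _, _, D, _, _, φ, f, hff, hφ, hf, hker, -, hD⟩ := exists_clopen_split R C hfp hfl hs
  refine isMultType_of_eq_zero φ hφ hker hD (TorusType.eq_zero_of_connected (A := U) hf ?_ ?_)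
  · have h1 : φ f = 0 := hker.ge (Ideal.subset_span rfl)
    rw [← CoalgHomClass.counit_comp_apply φ f, h1, map_zero]
  · intro P _
    let p := P.comap (algebraMap R U)
    letI : Algebra p.ResidueField P.ResidueField :=
      (Ideal.ResidueField.mapₐ p P (Algebra.ofId R U) rfl).toRingHom.toAlgebra
    haveI : IsScalarTower R p.ResidueField P.ResidueField := IsScalarTower.of_algebraMap_eq fun r =>
      ((Ideal.ResidueField.mapₐ p P (Algebra.ofId R U) rfl).commutes r).symm
    haveI := hconn p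
    haveI := GeomConn.connectedSpace_of_point (Bialgebra.counitAlgHom p.ResidueField (p.ResidueField ⊗[R] C))
      P.ResidueField
    let g := ((Algebra.TensorProduct.cancelBaseChange R p.ResidueField P.ResidueField P.ResidueField C).toRingEquiv.trans
      (Algebra.TensorProduct.cancelBaseChange R U P.ResidueField P.ResidueField C).symm.toRingEquiv)
    exact (PrimeSpectrum.homeomorphOfRingEquiv g).surjective.connectedSpace
      (PrimeSpectrum.homeomorphOfRingEquiv g).continuous

theorem isMultType_of_torsion_finite (R C : Type u) [CommRing R] [IsLocalRing R] [CommRing C] [HopfAlgebra R C]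
    [Coalgebra.IsCocomm R C] (hfp : Algebra.FinitePresentation R C)
    (hfl : ModelFlat.FlatOn R C (IsLocalRing.maximalIdeal R))
    (hs : SGA3b.IsMultType (IsLocalRing.ResidueField R) (IsLocalRing.ResidueField R ⊗[R] C))
    (hfin : ∀ n : ℕ, 0 < n → Module.Finite R (C ⧸ SGA3b.torsionIdeal R C n)) :
    SGA3b.IsMultType R C := by
  haveI := hfp
  obtain ⟨U, _, _, _, D, _, _, φ, f, hff, hφ, hf, hker, hfJ, hD⟩ := exists_clopen_split R C hfp hfl hs
  refine isMultType_of_eq_zero φ hφ hker hD (TorsionFinite.eq_zero_of_points φ hφ hf hker hD fun n hn => ?_)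
  haveI := hfin n hn
  haveI := finite_torsion_bc (R := R) U (C := C) n
  exact TorsionFinite.mem_torsionIdeal_of_finite (IsLocalRing.maximalIdeal_le_jacobson ⊥) hf hfJ n

end

end Groth.Agent.MultType.LocalMult
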