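import Groth.Agent.MultType.QIGlobal
import Groth.Agent.MultType.LocalMult
import Groth.Agent.MultType.GeomConn
import Groth.Agent.MultType.AdicLevel

/-!
# From fibres at the primes of the base to multiplicative type

* `isMultType_congr`, `fibre_field`, `isMultType_of_local`.
-/

open Coalgebra TensorProduct

universe u

namespace Groth.Agent.MultType.Fibres

noncomputable section

/-- multiplicative type is invariant under bialgebra equivalences -/
theorem isMultType_congr {R : Type u} [CommRing R] {A A' : Type u} [CommRing A] [HopfAlgebra R A] [CommRing A']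
    [HopfAlgebra R A'] (e : A ≃ₐc[R] A') (h : SGA3b.IsMultType R A) : SGA3b.IsMultType R A' := by
  obtain ⟨s, hs, hloc⟩ := h
  refine ⟨s, hs, fun f hf => ?_⟩
  obtain ⟨R', _, _, hff, M, _, ⟨eM⟩⟩ := hloc f hf
  exact ⟨R', inferInstance, inferInstance, hff, M, inferInstance,
    ⟨(LocalMult.congrBC R' (LocalMult.congrBC (Localization.Away f) e)).symm.trans eM⟩⟩

/-- a point with values in a field factors through a residue field -/
theorem exists_residueField_hom {R : Type u} [CommRing R] (K : Type u) [Field K] [Algebra R K] :
    ∃ (q : Ideal R) (_ : q.IsPrime) (_ : Algebra q.ResidueField K), IsScalarTower R q.ResidueField K := by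
  let q := RingHom.ker (algebraMap R K)
  haveI : q.IsPrime := RingHom.ker_isPrime _
  let i := Ideal.ResidueField.liftₐ q (Algebra.ofId R K) le_rfl fun r hr =>
    isUnit_iff_ne_zero.mpr hr
  letI := i.toRingHom.toAlgebra
  exact ⟨q, inferInstance, inferInstance, IsScalarTower.of_algebraMap_eq fun r => (i.commutes r).symm⟩

/-- fibres of multiplicative type: at every field-valued point -/
theorem fibre_field {R : Type u} [CommRing R] {C : Type u} [CommRing C] [HopfAlgebra R C]
    (h : ∀ (p : Ideal R) [p.IsPrime], SGA3b.IsMultType p.ResidueField (p.ResidueField ⊗[R] C))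
    (K : Type u) [Field K] [Algebra R K] : SGA3b.IsMultType K (K ⊗[R] C) := by
  obtain ⟨q, _, _, _⟩ := exists_residueField_hom (R := R) K
  exact isMultType_congr (Split.cancel (R := R) (S := q.ResidueField) (T := K) (A := C))
    (Isotrivial.isMultType_field (h q) K)

/-- connected fibres: at every field-valued point -/
theorem connected_field {R : Type u} [CommRing R] {C : Type u} [CommRing C] [HopfAlgebra R C]
    (h : ∀ (p : Ideal R) [p.IsPrime], ConnectedSpace (PrimeSpectrum (p.ResidueField ⊗[R] C)))
    (K : Type u) [Field K] [Algebra R K] : ConnectedSpace (PrimeSpectrum (K ⊗[R] C)) := by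
  obtain ⟨q, _, _, _⟩ := exists_residueField_hom (R := R) K
  haveI := h q
  haveI := GeomConn.connectedSpace_of_point (Bialgebra.counitAlgHom q.ResidueField (q.ResidueField ⊗[R] C)) K
  exact (PrimeSpectrum.homeomorphOfRingEquiv
    (Split.cancel (R := R) (S := q.ResidueField) (T := K) (A := C)).toAlgEquiv.toRingEquiv).surjective.connectedSpace
      (PrimeSpectrum.homeomorphOfRingEquiv
        (Split.cancel (R := R) (S := q.ResidueField) (T := K) (A := C)).toAlgEquiv.toRingEquiv).continuous

/-- flatness after localisation -/
theorem flatOn_bc {R : Type u} [CommRing R] {C : Type u} [CommRing C] [Algebra R C] [Module.Flat R C]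
    (W : Type u) [CommRing W] [Algebra R W] (a : Ideal W) : ModelFlat.FlatOn W (W ⊗[R] C) a := fun q _ _ =>
  haveI : Module.Flat (W ⊗[R] C) (Localization.AtPrime q) := IsLocalization.flat _ q.primeCompl
  Module.Flat.trans W (W ⊗[R] C) (Localization.AtPrime q)

/-- multiplicative type at every local ring: multiplicative type -/
theorem isMultType_of_local {R : Type u} [CommRing R] {C : Type u} [CommRing C] [HopfAlgebra R C]
    (hfp : Algebra.FinitePresentation R C)
    (h : ∀ (p : Ideal R) [p.IsPrime], SGA3b.IsMultType (Localization.AtPrime p) (Localization.AtPrime p ⊗[R] C)) :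
    SGA3b.IsMultType R C :=
  AdicLevel.isMultType_of_qi (QIGlobal.isQuasiIsotrivial_of_local hfp h)

/-- flat fp with connected multiplicative fibres -/
theorem isMultType_of_fibres_connected {R : Type u} [CommRing R] {C : Type u} [CommRing C] [HopfAlgebra R C]
    [Module.Flat R C] (hfp : Algebra.FinitePresentation R C)
    (hm : ∀ (p : Ideal R) [p.IsPrime], SGA3b.IsMultType p.ResidueField (p.ResidueField ⊗[R] C))
    (hc : ∀ (p : Ideal R) [p.IsPrime], ConnectedSpace (PrimeSpectrum (p.ResidueField ⊗[R] C))) :
    SGA3b.IsMultType R C := by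
  haveI := hfp
  refine isMultType_of_local hfp fun p _ => ?_
  let W := Localization.AtPrime p
  refine LocalMult.isMultType_of_connected W (W ⊗[R] C) inferInstance (flatOn_bc W _)
    (isMultType_congr (Split.cancel (R := R) (S := W) (T := IsLocalRing.ResidueField W) (A := C)).symm
      (fibre_field hm _)) fun P _ => ?_
  haveI := connected_field hc P.ResidueField
  let e := PrimeSpectrum.homeomorphOfRingEquiv
    (Split.cancel (R := R) (S := W) (T := P.ResidueField) (A := C)).symm.toAlgEquiv.toRingEquiv
  exact e.surjective.connectedSpace e.continuous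

/-- flat fp with multiplicative fibres and finite torsion -/
theorem isMultType_of_fibres_torsion_finite {R : Type u} [CommRing R] {C : Type u} [CommRing C] [HopfAlgebra R C]
    [Coalgebra.IsCocomm R C] [Module.Flat R C] (hfp : Algebra.FinitePresentation R C)
    (hm : ∀ (p : Ideal R) [p.IsPrime], SGA3b.IsMultType p.ResidueField (p.ResidueField ⊗[R] C))
    (hfin : ∀ n : ℕ, 0 < n → Module.Finite R (C ⧸ SGA3b.torsionIdeal R C n)) :
    SGA3b.IsMultType R C := by
  haveI := hfp
  refine isMultType_of_local hfp fun p _ => ?_
  let W := Localization.AtPrime p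
  refine LocalMult.isMultType_of_torsion_finite W (W ⊗[R] C) inferInstance (flatOn_bc W _)
    (isMultType_congr (Split.cancel (R := R) (S := W) (T := IsLocalRing.ResidueField W) (A := C)).symm
      (fibre_field hm _)) fun n hn => ?_
  haveI := hfin n hn
  exact LocalMult.finite_torsion_bc W n

end

end Groth.Agent.MultType.Fibres
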