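import Groth.Prelude.Def_CartDual2
import Groth.Prelude.Def_SGA3b
import Groth.Agent.MultType.Isotrivial
import Groth.Agent.MultType.Integral
import Groth.Agent.MultType.QIGlobal
import Groth.Agent.MultType.TorsionFinite
import Mathlib.RingTheory.TotallySplit
import Mathlib.RingTheory.Etale.Descent
import Mathlib.RingTheory.Smooth.Fiber
import Mathlib.RingTheory.Kaehler.TensorProduct
import Mathlib.LinearAlgebra.Dual.BaseChange
import Mathlib.RingTheory.Finiteness.ModuleFinitePresentation

/-!
# Finite groups of multiplicative type and étale Cartier duals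
-/

open TensorProduct WithConv Coalgebra

universe u

namespace Groth.Agent.MultType.FiniteDual

noncomputable section

/-! ### the dual commutes with base change -/

section BaseChange

variable {R : Type u} [CommRing R] {A : Type u} [CommRing A] [HopfAlgebra R A]
variable (T : Type u) [CommRing T] [Algebra R T]

/-- the scalar extension of a functional -/
def extend (x : CartDual.D R A) : CartDual.D T (T ⊗[R] A) := toConv (Module.Dual.baseChange T x.ofConv)

/-- the base change map, linearly -/
def dualBCLin : T ⊗[R] CartDual.D R A →ₗ[T] CartDual.D T (T ⊗[R] A) :=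
  (CartDual.toDual T (T ⊗[R] A)).symm.toLinearMap ∘ₗ
    (Module.Dual.baseChange T ∘ₗ (CartDual.toDual R A).toLinearMap).liftBaseChange T

theorem dualBCLin_tmul (t : T) (x : CartDual.D R A) : dualBCLin T (t ⊗ₜ[R] x) = t • extend T x := by
  simp [dualBCLin, extend]

theorem extend_tmul (x : CartDual.D R A) (t : T) (a : A) : extend T x (t ⊗ₜ[R] a) = x a • t := rfl

theorem extend_one : extend (A := A) T (1 : CartDual.D R A) = 1 := by
  apply WithConv.ext
  refine TensorProduct.AlgebraTensorModule.ext fun t a => ?_
  change (1 : CartDual.D R A) a • t = (1 : CartDual.D T (T ⊗[R] A)) (t ⊗ₜ[R] a)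
  simp [LinearMap.convOne_apply, TensorProduct.counit_tmul]

theorem extend_mul (x y : CartDual.D R A) : extend T (x * y) = extend T x * extend T y := by
  apply WithConv.ext
  refine TensorProduct.AlgebraTensorModule.ext fun t a => ?_
  change (x * y) a • t = (extend T x * extend T y) (t ⊗ₜ[R] a)
  let repr := Coalgebra.Repr.arbitrary R a
  have hl : (x * y) a = ∑ i ∈ repr.index, x (repr.left i) * y (repr.right i) := by
    rw [LinearMap.convMul_apply, ← repr.eq]
    simp [map_sum, CartDual.coe_apply]
  have hr : (extend T x * extend T y) (t ⊗ₜ[R] a) = ∑ i ∈ repr.index, (x (repr.left i) • t) * (y (repr.right i) • 1) := by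
    rw [LinearMap.convMul_apply, show (t ⊗ₜ[R] a : T ⊗[R] A) = t • ((1 : T) ⊗ₜ[R] a) by
      rw [TensorProduct.smul_tmul', smul_eq_mul, mul_one], map_smul, TensorProduct.comul_tmul]
    simp only [← repr.eq, TensorProduct.tmul_sum, map_sum, CommSemiring.comul_apply,
      TensorProduct.AlgebraTensorModule.tensorTensorTensorComm_tmul, Finset.smul_sum]
    refine Finset.sum_congr rfl fun i _ => ?_
    simp [TensorProduct.smul_tmul', extend_tmul, CartDual.coe_apply, Algebra.smul_def]
  rw [hl, hr, Finset.sum_smul]
  refine Finset.sum_congr rfl fun i _ => ?_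
  simp only [Algebra.smul_def, map_mul, mul_one]
  ring

variable [IsCocomm R A]

/-- the base change map for the dual -/
def dualBC : T ⊗[R] CartDual.D R A →ₐ[T] CartDual.D T (T ⊗[R] A) :=
  Algebra.TensorProduct.algHomOfLinearMapTensorProduct (dualBCLin (R := R) (A := A) T)
    (fun t u x y => by rw [dualBCLin_tmul, dualBCLin_tmul, dualBCLin_tmul, extend_mul, smul_mul_smul_comm])
    (by rw [dualBCLin_tmul, one_smul, extend_one])

theorem dualBC_apply (t : T) (x : CartDual.D R A) (a : A) :
    dualBC (R := R) (A := A) T (t ⊗ₜ[R] x) ((1 : T) ⊗ₜ[R] a) = t * algebraMap R T (x a) := by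
  change (dualBCLin T (t ⊗ₜ[R] x)) ((1 : T) ⊗ₜ[R] a) = _
  rw [dualBCLin_tmul, CartDual.coe_apply, WithConv.ofConv_smul, LinearMap.smul_apply, ← CartDual.coe_apply,
    extend_tmul, smul_eq_mul, Algebra.smul_def, mul_one]

theorem dualBC_bijective [Module.Finite R A] [Module.Projective R A] :
    Function.Bijective (dualBC (R := R) (A := A) T) := by
  obtain ⟨n, π, σ, -, -, hπσ⟩ := Module.Finite.exists_comp_eq_id_of_projective R A
  classical
  let b : Fin n → A := fun i => π (Pi.single i 1)
  let x : Fin n → CartDual.D R A := fun i => toConv (LinearMap.proj i ∘ₗ σ)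
  have hx : ∀ a, ∑ i, x i a • b i = a := fun a => by
    conv_rhs => rw [← LinearMap.id_apply (R := R) a, ← hπσ, LinearMap.comp_apply, pi_eq_sum_univ' (σ a), map_sum]
    refine Finset.sum_congr rfl fun i _ => ?_
    rw [map_smul]
    rfl
  let inv : CartDual.D T (T ⊗[R] A) → T ⊗[R] CartDual.D R A := fun φ => ∑ i, φ ((1 : T) ⊗ₜ[R] b i) ⊗ₜ[R] x i
  refine Function.bijective_iff_has_inverse.mpr ⟨inv, fun z => ?_, fun φ => ?_⟩
  · induction z using TensorProduct.induction_on with
    | zero => simp [inv]
    | add p q hp hq =>
      conv_rhs => rw [← hp, ← hq]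
      simp only [inv, ← Finset.sum_add_distrib, ← TensorProduct.add_tmul, map_add]
      rfl
    | tmul t y =>
      simp only [inv]
      simp only [dualBC_apply]
      simp only [mul_comm t, ← Algebra.smul_def, TensorProduct.smul_tmul, ← TensorProduct.tmul_sum]
      congr 1
      apply WithConv.ext
      refine LinearMap.ext fun a => ?_
      conv_rhs => rw [← hx a, map_sum]
      rw [WithConv.ofConv_sum, LinearMap.sum_apply]
      refine Finset.sum_congr rfl fun i _ => ?_
      simp [CartDual.coe_apply, mul_comm]
  · apply WithConv.ext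
    refine TensorProduct.AlgebraTensorModule.ext fun t a => ?_
    rw [show (t ⊗ₜ[R] a : T ⊗[R] A) = t • ((1 : T) ⊗ₜ[R] a) by rw [TensorProduct.smul_tmul', smul_eq_mul, mul_one],
      map_smul, map_smul]
    congr 1
    simp only [inv, map_sum, WithConv.ofConv_sum, LinearMap.sum_apply]
    conv_rhs => rw [← hx a, TensorProduct.tmul_sum, map_sum]
    refine Finset.sum_congr rfl fun i _ => ?_
    rw [← CartDual.coe_apply, dualBC_apply, TensorProduct.tmul_smul, ← algebraMap_smul T (x i a), map_smul,
      smul_eq_mul, mul_comm]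

end BaseChange

/-! ### split duals -/

section Split

variable {T : Type u} [CommRing T] {B : Type u} [CommRing B] [HopfAlgebra T B]

theorem mul_apply_groupLike {g : B} (hg : IsGroupLikeElem T g) (x y : CartDual.D T B) :
    (x * y) g = x g * y g := by
  rw [LinearMap.convMul_apply, hg.comul_eq_tmul_self]
  simp [CartDual.coe_apply]

variable [IsCocomm T B]

theorem etale_dual_of_groupAlgebra {M : Type u} [CommGroup M] [Finite M] (e : B ≃ₐc[T] MonoidAlgebra T M) :
    Algebra.Etale T (CartDual.D T B) := by
  have hg : ∀ m, IsGroupLikeElem T (e.symm (MonoidAlgebra.single m 1)) := fun m =>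
    (MonoidAlgebra.isGroupLikeElem_of m).map e.symm
  let f : CartDual.D T B →ₗ[T] (M → T) :=
    { toFun := fun x m => x (e.symm (MonoidAlgebra.single m 1))
      map_add' := fun x y => by ext m; simp [CartDual.coe_apply]
      map_smul' := fun r x => by ext m; simp [CartDual.coe_apply] }
  let F : CartDual.D T B →ₐ[T] (M → T) := AlgHom.ofLinearMap f
    (funext fun m => by
      change (1 : CartDual.D T B) (e.symm (MonoidAlgebra.single m 1)) = 1
      rw [LinearMap.convOne_apply, (hg m).counit_eq_one, map_one])
    (fun x y => funext fun m => mul_apply_groupLike (hg m) x y)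
  have hF : Function.Bijective F := by
    let bB : Module.Basis M T B := (MonoidAlgebra.basis M T).map e.symm.toAlgEquiv.toLinearEquiv
    have hb : ∀ m, bB m = e.symm (MonoidAlgebra.single m 1) := fun m => by simp [bB]
    refine ⟨fun x y h => WithConv.ext (bB.ext fun m => ?_), fun c => ⟨toConv (bB.constr T c), funext fun m => ?_⟩⟩
    · rw [hb]; exact congrFun h m
    · change (bB.constr T c) (e.symm (MonoidAlgebra.single m 1)) = c m
      rw [← hb, Module.Basis.constr_basis]
  exact Algebra.Etale.of_equiv (AlgEquiv.ofBijective F hF).symm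

variable [Module.Finite T B] [Module.Projective T B]

theorem isDiag_of_split_dual [Nontrivial T] (hconn : ∀ e : T, IsIdempotentElem e → e = 0 ∨ e = 1) {n : ℕ}
    (Θ : CartDual.D T B ≃ₐ[T] (Fin n → T)) : SGA3b.IsDiag T B := by
  classical
  let ev : B ≃ₗ[T] Module.Dual T (CartDual.D T B) :=
    (Module.evalEquiv T B).trans (CartDual.toDual T B).dualMap
  have hev : ∀ (b : B) (x : CartDual.D T B), ev b x = x b := fun b x => rfl
  let g : Fin n → B := fun i => ev.symm (LinearMap.proj i ∘ₗ Θ.toLinearEquiv.toLinearMap)
  have hgx : ∀ (i : Fin n) (x : CartDual.D T B), x (g i) = Θ x i := fun i x => by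
    rw [← hev, LinearEquiv.apply_symm_apply]; rfl
  have hext : ∀ {a b : B}, (∀ x : CartDual.D T B, x a = x b) → a = b := fun h =>
    ev.injective (LinearMap.ext fun x => by rw [hev, hev, h])
  have hgl : ∀ i, IsGroupLikeElem T (g i) := by
    intro i
    refine ⟨?_, ?_⟩
    · have h1 : (1 : CartDual.D T B) (g i) = 1 := by rw [hgx, map_one]; rfl
      simpa [LinearMap.convOne_apply] using h1
    · refine sub_eq_zero.mp ((Module.forall_dual_apply_eq_zero_iff T _).mp fun φ => ?_)
      obtain ⟨y, rfl⟩ := (CartDual.ev₂ T B).surjective φ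
      rw [map_sub, sub_eq_zero]
      induction y using TensorProduct.induction_on with
      | zero => simp
      | add p q hp hq => simp only [map_add, LinearMap.add_apply, hp, hq]
      | tmul x y =>
        rw [CartDual.ev₂_tmul]
        have h2 : (x * y) (g i) = x (g i) * y (g i) := by rw [hgx, hgx, hgx, map_mul]; rfl
        rw [← h2, LinearMap.convMul_apply, CartDual.ev₂_tmul_eq']
        rfl
  have hli : LinearIndependent T g := Fintype.linearIndependent_iff.mpr fun c hc i => by
    have h := congrArg (fun b => Θ.symm (Pi.single i 1) b) hc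
    simp only [CartDual.coe_apply, map_sum, map_smul, map_zero] at h
    simpa [← CartDual.coe_apply, hgx, Pi.single_apply] using h
  have hspan : Submodule.span T (Set.range g) = ⊤ := eq_top_iff.mpr fun b _ => by
    have hb : b = ∑ i, Θ.symm (Pi.single i 1) b • g i := hext fun x => by
      have hx : x = ∑ i, Θ x i • Θ.symm (Pi.single i 1) := Θ.injective (by
        rw [map_sum]
        conv_lhs => rw [pi_eq_sum_univ' (Θ x)]
        exact Finset.sum_congr rfl fun i _ => by rw [map_smul, AlgEquiv.apply_symm_apply])
      simp only [CartDual.coe_apply, map_sum, map_smul]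
      simp only [← CartDual.coe_apply, hgx, smul_eq_mul]
      conv_lhs => rw [hx, CartDual.coe_apply, WithConv.ofConv_sum, LinearMap.sum_apply]
      exact Finset.sum_congr rfl fun i _ => by simp [CartDual.coe_apply, mul_comm]
    rw [hb]
    exact Submodule.sum_mem _ fun i _ => Submodule.smul_mem _ _ (Submodule.subset_span ⟨i, rfl⟩)
  have hall : ∀ h : B, IsGroupLikeElem T h → ∃ i, g i = h := by
    intro h hh
    let c : Fin n → T := fun i => Θ.symm (Pi.single i 1) h
    have hc2 : ∀ i j, c i * c j = if i = j then c i else 0 := fun i j => by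
      have hpp : (Pi.single i (1 : T) * Pi.single j 1 : Fin n → T) = if i = j then Pi.single i 1 else 0 := by
        ext k
        rcases eq_or_ne i j with rfl | hij
        · by_cases hk : k = i <;> simp [Pi.single_apply, hk]
        · by_cases hk : k = i <;> by_cases hk' : k = j <;> simp_all [Pi.single_apply]
      rw [← mul_apply_groupLike hh, ← map_mul, hpp]
      split_ifs <;> simp [c, CartDual.coe_apply]
    have hsum : ∑ i, c i = 1 := by
      have h1 : (1 : CartDual.D T B) h = 1 := by rw [LinearMap.convOne_apply, hh.counit_eq_one, map_one]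
      have h2 : (∑ i, Θ.symm (Pi.single i (1 : T))) = 1 := by
        rw [← map_sum, show ∑ i, Pi.single i (1 : T) = 1 from Finset.univ_sum_single (1 : Fin n → T), map_one]
      rw [← h2, CartDual.coe_apply, WithConv.ofConv_sum, LinearMap.sum_apply] at h1
      exact h1
    obtain ⟨i, hi⟩ : ∃ i, c i = 1 := by
      by_contra! hne
      have : ∀ i, c i = 0 := fun i => (hconn (c i) (by
        have := hc2 i i
        rw [if_pos rfl] at this
        exact this)).resolve_right (hne i)
      simp [this] at hsum
    refine ⟨i, hext fun x => ?_⟩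
    have hx : x = ∑ j, Θ x j • Θ.symm (Pi.single j 1) := Θ.injective (by
      rw [map_sum]
      conv_lhs => rw [pi_eq_sum_univ' (Θ x)]
      exact Finset.sum_congr rfl fun i _ => by rw [map_smul, AlgEquiv.apply_symm_apply])
    rw [hgx]
    conv_rhs => rw [hx, CartDual.coe_apply, WithConv.ofConv_sum, LinearMap.sum_apply]
    rw [Finset.sum_eq_single i (fun j _ hj => ?_) (fun h => absurd (Finset.mem_univ i) h)]
    · rw [WithConv.ofConv_smul, LinearMap.smul_apply, ← CartDual.coe_apply, smul_eq_mul,
        show Θ.symm (Pi.single i 1) h = 1 from hi, mul_one]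
    · have h0 := hc2 i j
      rw [if_neg (Ne.symm hj), hi, one_mul] at h0
      rw [WithConv.ofConv_smul, LinearMap.smul_apply, ← CartDual.coe_apply, smul_eq_mul,
        show Θ.symm (Pi.single j 1) h = 0 from h0, mul_zero]
  refine ⟨GroupLike T B, inferInstance, ⟨(BialgEquiv.ofBijective MonoidAlgebra.liftGroupLikeBialgHom ?_).symm⟩⟩
  let v : GroupLike T B → B := GroupLike.val
  choose ι hι using fun h : GroupLike T B => hall h.val h.isGroupLikeElem_val
  have hιi : Function.Injective ι := fun a b hab => GroupLike.val_injective (by rw [← hι a, ← hι b, hab])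
  have hvli : LinearIndependent T v := by
    have := hli.comp ι hιi
    rwa [show g ∘ ι = v from funext hι] at this
  have hlift : ∀ z : MonoidAlgebra T (GroupLike T B),
      MonoidAlgebra.liftGroupLikeBialgHom z = Finsupp.linearCombination T v z.coeff := by
    intro z
    induction z using MonoidAlgebra.induction_linear with
    | zero => simp
    | add a b ha hb => simp only [map_add, MonoidAlgebra.coeff_add, ha, hb]
    | single m r => simp [MonoidAlgebra.liftGroupLikeBialgHom, v, Algebra.smul_def]
  refine ⟨fun a b hab => MonoidAlgebra.coeff_injective (hvli (by rw [← hlift, ← hlift, hab])), fun b => ?_⟩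
  have hb : b ∈ Submodule.span T (Set.range g) := hspan ▸ Submodule.mem_top
  induction hb using Submodule.span_induction with
  | mem y hy =>
    obtain ⟨i, rfl⟩ := hy
    exact ⟨MonoidAlgebra.single ⟨g i, hgl i⟩ 1, by simp [MonoidAlgebra.liftGroupLikeBialgHom]⟩
  | zero => exact ⟨0, map_zero _⟩
  | add p q _ _ hp hq =>
    obtain ⟨a, rfl⟩ := hp
    obtain ⟨b, rfl⟩ := hq
    exact ⟨a + b, map_add _ _ _⟩
  | smul r p _ hp =>
    obtain ⟨a, rfl⟩ := hp
    exact ⟨r • a, map_smul _ _ _⟩

end Split

/-! ### connected pieces -/

theorem preconnected_of_idem {R : Type u} [CommRing R] [ConnectedSpace (PrimeSpectrum R)] {M : Type u}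
    [AddCommGroup M] [Module R M] [Module.FinitePresentation R M] [Module.Flat R M] (p q : PrimeSpectrum R) :
    Module.rankAtStalk M p = Module.rankAtStalk M q :=
  (Module.isLocallyConstant_rankAtStalk (R := R) (M := M)).apply_eq_of_preconnectedSpace p q

theorem exists_connected_piece {R : Type u} [CommRing R] [ConnectedSpace (PrimeSpectrum R)] (T : Type u)
    [CommRing T] [Algebra R T] [Module.Finite R T] [Algebra.Etale R T] [Nontrivial T] :
    ∃ (T' : Type u) (_ : CommRing T') (_ : Algebra R T') (_ : T →ₐ[R] T'), Algebra.Etale R T' ∧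
      Module.Finite R T' ∧ Module.FaithfullyFlat R T' ∧ Nontrivial T' ∧
      ∀ e : T', IsIdempotentElem e → e = 0 ∨ e = 1 := by
  classical
  have hfpz : ∀ (g : T), IsIdempotentElem g →
      Algebra.Etale R (Localization.Away g) ∧ Module.Finite R (Localization.Away g) ∧
      Function.Surjective (algebraMap T (Localization.Away g)) := by
    intro g hg
    have hsurj : Function.Surjective (algebraMap T (Localization.Away g)) := IsLocalization.Away.algebraMap_surjective_of_isIdempotentElem g hg
    haveI : Algebra.Etale T (Localization.Away g) := Algebra.Etale.of_isLocalizationAway g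
    exact ⟨Algebra.Etale.comp R T (Localization.Away g),
      Module.Finite.of_surjective (IsScalarTower.toAlgHom R T (Localization.Away g)).toLinearMap hsurj, hsurj⟩
  have p : PrimeSpectrum R := (ConnectedSpace.toNonempty (α := PrimeSpectrum R)).some
  let K := p.asIdeal.ResidueField
  let φ : T →ₐ[R] K ⊗[R] T := Algebra.TensorProduct.includeRight
  have hzero : ∀ g : T, IsIdempotentElem g → φ g = 0 → g = 0 := by
    intro g hg h0
    obtain ⟨het, hfin, hsurj⟩ := hfpz g hg
    haveI := het
    haveI := hfin
    haveI : Module.FinitePresentation R (Localization.Away g) :=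
      Module.FinitePresentation.of_finite_of_finitePresentation R _
    let X := Localization.Away g
    let ψ : K ⊗[R] T →ₐ[R] K ⊗[R] X :=
      Algebra.TensorProduct.map (AlgHom.id R K) (IsScalarTower.toAlgHom R T X)
    have h1 : ψ (φ g) = 0 := by rw [h0, map_zero]
    have hu : IsUnit ((1 : K) ⊗ₜ[R] algebraMap T X g : K ⊗[R] X) :=
      (IsLocalization.Away.algebraMap_isUnit g).map (Algebra.TensorProduct.includeRight : X →ₐ[R] K ⊗[R] X)
    haveI : Subsingleton (K ⊗[R] X) := by
      have h2 : IsUnit (0 : K ⊗[R] X) := h1 ▸ hu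
      exact subsingleton_of_zero_eq_one (isUnit_zero_iff.mp h2)
    have hp : Module.rankAtStalk X p = 0 := by
      rw [Module.rankAtStalk_eq]
      exact Module.finrank_zero_of_subsingleton
    have hsub : Subsingleton X := (Module.rankAtStalk_eq_zero_iff_subsingleton (R := R) (M := X)).mp
      (funext fun q => (preconnected_of_idem q p).trans hp)
    obtain ⟨⟨_, k, rfl⟩, hk⟩ :=
      (IsLocalization.map_eq_zero_iff (Submonoid.powers g) X (1 : T)).mp (Subsingleton.elim _ _)
    dsimp only at hk
    rcases Nat.eq_zero_or_pos k with rfl | hk0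
    · rw [pow_zero, one_mul] at hk
      exact absurd hk one_ne_zero
    · rwa [mul_one, hg.pow_eq hk0.ne'] at hk
  haveI : IsArtinianRing (K ⊗[R] T) := isArtinian_of_tower K inferInstance
  have hfinI : Finite {g : T // IsIdempotentElem g} := by
    haveI : Finite {y : K ⊗[R] T | IsIdempotentElem y} := (TorsionFinite.finite_idempotents (K ⊗[R] T)).to_subtype
    refine Finite.of_injective (fun g => (⟨φ g.1, g.2.map φ⟩ : {y : K ⊗[R] T | IsIdempotentElem y})) ?_
    intro g h hgh
    have hgh' : φ g.1 = φ h.1 := congrArg Subtype.val hgh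
    refine Subtype.ext (sub_eq_zero.mp ?_)
    have h1 : g.1 * (1 - h.1) = 0 := hzero _ (g.2.mul h.2.one_sub) (by
      rw [map_mul, map_sub, map_one, hgh', mul_sub, mul_one, (h.2.map φ).eq, sub_self])
    have h2 : h.1 * (1 - g.1) = 0 := hzero _ (h.2.mul g.2.one_sub) (by
      rw [map_mul, map_sub, map_one, ← hgh', mul_sub, mul_one, (g.2.map φ).eq, sub_self])
    linear_combination h1 - h2
  haveI := Fintype.ofFinite {g : T // IsIdempotentElem g}
  let sz : {g : T // IsIdempotentElem g} → ℕ := fun g =>
    (Finset.univ.filter fun h : {g : T // IsIdempotentElem g} => h.1 * g.1 = h.1).card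
  have hne : (Finset.univ.filter fun g : {g : T // IsIdempotentElem g} => g.1 ≠ 0).Nonempty :=
    ⟨⟨1, IsIdempotentElem.one⟩, by simp⟩
  obtain ⟨e, he, hmin⟩ := Finset.exists_min_image _ sz hne
  have he0 : e.1 ≠ 0 := (Finset.mem_filter.mp he).2
  obtain ⟨het, hfin, hsurj⟩ := hfpz e.1 e.2
  haveI := het
  haveI := hfin
  let X := Localization.Away e.1
  have hX : Nontrivial X := by
    by_contra hn
    rw [not_nontrivial_iff_subsingleton] at hn
    obtain ⟨⟨_, k, rfl⟩, hk⟩ :=
      (IsLocalization.map_eq_zero_iff (Submonoid.powers e.1) X (1 : T)).mp (Subsingleton.elim _ _)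
    dsimp only at hk
    rcases Nat.eq_zero_or_pos k with rfl | hk0
    · rw [pow_zero, one_mul] at hk
      exact one_ne_zero hk
    · rw [mul_one, e.2.pow_eq hk0.ne'] at hk
      exact he0 hk
  have hkill : ∀ t : T, algebraMap T X t = 0 ↔ t * e.1 = 0 := by
    intro t
    constructor
    · intro h
      obtain ⟨⟨_, k, rfl⟩, hk⟩ := (IsLocalization.map_eq_zero_iff (Submonoid.powers e.1) X t).mp h
      dsimp only at hk
      rcases Nat.eq_zero_or_pos k with rfl | hk0
      · rw [pow_zero, one_mul] at hk
        rw [hk, zero_mul]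
      · rwa [e.2.pow_eq hk0.ne', mul_comm] at hk
    · intro h
      refine (IsLocalization.map_eq_zero_iff (Submonoid.powers e.1) X t).mpr ⟨⟨e.1, 1, pow_one _⟩, ?_⟩
      rwa [mul_comm]
  haveI : Module.FinitePresentation R X := Module.FinitePresentation.of_finite_of_finitePresentation R _
  have hff : Module.FaithfullyFlat R X := by
    apply Module.FaithfullyFlat.of_comap_surjective
    rw [← PrimeSpectrum.rankAtStalk_pos_iff_comap_surjective]
    intro q
    refine Nat.pos_of_ne_zero fun h0 => ?_
    have : Subsingleton X := (Module.rankAtStalk_eq_zero_iff_subsingleton (R := R) (M := X)).mp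
      (funext fun q' => (preconnected_of_idem q' q).trans h0)
    exact not_subsingleton X this
  refine ⟨X, inferInstance, inferInstance, IsScalarTower.toAlgHom R T X, het, hfin, hff, hX, fun f hf => ?_⟩
  obtain ⟨t, rfl⟩ := hsurj f
  have ht : IsIdempotentElem (t * e.1) := by
    have h1 : (t * t - t) * e.1 = 0 := (hkill _).mp (by rw [map_sub, map_mul, hf.eq, sub_self])
    change t * e.1 * (t * e.1) = t * e.1
    have h2 : e.1 * e.1 = e.1 := e.2.eq
    linear_combination h1 + (t * t) * h2
  by_cases h0 : t * e.1 = 0
  · exact Or.inl ((hkill t).mpr h0)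
  · refine Or.inr (sub_eq_zero.mp ?_)
    rw [← map_one (algebraMap T X), ← map_sub, hkill, sub_mul, one_mul, sub_eq_zero]
    by_contra hne'
    have hlt : sz ⟨t * e.1, ht⟩ < sz e := by
      refine Finset.card_lt_card ⟨fun h hh => ?_, fun hsub => ?_⟩
      · rw [Finset.mem_filter] at hh ⊢
        refine ⟨hh.1, ?_⟩
        have hh2 : h.1 * (t * e.1) = h.1 := hh.2
        have h3 : e.1 * e.1 = e.1 := e.2.eq
        linear_combination (h.1 * t) * h3 + (1 - e.1) * hh2
      · have := hsub (show e ∈ Finset.univ.filter fun h => h.1 * e.1 = h.1 from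
          Finset.mem_filter.mpr ⟨Finset.mem_univ _, e.2.eq⟩)
        rw [Finset.mem_filter] at this
        exact hne' (by
          have h3 : e.1 * e.1 = e.1 := e.2.eq
          have h4 : e.1 * (t * e.1) = e.1 := this.2
          linear_combination h4 - t * h3)
    exact absurd (hmin ⟨t * e.1, ht⟩ (Finset.mem_filter.mpr ⟨Finset.mem_univ _, h0⟩)) (not_le.mpr hlt)

/-! ### the theorems -/

theorem subsingleton_of_family {R : Type u} [CommRing R] {ι : Type u} [Fintype ι] (T : ι → Type u)
    [∀ i, CommRing (T i)] [∀ i, Algebra R (T i)] [Module.FaithfullyFlat R (∀ i, T i)] (X : Type u) [AddCommGroup X]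
    [Module R X] (h : ∀ i, Subsingleton (T i ⊗[R] X)) : Subsingleton X := by
  classical
  haveI : Subsingleton ((∀ i, T i) ⊗[R] X) := (TensorProduct.piLeft R X T).toEquiv.subsingleton
  exact Module.FaithfullyFlat.lTensor_reflects_triviality R (∀ i, T i) X

theorem etale_dual_of_family {R : Type u} [CommRing R] {A : Type u} [CommRing A] [HopfAlgebra R A]
    [IsCocomm R A] [Module.Finite R A] [Module.Projective R A]
    {ι : Type u} [Fintype ι] (T : ι → Type u) [∀ i, CommRing (T i)] [∀ i, Algebra R (T i)]
    [Module.FaithfullyFlat R (∀ i, T i)]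
    (h : ∀ i, ∃ (M : Type u) (_ : CommGroup M), Nonempty (T i ⊗[R] A ≃ₐc[T i] MonoidAlgebra (T i) M)) :
    Algebra.Etale R (CartDual.D R A) := by
  haveI : Module.FinitePresentation R (CartDual.D R A) := Module.finitePresentation_of_projective R _
  haveI : Algebra.FinitePresentation R (CartDual.D R A) :=
    Algebra.FinitePresentation.of_finitePresentation R (CartDual.D R A)
  haveI : Algebra.FormallyUnramified R (CartDual.D R A) := by
    refine ⟨subsingleton_of_family (R := R) T (Ω[CartDual.D R A⁄R]) fun i => ?_⟩
    rcases subsingleton_or_nontrivial (T i) with hT | hT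
    · exact Module.subsingleton (T i) (T i ⊗[R] Ω[CartDual.D R A⁄R])
    obtain ⟨M, _, ⟨e⟩⟩ := h i
    haveI : Finite M := by
      haveI : Module.Finite (T i) (MonoidAlgebra (T i) M) := Module.Finite.equiv e.toAlgEquiv.toLinearEquiv
      exact Module.Finite.finite_basis (MonoidAlgebra.basis M (T i))
    haveI := etale_dual_of_groupAlgebra e
    haveI : Algebra.Etale (T i) (T i ⊗[R] CartDual.D R A) :=
      Algebra.Etale.of_equiv (AlgEquiv.ofBijective (dualBC (R := R) (A := A) (T i)) (dualBC_bijective (R := R) (A := A) (T i))).symm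
    letI : Algebra (CartDual.D R A) (T i ⊗[R] CartDual.D R A) := Algebra.TensorProduct.rightAlgebra
    exact ((KaehlerDifferential.tensorKaehlerEquivBase R (T i) (CartDual.D R A)
      (T i ⊗[R] CartDual.D R A))).toEquiv.subsingleton
  exact Algebra.Etale.of_formallyUnramified_of_flat

theorem isIsotrivial_of_etale_dual {R : Type u} [CommRing R] [ConnectedSpace (PrimeSpectrum R)]
    {A : Type u} [CommRing A] [HopfAlgebra R A] [IsCocomm R A] [Module.Finite R A] [Module.Projective R A]
    [Algebra.Etale R (CartDual.D R A)] : SGA3b.IsIsotrivial R A := by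
  classical
  haveI : Module.FinitePresentation R (CartDual.D R A) := Module.finitePresentation_of_projective R _
  have p : PrimeSpectrum R := (ConnectedSpace.toNonempty (α := PrimeSpectrum R)).some
  haveI : Nontrivial R := p.nontrivial
  obtain ⟨T, _, _, _, _, _, hsplit⟩ := Algebra.IsFiniteSplit.exists_tensorProduct_of_etale (R := R)
    (S := CartDual.D R A) (n := Module.rankAtStalk (CartDual.D R A) p)
    (funext fun q => preconnected_of_idem q p)
  haveI : Nontrivial T := by
    obtain ⟨q, -⟩ := PrimeSpectrum.comap_surjective_of_faithfullyFlat (A := R) (B := T) p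
    exact q.nontrivial
  obtain ⟨T', _, _, f, het, hfin, hff, hnt, hconn⟩ := exists_connected_piece (R := R) T
  refine ⟨T', inferInstance, inferInstance, het, hfin, hff, ?_⟩
  obtain ⟨n, ⟨e⟩⟩ := hsplit.nonempty_algEquiv_fun
  letI : Algebra T T' := f.toRingHom.toAlgebra
  haveI : IsScalarTower R T T' := IsScalarTower.of_algebraMap_eq fun r => (f.commutes r).symm
  let e' : T' ⊗[R] CartDual.D R A ≃ₐ[T'] (Fin n → T') :=
    (Algebra.TensorProduct.cancelBaseChange R T T' T' (CartDual.D R A)).symm.trans
      ((Algebra.TensorProduct.congr AlgEquiv.refl e).trans (Algebra.TensorProduct.piScalarRight T T' T' (Fin n)))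
  exact isDiag_of_split_dual hconn ((AlgEquiv.ofBijective (dualBC (R := R) (A := A) T') (dualBC_bijective (R := R) (A := A) T')).symm.trans e')

theorem etale_dual_of_isIsotrivial {R : Type u} [CommRing R] {A : Type u} [CommRing A] [HopfAlgebra R A]
    [IsCocomm R A] [Module.Finite R A] [Module.Projective R A] (h : SGA3b.IsIsotrivial R A) :
    Algebra.Etale R (CartDual.D R A) := by
  obtain ⟨T, _, _, _, _, hff, M, _, ⟨e⟩⟩ := h
  haveI := hff
  rcases subsingleton_or_nontrivial T with hT | hT
  · haveI : Algebra.IsFiniteSplit T (T ⊗[R] CartDual.D R A) := Algebra.IsFiniteSplit.of_subsingleton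
    exact Algebra.Etale.of_etale_tensorProduct_of_faithfullyFlat T
  haveI : Finite M := by
    haveI : Module.Finite T (MonoidAlgebra T M) := Module.Finite.equiv e.toAlgEquiv.toLinearEquiv
    exact Module.Finite.finite_basis (MonoidAlgebra.basis M T)
  haveI := etale_dual_of_groupAlgebra e
  haveI : Algebra.Etale T (T ⊗[R] CartDual.D R A) :=
    Algebra.Etale.of_equiv (AlgEquiv.ofBijective (dualBC (R := R) (A := A) T) (dualBC_bijective (R := R) (A := A) T)).symm
  exact Algebra.Etale.of_etale_tensorProduct_of_faithfullyFlat T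

/-- finite groups of multiplicative type over a connected base are isotrivial -/
theorem isIsotrivial_of_isMultType {R : Type u} [CommRing R] [ConnectedSpace (PrimeSpectrum R)]
    {A : Type u} [CommRing A] [HopfAlgebra R A] [Module.Finite R A] (h : SGA3b.IsMultType R A) :
    SGA3b.IsIsotrivial R A := by
  haveI := Isotrivial.isCocomm_of_isMultType h
  haveI := Family.flat_of_isMultType h
  haveI : Algebra.FinitePresentation R A := QIGlobal.finitePresentation_of_isMultType inferInstance h
  haveI : Module.FinitePresentation R A := Module.FinitePresentation.of_finite_of_finitePresentation R _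
  haveI : Module.Projective R A := Module.Flat.projective_of_finitePresentation
  obtain ⟨ι, _, T, _, _, hff, hM⟩ := Integral.exists_split_family h
  haveI := etale_dual_of_family (A := A) T hM
  exact isIsotrivial_of_etale_dual

end

end Groth.Agent.MultType.FiniteDual
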