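import Groth.Agent.MultType.HomLift
import Groth.Agent.MultType.Mono

/-!
# Functorial operations on scalar extensions of bialgebras, semilinear in the scalars
-/

open Coalgebra TensorProduct

universe u

namespace Groth.Agent.MultType.Sq

open GroupLike

noncomputable section

variable {R : Type u} [CommRing R] {U : Type u} [CommRing U] [Algebra R U] {V : Type u} [CommRing V] [Algebra R V]
  {A : Type u} [CommRing A] [Algebra R A] {D : Type u} [CommRing D] [Algebra R D] {E : Type u} [CommRing E] [Algebra R E]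

theorem smul_tmul_one (u : U) (a : A) : u ⊗ₜ[R] a = u • ((1 : U) ⊗ₜ[R] a) := by
  rw [TensorProduct.smul_tmul', smul_eq_mul, mul_one]

theorem bcMap_smul (g : U →ₐ[R] V) (u : U) (z : U ⊗[R] D) : bcMap g D (u • z) = g u • bcMap g D z := by
  induction z using TensorProduct.induction_on with
  | zero => simp
  | add x y hx hy => simp only [smul_add, map_add, hx, hy]
  | tmul s a => simp [bcMap, TensorProduct.smul_tmul']

/-- the `U`-algebra map `U ⊗ A → U ⊗ D` with prescribed values on `A` -/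
def ext₁ (f : A →ₐ[R] U ⊗[R] D) : U ⊗[R] A →ₐ[U] U ⊗[R] D :=
  Algebra.TensorProduct.lift (Algebra.ofId U (U ⊗[R] D)) f fun _ _ => Commute.all _ _

theorem ext₁_one_tmul (f : A →ₐ[R] U ⊗[R] D) (a : A) : ext₁ f (1 ⊗ₜ a) = f a := by
  simp [ext₁, ← Algebra.TensorProduct.one_def]

theorem eq_of_one_tmul {N : Type u} [CommRing N] [Algebra U N] {F G : U ⊗[R] A →ₐ[U] N}
    (h : ∀ a, F (1 ⊗ₜ a) = G (1 ⊗ₜ a)) : F = G := by
  ext z
  induction z using TensorProduct.induction_on with
  | zero => simp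
  | add x y hx hy => simp only [map_add, hx, hy]
  | tmul u a => rw [smul_tmul_one, map_smul, map_smul, h]

/-- change of scalars of an algebra map -/
def bcAlg (g : U →ₐ[R] V) (F : U ⊗[R] A →ₐ[U] U ⊗[R] D) : V ⊗[R] A →ₐ[V] V ⊗[R] D :=
  ext₁ (((bcMap g D).comp (F.restrictScalars R)).comp
    (Algebra.TensorProduct.includeRight : A →ₐ[R] U ⊗[R] A))

theorem bcAlg_one_tmul (g : U →ₐ[R] V) (F : U ⊗[R] A →ₐ[U] U ⊗[R] D) (a : A) :
    bcAlg g F (1 ⊗ₜ a) = bcMap g D (F (1 ⊗ₜ a)) := ext₁_one_tmul _ a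

theorem bcAlg_natural (g : U →ₐ[R] V) (F : U ⊗[R] A →ₐ[U] U ⊗[R] D) (z : U ⊗[R] A) :
    bcAlg g F (bcMap g A z) = bcMap g D (F z) := by
  induction z using TensorProduct.induction_on with
  | zero => simp
  | add x y hx hy => simp only [map_add, hx, hy]
  | tmul u a =>
    rw [smul_tmul_one, bcMap_smul, map_smul, map_smul, bcMap_smul, GLLift.bcMap_tmul, map_one, bcAlg_one_tmul]

theorem bcAlg_comp (g : U →ₐ[R] V) (G : U ⊗[R] D →ₐ[U] U ⊗[R] E) (F : U ⊗[R] A →ₐ[U] U ⊗[R] D) :
    bcAlg g (G.comp F) = (bcAlg g G).comp (bcAlg g F) :=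
  eq_of_one_tmul fun a => by
    rw [AlgHom.comp_apply, bcAlg_one_tmul, bcAlg_one_tmul, bcAlg_natural]
    rfl

theorem bcAlg_id (g : U →ₐ[R] V) : bcAlg g (AlgHom.id U (U ⊗[R] A)) = AlgHom.id V (V ⊗[R] A) :=
  eq_of_one_tmul fun a => by
    rw [bcAlg_one_tmul, AlgHom.coe_id, id_eq, GLLift.bcMap_tmul, map_one]
    rfl

theorem bcAlg_injective (g : U →ₐ[R] V) (e : U ⊗[R] A ≃ₐ[U] U ⊗[R] D) :
    Function.Injective (bcAlg g (e : U ⊗[R] A →ₐ[U] U ⊗[R] D)) := by
  refine Function.LeftInverse.injective (g := bcAlg g (e.symm : U ⊗[R] D →ₐ[U] U ⊗[R] A)) fun x => ?_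
  rw [← AlgHom.comp_apply, ← bcAlg_comp]
  simp [bcAlg_id]

variable {A' : Type u} [CommRing A'] [Algebra R A'] {D' : Type u} [CommRing D'] [Algebra R D']
  {E' : Type u} [CommRing E'] [Algebra R E']

/-- left inclusion -/
def il (U : Type u) [CommRing U] [Algebra R U] (D D' : Type u) [CommRing D] [Algebra R D] [CommRing D'] [Algebra R D'] :
    U ⊗[R] D →ₐ[U] U ⊗[R] (D ⊗[R] D') :=
  Algebra.TensorProduct.map (AlgHom.id U U) Algebra.TensorProduct.includeLeft

/-- right inclusion -/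
def ir (U : Type u) [CommRing U] [Algebra R U] (D D' : Type u) [CommRing D] [Algebra R D] [CommRing D'] [Algebra R D'] :
    U ⊗[R] D' →ₐ[U] U ⊗[R] (D ⊗[R] D') :=
  Algebra.TensorProduct.map (AlgHom.id U U) Algebra.TensorProduct.includeRight

/-- the product of two `U`-algebra maps -/
def pair (F : U ⊗[R] A →ₐ[U] U ⊗[R] D) (G : U ⊗[R] A' →ₐ[U] U ⊗[R] D') :
    U ⊗[R] (A ⊗[R] A') →ₐ[U] U ⊗[R] (D ⊗[R] D') :=
  ext₁ (Algebra.TensorProduct.lift
    ((((il U D D').comp F).restrictScalars R).comp (Algebra.TensorProduct.includeRight : A →ₐ[R] U ⊗[R] A))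
    ((((ir U D D').comp G).restrictScalars R).comp (Algebra.TensorProduct.includeRight : A' →ₐ[R] U ⊗[R] A'))
    fun _ _ => Commute.all _ _)

/-- the square of a `U`-algebra map -/
abbrev sq (F : U ⊗[R] A →ₐ[U] U ⊗[R] D) : U ⊗[R] (A ⊗[R] A) →ₐ[U] U ⊗[R] (D ⊗[R] D) := pair F F

theorem pair_one_tmul (F : U ⊗[R] A →ₐ[U] U ⊗[R] D) (G : U ⊗[R] A' →ₐ[U] U ⊗[R] D') (a : A) (b : A') :
    pair F G (1 ⊗ₜ (a ⊗ₜ b)) = il U D D' (F (1 ⊗ₜ a)) * ir U D D' (G (1 ⊗ₜ b)) := ext₁_one_tmul _ _

theorem eq_of_one_tmul₂ {N : Type u} [CommRing N] [Algebra U N] {F G : U ⊗[R] (A ⊗[R] A') →ₐ[U] N}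
    (h : ∀ a b, F (1 ⊗ₜ (a ⊗ₜ b)) = G (1 ⊗ₜ (a ⊗ₜ b))) : F = G :=
  eq_of_one_tmul fun w => by
    induction w using TensorProduct.induction_on with
    | zero => simp
    | add x y hx hy => simp only [TensorProduct.tmul_add, map_add, hx, hy]
    | tmul a b => exact h a b

theorem pair_il (F : U ⊗[R] A →ₐ[U] U ⊗[R] D) (G : U ⊗[R] A' →ₐ[U] U ⊗[R] D') (z : U ⊗[R] A) :
    pair F G (il U A A' z) = il U D D' (F z) := by
  have h : (pair F G).comp (il U A A') = (il U D D').comp F := eq_of_one_tmul fun a => by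
    simp only [AlgHom.comp_apply, il, Algebra.TensorProduct.map_tmul, AlgHom.coe_id, id_eq,
      Algebra.TensorProduct.includeLeft_apply]
    rw [pair_one_tmul, ← Algebra.TensorProduct.one_def, map_one, map_one, mul_one]
    rfl
  exact AlgHom.congr_fun h z

theorem pair_ir (F : U ⊗[R] A →ₐ[U] U ⊗[R] D) (G : U ⊗[R] A' →ₐ[U] U ⊗[R] D') (z : U ⊗[R] A') :
    pair F G (ir U A A' z) = ir U D D' (G z) := by
  have h : (pair F G).comp (ir U A A') = (ir U D D').comp G := eq_of_one_tmul fun a => by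
    simp only [AlgHom.comp_apply, ir, Algebra.TensorProduct.map_tmul, AlgHom.coe_id, id_eq,
      Algebra.TensorProduct.includeRight_apply]
    rw [pair_one_tmul, ← Algebra.TensorProduct.one_def, map_one, map_one, one_mul]
    rfl
  exact AlgHom.congr_fun h z

theorem pair_comp (F' : U ⊗[R] D →ₐ[U] U ⊗[R] E) (F : U ⊗[R] A →ₐ[U] U ⊗[R] D) (G' : U ⊗[R] D' →ₐ[U] U ⊗[R] E')
    (G : U ⊗[R] A' →ₐ[U] U ⊗[R] D') : pair (F'.comp F) (G'.comp G) = (pair F' G').comp (pair F G) :=
  eq_of_one_tmul₂ fun a b => by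
    rw [AlgHom.comp_apply, pair_one_tmul, pair_one_tmul, map_mul, pair_il, pair_ir]
    rfl

theorem pair_id : pair (AlgHom.id U (U ⊗[R] A)) (AlgHom.id U (U ⊗[R] A')) = AlgHom.id U (U ⊗[R] (A ⊗[R] A')) :=
  eq_of_one_tmul₂ fun a b => by
    rw [pair_one_tmul]
    simp [il, ir, Algebra.TensorProduct.tmul_mul_tmul]

theorem pair_injective (e : U ⊗[R] A ≃ₐ[U] U ⊗[R] D) (e' : U ⊗[R] A' ≃ₐ[U] U ⊗[R] D') :
    Function.Injective (pair (e : U ⊗[R] A →ₐ[U] U ⊗[R] D) (e' : U ⊗[R] A' →ₐ[U] U ⊗[R] D')) := by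
  refine Function.LeftInverse.injective
    (g := pair (e.symm : U ⊗[R] D →ₐ[U] U ⊗[R] A) (e'.symm : U ⊗[R] D' →ₐ[U] U ⊗[R] A')) fun x => ?_
  rw [← AlgHom.comp_apply, ← pair_comp]
  simp [pair_id]

theorem pair_bijective (e : U ⊗[R] A ≃ₐ[U] U ⊗[R] D) (e' : U ⊗[R] A' ≃ₐ[U] U ⊗[R] D') :
    Function.Bijective (pair (e : U ⊗[R] A →ₐ[U] U ⊗[R] D) (e' : U ⊗[R] A' →ₐ[U] U ⊗[R] D')) := by
  refine ⟨pair_injective e e', Function.RightInverse.surjective
    (g := pair (e.symm : U ⊗[R] D →ₐ[U] U ⊗[R] A) (e'.symm : U ⊗[R] D' →ₐ[U] U ⊗[R] A')) fun x => ?_⟩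
  rw [← AlgHom.comp_apply, ← pair_comp]
  simp [pair_id]

theorem bcMap_il (g : U →ₐ[R] V) (z : U ⊗[R] D) : bcMap g _ (il U D D' z) = il V D D' (bcMap g D z) := by
  induction z using TensorProduct.induction_on with
  | zero => simp
  | add x y hx hy => simp only [map_add, hx, hy]
  | tmul u d => rfl

theorem bcMap_ir (g : U →ₐ[R] V) (z : U ⊗[R] D') : bcMap g _ (ir U D D' z) = ir V D D' (bcMap g D' z) := by
  induction z using TensorProduct.induction_on with
  | zero => simp
  | add x y hx hy => simp only [map_add, hx, hy]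
  | tmul u d => rfl

theorem sq_natural (g : U →ₐ[R] V) {F : U ⊗[R] A →ₐ[U] U ⊗[R] D} {F' : V ⊗[R] A →ₐ[V] V ⊗[R] D}
    (h : ∀ z, F' (bcMap g A z) = bcMap g D (F z)) (w : U ⊗[R] (A ⊗[R] A)) :
    sq F' (bcMap g _ w) = bcMap g _ (sq F w) := by
  induction w using TensorProduct.induction_on with
  | zero => simp
  | add x y hx hy => simp only [map_add, hx, hy]
  | tmul u t =>
    induction t using TensorProduct.induction_on with
    | zero => simp
    | add x y hx hy => simp only [TensorProduct.tmul_add, map_add, hx, hy]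
    | tmul a b =>
      rw [smul_tmul_one, bcMap_smul, map_smul, map_smul, bcMap_smul, GLLift.bcMap_tmul, map_one, pair_one_tmul,
        pair_one_tmul, map_mul, bcMap_il, bcMap_ir, ← h, ← h, GLLift.bcMap_tmul, GLLift.bcMap_tmul, map_one]

section Tw

/-- `F` and `G` intertwine `u` and `u'` -/
def Tw (F : U ⊗[R] A →ₐ[U] U ⊗[R] D) (G : U ⊗[R] A' →ₐ[U] U ⊗[R] D') (u : A →ₐ[R] A') (u' : D →ₐ[R] D') : Prop :=
  G.comp (Algebra.TensorProduct.map (AlgHom.id U U) u) = (Algebra.TensorProduct.map (AlgHom.id U U) u').comp F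

variable {F : U ⊗[R] A →ₐ[U] U ⊗[R] D} {G : U ⊗[R] A' →ₐ[U] U ⊗[R] D'}

theorem map_il {F₁ F₂ G₁ G₂ : Type u} [CommRing F₁] [Algebra R F₁] [CommRing F₂] [Algebra R F₂] [CommRing G₁]
    [Algebra R G₁] [CommRing G₂] [Algebra R G₂] (u : F₁ →ₐ[R] F₂) (v : G₁ →ₐ[R] G₂) (z : U ⊗[R] F₁) :
    Algebra.TensorProduct.map (AlgHom.id U U) (Algebra.TensorProduct.map u v) (il U F₁ G₁ z) =
      il U F₂ G₂ (Algebra.TensorProduct.map (AlgHom.id U U) u z) := by
  induction z using TensorProduct.induction_on with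
  | zero => simp
  | add x y hx hy => simp only [map_add, hx, hy]
  | tmul s d => simp [il]

theorem map_ir {F₁ F₂ G₁ G₂ : Type u} [CommRing F₁] [Algebra R F₁] [CommRing F₂] [Algebra R F₂] [CommRing G₁]
    [Algebra R G₁] [CommRing G₂] [Algebra R G₂] (u : F₁ →ₐ[R] F₂) (v : G₁ →ₐ[R] G₂) (z : U ⊗[R] G₁) :
    Algebra.TensorProduct.map (AlgHom.id U U) (Algebra.TensorProduct.map u v) (ir U F₁ G₁ z) =
      ir U F₂ G₂ (Algebra.TensorProduct.map (AlgHom.id U U) v z) := by
  induction z using TensorProduct.induction_on with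
  | zero => simp
  | add x y hx hy => simp only [map_add, hx, hy]
  | tmul s d => simp [ir]

theorem Tw.id : Tw F F (AlgHom.id R A) (AlgHom.id R D) := by
  ext z; simp

theorem Tw.comp {A'' D'' : Type u} [CommRing A''] [Algebra R A''] [CommRing D''] [Algebra R D'']
    {H : U ⊗[R] A'' →ₐ[U] U ⊗[R] D''} {u : A →ₐ[R] A'} {u' : D →ₐ[R] D'} {v : A' →ₐ[R] A''} {v' : D' →ₐ[R] D''}
    (h : Tw F G u u') (h' : Tw G H v v') : Tw F H (v.comp u) (v'.comp u') :=
  eq_of_one_tmul fun a => by
    have h1 := AlgHom.congr_fun h ((1 : U) ⊗ₜ a)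
    have h2 := AlgHom.congr_fun h' ((1 : U) ⊗ₜ u a)
    simp only [AlgHom.comp_apply, Algebra.TensorProduct.map_tmul, AlgHom.coe_id, id_eq] at h1 h2 ⊢
    rw [h2, h1]
    generalize F ((1 : U) ⊗ₜ[R] a) = y
    induction y using TensorProduct.induction_on with
    | zero => simp
    | add x y hx hy => simp only [map_add, hx, hy]
    | tmul s d => rfl

theorem Tw.prod {A₂ D₂ A₂' D₂' : Type u} [CommRing A₂] [Algebra R A₂] [CommRing D₂] [Algebra R D₂] [CommRing A₂']
    [Algebra R A₂'] [CommRing D₂'] [Algebra R D₂'] {F' : U ⊗[R] A₂ →ₐ[U] U ⊗[R] D₂}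
    {G' : U ⊗[R] A₂' →ₐ[U] U ⊗[R] D₂'} {u : A →ₐ[R] A'} {u' : D →ₐ[R] D'} {v : A₂ →ₐ[R] A₂'} {v' : D₂ →ₐ[R] D₂'}
    (h : Tw F G u u') (h' : Tw F' G' v v') :
    Tw (pair F F') (pair G G') (Algebra.TensorProduct.map u v) (Algebra.TensorProduct.map u' v') :=
  eq_of_one_tmul₂ fun a b => by
    have h1 := AlgHom.congr_fun h ((1 : U) ⊗ₜ a)
    have h2 := AlgHom.congr_fun h' ((1 : U) ⊗ₜ b)
    simp only [AlgHom.comp_apply, Algebra.TensorProduct.map_tmul, AlgHom.coe_id, id_eq] at h1 h2 ⊢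
    rw [pair_one_tmul, pair_one_tmul, h1, h2, map_mul, map_il, map_ir]

theorem Tw.assoc {A₂ D₂ : Type u} [CommRing A₂] [Algebra R A₂] [CommRing D₂] [Algebra R D₂]
    {H : U ⊗[R] A₂ →ₐ[U] U ⊗[R] D₂} :
    Tw (pair (pair F G) H) (pair F (pair G H)) (Algebra.TensorProduct.assoc R R R A A' A₂).toAlgHom
      (Algebra.TensorProduct.assoc R R R D D' D₂).toAlgHom :=
  eq_of_one_tmul₂ fun t c => by
    induction t using TensorProduct.induction_on with
    | zero => simp
    | add x y hx hy => simp only [TensorProduct.add_tmul, TensorProduct.tmul_add, map_add, hx, hy]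
    | tmul a b =>
      simp only [AlgHom.comp_apply, Algebra.TensorProduct.map_tmul, AlgHom.coe_id, id_eq, AlgEquiv.coe_toAlgHom,
        Algebra.TensorProduct.assoc_tmul]
      rw [pair_one_tmul, pair_one_tmul, pair_one_tmul, pair_one_tmul, map_mul, map_mul, map_mul, map_mul]
      have h1 : ∀ z : U ⊗[R] D, Algebra.TensorProduct.map (AlgHom.id U U)
          (Algebra.TensorProduct.assoc R R R D D' D₂).toAlgHom (il U (D ⊗[R] D') D₂ (il U D D' z)) =
          il U D (D' ⊗[R] D₂) z := fun z => by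
        induction z using TensorProduct.induction_on with
        | zero => simp
        | add x y hx hy => simp only [map_add, hx, hy]
        | tmul s d => simp [il, Algebra.TensorProduct.one_def]
      have h2 : ∀ z : U ⊗[R] D', Algebra.TensorProduct.map (AlgHom.id U U)
          (Algebra.TensorProduct.assoc R R R D D' D₂).toAlgHom (il U (D ⊗[R] D') D₂ (ir U D D' z)) =
          ir U D (D' ⊗[R] D₂) (il U D' D₂ z) := fun z => by
        induction z using TensorProduct.induction_on with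
        | zero => simp
        | add x y hx hy => simp only [map_add, hx, hy]
        | tmul s d => simp [il, ir]
      have h3 : ∀ z : U ⊗[R] D₂, Algebra.TensorProduct.map (AlgHom.id U U)
          (Algebra.TensorProduct.assoc R R R D D' D₂).toAlgHom (ir U (D ⊗[R] D') D₂ z) =
          ir U D (D' ⊗[R] D₂) (ir U D' D₂ z) := fun z => by
        induction z using TensorProduct.induction_on with
        | zero => simp
        | add x y hx hy => simp only [map_add, hx, hy]
        | tmul s d => simp [ir, Algebra.TensorProduct.one_def]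
      rw [h1, h2, h3, mul_assoc]

theorem Tw.lid : Tw (pair (AlgHom.id U (U ⊗[R] R)) F) F (Algebra.TensorProduct.lid R A).toAlgHom
    (Algebra.TensorProduct.lid R D).toAlgHom :=
  eq_of_one_tmul₂ fun r a => by
    simp only [AlgHom.comp_apply, Algebra.TensorProduct.map_tmul, AlgHom.coe_id, id_eq, AlgEquiv.coe_toAlgHom,
      Algebra.TensorProduct.lid_tmul, pair_one_tmul]
    rw [TensorProduct.tmul_smul, ← algebraMap_smul U, map_smul, algebraMap_smul]
    generalize F ((1 : U) ⊗ₜ[R] a) = y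
    induction y using TensorProduct.induction_on with
    | zero => simp
    | add x y hx hy => simp only [smul_add, map_add, mul_add, hx, hy]
    | tmul s d => simp [il, ir, Algebra.TensorProduct.tmul_mul_tmul, TensorProduct.tmul_smul]

theorem Tw.rid : Tw (pair F (AlgHom.id U (U ⊗[R] R))) F (Algebra.TensorProduct.rid R R A).toAlgHom
    (Algebra.TensorProduct.rid R R D).toAlgHom :=
  eq_of_one_tmul₂ fun a r => by
    simp only [AlgHom.comp_apply, Algebra.TensorProduct.map_tmul, AlgHom.coe_id, id_eq, AlgEquiv.coe_toAlgHom,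
      Algebra.TensorProduct.rid_tmul, pair_one_tmul]
    rw [TensorProduct.tmul_smul, ← algebraMap_smul U, map_smul, algebraMap_smul]
    generalize F ((1 : U) ⊗ₜ[R] a) = y
    induction y using TensorProduct.induction_on with
    | zero => simp
    | add x y hx hy => simp only [smul_add, map_add, add_mul, hx, hy]
    | tmul s d => simp [il, ir, Algebra.TensorProduct.tmul_mul_tmul, TensorProduct.tmul_smul]

theorem Tw.mul : Tw (pair F F) F (Algebra.TensorProduct.lmul' R) (Algebra.TensorProduct.lmul' R) :=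
  eq_of_one_tmul₂ fun a b => by
    simp only [AlgHom.comp_apply, Algebra.TensorProduct.map_tmul, AlgHom.coe_id, id_eq,
      Algebra.TensorProduct.lmul'_apply_tmul, pair_one_tmul]
    rw [← mul_one (1 : U), ← Algebra.TensorProduct.tmul_mul_tmul, map_mul, map_mul, mul_one]
    congr 1
    all_goals
      generalize F _ = y
      induction y using TensorProduct.induction_on with
      | zero => simp
      | add x y hx hy => simp only [map_add]; rw [← hx, ← hy]
      | tmul s d => simp [il, ir]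

theorem Tw.unit : Tw (AlgHom.id U (U ⊗[R] R)) F (Algebra.ofId R A) (Algebra.ofId R D) :=
  eq_of_one_tmul fun r => by
    simp only [AlgHom.comp_apply, Algebra.TensorProduct.map_tmul, AlgHom.coe_id, id_eq, Algebra.ofId_apply]
    rw [Algebra.algebraMap_eq_smul_one, TensorProduct.tmul_smul, ← algebraMap_smul U, map_smul, algebraMap_smul,
      ← Algebra.TensorProduct.one_def, map_one, Algebra.algebraMap_eq_smul_one, TensorProduct.tmul_smul]
    rfl

theorem Tw.eq {u v : A →ₐ[R] A'} {u' v' : D →ₐ[R] D'} (hu : Tw F G u u') (hv : Tw F G v v') (h : u' = v')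
    (hG : Function.Injective G) (a : A) : (1 : U) ⊗ₜ[R] u a = (1 : U) ⊗ₜ[R] v a := by
  apply hG
  have h1 := AlgHom.congr_fun hu ((1 : U) ⊗ₜ a)
  have h2 := AlgHom.congr_fun hv ((1 : U) ⊗ₜ a)
  simp only [AlgHom.comp_apply, Algebra.TensorProduct.map_tmul, AlgHom.coe_id, id_eq] at h1 h2
  rw [h1, h2, h]

end Tw

section Bialg

variable {B : Type u} [CommRing B] [HopfAlgebra R B] {C : Type u} [CommRing C] [HopfAlgebra R C]

/-- comultiplication, with values in `U ⊗ (B ⊗ B)` -/
def Δ (U : Type u) [CommRing U] [Algebra R U] (B : Type u) [CommRing B] [HopfAlgebra R B] :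
    U ⊗[R] B →ₐ[U] U ⊗[R] (B ⊗[R] B) :=
  Algebra.TensorProduct.map (AlgHom.id U U) (Bialgebra.comulAlgHom R B)

/-- the counit -/
def ε (U : Type u) [CommRing U] [Algebra R U] (B : Type u) [CommRing B] [HopfAlgebra R B] :
    U ⊗[R] B →ₐ[U] U ⊗[R] R :=
  Algebra.TensorProduct.map (AlgHom.id U U) (Bialgebra.counitAlgHom R B)

/-- the antipode -/
def S (U : Type u) [CommRing U] [Algebra R U] (B : Type u) [CommRing B] [HopfAlgebra R B] :
    U ⊗[R] B →ₐ[U] U ⊗[R] B :=
  Algebra.TensorProduct.map (AlgHom.id U U) (HopfAlgebra.antipodeAlgHom R B)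

theorem bcMap_Δ (g : U →ₐ[R] V) (z : U ⊗[R] B) : bcMap g _ (Δ U B z) = Δ V B (bcMap g B z) := by
  induction z using TensorProduct.induction_on with
  | zero => simp
  | add x y hx hy => simp only [map_add, hx, hy]
  | tmul u d => rfl

theorem bcMap_ε (g : U →ₐ[R] V) (z : U ⊗[R] B) : bcMap g _ (ε U B z) = ε V B (bcMap g B z) := by
  induction z using TensorProduct.induction_on with
  | zero => simp
  | add x y hx hy => simp only [map_add, hx, hy]
  | tmul u d => rfl

theorem bcMap_S (g : U →ₐ[R] V) (z : U ⊗[R] B) : bcMap g _ (S U B z) = S V B (bcMap g B z) := by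
  induction z using TensorProduct.induction_on with
  | zero => simp
  | add x y hx hy => simp only [map_add, hx, hy]
  | tmul u d => rfl

theorem S_eq_antipode (z : U ⊗[R] B) : S U B z = HopfAlgebra.antipode U z := by
  induction z using TensorProduct.induction_on with
  | zero => simp
  | add x y hx hy => simp only [map_add, hx, hy]
  | tmul u d =>
    rw [TensorProduct.antipode_def]
    simp [S]

/-- `(U ⊗ B) ⊗_U (U ⊗ B) → U ⊗ (B ⊗ B)` -/
def δ (U : Type u) [CommRing U] [Algebra R U] (B : Type u) [CommRing B] [Algebra R B] :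
    (U ⊗[R] B) ⊗[U] (U ⊗[R] B) →ₐ[U] U ⊗[R] (B ⊗[R] B) :=
  Algebra.TensorProduct.lift (il U B B) (ir U B B) fun _ _ => Commute.all _ _

theorem δ_injective (U : Type u) [CommRing U] [Algebra R U] (B : Type u) [CommRing B] [Algebra R B] :
    Function.Injective (δ (R := R) U B) := by
  have h : ∀ x, δ (R := R) U B x = (TensorProduct.AlgebraTensorModule.distribBaseChange R U B B).symm x := by
    intro x
    induction x using TensorProduct.induction_on with
    | zero => simp
    | add x y hx hy => simp only [map_add, hx, hy]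
    | tmul p q =>
      induction p using TensorProduct.induction_on with
      | zero => simp
      | add x y hx hy => simp only [TensorProduct.add_tmul, map_add, hx, hy]
      | tmul s a =>
        induction q using TensorProduct.induction_on with
        | zero => simp
        | add x y hx hy => simp only [TensorProduct.tmul_add, map_add, hx, hy]
        | tmul t b => simp [δ, il, ir, Algebra.TensorProduct.tmul_mul_tmul]
  intro x y hxy
  rw [h, h] at hxy
  exact (TensorProduct.AlgebraTensorModule.distribBaseChange R U B B).symm.injective hxy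

theorem δ_comul (z : U ⊗[R] B) : δ U B (comul (R := U) z) = Δ U B z := by
  induction z using TensorProduct.induction_on with
  | zero => simp
  | add x y hx hy => simp only [map_add, hx, hy]
  | tmul u b =>
    rw [smul_tmul_one, map_smul, map_smul, map_smul, Lift.comul_red]
    congr 1
    have h : ∀ t : B ⊗[R] B, δ U B (Lift.red₂ U B t) = (1 : U) ⊗ₜ[R] t := by
      intro t
      induction t using TensorProduct.induction_on with
      | zero => simp
      | add x y hx hy => simp only [TensorProduct.tmul_add, map_add, hx, hy]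
      | tmul p q => simp [δ, il, ir, Lift.red₂_tmul, Algebra.TensorProduct.tmul_mul_tmul]
    rw [h]
    simp [Δ]

theorem sq_δ (F : U ⊗[R] B →ₐ[U] U ⊗[R] C) (w : (U ⊗[R] B) ⊗[U] (U ⊗[R] B)) :
    sq F (δ U B w) = δ U C (TensorProduct.map F.toLinearMap F.toLinearMap w) := by
  induction w using TensorProduct.induction_on with
  | zero => simp
  | add x y hx hy => simp only [map_add, hx, hy]
  | tmul p q => simp [δ, sq, pair_il, pair_ir]

theorem Δ_hom (φ : U ⊗[R] B →ₐc[U] U ⊗[R] C) (z : U ⊗[R] B) :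
    Δ U C (φ z) = sq (φ : U ⊗[R] B →ₐ[U] U ⊗[R] C) (Δ U B z) := by
  rw [← δ_comul, ← δ_comul, sq_δ, ← CoalgHomClass.map_comp_comul_apply φ z]
  rfl

theorem ε_eq (z : U ⊗[R] B) : ε U B z = counit (R := U) z ⊗ₜ[R] (1 : R) := by
  induction z using TensorProduct.induction_on with
  | zero => simp
  | add x y hx hy => simp only [map_add, TensorProduct.add_tmul, hx, hy]
  | tmul u b => simp [ε, TensorProduct.counit_tmul, TensorProduct.smul_tmul]

theorem ε_hom (φ : U ⊗[R] B →ₐc[U] U ⊗[R] C) (z : U ⊗[R] B) : ε U C (φ z) = ε U B z := by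
  rw [ε_eq, ε_eq, CoalgHomClass.counit_comp_apply]

theorem S_hom (φ : U ⊗[R] B →ₐc[U] U ⊗[R] C) (z : U ⊗[R] B) : S U C (φ z) = φ (S U B z) := by
  rw [S_eq_antipode, S_eq_antipode, Mono.map_antipode]

theorem bcHom_eq (g : U →ₐ[R] V) (φ : U ⊗[R] B →ₐc[U] U ⊗[R] C) :
    (HomLift.bcHom g φ : V ⊗[R] B →ₐ[V] V ⊗[R] C) = bcAlg g (φ : U ⊗[R] B →ₐ[U] U ⊗[R] C) :=
  eq_of_one_tmul fun b => by
    rw [bcAlg_one_tmul]
    exact HomLift.bcHom_one_tmul g φ b

end Bialg

end

end Groth.Agent.MultType.Sq
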