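import Groth.Agent.MultType.Family
import Groth.Agent.MultType.Lift
import Groth.Agent.MultType.Sq

/-!
# Gluing isomorphisms of Hopf algebras along a faithfully flat family
-/

open Coalgebra TensorProduct

universe u

namespace Groth.Agent.MultType.Glue

noncomputable section

variable {S : Type u} [CommRing S] {ι : Type u} [Fintype ι] (V : ι → Type u) [∀ i, CommRing (V i)]
  [∀ i, Algebra S (V i)] [Module.FaithfullyFlat S (∀ i, V i)] {X : Type u} [CommRing X] [HopfAlgebra S X]
  {Y : Type u} [CommRing Y] [HopfAlgebra S Y] (E : ∀ i, V i ⊗[S] X ≃ₐc[V i] V i ⊗[S] Y)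
  (f : X → Y) (hf : ∀ x i, (1 : V i) ⊗ₜ[S] f x = E i (1 ⊗ₜ x))

/-- the glued map -/
def glued : X →ₐ[S] Y where
  toFun := f
  map_one' := Family.eq_of_family (R := S) V fun i => by
    rw [hf, ← Algebra.TensorProduct.one_def, ← Algebra.TensorProduct.one_def]
    exact (E i).toAlgEquiv.map_one
  map_mul' a b := Family.eq_of_family (R := S) V fun i => by
    rw [hf, ← one_mul (1 : V i), ← Algebra.TensorProduct.tmul_mul_tmul, ← Algebra.TensorProduct.tmul_mul_tmul, hf, hf]
    exact (E i).toAlgEquiv.map_mul _ _
  map_zero' := Family.eq_of_family (R := S) V fun i => by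
    rw [hf, TensorProduct.tmul_zero, TensorProduct.tmul_zero, map_zero]
  map_add' a b := Family.eq_of_family (R := S) V fun i => by
    rw [hf, TensorProduct.tmul_add, map_add, TensorProduct.tmul_add, hf, hf]
  commutes' r := Family.eq_of_family (R := S) V fun i => by
    rw [hf, Algebra.algebraMap_eq_smul_one, Algebra.algebraMap_eq_smul_one, TensorProduct.tmul_smul,
      TensorProduct.tmul_smul, ← algebraMap_smul (V i) r, ← algebraMap_smul (V i) r, map_smul (E i),
      ← Algebra.TensorProduct.one_def, ← Algebra.TensorProduct.one_def]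
    exact congrArg _ (E i).toAlgEquiv.map_one

include hf in
theorem glued_counit (x : X) : counit (R := S) (f x) = counit (R := S) x := by
  refine Family.eq_of_family (R := S) V fun i => ?_
  have h := congrArg (counit (R := V i)) (hf x i)
  rw [CoalgHomClass.counit_comp_apply, TensorProduct.counit_tmul, TensorProduct.counit_tmul] at h
  simp only [CommSemiring.counit_apply] at h
  apply (TensorProduct.rid S (V i)).injective
  rw [TensorProduct.rid_tmul, TensorProduct.rid_tmul]
  exact h

theorem glued_comul (x : X) :
    TensorProduct.map (glued V E f hf).toLinearMap (glued V E f hf).toLinearMap (comul (R := S) x) =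
      comul (R := S) (f x) := by
  refine Family.eq_of_family (R := S) V fun i => ?_
  apply (TensorProduct.AlgebraTensorModule.distribBaseChange S (V i) Y Y).injective
  have key : ∀ t : Y ⊗[S] Y, TensorProduct.AlgebraTensorModule.distribBaseChange S (V i) Y Y ((1 : V i) ⊗ₜ[S] t) =
      Lift.red₂ (V i) Y t := by
    intro t
    induction t using TensorProduct.induction_on with
    | zero => simp
    | add p q hp hq => simp only [TensorProduct.tmul_add, map_add, hp, hq]
    | tmul p q => simp [Lift.red₂_tmul, TensorProduct.AlgebraTensorModule.distribBaseChange_tmul]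
  rw [key, key, ← Lift.comul_red, hf, ← CoalgHomClass.map_comp_comul_apply (E i), Lift.comul_red]
  generalize comul (R := S) x = w
  induction w using TensorProduct.induction_on with
  | zero => simp
  | add p q hp hq => simp only [map_add, hp, hq]
  | tmul p q =>
    rw [TensorProduct.map_tmul, Lift.red₂_tmul, Lift.red₂_tmul]
    change ((1 : V i) ⊗ₜ[S] f p) ⊗ₜ[V i] ((1 : V i) ⊗ₜ[S] f q) = _
    rw [hf, hf]
    rfl

theorem glued_bijective : Function.Bijective (glued V E f hf) := by
  refine ⟨fun x y h => Family.eq_of_family (R := S) V fun i => ?_, fun z => ?_⟩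
  · apply (E i).toAlgEquiv.injective
    change E i (1 ⊗ₜ[S] x) = E i (1 ⊗ₜ[S] y)
    rw [← hf, ← hf]
    exact congrArg _ h
  · let P := LinearMap.range (glued V E f hf).toLinearMap
    suffices h : P.mkQ z = 0 from (Submodule.Quotient.mk_eq_zero P).mp h
    refine Family.eq_of_family (R := S) V fun i => ?_
    obtain ⟨y, hy⟩ := (E i).toAlgEquiv.surjective ((1 : V i) ⊗ₜ[S] z)
    have h1 : ∀ y, P.mkQ.lTensor (V i) (E i y) = 0 := by
      intro y
      induction y using TensorProduct.induction_on with
      | zero => simp
      | add p q hp hq => simp only [map_add, hp, hq, add_zero]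
      | tmul v x =>
        rw [Sq.smul_tmul_one v x, map_smul, ← hf, TensorProduct.smul_tmul', LinearMap.lTensor_tmul,
          show P.mkQ (f x) = 0 from (Submodule.Quotient.mk_eq_zero P).mpr ⟨x, rfl⟩, TensorProduct.tmul_zero]
    have h2 := h1 y
    rw [show E i y = _ from hy, LinearMap.lTensor_tmul] at h2
    rw [h2, TensorProduct.tmul_zero]

include E in
/-- compatible local isomorphisms glue -/
theorem exists_equiv [Module.Flat S Y]
    (hc : ∀ x i j, Family.inl (R := S) V i j (E i (1 ⊗ₜ x)) = Family.inr (R := S) V i j (E j (1 ⊗ₜ x))) :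
    Nonempty (X ≃ₐc[S] Y) := by
  choose f hf using fun x => Family.exists_of_family (R := S) V (fun i => E i (1 ⊗ₜ x)) (hc x)
  exact ⟨BialgEquiv.ofAlgEquiv (AlgEquiv.ofBijective (glued V E f hf) (glued_bijective V E f hf))
    (AlgHom.ext fun x => glued_counit V E f hf x) (AlgHom.ext fun x => glued_comul V E f hf x)⟩

end

end Groth.Agent.MultType.Glue
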