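import Groth.Agent.MultType.KerHom
import Groth.Agent.MultType.Glue
import Groth.Agent.MultType.TorusType
import Groth.Agent.MultType.NilLift
import Mathlib.RingTheory.Ideal.GoingDown

/-!
# Jointly split groups are of multiplicative type; kernels into groups of finite type
-/

open TensorProduct Coalgebra

universe u

namespace Groth.Agent.MultType.KerGen

noncomputable section

/-! ### changing the group -/

/-- an isomorphism of groups gives one of group algebras -/
def congrM (T : Type u) [CommRing T] {M N : Type u} [CommGroup M] [CommGroup N] (f : M ≃* N) :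
    MonoidAlgebra T M ≃ₐc[T] MonoidAlgebra T N :=
  BialgEquiv.ofBijective (MonoidAlgebra.mapDomainBialgHom T (f : M →* N)) <| by
    refine Function.bijective_iff_has_inverse.mpr
      ⟨MonoidAlgebra.mapDomainBialgHom T (f.symm : N →* M), fun z => ?_, fun z => ?_⟩ <;>
    · induction z using MonoidAlgebra.induction_linear with
      | zero => simp
      | add a b ha hb => simp only [map_add, ha, hb]
      | single m r => simp [MonoidAlgebra.mapDomainBialgHom]

theorem isDiag_of_subsingleton (T : Type u) [CommRing T] [Subsingleton T] (X : Type u) [CommRing X]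
    [HopfAlgebra T X] : SGA3b.IsDiag T X := by
  haveI : Subsingleton X := Module.subsingleton T X
  haveI : Subsingleton (MonoidAlgebra T PUnit.{u + 1}) := Module.subsingleton T _
  let e : X ≃ₐ[T] MonoidAlgebra T PUnit.{u + 1} :=
    AlgEquiv.ofBijective ((Algebra.ofId T _).comp (Bialgebra.counitAlgHom T X))
      ⟨fun a b _ => Subsingleton.elim a b, fun b => ⟨0, Subsingleton.elim _ _⟩⟩
  exact ⟨PUnit.{u + 1}, inferInstance,
    ⟨BialgEquiv.ofAlgEquiv e (AlgHom.ext fun _ => Subsingleton.elim _ _)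
      (AlgHom.ext fun _ => Subsingleton.elim _ _)⟩⟩

/-! ### finite products of base rings -/

theorem isDiag_pi {R : Type u} [CommRing R] {X : Type u} [CommRing X] [HopfAlgebra R X] {ι : Type u} [Fintype ι]
    (T : ι → Type u) [∀ i, CommRing (T i)] [∀ i, Algebra R (T i)] {M : Type u} [CommGroup M]
    (e : ∀ i, T i ⊗[R] X ≃ₐc[T i] MonoidAlgebra (T i) M) :
    SGA3b.IsDiag (∀ i, T i) ((∀ i, T i) ⊗[R] X) := by
  classical
  let S := ∀ i, T i
  letI algS : ∀ i, Algebra S (T i) := fun i => (Pi.evalRingHom T i).toAlgebra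
  haveI : ∀ i, IsScalarTower R S (T i) := fun i => IsScalarTower.of_algebraMap_eq' rfl
  haveI : @Module.FaithfullyFlat S (∀ i, T i) _ _ (Pi.module ι T S) :=
    @Module.FaithfullyFlat.of_linearEquiv S S _ _ _ (∀ i, T i) _ (Pi.module ι T S) _
      { toFun := fun x => x, invFun := fun x => x, map_add' := fun _ _ => rfl, map_smul' := fun _ _ => rfl }
  let E : ∀ i, T i ⊗[S] (S ⊗[R] X) ≃ₐc[T i] T i ⊗[S] MonoidAlgebra S M := fun i =>
    ((Split.cancel (R := R) (S := S) (T := T i) (A := X)).trans (e i)).trans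
      (Split.scalarBialgEquiv S (T i) M).symm
  refine ⟨M, inferInstance, Glue.exists_equiv (S := S) T E fun x i j => ?_⟩
  rcases eq_or_ne i j with rfl | hij
  · have hsurj : Function.Surjective (algebraMap S (T i)) := fun t => ⟨Pi.single i t, Pi.single_eq_same i t⟩
    generalize E i (1 ⊗ₜ x) = z
    induction z using TensorProduct.induction_on with
    | zero => simp
    | add p q hp hq => simp only [map_add, hp, hq]
    | tmul t y =>
      change ((t ⊗ₜ[S] (1 : T i)) ⊗ₜ[S] y) = ((1 : T i) ⊗ₜ[S] t) ⊗ₜ[S] y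
      obtain ⟨s, rfl⟩ := hsurj t
      rw [Algebra.algebraMap_eq_smul_one, TensorProduct.smul_tmul]
  · haveI : Subsingleton (T i ⊗[S] T j) := by
      refine subsingleton_of_zero_eq_one ?_
      let s : S := Pi.single i 1
      have h1 : algebraMap S (T i) s = 1 := Pi.single_eq_same i (1 : T i)
      have h2 : algebraMap S (T j) s = 0 := Pi.single_eq_of_ne hij.symm (1 : T i)
      calc (0 : T i ⊗[S] T j) = (1 : T i) ⊗ₜ[S] (s • (1 : T j)) := by
            rw [Algebra.smul_def, h2, zero_mul, TensorProduct.tmul_zero]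
        _ = (s • (1 : T i)) ⊗ₜ[S] (1 : T j) := (TensorProduct.smul_tmul _ _ _).symm
        _ = 1 := by rw [Algebra.smul_def, h1, one_mul, Algebra.TensorProduct.one_def]
    haveI : Subsingleton ((T i ⊗[S] T j) ⊗[S] MonoidAlgebra S M) := Module.subsingleton (T i ⊗[S] T j) _
    exact Subsingleton.elim _ _

/-! ### jointly split groups -/

/-- two points over the same point of the base have a common field-valued extension -/
theorem exists_common_field {R : Type u} [CommRing R] {T T' : Type u} [CommRing T] [Algebra R T] [CommRing T']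
    [Algebra R T'] (q : PrimeSpectrum T) (q' : PrimeSpectrum T')
    (h : q.comap (algebraMap R T) = q'.comap (algebraMap R T')) :
    ∃ (K : Type u) (_ : Field K) (_ : Algebra R K) (g₁ : T →ₐ[R] K) (_ : T' →ₐ[R] K),
      RingHom.ker g₁ = q.asIdeal := by
  let p := q.asIdeal.comap (algebraMap R T)
  haveI : p.IsPrime := Ideal.IsPrime.comap _
  have hp' : p = q'.asIdeal.comap (algebraMap R T') := congrArg PrimeSpectrum.asIdeal h
  let k := p.ResidueField
  let i₁ : k →+* q.asIdeal.ResidueField := Ideal.ResidueField.map p q.asIdeal (algebraMap R T) rfl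
  let i₂ : k →+* q'.asIdeal.ResidueField := Ideal.ResidueField.map p q'.asIdeal (algebraMap R T') hp'
  letI := i₁.toAlgebra
  letI := i₂.toAlgebra
  haveI : Nontrivial (q.asIdeal.ResidueField ⊗[k] q'.asIdeal.ResidueField) := inferInstance
  obtain ⟨m, hm⟩ := Ideal.exists_maximal (q.asIdeal.ResidueField ⊗[k] q'.asIdeal.ResidueField)
  letI := Ideal.Quotient.field m
  let c₁ : q.asIdeal.ResidueField →+* (q.asIdeal.ResidueField ⊗[k] q'.asIdeal.ResidueField) ⧸ m :=
    (Ideal.Quotient.mk m).comp Algebra.TensorProduct.includeLeftRingHom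
  let c₂ : q'.asIdeal.ResidueField →+* (q.asIdeal.ResidueField ⊗[k] q'.asIdeal.ResidueField) ⧸ m :=
    (Ideal.Quotient.mk m).comp (Algebra.TensorProduct.includeRight : q'.asIdeal.ResidueField →ₐ[k]
      q.asIdeal.ResidueField ⊗[k] q'.asIdeal.ResidueField).toRingHom
  letI algK : Algebra R ((q.asIdeal.ResidueField ⊗[k] q'.asIdeal.ResidueField) ⧸ m) :=
    ((c₁.comp (algebraMap T q.asIdeal.ResidueField)).comp (algebraMap R T)).toAlgebra
  refine ⟨_, inferInstance, algK, AlgHom.mk (c₁.comp (algebraMap T q.asIdeal.ResidueField)) fun r => rfl,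
    AlgHom.mk (c₂.comp (algebraMap T' q'.asIdeal.ResidueField)) fun r => ?_, ?_⟩
  · have h1 : algebraMap T q.asIdeal.ResidueField (algebraMap R T r) = i₁ (algebraMap R k r) :=
      (Ideal.ResidueField.map_algebraMap _ _ _ _ r).symm
    have h2 : algebraMap T' q'.asIdeal.ResidueField (algebraMap R T' r) = i₂ (algebraMap R k r) :=
      (Ideal.ResidueField.map_algebraMap _ _ _ _ r).symm
    change Ideal.Quotient.mk m (Algebra.TensorProduct.includeRight (algebraMap T' q'.asIdeal.ResidueField (algebraMap R T' r))) =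
      Ideal.Quotient.mk m ((algebraMap T q.asIdeal.ResidueField (algebraMap R T r)) ⊗ₜ[k] 1)
    rw [h1, h2]
    congr 1
    exact (Algebra.TensorProduct.includeRight (R := k) (A := q.asIdeal.ResidueField)).commutes (algebraMap R k r)
  · ext t
    rw [RingHom.mem_ker]
    change c₁ (algebraMap T q.asIdeal.ResidueField t) = 0 ↔ _
    rw [map_eq_zero_iff _ c₁.injective]
    exact SetLike.ext_iff.mp (Ideal.ker_algebraMap_residueField q.asIdeal) t

theorem nonempty_mulEquiv_of_points {R : Type u} [CommRing R] {X : Type u} [CommRing X] [HopfAlgebra R X]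
    {T T' : Type u} [CommRing T] [Algebra R T] [CommRing T'] [Algebra R T'] {M M' : Type u} [CommGroup M]
    [CommGroup M'] (e : T ⊗[R] X ≃ₐc[T] MonoidAlgebra T M) (e' : T' ⊗[R] X ≃ₐc[T'] MonoidAlgebra T' M')
    (q : PrimeSpectrum T) (q' : PrimeSpectrum T')
    (h : q.comap (algebraMap R T) = q'.comap (algebraMap R T')) : Nonempty (M ≃* M') := by
  obtain ⟨K, _, _, g₁, g₂, -⟩ := exists_common_field q q' h
  exact TorusType.nonempty_mulEquiv (K := K) ((GLLift.extend e g₁).symm.trans (GLLift.extend e' g₂))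

theorem isMultType_of_splitting {R : Type u} [CommRing R] {X : Type u} [CommRing X] [HopfAlgebra R X]
    (S : GLLift.Splitting R X (NilLift.FlatQ R)) : SGA3b.IsMultType R X := by
  classical
  haveI : ∀ i, Module.Flat R (S.T i) := S.mem
  let U : S.ι → Set (PrimeSpectrum R) := fun i =>
    {p | ∃ j, Nonempty (S.M j ≃* S.M i) ∧ ∃ q : PrimeSpectrum (S.T j), q.comap (algebraMap R (S.T j)) = p}
  have hsig : ∀ (k : S.ι) (q : PrimeSpectrum (S.T k)),
      (PrimeSpectrum.sigmaToPi S.T ⟨k, q⟩).comap (algebraMap R (∀ i, S.T i)) = q.comap (algebraMap R (S.T k)) :=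
    fun k q => rfl
  have hU : ∀ i, IsOpen (U i) := by
    intro i
    have hq : Topology.IsQuotientMap (PrimeSpectrum.comap (algebraMap R (∀ i, S.T i))) :=
      PrimeSpectrum.isQuotientMap_of_generalizingMap
        (PrimeSpectrum.comap_surjective_of_faithfullyFlat (A := R) (B := ∀ i, S.T i))
        (Algebra.HasGoingDown.iff_generalizingMap_primeSpectrumComap.mp inferInstance)
    rw [← hq.isOpen_preimage]
    have heq : PrimeSpectrum.comap (algebraMap R (∀ i, S.T i)) ⁻¹' U i =
        ⋃ k ∈ {k | Nonempty (S.M k ≃* S.M i)},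
          ((PrimeSpectrum.basicOpen (Pi.single k (1 : S.T k) : ∀ i, S.T i) :
            TopologicalSpace.Opens (PrimeSpectrum (∀ i, S.T i))) : Set (PrimeSpectrum (∀ i, S.T i))) := by
      ext x
      obtain ⟨⟨k, q⟩, rfl⟩ := (PrimeSpectrum.sigmaToPi_bijective S.T).2 x
      have hmem : ∀ k', (PrimeSpectrum.sigmaToPi S.T ⟨k, q⟩ ∈
          (PrimeSpectrum.basicOpen (Pi.single k' (1 : S.T k') : ∀ i, S.T i) : Set (PrimeSpectrum (∀ i, S.T i)))) ↔
            k' = k := by
        intro k'
        change (Pi.single k' (1 : S.T k') : ∀ i, S.T i) k ∉ q.asIdeal ↔ k' = k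
        rcases eq_or_ne k' k with rfl | hne
        · simpa using (Ideal.IsPrime.ne_top' : q.asIdeal ≠ ⊤) ∘ (Ideal.eq_top_iff_one _).mpr
        · simp [Pi.single_eq_of_ne hne.symm, hne]
      simp only [Set.mem_preimage, Set.mem_iUnion, hmem, exists_prop, Set.mem_ofPred_eq]
      rw [hsig]
      constructor
      · rintro ⟨j, ⟨f⟩, q', hq'⟩
        obtain ⟨g⟩ := nonempty_mulEquiv_of_points (S.equiv k) (S.equiv j) q q' hq'.symm
        exact ⟨k, ⟨g.trans f⟩, rfl⟩
      · rintro ⟨k', hk', rfl⟩
        exact ⟨k', hk', q, rfl⟩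
    rw [heq]
    exact isOpen_biUnion fun k _ => PrimeSpectrum.isOpen_basicOpen
  refine ⟨{f | ∃ i, (PrimeSpectrum.basicOpen f : Set (PrimeSpectrum R)) ⊆ U i}, ?_, ?_⟩
  · by_contra hne
    obtain ⟨P, hP, hle⟩ := Ideal.exists_le_maximal _ hne
    let p : PrimeSpectrum R := ⟨P, hP.isPrime⟩
    obtain ⟨x, hx⟩ := PrimeSpectrum.comap_surjective_of_faithfullyFlat (A := R) (B := ∀ i, S.T i) p
    obtain ⟨⟨k, q⟩, rfl⟩ := (PrimeSpectrum.sigmaToPi_bijective S.T).2 x
    rw [hsig] at hx
    obtain ⟨_, ⟨f, rfl⟩, hfp, hfU⟩ := (PrimeSpectrum.isTopologicalBasis_basic_opens).exists_subset_of_mem_open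
      (show p ∈ U k from ⟨k, ⟨MulEquiv.refl _⟩, q, hx⟩) (hU k)
    exact hfp (hle (Ideal.subset_span ⟨k, hfU⟩))
  rintro f ⟨i, hfi⟩
  let L := Localization.Away f
  let J := {j : S.ι // Nonempty (S.M j ≃* S.M i)}
  let T' : J → Type u := fun j => L ⊗[R] S.T j.1
  haveI : Fintype J := Fintype.ofFinite J
  haveI : Module.Flat L (∀ j, T' j) := Module.Flat.of_linearEquiv (DirectSum.linearEquivFunOnFintype L J T').symm
  haveI : Module.FaithfullyFlat L (∀ j, T' j) := by
    refine Module.FaithfullyFlat.of_comap_surjective fun p' => ?_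
    have hp : p'.comap (algebraMap R L) ∈ U i := hfi (by
      change p'.comap (algebraMap R L) ∈ (PrimeSpectrum.basicOpen f : Set (PrimeSpectrum R))
      rw [← PrimeSpectrum.localization_away_comap_range L f]
      exact ⟨p', rfl⟩)
    obtain ⟨j, hj, q, hq⟩ := hp
    have hfq : IsUnit (algebraMap R q.asIdeal.ResidueField f) := by
      rw [IsScalarTower.algebraMap_apply R (S.T j) q.asIdeal.ResidueField, isUnit_iff_ne_zero]
      intro h0
      have h1 : algebraMap R (S.T j) f ∈ q.asIdeal := by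
        rw [← Ideal.ker_algebraMap_residueField q.asIdeal]
        exact h0
      have h2 : f ∈ (q.comap (algebraMap R (S.T j))).asIdeal := h1
      rw [hq] at h2
      exact p'.isPrime.ne_top (Ideal.eq_top_of_isUnit_mem _ h2 (IsLocalization.Away.algebraMap_isUnit f))
    let l : L →ₐ[R] q.asIdeal.ResidueField := IsLocalization.liftAlgHom (M := Submonoid.powers f)
      (f := Algebra.ofId R q.asIdeal.ResidueField) fun ⟨_, n, hn⟩ => by
        subst hn
        change IsUnit (algebraMap R q.asIdeal.ResidueField (f ^ n))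
        rw [map_pow]
        exact hfq.pow n
    let φ : T' ⟨j, hj⟩ →ₐ[R] q.asIdeal.ResidueField :=
      Algebra.TensorProduct.lift l (IsScalarTower.toAlgHom R (S.T j) _) fun _ _ => Commute.all _ _
    let Q : PrimeSpectrum (T' ⟨j, hj⟩) := ⟨RingHom.ker φ, RingHom.ker_isPrime φ⟩
    refine ⟨Q.comap (Pi.evalRingHom T' ⟨j, hj⟩), ?_⟩
    apply PrimeSpectrum.localization_comap_injective L (Submonoid.powers f)
    rw [← hq]
    apply PrimeSpectrum.ext
    ext r
    change φ (algebraMap R L r ⊗ₜ[R] 1) = 0 ↔ algebraMap R (S.T j) r ∈ q.asIdeal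
    rw [(SetLike.ext_iff.mp (Ideal.ker_algebraMap_residueField q.asIdeal) _).symm, RingHom.mem_ker,
      ← IsScalarTower.algebraMap_apply R (S.T j), Algebra.TensorProduct.lift_tmul, map_one, mul_one,
      AlgHom.commutes]
  refine ⟨∀ j, T' j, inferInstance, inferInstance, inferInstance, ?_⟩
  let eJ : ∀ j : J, T' j ⊗[L] (L ⊗[R] X) ≃ₐc[T' j] MonoidAlgebra (T' j) (S.M i) := fun j =>
    ((Split.cancel (R := R) (S := L) (T := T' j) (A := X)).trans
      (GLLift.extend (S.equiv j.1) (Algebra.TensorProduct.includeRight : S.T j.1 →ₐ[R] T' j))).trans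
      (congrM (T' j) j.2.some)
  exact isDiag_pi T' eJ

/-! ### the kernel -/

theorem isDiag_quot_of_map {U : Type u} [CommRing U] {M N : Type u} [CommGroup M] [CommGroup N] {B : Type u}
    [CommRing B] [HopfAlgebra U B] (π : MonoidAlgebra U M →ₐc[U] B) (hπ : Function.Surjective π)
    (ψ : MonoidAlgebra U N →ₐc[U] MonoidAlgebra U M) (f : N →* M)
    (hψ : ∀ n, ψ (MonoidAlgebra.single n 1) = MonoidAlgebra.single (f n) 1)
    (hker : RingHom.ker (π : MonoidAlgebra U M →ₐ[U] B) =
      Ideal.map ψ (RingHom.ker (Bialgebra.counitAlgHom U (MonoidAlgebra U N)))) : SGA3b.IsDiag U B := by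
  set η := MonoidAlgebra.mapDomainBialgHom U (QuotientGroup.mk' f.range) with hη
  have hηψ : ∀ z, η (ψ z) = algebraMap U _ (counit (R := U) z) := by
    intro z
    induction z using MonoidAlgebra.induction_linear with
    | zero => simp
    | add a b ha hb => simp only [map_add, ha, hb]
    | single m r =>
      rw [show MonoidAlgebra.single m r = r • MonoidAlgebra.single m (1 : U) by simp, map_smul, map_smul, hψ,
        map_smul, smul_eq_mul, map_mul, Algebra.smul_def]
      congr 1
      have h1 : (QuotientGroup.mk (f m) : M ⧸ f.range) = 1 := (QuotientGroup.eq_one_iff _).mpr ⟨m, rfl⟩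
      simp [η, MonoidAlgebra.mapDomainBialgHom, h1, MonoidAlgebra.one_def, MonoidAlgebra.counit_single]
  have h1 : ∀ z, π z = 0 → η z = 0 := fun z hz => by
    have hz' : z ∈ Ideal.map ψ (RingHom.ker (Bialgebra.counitAlgHom U (MonoidAlgebra U N))) := hker ▸ hz
    have hle : Ideal.map ψ (RingHom.ker (Bialgebra.counitAlgHom U (MonoidAlgebra U N))) ≤
        RingHom.ker (η : MonoidAlgebra U M →ₐ[U] MonoidAlgebra U (M ⧸ f.range)) := by
      refine Ideal.map_le_iff_le_comap.mpr fun c hc => ?_
      change η (ψ c) = 0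
      rw [hηψ, show counit (R := U) c = 0 from hc, map_zero]
    exact hle hz'
  have h2 : ∀ z, η z = 0 → π z = 0 := fun z hz => by
    have h := KerHom.ker_mapDomain_le (T := U) f.range (Set.range f)
      (by rw [← MonoidHom.coe_range, Subgroup.closure_eq]) z hz
    have hle : Ideal.span ((fun n => MonoidAlgebra.single n (1 : U) - 1) '' Set.range f) ≤
        RingHom.ker (π : MonoidAlgebra U M →ₐ[U] B) := by
      rw [hker, Ideal.span_le]
      rintro _ ⟨_, ⟨n, rfl⟩, rfl⟩
      dsimp only
      rw [show MonoidAlgebra.single (f n) (1 : U) - 1 = ψ (MonoidAlgebra.single n 1 - 1) by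
        rw [map_sub, hψ, map_one]]
      exact Ideal.mem_map_of_mem ψ (by simp [RingHom.mem_ker, MonoidAlgebra.counit_single])
    exact hle h
  obtain ⟨F, hF⟩ := OpenSub.exists_factor π hπ η h1
  refine ⟨M ⧸ f.range, inferInstance, ⟨BialgEquiv.ofBijective F ⟨?_, fun w => ?_⟩⟩⟩
  · rw [injective_iff_map_eq_zero]
    intro b hb
    obtain ⟨z, rfl⟩ := hπ b
    exact h2 z (by rw [← hF]; exact hb)
  · induction w using MonoidAlgebra.induction_linear with
    | zero => exact ⟨0, map_zero _⟩
    | add a b ha hb =>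
      obtain ⟨a, rfl⟩ := ha
      obtain ⟨b, rfl⟩ := hb
      exact ⟨a + b, map_add _ _ _⟩
    | single x r =>
      obtain ⟨m, rfl⟩ := QuotientGroup.mk_surjective x
      exact ⟨π (MonoidAlgebra.single m r), by rw [hF]; simp [η, MonoidAlgebra.mapDomainBialgHom]⟩

/-- a homomorphism of diagonalisable groups, finitely generated target, is given by group homomorphisms on
the pieces of a finite partition of the base -/
theorem exists_pieces {W : Type u} [CommRing W] {M N : Type u} [CommGroup M] [CommGroup N] [Group.FG N]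
    (ψ : MonoidAlgebra W N →ₐc[W] MonoidAlgebra W M) :
    ∃ (ι : Type u) (_ : Fintype ι) (e : ι → W), (∀ q : PrimeSpectrum W, ∃ i, e i ∉ q.asIdeal) ∧
      ∀ i, Subsingleton (Localization.Away (e i)) ∨ ∃ f : N →* M, ∀ n,
        MonoidAlgebra.mapRingHom M (algebraMap W (Localization.Away (e i))) (ψ (MonoidAlgebra.single n 1)) =
          MonoidAlgebra.single (f n) 1 := by
  classical
  obtain ⟨s, hs⟩ := Group.FG.out (G := N)
  let g : N → MonoidAlgebra W M := fun n => ψ (MonoidAlgebra.single n 1)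
  have hg : ∀ n, IsGroupLikeElem W (g n) := fun n => (MonoidAlgebra.isGroupLikeElem_of n).map ψ
  let ι := (n : s) → {m : M // m ∈ (g n.1).coeff.support}
  let e : ι → W := fun c => ∏ n, (g n.1).coeff (c n).1
  have hsum : ∀ n, ∑ m ∈ (g n).coeff.support, (g n).coeff m = 1 := fun n => by
    have h := (hg n).counit_eq_one
    rw [← MonoidAlgebra.sum_coeff_single (g n), map_finsuppSum] at h
    simpa [Finsupp.sum, MonoidAlgebra.counit_single] using h
  refine ⟨ι, Fintype.ofFinite _, e, fun q => ?_, fun c => ?_⟩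
  · have hex : ∀ n : s, ∃ m : {m : M // m ∈ (g n.1).coeff.support}, (g n.1).coeff m.1 ∉ q.asIdeal := by
      intro n
      by_contra! hall
      exact q.isPrime.ne_top ((Ideal.eq_top_iff_one _).mpr (hsum n.1 ▸ Ideal.sum_mem _ fun m hm => hall ⟨m, hm⟩))
    choose c hc using hex
    exact ⟨c, fun h => by
      obtain ⟨n, -, hn⟩ := (q.isPrime.prod_mem_iff).mp h
      exact hc n hn⟩
  · rcases subsingleton_or_nontrivial (Localization.Away (e c)) with hT | hT
    · exact Or.inl hT
    refine Or.inr ?_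
    let L := Localization.Away (e c)
    let F : N →* MonoidAlgebra L M :=
      ((MonoidAlgebra.mapRingHom M (algebraMap W L)).toMonoidHom.comp
        ((ψ : MonoidAlgebra W N →ₐ[W] MonoidAlgebra W M).toRingHom.toMonoidHom)).comp (MonoidAlgebra.of W N)
    have hgen : ∀ n : s, F n.1 = MonoidAlgebra.single (c n).1 1 := by
      intro n
      have hidem := GroupLike.isIdempotentElem_coeff (hg n.1) (c n).1
      have hu : IsUnit (algebraMap W L ((g n.1).coeff (c n).1)) :=
        isUnit_of_dvd_unit (map_dvd (algebraMap W L) (Finset.dvd_prod_of_mem (fun n : s => (g n.1).coeff (c n).1) (Finset.mem_univ n)))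
          (IsLocalization.Away.algebraMap_isUnit (e c))
      have h1 : algebraMap W L ((g n.1).coeff (c n).1) = 1 :=
        (IsIdempotentElem.iff_eq_one_of_isUnit hu).mp (hidem.map _)
      ext m
      change algebraMap W L ((g n.1).coeff m) = (MonoidAlgebra.single (c n).1 (1 : L)).coeff m
      rw [MonoidAlgebra.coeff_single, Finsupp.single_apply]
      split_ifs with hm
      · rw [← hm, h1]
      · have h2 := congrArg (algebraMap W L) (GroupLike.coeff_mul_coeff (hg n.1) (c n).1 m)
        rw [if_neg hm, map_mul, h1, one_mul, map_zero] at h2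
        exact h2
    have hof : Function.Injective (MonoidAlgebra.of L M) := MonoidAlgebra.of_injective
    let H : Subgroup N :=
      { carrier := {n | ∃ m, F n = MonoidAlgebra.of L M m}
        mul_mem' := fun {a b} ⟨x, hx⟩ ⟨y, hy⟩ => ⟨x * y, by rw [map_mul, hx, hy, map_mul]⟩
        one_mem' := ⟨1, by rw [map_one, map_one]⟩
        inv_mem' := fun {a} ⟨x, hx⟩ => ⟨x⁻¹, by
          have h1 : F a⁻¹ * F a = 1 := by rw [← map_mul, inv_mul_cancel, map_one]
          calc F a⁻¹ = F a⁻¹ * (MonoidAlgebra.of L M x * MonoidAlgebra.of L M x⁻¹) := by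
                rw [← map_mul, mul_inv_cancel, map_one, mul_one]
            _ = MonoidAlgebra.of L M x⁻¹ := by rw [← hx, ← mul_assoc, h1, one_mul]⟩ }
    have htop : H = ⊤ := by
      rw [eq_top_iff, ← hs, Subgroup.closure_le]
      exact fun n hn => ⟨(c ⟨n, hn⟩).1, hgen ⟨n, hn⟩⟩
    have hall : ∀ n, ∃ m, F n = MonoidAlgebra.of L M m := fun n => (htop ▸ Subgroup.mem_top n : n ∈ H)
    choose f hf using hall
    exact ⟨{ toFun := f
             map_one' := hof (by rw [← hf, map_one, map_one])
             map_mul' := fun a b => hof (by rw [← hf, map_mul, map_mul, hf, hf]) }, hf⟩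

theorem extend_comp {R : Type u} [CommRing R] {A C : Type u} [CommRing A] [HopfAlgebra R A] [CommRing C]
    [HopfAlgebra R C] {W U : Type u} [CommRing W] [Algebra R W] [CommRing U] [Algebra R U] [Algebra W U]
    [IsScalarTower R W U] {M N : Type u} [CommGroup M] [CommGroup N] (φ : C →ₐc[R] A)
    (e : W ⊗[R] A ≃ₐc[W] MonoidAlgebra W M) (eC : W ⊗[R] C ≃ₐc[W] MonoidAlgebra W N) (n : N) :
    (GLLift.extend e (IsScalarTower.toAlgHom R W U))
        ((Bialgebra.TensorProduct.map (BialgHom.id U U) φ)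
          ((GLLift.extend eC (IsScalarTower.toAlgHom R W U)).symm (MonoidAlgebra.single n 1))) =
      MonoidAlgebra.mapRingHom M (algebraMap W U)
        (e ((Bialgebra.TensorProduct.map (BialgHom.id W W) φ) (eC.symm (MonoidAlgebra.single n 1)))) := by
  let h : W →ₐ[R] U := IsScalarTower.toAlgHom R W U
  have key : ∀ (X : Type u) [CommRing X] [HopfAlgebra R X] (K : Type u) [CommGroup K]
      (d : W ⊗[R] X ≃ₐc[W] MonoidAlgebra W K) (z : W ⊗[R] X),
      (GLLift.extend d h) (GroupLike.bcMap h X z) = MonoidAlgebra.mapRingHom K (algebraMap W U) (d z) := by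
    intro X _ _ K _ d z
    induction z using TensorProduct.induction_on with
    | zero => simp
    | add p q hp hq => simp only [map_add, hp, hq]
    | tmul w x =>
      ext k
      rw [show GroupLike.bcMap h X (w ⊗ₜ[R] x) = h w • ((1 : U) ⊗ₜ[R] x) by
        simp [GroupLike.bcMap, TensorProduct.smul_tmul'], map_smul, MonoidAlgebra.coeff_smul, Finsupp.smul_apply,
        GLLift.extend_one_tmul]
      change h w • h ((d (1 ⊗ₜ x)).coeff k) = algebraMap W U ((d (w ⊗ₜ x)).coeff k)
      rw [show w ⊗ₜ[R] x = w • ((1 : W) ⊗ₜ[R] x) by rw [TensorProduct.smul_tmul', smul_eq_mul, mul_one],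
        map_smul, MonoidAlgebra.coeff_smul, Finsupp.smul_apply]
      simp only [smul_eq_mul, map_mul]
      rfl
  have h1 : (GLLift.extend eC h).symm (MonoidAlgebra.single n 1) =
      GroupLike.bcMap h C (eC.symm (MonoidAlgebra.single n 1)) := by
    apply (GLLift.extend eC h).toAlgEquiv.injective
    change (GLLift.extend eC h) ((GLLift.extend eC h).symm _) = (GLLift.extend eC h) _
    rw [key, show (GLLift.extend eC h) ((GLLift.extend eC h).symm (MonoidAlgebra.single n (1 : U))) =
      MonoidAlgebra.single n 1 from (GLLift.extend eC h).toAlgEquiv.apply_symm_apply _,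
      show eC (eC.symm (MonoidAlgebra.single n (1 : W))) = MonoidAlgebra.single n 1 from
        eC.toAlgEquiv.apply_symm_apply _, MonoidAlgebra.mapRingHom_single, map_one]
  rw [h1]
  rw [← key A M e]
  congr 1
  generalize eC.symm (MonoidAlgebra.single n (1 : W)) = z
  induction z using TensorProduct.induction_on with
  | zero => simp
  | add p q hp hq => simp only [map_add, hp, hq]
  | tmul w c => rfl

set_option maxRecDepth 4000 in
/-- **kernels of homomorphisms from groups of multiplicative type to those of finite type** -/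
theorem isMultType_kernel {R : Type u} [CommRing R] {A : Type u} [CommRing A] [HopfAlgebra R A]
    (hA : SGA3b.IsMultType R A) {C : Type u} [CommRing C] [HopfAlgebra R C] (hC : SGA3b.IsMultType R C)
    [Algebra.FiniteType R C] (φ : C →ₐc[R] A) (J : Ideal A) [J.IsHopfIdeal R]
    (hJ : J = Ideal.map φ (RingHom.ker (Bialgebra.counitAlgHom R C))) : SGA3b.IsMultType R (A ⧸ J) := by
  classical
  obtain ⟨SA⟩ := NilLift.exists_splitting hA
  obtain ⟨SC⟩ := NilLift.exists_splitting hC
  haveI : ∀ i, Module.Flat R (SA.T i) := SA.mem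
  haveI : ∀ i, Module.Flat R (SC.T i) := SC.mem
  let W : SA.ι × SC.ι → Type u := fun x => SA.T x.1 ⊗[R] SC.T x.2
  let eA : ∀ x, W x ⊗[R] A ≃ₐc[W x] MonoidAlgebra (W x) (SA.M x.1) := fun x =>
    GLLift.extend (SA.equiv x.1) (Algebra.TensorProduct.includeLeft : SA.T x.1 →ₐ[R] W x)
  let eC : ∀ x, W x ⊗[R] C ≃ₐc[W x] MonoidAlgebra (W x) (SC.M x.2) := fun x =>
    GLLift.extend (SC.equiv x.2) (Algebra.TensorProduct.includeRight : SC.T x.2 →ₐ[R] W x)
  let ψ : ∀ x, MonoidAlgebra (W x) (SC.M x.2) →ₐc[W x] MonoidAlgebra (W x) (SA.M x.1) := fun x =>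
    (eA x : W x ⊗[R] A →ₐc[W x] MonoidAlgebra (W x) (SA.M x.1)).comp
      ((Bialgebra.TensorProduct.map (BialgHom.id (W x) (W x)) φ).comp
        ((eC x).symm : MonoidAlgebra (W x) (SC.M x.2) →ₐc[W x] W x ⊗[R] C))
  have hfg : ∀ x, Nontrivial (W x) → Group.FG (SC.M x.2) := fun x _ =>
    Diag.group_fg_of_finiteType (R := W x) (A := W x ⊗[R] C) (eC x).toAlgEquiv
  have hpc : ∀ x, ∃ (ι : Type u) (_ : Fintype ι) (e : ι → W x), (∀ q : PrimeSpectrum (W x), ∃ i, e i ∉ q.asIdeal) ∧
      ∀ i, Subsingleton (Localization.Away (e i)) ∨ ∃ f : SC.M x.2 →* SA.M x.1, ∀ n,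
        MonoidAlgebra.mapRingHom (SA.M x.1) (algebraMap (W x) (Localization.Away (e i)))
          (ψ x (MonoidAlgebra.single n 1)) = MonoidAlgebra.single (f n) 1 := fun x => by
    rcases subsingleton_or_nontrivial (W x) with hT | hT
    · exact ⟨PEmpty, inferInstance, PEmpty.elim, fun q => absurd (show q.asIdeal = ⊤ from
        (Ideal.eq_top_iff_one _).mpr (Subsingleton.elim (0 : W x) 1 ▸ q.asIdeal.zero_mem)) q.isPrime.ne_top, fun i => i.elim⟩
    · haveI := hfg x hT
      exact exists_pieces (ψ x)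
  choose ι instι e hcov hpiece using hpc
  let V : (Σ x, ι x) → Type u := fun y => Localization.Away (e y.1 y.2)
  haveI hVflat : ∀ y, Module.Flat R (V y) := fun y =>
    haveI : Module.Flat R (W y.1) := inferInstance
    Module.Flat.trans R (W y.1) (V y)
  haveI : Module.FaithfullyFlat R (∀ y, V y) := by
    haveI : Module.Flat R (∀ y, V y) := Module.Flat.of_linearEquiv (DirectSum.linearEquivFunOnFintype R _ V).symm
    refine Module.FaithfullyFlat.of_comap_surjective fun p => ?_
    haveI : Module.Flat R (∀ i, SA.T i) := inferInstance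
    obtain ⟨a, ha⟩ := PrimeSpectrum.comap_surjective_of_faithfullyFlat (A := R) (B := ∀ i, SA.T i) p
    obtain ⟨⟨i, qa⟩, rfl⟩ := (PrimeSpectrum.sigmaToPi_bijective SA.T).2 a
    obtain ⟨b, hb⟩ := PrimeSpectrum.comap_surjective_of_faithfullyFlat (A := R) (B := ∀ i, SC.T i) p
    obtain ⟨⟨j, qb⟩, rfl⟩ := (PrimeSpectrum.sigmaToPi_bijective SC.T).2 b
    obtain ⟨K, _, _, g₁, g₂, hg⟩ := exists_common_field qa qb (ha.trans hb.symm)
    let w : PrimeSpectrum (W ⟨i, j⟩) :=
      ⟨RingHom.ker (Algebra.TensorProduct.lift g₁ g₂ fun _ _ => Commute.all _ _), RingHom.ker_isPrime _⟩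
    have hw : w.comap (algebraMap (SA.T i) (W ⟨i, j⟩)) = qa := by
      apply PrimeSpectrum.ext
      ext t
      change Algebra.TensorProduct.lift g₁ g₂ (fun _ _ => Commute.all _ _) (t ⊗ₜ[R] 1) = 0 ↔ t ∈ qa.asIdeal
      simp [← hg]
    obtain ⟨k, hk⟩ := hcov ⟨i, j⟩ w
    obtain ⟨v, hv⟩ : w ∈ Set.range (PrimeSpectrum.comap (algebraMap (W ⟨i, j⟩) (V ⟨⟨i, j⟩, k⟩))) := by
      rw [PrimeSpectrum.localization_away_comap_range (V ⟨⟨i, j⟩, k⟩) (e ⟨i, j⟩ k)]
      exact hk
    refine ⟨v.comap (Pi.evalRingHom V ⟨⟨i, j⟩, k⟩), ?_⟩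
    rw [← ha]
    change _ = qa.comap (algebraMap R (SA.T i))
    rw [← hw, ← hv]
    rfl
  have hd : ∀ y, SGA3b.IsDiag (V y) (V y ⊗[R] (A ⧸ J)) := by
    rintro ⟨x, k⟩
    rcases hpiece x k with hT | ⟨f, hf⟩
    · exact isDiag_of_subsingleton _ _
    let U := Localization.Away (e x k)
    let dA := GLLift.extend (eA x) (IsScalarTower.toAlgHom R (W x) U)
    let dC := GLLift.extend (eC x) (IsScalarTower.toAlgHom R (W x) U)
    let φU : U ⊗[R] C →ₐc[U] U ⊗[R] A := Bialgebra.TensorProduct.map (BialgHom.id U U) φ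
    let ψU : MonoidAlgebra U (SC.M x.2) →ₐc[U] MonoidAlgebra U (SA.M x.1) :=
      ((dA : U ⊗[R] A →ₐc[U] MonoidAlgebra U (SA.M x.1)).comp φU).comp
        (dC.symm : MonoidAlgebra U (SC.M x.2) →ₐc[U] U ⊗[R] C)
    refine isDiag_quot_of_map ((KerPow.projBC (R := R) J U).comp (dA.symm : MonoidAlgebra U (SA.M x.1) →ₐc[U] U ⊗[R] A))
      ((KerPow.projBC_surjective (R := R) J U).comp dA.symm.surjective) ψU f (fun n => ?_) ?_
    · exact (extend_comp φ (eA x) (eC x) n).trans (hf n)
    · rw [KerHom.ker_comp_symm dA (KerPow.projBC (R := R) J U) φU (KerHom.ker_projBC φ J hJ U)]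
      refine le_antisymm (Ideal.map_le_iff_le_comap.mpr fun c hc => ?_) (Ideal.map_le_iff_le_comap.mpr fun c hc => ?_)
      · have hc' : dC c ∈ RingHom.ker (Bialgebra.counitAlgHom U (MonoidAlgebra U (SC.M x.2))) := by
          change counit (R := U) (dC c) = 0
          rw [CoalgHomClass.counit_comp_apply]
          exact hc
        have := Ideal.mem_map_of_mem ψU hc'
        change dA (φU (dC.symm (dC c))) ∈ _ at this
        rw [show dC.symm (dC c) = c from dC.toAlgEquiv.symm_apply_apply c] at this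
        exact this
      · refine Ideal.mem_map_of_mem ((dA : U ⊗[R] A →ₐc[U] MonoidAlgebra U (SA.M x.1)).comp φU)
          (x := dC.symm c) ?_
        change counit (R := U) (dC.symm c) = 0
        rw [CoalgHomClass.counit_comp_apply]
        exact hc
  choose Mk instMk hek using hd
  exact isMultType_of_splitting { ι := Σ x, ι x, T := V, mem := hVflat, M := Mk, equiv := fun y => (hek y).some }

end

end Groth.Agent.MultType.KerGen
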