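import Groth.Agent.MultType.HenselSplit
import Groth.Agent.MultType.KerPow
import Groth.Agent.MultType.KerGen

/-!
# Over a field, a split finite level forces splitting
-/

open TensorProduct Coalgebra

universe u

namespace Groth.Agent.MultType.FiniteLevel

open Groth.Agent.MultType.GroupLike (bcMap)
open Groth.Agent.MultType.GLLift (extend)

noncomputable section

variable {R : Type u} [CommRing R]

section Natural

variable {A : Type u} [CommRing A] [HopfAlgebra R A] {T : Type u} [CommRing T] [Algebra R T] {M : Type u}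
  [CommGroup M] (e : T ⊗[R] A ≃ₐc[T] MonoidAlgebra T M)

theorem extend_bcMap_self {U : Type u} [CommRing U] [Algebra R U] (g : T →ₐ[R] U) (z : T ⊗[R] A) :
    extend e g (bcMap g A z) = MonoidAlgebra.mapRingHom M g.toRingHom (e z) := by
  induction z using TensorProduct.induction_on with
  | zero => simp
  | add x y hx hy => simp only [map_add, hx, hy]
  | tmul t a =>
    ext m
    rw [GLLift.bcMap_tmul,
      show g t ⊗ₜ[R] a = g t • ((1 : U) ⊗ₜ[R] a) by rw [TensorProduct.smul_tmul', smul_eq_mul, mul_one],
      map_smul, MonoidAlgebra.coeff_smul, Finsupp.smul_apply, GLLift.extend_one_tmul]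
    change g t • g ((e (1 ⊗ₜ a)).coeff m) = g ((e (t ⊗ₜ a)).coeff m)
    rw [show t ⊗ₜ[R] a = t • ((1 : T) ⊗ₜ[R] a) by rw [TensorProduct.smul_tmul', smul_eq_mul, mul_one],
      map_smul, MonoidAlgebra.coeff_smul, Finsupp.smul_apply]
    simp only [smul_eq_mul, map_mul]

theorem extend_bcMap {U U' : Type u} [CommRing U] [Algebra R U] [CommRing U'] [Algebra R U'] (g : T →ₐ[R] U)
    (h : U →ₐ[R] U') (z : U ⊗[R] A) :
    extend e (h.comp g) (bcMap h A z) = MonoidAlgebra.mapRingHom M h.toRingHom (extend e g z) := by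
  ext m
  rw [GLLift.extend_natural]
  rfl

theorem symm_extend_single {U U' : Type u} [CommRing U] [Algebra R U] [CommRing U'] [Algebra R U']
    (g : T →ₐ[R] U) (h : U →ₐ[R] U') (m : M) :
    (extend e (h.comp g)).symm (MonoidAlgebra.single m 1) =
      bcMap h A ((extend e g).symm (MonoidAlgebra.single m 1)) := by
  apply (extend e (h.comp g)).toAlgEquiv.injective
  change extend e (h.comp g) ((extend e (h.comp g)).symm _) = extend e (h.comp g) (bcMap h A _)
  rw [extend_bcMap]
  refine ((extend e (h.comp g)).toAlgEquiv.apply_symm_apply _).trans ?_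
  rw [show extend e g ((extend e g).symm (MonoidAlgebra.single m (1 : U))) = MonoidAlgebra.single m 1 from
    (extend e g).toAlgEquiv.apply_symm_apply _, MonoidAlgebra.mapRingHom_single, map_one]

theorem qT_bcMap [IsCocomm R A] {U U' : Type u} [CommRing U] [Algebra R U] [CommRing U'] [Algebra R U']
    (h : U →ₐ[R] U') (n : ℕ) (z : U ⊗[R] A) :
    TorsionHopf.qT U' n (bcMap h A z) = bcMap h _ (TorsionHopf.qT U n z) := by
  induction z using TensorProduct.induction_on with
  | zero => simp
  | add x y hx hy => simp only [map_add, hx, hy]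
  | tmul t a => rfl

end Natural

theorem eq_single_of_mapDomain {V : Type u} [CommRing V] {M N : Type u} [CommGroup M] [CommGroup N] (f : M →* N)
    {x : MonoidAlgebra V M} (hx : IsGroupLikeElem V x) {m : M}
    (hmap : MonoidAlgebra.mapDomainBialgHom V f x = MonoidAlgebra.single (f m) 1)
    (hsupp : ∀ k, k ≠ m → x.coeff k ≠ 0 → f k ≠ f m) : x = MonoidAlgebra.single m 1 := by
  classical
  have hzero : ∀ k, k ≠ m → x.coeff k = 0 := by
    intro k hk
    by_contra hne
    apply hne
    have h1 := congrArg (fun w => x.coeff k * w.coeff (f k)) hmap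
    have h2 : (MonoidAlgebra.single (f m) (1 : V)).coeff (f k) = 0 := by
      rw [MonoidAlgebra.coeff_single, Finsupp.single_apply, if_neg fun h => hsupp k hk hne h.symm]
    simp only [h2, mul_zero] at h1
    have h3 : (MonoidAlgebra.mapDomainBialgHom V f x).coeff (f k) =
        ∑ k' ∈ x.coeff.support, (MonoidAlgebra.single (f k') (x.coeff k')).coeff (f k) := by
      conv_lhs => rw [← MonoidAlgebra.sum_coeff_single x]
      simp [Finsupp.sum, MonoidAlgebra.coeff_sum, Finsupp.finsetSum_apply, MonoidAlgebra.mapDomainBialgHom]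
    rw [← h1, h3, Finset.mul_sum]
    symm
    rw [Finset.sum_eq_single k]
    · rw [MonoidAlgebra.coeff_single, Finsupp.single_eq_same]
      exact GroupLike.isIdempotentElem_coeff hx k
    · intro k' _ hk'
      rw [MonoidAlgebra.coeff_single, Finsupp.single_apply]
      split_ifs with h
      · rw [GroupLike.coeff_mul_coeff hx k k', if_neg (Ne.symm hk')]
      · rw [mul_zero]
    · intro hk'
      rw [Finsupp.notMem_support_iff.mp hk', zero_mul]
  have hsum := IdemBij.sum_coeff_eq_one hx
  ext k
  rcases eq_or_ne k m with rfl | hk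
  · rw [MonoidAlgebra.coeff_single, Finsupp.single_eq_same]
    refine Eq.trans ?_ hsum
    rw [Finset.sum_eq_single k]
    · exact fun k' _ hk' => hzero k' hk'
    · exact fun h => Finsupp.notMem_support_iff.mp h
  · rw [hzero k hk, MonoidAlgebra.coeff_single, Finsupp.single_eq_of_ne hk]

/-- **a split finite level forces splitting**: there is an `n` such that, over every field meeting the
splitting field, splitting of the `n`-torsion implies splitting of the group -/
theorem exists_level {A : Type u} [CommRing A] [HopfAlgebra R A] [IsCocomm R A]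
    {K' : Type u} [Field K'] [Algebra R K'] {M : Type u} [CommGroup M] [Group.FG M]
    (e : K' ⊗[R] A ≃ₐc[K'] MonoidAlgebra K' M) :
    ∃ n : ℕ, 0 < n ∧ ∀ (L : Type u) [Field L] [Algebra R L] (E₀ : Type u) [Field E₀] [Algebra R E₀]
      (_ : L →ₐ[R] E₀) (_ : K' →ₐ[R] E₀),
      SGA3b.IsDiag L (L ⊗[R] (A ⧸ SGA3b.torsionIdeal R A n)) → SGA3b.IsDiag L (L ⊗[R] A) := by
  classical
  obtain ⟨S, hS⟩ := Group.FG.out (G := M)
  let P2 := K' ⊗[R] K'
  let x₀ : M → MonoidAlgebra P2 M := fun m =>
    extend e (Algebra.TensorProduct.includeLeft : K' →ₐ[R] P2)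
      ((extend e (Algebra.TensorProduct.includeRight : K' →ₐ[R] P2)).symm (MonoidAlgebra.single m 1))
  let D : Finset M := (S.biUnion fun m => (x₀ m).coeff.support.image fun k => k / m).erase 1
  choose nd hnd hnd' using fun d : D => HenselSplit.exists_not_mem_powers (x := d.1) (Finset.mem_erase.mp d.2).1
  refine ⟨∏ d, nd d, Finset.prod_pos fun d _ => hnd d, ?_⟩
  intro L _ _ E₀ _ _ a b hdiag
  have hD : ∀ d ∈ D, d ∉ TorsionHopf.powSub M (∏ d, nd d) := by
    rintro d hd ⟨y, hy⟩
    obtain ⟨c, hc⟩ := Finset.dvd_prod_of_mem nd (Finset.mem_univ ⟨d, hd⟩)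
    refine hnd' ⟨d, hd⟩ ⟨y ^ c, ?_⟩
    rw [powMonoidHom_apply] at hy ⊢
    rw [← pow_mul, mul_comm c, ← hc, hy]
  generalize hn : ∏ d, nd d = n at hdiag hD
  obtain ⟨N, _, ⟨eN⟩⟩ := hdiag
  letI : Algebra L E₀ := a.toRingHom.toAlgebra
  haveI : IsScalarTower R L E₀ := IsScalarTower.of_algebraMap_eq fun r => (a.commutes r).symm
  let V := E₀ ⊗[L] E₀
  let il : E₀ →ₐ[R] V := (Algebra.TensorProduct.includeLeft : E₀ →ₐ[L] V).restrictScalars R
  let ir : E₀ →ₐ[R] V := (Algebra.TensorProduct.includeRight : E₀ →ₐ[L] V).restrictScalars R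
  have hlr : il.comp a = ir.comp a := AlgHom.ext fun l => by
    change algebraMap L E₀ l ⊗ₜ[L] (1 : E₀) = (1 : E₀) ⊗ₜ[L] algebraMap L E₀ l
    rw [Algebra.algebraMap_eq_smul_one, TensorProduct.smul_tmul]
  have hfix : ∀ m ∈ S, extend e (il.comp b) ((extend e (ir.comp b)).symm (MonoidAlgebra.single m 1)) =
      MonoidAlgebra.single m 1 := by
    intro m hm
    let h : P2 →ₐ[R] V := Algebra.TensorProduct.lift (il.comp b) (ir.comp b) fun _ _ => Commute.all _ _
    have hl : h.comp Algebra.TensorProduct.includeLeft = il.comp b := AlgHom.ext fun t => by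
      change h (t ⊗ₜ[R] (1 : K')) = il.comp b t
      rw [show h (t ⊗ₜ[R] (1 : K')) = il.comp b t * ir.comp b 1 from Algebra.TensorProduct.lift_tmul _ _ _ _ _, map_one, mul_one]
    have hr : h.comp Algebra.TensorProduct.includeRight = ir.comp b := AlgHom.ext fun t => by
      change h ((1 : K') ⊗ₜ[R] t) = ir.comp b t
      rw [show h ((1 : K') ⊗ₜ[R] t) = il.comp b 1 * ir.comp b t from Algebra.TensorProduct.lift_tmul _ _ _ _ _, map_one, one_mul]
    have hx : extend e (il.comp b) ((extend e (ir.comp b)).symm (MonoidAlgebra.single m 1)) =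
        MonoidAlgebra.mapRingHom M h.toRingHom (x₀ m) := by
      rw [← hr, symm_extend_single, ← hl, extend_bcMap]
    obtain ⟨ψ, hψ⟩ := TorsionHopf.exists_torsion_split (extend e (il.comp b)) n
    let w : E₀ ⊗[R] (A ⧸ SGA3b.torsionIdeal R A n) :=
      TorsionHopf.qT E₀ n ((extend e b).symm (MonoidAlgebra.single m 1))
    have hw : IsGroupLikeElem E₀ w := by
      have h1 := ((MonoidAlgebra.isGroupLikeElem_of (R := E₀) (A := E₀) m).map (extend e b).symm).map
        (KerPow.projBC (SGA3b.torsionIdeal R A n) E₀)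
      rwa [KerPow.projBC_eq_qT] at h1
    obtain ⟨ν, hν⟩ := GroupLike.exists_eq_single (hw.map (extend eN a))
    have hwg : w = bcMap a _ (eN.symm (MonoidAlgebra.single ν 1)) := by
      apply (extend eN a).toAlgEquiv.injective
      change extend eN a w = extend eN a (bcMap a _ _)
      rw [hν, extend_bcMap_self, show eN (eN.symm (MonoidAlgebra.single ν (1 : L))) = MonoidAlgebra.single ν 1 from
        eN.toAlgEquiv.apply_symm_apply _, MonoidAlgebra.mapRingHom_single, map_one]
    have heq : TorsionHopf.qT V n ((extend e (ir.comp b)).symm (MonoidAlgebra.single m 1)) =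
        TorsionHopf.qT V n ((extend e (il.comp b)).symm (MonoidAlgebra.single m 1)) := by
      rw [symm_extend_single, symm_extend_single, qT_bcMap, qT_bcMap]
      change bcMap ir _ w = bcMap il _ w
      rw [hwg, GLLift.bcMap_bcMap, GLLift.bcMap_bcMap, hlr]
    have hmap := congrArg ψ heq
    rw [hψ, hψ, show extend e (il.comp b) ((extend e (il.comp b)).symm (MonoidAlgebra.single m (1 : V))) =
      MonoidAlgebra.single m 1 from (extend e (il.comp b)).toAlgEquiv.apply_symm_apply _,
      show MonoidAlgebra.mapDomainBialgHom V (QuotientGroup.mk' (TorsionHopf.powSub M n))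
        (MonoidAlgebra.single m (1 : V)) = MonoidAlgebra.single (QuotientGroup.mk' _ m) 1 by
        simp [MonoidAlgebra.mapDomainBialgHom]] at hmap
    refine eq_single_of_mapDomain _ (((MonoidAlgebra.isGroupLikeElem_of m).map _).map _) hmap fun k hk hne heqk => ?_
    change ((extend e (il.comp b)) ((extend e (ir.comp b)).symm (MonoidAlgebra.single m 1))).coeff k ≠ 0 at hne
    rw [hx] at hne
    have hk0 : k ∈ (x₀ m).coeff.support := by
      rw [Finsupp.mem_support_iff]
      intro h0
      apply hne
      change h ((x₀ m).coeff k) = 0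
      rw [h0, map_zero]
    refine hD (k / m) (Finset.mem_erase.mpr ⟨fun h1 => hk (div_eq_one.mp h1), ?_⟩) ?_
    · exact Finset.mem_biUnion.mpr ⟨m, hm, Finset.mem_image.mpr ⟨k, hk0, rfl⟩⟩
    · have h1 := (QuotientGroup.mk'_eq_mk' _).mp heqk.symm
      obtain ⟨z, hz, rfl⟩ := h1
      simpa using hz
  have hall : ∀ z : V ⊗[R] A, extend e (il.comp b) z = extend e (ir.comp b) z := by
    let G : MonoidAlgebra V M →ₐ[V] MonoidAlgebra V M :=
      (extend e (il.comp b) : V ⊗[R] A →ₐ[V] MonoidAlgebra V M).comp
        ((extend e (ir.comp b)).symm : MonoidAlgebra V M →ₐ[V] V ⊗[R] A)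
    have hG : ∀ m, G (MonoidAlgebra.single m 1) = MonoidAlgebra.single m 1 := by
      intro m
      have hm : m ∈ Subgroup.closure (S : Set M) := hS ▸ Subgroup.mem_top m
      induction hm using Subgroup.closure_induction with
      | mem y hy => exact hfix y hy
      | one => exact map_one G
      | mul y z _ _ hy hz =>
        rw [show MonoidAlgebra.single (y * z) (1 : V) = MonoidAlgebra.single y 1 * MonoidAlgebra.single z 1 by
          rw [MonoidAlgebra.single_mul_single, one_mul], map_mul, hy, hz]
      | inv y _ hy =>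
        have h1 : G (MonoidAlgebra.single y⁻¹ 1) * MonoidAlgebra.single y (1 : V) = 1 := by
          rw [← hy, ← map_mul, MonoidAlgebra.single_mul_single, inv_mul_cancel, one_mul]
          exact map_one G
        calc G (MonoidAlgebra.single y⁻¹ 1)
            = G (MonoidAlgebra.single y⁻¹ 1) * (MonoidAlgebra.single y 1 * MonoidAlgebra.single y⁻¹ 1) := by
              rw [MonoidAlgebra.single_mul_single, mul_inv_cancel, one_mul, ← MonoidAlgebra.one_def, mul_one]
          _ = MonoidAlgebra.single y⁻¹ 1 := by rw [← mul_assoc, h1, one_mul]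
    have hGid : ∀ y, G y = y := fun y => by
      induction y using MonoidAlgebra.induction_linear with
      | zero => exact map_zero G
      | add p q hp hq => rw [map_add, hp, hq]
      | single m r =>
        rw [show MonoidAlgebra.single m r = r • MonoidAlgebra.single m (1 : V) by simp, map_smul, hG]
    intro z
    have h1 := hGid (extend e (ir.comp b) z)
    change extend e (il.comp b) ((extend e (ir.comp b)).symm (extend e (ir.comp b) z)) = _ at h1
    rwa [show (extend e (ir.comp b)).symm (extend e (ir.comp b) z) = z from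
      (extend e (ir.comp b)).toAlgEquiv.symm_apply_apply z] at h1
  haveI : Module.FaithfullyFlat L (PUnit.{u + 1} → E₀) :=
    Module.FaithfullyFlat.of_linearEquiv L E₀ (LinearEquiv.funUnique PUnit.{u + 1} L E₀)
  let E : PUnit.{u + 1} → (E₀ ⊗[L] (L ⊗[R] A) ≃ₐc[E₀] E₀ ⊗[L] MonoidAlgebra L M) := fun _ =>
    ((Split.cancel (R := R) (S := L) (T := E₀) (A := A)).trans (extend e b)).trans
      (Split.scalarBialgEquiv L E₀ M).symm
  refine ⟨M, inferInstance, Glue.exists_equiv (S := L) (fun _ : PUnit.{u + 1} => E₀) E fun x i j => ?_⟩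
  induction x using TensorProduct.induction_on with
  | zero => simp only [TensorProduct.tmul_zero, map_zero]
  | add p q hp hq => simp only [TensorProduct.tmul_add, map_add, hp, hq]
  | tmul l y =>
    have hE : ∀ k, E k ((1 : E₀) ⊗ₜ[L] (l ⊗ₜ[R] y)) =
        (Split.scalarBialgEquiv L E₀ M).symm (extend e b (a l ⊗ₜ[R] y)) := by
      intro k
      change (Split.scalarBialgEquiv L E₀ M).symm (extend e b
        ((Split.cancel (R := R) (S := L) (T := E₀) (A := A)) ((1 : E₀) ⊗ₜ[L] (l ⊗ₜ[R] y)))) = _
      rw [Split.cancel_tmul, Algebra.smul_def, mul_one]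
      rfl
    rw [hE i]
    apply (Split.scalarBialgEquiv L V M).toAlgEquiv.injective
    have hsc : ∀ (g : E₀ →ₐ[L] V) (z : MonoidAlgebra E₀ M),
        Split.scalarBialgEquiv L V M ((g.toLinearMap).rTensor _ ((Split.scalarBialgEquiv L E₀ M).symm z)) =
          MonoidAlgebra.mapRingHom M g.toRingHom z := by
      intro g z
      induction z using MonoidAlgebra.induction_linear with
      | zero => simp
      | add p q hp hq => simp only [map_add, hp, hq]
      | single m r =>
        rw [KerHom.scalar_symm, LinearMap.rTensor_tmul]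
        change MonoidAlgebra.scalarTensorEquiv L V (g r ⊗ₜ[L] MonoidAlgebra.single m (1 : L)) = _
        simp
    refine (hsc Algebra.TensorProduct.includeLeft _).trans ?_
    refine Eq.trans ?_ (hsc Algebra.TensorProduct.includeRight _).symm
    change MonoidAlgebra.mapRingHom M il.toRingHom _ = MonoidAlgebra.mapRingHom M ir.toRingHom _
    rw [← extend_bcMap, ← extend_bcMap, GLLift.bcMap_tmul, GLLift.bcMap_tmul,
      show il (a l) = ir (a l) from AlgHom.congr_fun hlr l]
    exact hall _

end

end Groth.Agent.MultType.FiniteLevel
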