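import Groth.Agent.MultType.IdemBij
import Groth.Agent.MultType.Family
import Groth.Agent.MultType.Split

/-!
# Group-like elements of a group of multiplicative type lift along maps bijective on idempotents
-/

open TensorProduct Coalgebra

universe u

namespace Groth.Agent.MultType.GLLift

open Groth.Agent.MultType.GroupLike (bcMap)
open Groth.Agent.MultType.IdemBij (IdemBij)

noncomputable section

/-- a class `Q` of flat `R`-algebras, closed under tensor products, on which reduction to `R₀` is bijective on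
idempotents -/
structure LiftData (R : Type u) [CommRing R] (R₀ : Type u) [CommRing R₀] [Algebra R R₀]
    (Q : ∀ (U : Type u) [CommRing U] [Algebra R U], Prop) : Prop where
  base : Q R
  tensor : ∀ (U V : Type u) [CommRing U] [Algebra R U] [CommRing V] [Algebra R V], Q U → Q V → Q (U ⊗[R] V)
  flat : ∀ (U : Type u) [CommRing U] [Algebra R U], Q U → Module.Flat R U
  idem : ∀ (U : Type u) [CommRing U] [Algebra R U], Q U →
    IdemBij (Algebra.TensorProduct.includeRight : U →ₐ[R] R₀ ⊗[R] U).toRingHom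

/-- a finite faithfully flat family in the class `Q` over which `B` is diagonalisable -/
structure Splitting (R : Type u) [CommRing R] (B : Type u) [CommRing B] [HopfAlgebra R B]
    (Q : ∀ (U : Type u) [CommRing U] [Algebra R U], Prop) where
  ι : Type u
  [fintype : Fintype ι]
  T : ι → Type u
  [commRing : ∀ i, CommRing (T i)]
  [algebra : ∀ i, Algebra R (T i)]
  mem : ∀ i, Q (T i)
  [ff : Module.FaithfullyFlat R (∀ i, T i)]
  M : ι → Type u
  [commGroup : ∀ i, CommGroup (M i)]
  equiv : ∀ i, T i ⊗[R] B ≃ₐc[T i] MonoidAlgebra (T i) (M i)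

attribute [instance] Splitting.fintype Splitting.commRing Splitting.algebra Splitting.ff Splitting.commGroup

variable {R : Type u} [CommRing R]

theorem bcMap_tmul {T T' : Type u} [CommRing T] [Algebra R T] [CommRing T'] [Algebra R T'] (h : T →ₐ[R] T')
    {N : Type u} [CommRing N] [Algebra R N] (t : T) (n : N) : bcMap h N (t ⊗ₜ n) = h t ⊗ₜ n := rfl

theorem bcMap_bcMap {T T' T'' : Type u} [CommRing T] [Algebra R T] [CommRing T'] [Algebra R T'] [CommRing T'']
    [Algebra R T''] (h : T →ₐ[R] T') (h' : T' →ₐ[R] T'') {N : Type u} [CommRing N] [Algebra R N] (z : T ⊗[R] N) :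
    bcMap h' N (bcMap h N z) = bcMap (h'.comp h) N z := by
  induction z using TensorProduct.induction_on with
  | zero => simp
  | add x y hx hy => simp only [map_add, hx, hy]
  | tmul t n => rfl

section Local

variable {B : Type u} [CommRing B] [HopfAlgebra R B] {T : Type u} [CommRing T] [Algebra R T] {M : Type u} [CommGroup M]
  (e : T ⊗[R] B ≃ₐc[T] MonoidAlgebra T M)

/-- the splitting isomorphism over an algebra over the splitting ring -/
def extend {U : Type u} [CommRing U] [Algebra R U] (g : T →ₐ[R] U) : U ⊗[R] B ≃ₐc[U] MonoidAlgebra U M :=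
  letI := g.toRingHom.toAlgebra
  haveI : IsScalarTower R T U := IsScalarTower.of_algebraMap_eq fun r => (g.commutes r).symm
  Split.extendEquiv e U

theorem extend_one_tmul {U : Type u} [CommRing U] [Algebra R U] (g : T →ₐ[R] U) (b : B) (m : M) :
    (extend e g (1 ⊗ₜ b)).coeff m = g ((e (1 ⊗ₜ b)).coeff m) := by
  letI := g.toRingHom.toAlgebra
  change (MonoidAlgebra.scalarTensorEquiv T U ((1 : U) ⊗ₜ[T] e (1 ⊗ₜ b))).coeff m = _
  rw [MonoidAlgebra.scalarTensorEquiv_tmul, one_smul, MonoidAlgebra.coeff_mapAlgHom]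
  rfl

theorem extend_natural {U U' : Type u} [CommRing U] [Algebra R U] [CommRing U'] [Algebra R U'] (g : T →ₐ[R] U)
    (h : U →ₐ[R] U') (z : U ⊗[R] B) (m : M) :
    (extend e (h.comp g) (bcMap h B z)).coeff m = h ((extend e g z).coeff m) := by
  induction z using TensorProduct.induction_on with
  | zero => simp
  | add x y hx hy => simp only [map_add, MonoidAlgebra.coeff_add, Finsupp.add_apply, hx, hy]
  | tmul t b =>
    rw [bcMap_tmul]
    have h1 : ∀ (V : Type u) [CommRing V] [Algebra R V] (f : T →ₐ[R] V) (v : V),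
        (extend e f (v ⊗ₜ b)).coeff m = v * (extend e f (1 ⊗ₜ b)).coeff m := fun V _ _ f v => by
      rw [show v ⊗ₜ[R] b = v • ((1 : V) ⊗ₜ[R] b) by rw [TensorProduct.smul_tmul', smul_eq_mul, mul_one], map_smul,
        MonoidAlgebra.coeff_smul, Finsupp.smul_apply, smul_eq_mul]
    rw [h1 U' (h.comp g) (h t), h1 U g t, map_mul, extend_one_tmul, extend_one_tmul]
    rfl

include e in
theorem eq_of_red {U U' : Type u} [CommRing U] [Algebra R U] [CommRing U'] [Algebra R U'] (g : T →ₐ[R] U)
    (h : U →ₐ[R] U') (hh : IdemBij h.toRingHom) {z z' : U ⊗[R] B} (hz : IsGroupLikeElem U z)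
    (hz' : IsGroupLikeElem U z') (heq : bcMap h B z = bcMap h B z') : z = z' := by
  apply (extend e g).toAlgEquiv.injective
  refine IdemBij.eq_of_map hh (hz.map (extend e g)) (hz'.map (extend e g)) fun m => ?_
  change h ((extend e g z).coeff m) = h ((extend e g z').coeff m)
  rw [← extend_natural, ← extend_natural, heq]

include e in
theorem exists_of_red {U U' : Type u} [CommRing U] [Algebra R U] [CommRing U'] [Algebra R U'] (g : T →ₐ[R] U)
    (h : U →ₐ[R] U') (hh : IdemBij h.toRingHom) {w : U' ⊗[R] B} (hw : IsGroupLikeElem U' w) :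
    ∃ z : U ⊗[R] B, IsGroupLikeElem U z ∧ bcMap h B z = w := by
  obtain ⟨x, hx, hx'⟩ := IdemBij.exists_lift hh (hw.map (extend e (h.comp g)))
  refine ⟨(extend e g).symm x, hx.map (extend e g).symm, ?_⟩
  apply (extend e (h.comp g)).toAlgEquiv.injective
  ext m
  change (extend e (h.comp g) (bcMap h B ((extend e g).symm x))).coeff m = _
  rw [extend_natural, show extend e g ((extend e g).symm x) = x from (extend e g).toAlgEquiv.apply_symm_apply x]
  exact hx' m

end Local

section FamilyBC

variable {ι : Type u} [Fintype ι] (T : ι → Type u) [∀ i, CommRing (T i)] [∀ i, Algebra R (T i)]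
  [Module.FaithfullyFlat R (∀ i, T i)] {U : Type u} [CommRing U] [Algebra R U] {N : Type u} [CommRing N] [Algebra R N]

/-- reshuffling -/
def σ (U : Type u) [CommRing U] [Algebra R U] (V : Type u) [CommRing V] [Algebra R V] (N : Type u) [CommRing N]
    [Algebra R N] : V ⊗[R] (U ⊗[R] N) ≃ₗ[R] (U ⊗[R] V) ⊗[R] N :=
  (TensorProduct.leftComm R V U N).trans (TensorProduct.assoc R U V N).symm

theorem σ_tmul (V : Type u) [CommRing V] [Algebra R V] (v : V) (u : U) (n : N) :
    σ U V N (v ⊗ₜ[R] (u ⊗ₜ[R] n)) = (u ⊗ₜ[R] v) ⊗ₜ[R] n := rfl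

theorem σ_one_tmul (V : Type u) [CommRing V] [Algebra R V] (z : U ⊗[R] N) :
    σ U V N (1 ⊗ₜ z) = bcMap (Algebra.TensorProduct.includeLeft : U →ₐ[R] U ⊗[R] V) N z := by
  induction z using TensorProduct.induction_on with
  | zero => simp
  | add x y hx hy => simp only [TensorProduct.tmul_add, map_add, hx, hy]
  | tmul u n => rfl

theorem eq_of_family {z z' : U ⊗[R] N}
    (h : ∀ i, bcMap (Algebra.TensorProduct.includeLeft : U →ₐ[R] U ⊗[R] T i) N z =
      bcMap (Algebra.TensorProduct.includeLeft : U →ₐ[R] U ⊗[R] T i) N z') : z = z' :=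
  Family.eq_of_family T fun i => (σ U (T i) N).injective (by rw [σ_one_tmul, σ_one_tmul, h])

variable (U) in
/-- left inclusion of pairs -/
def pl (i j : ι) : U ⊗[R] T i →ₐ[R] U ⊗[R] (T i ⊗[R] T j) :=
  Algebra.TensorProduct.map (AlgHom.id R U) Algebra.TensorProduct.includeLeft

variable (U) in
/-- right inclusion of pairs -/
def pr (i j : ι) : U ⊗[R] T j →ₐ[R] U ⊗[R] (T i ⊗[R] T j) :=
  Algebra.TensorProduct.map (AlgHom.id R U) Algebra.TensorProduct.includeRight

theorem exists_of_family [Module.Flat R (U ⊗[R] N)] (y : ∀ i, (U ⊗[R] T i) ⊗[R] N)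
    (hc : ∀ i j, bcMap (pl T U i j) N (y i) = bcMap (pr T U i j) N (y j)) :
    ∃ z : U ⊗[R] N, ∀ i, bcMap (Algebra.TensorProduct.includeLeft : U →ₐ[R] U ⊗[R] T i) N z = y i := by
  have hl : ∀ i j (w : T i ⊗[R] (U ⊗[R] N)),
      σ U (T i ⊗[R] T j) N (Family.inl T i j w) = bcMap (pl T U i j) N (σ U (T i) N w) := by
    intro i j w
    induction w using TensorProduct.induction_on with
    | zero => simp
    | add x y hx hy => simp only [map_add, hx, hy]
    | tmul v z =>
      induction z using TensorProduct.induction_on with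
      | zero => simp
      | add x y hx hy => simp only [TensorProduct.tmul_add, map_add, hx, hy]
      | tmul u n => rfl
  have hr : ∀ i j (w : T j ⊗[R] (U ⊗[R] N)),
      σ U (T i ⊗[R] T j) N (Family.inr T i j w) = bcMap (pr T U i j) N (σ U (T j) N w) := by
    intro i j w
    induction w using TensorProduct.induction_on with
    | zero => simp
    | add x y hx hy => simp only [map_add, hx, hy]
    | tmul v z =>
      induction z using TensorProduct.induction_on with
      | zero => simp
      | add x y hx hy => simp only [TensorProduct.tmul_add, map_add, hx, hy]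
      | tmul u n => rfl
  obtain ⟨z, hz⟩ := Family.exists_of_family T (fun i => (σ U (T i) N).symm (y i)) (fun i j => by
    apply (σ U (T i ⊗[R] T j) N).injective
    rw [hl, hr, LinearEquiv.apply_symm_apply, LinearEquiv.apply_symm_apply, hc])
  exact ⟨z, fun i => by rw [← σ_one_tmul, hz i, LinearEquiv.apply_symm_apply]⟩

end FamilyBC

variable {R₀ : Type u} [CommRing R₀] [Algebra R R₀] {Q : ∀ (U : Type u) [CommRing U] [Algebra R U], Prop}
  {B : Type u} [CommRing B] [HopfAlgebra R B]

/-- the reduction map -/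
abbrev ρ (R₀ : Type u) [CommRing R₀] [Algebra R R₀] (U : Type u) [CommRing U] [Algebra R U] : U →ₐ[R] R₀ ⊗[R] U :=
  Algebra.TensorProduct.includeRight

theorem flat_of_splitting (D : LiftData R R₀ Q) (S : Splitting R B Q) : Module.Flat R B := by
  haveI : ∀ i, Module.Flat R (S.T i ⊗[R] B) := fun i => by
    haveI : Module.Flat (S.T i) (S.T i ⊗[R] B) := Module.Flat.of_linearEquiv (S.equiv i).toAlgEquiv.toLinearEquiv
    haveI := D.flat _ (S.mem i)
    exact Module.Flat.trans R (S.T i) _
  exact Family.flat_of_family S.T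

/-- uniqueness of lifts of group-like elements -/
theorem eq_of_bcMap (D : LiftData R R₀ Q) (S : Splitting R B Q) (U : Type u) [CommRing U] [Algebra R U] (hU : Q U)
    {z z' : U ⊗[R] B} (hz : IsGroupLikeElem U z) (hz' : IsGroupLikeElem U z')
    (heq : bcMap (ρ R₀ U) B z = bcMap (ρ R₀ U) B z') : z = z' := by
  refine eq_of_family S.T fun i => ?_
  refine eq_of_red (S.equiv i) (Algebra.TensorProduct.includeRight : S.T i →ₐ[R] U ⊗[R] S.T i)
    (ρ R₀ (U ⊗[R] S.T i)) (D.idem _ (D.tensor _ _ hU (S.mem i)))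
    (GroupLike.map_isGroupLikeElem _ hz) (GroupLike.map_isGroupLikeElem _ hz') ?_
  have hcomm : (ρ R₀ (U ⊗[R] S.T i)).comp Algebra.TensorProduct.includeLeft =
      (Algebra.TensorProduct.map (AlgHom.id R R₀) Algebra.TensorProduct.includeLeft).comp (ρ R₀ U) :=
    AlgHom.ext fun u => rfl
  rw [bcMap_bcMap, bcMap_bcMap, hcomm, ← bcMap_bcMap, ← bcMap_bcMap, heq]

/-- existence of lifts of group-like elements -/
theorem exists_bcMap (D : LiftData R R₀ Q) (S : Splitting R B Q) (U : Type u) [CommRing U] [Algebra R U] (hU : Q U)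
    {w : (R₀ ⊗[R] U) ⊗[R] B} (hw : IsGroupLikeElem (R₀ ⊗[R] U) w) :
    ∃ z : U ⊗[R] B, IsGroupLikeElem U z ∧ bcMap (ρ R₀ U) B z = w := by
  haveI := D.flat _ hU
  haveI := flat_of_splitting D S
  let up : ∀ (V : Type u) [CommRing V] [Algebra R V], (U →ₐ[R] V) → (R₀ ⊗[R] U) →ₐ[R] (R₀ ⊗[R] V) :=
    fun V _ _ f => Algebra.TensorProduct.map (AlgHom.id R R₀) f
  have hlift := fun i => exists_of_red (S.equiv i)
    (Algebra.TensorProduct.includeRight : S.T i →ₐ[R] U ⊗[R] S.T i)
    (ρ R₀ (U ⊗[R] S.T i)) (D.idem _ (D.tensor _ _ hU (S.mem i)))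
    (GroupLike.map_isGroupLikeElem (up _ Algebra.TensorProduct.includeLeft) hw)
  choose y hy hy' using hlift
  have hc : ∀ i j, bcMap (pl (R := R) S.T U i j) B (y i) = bcMap (pr (R := R) S.T U i j) B (y j) := by
    intro i j
    refine eq_of_red (S.equiv i) ((pl (R := R) S.T U i j).comp Algebra.TensorProduct.includeRight)
      (ρ R₀ (U ⊗[R] (S.T i ⊗[R] S.T j))) (D.idem _ (D.tensor U (S.T i ⊗[R] S.T j) hU (D.tensor (S.T i) (S.T j) (S.mem i) (S.mem j))))
      (GroupLike.map_isGroupLikeElem _ (hy i)) (GroupLike.map_isGroupLikeElem _ (hy j)) ?_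
    have h1 : (ρ R₀ (U ⊗[R] (S.T i ⊗[R] S.T j))).comp (pl (R := R) S.T U i j) =
        (Algebra.TensorProduct.map (AlgHom.id R R₀) (pl (R := R) S.T U i j)).comp (ρ R₀ (U ⊗[R] S.T i)) :=
      AlgHom.ext fun u => rfl
    have h2 : (ρ R₀ (U ⊗[R] (S.T i ⊗[R] S.T j))).comp (pr (R := R) S.T U i j) =
        (Algebra.TensorProduct.map (AlgHom.id R R₀) (pr (R := R) S.T U i j)).comp (ρ R₀ (U ⊗[R] S.T j)) :=
      AlgHom.ext fun u => rfl
    rw [bcMap_bcMap, bcMap_bcMap, h1, h2, ← bcMap_bcMap, ← bcMap_bcMap, hy', hy', bcMap_bcMap, bcMap_bcMap]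
    congr 2
    apply Algebra.TensorProduct.ext'
    intro r u
    simp [up, pl, pr, Algebra.TensorProduct.one_def]
  obtain ⟨z, hz⟩ := exists_of_family S.T y hc
  refine ⟨z, (GroupLike.iff_sq z).mpr ⟨?_, ?_⟩, ?_⟩
  · refine Family.eq_of_family S.T fun i => (TensorProduct.comm R (S.T i) U).injective ?_
    have h3 := GroupLike.bcMap_counit (Algebra.TensorProduct.includeLeft : U →ₐ[R] U ⊗[R] S.T i) z
    rw [hz, (hy i).counit_eq_one] at h3
    rw [TensorProduct.comm_tmul, TensorProduct.comm_tmul]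
    exact h3.symm.trans Algebra.TensorProduct.one_def
  · refine eq_of_family S.T fun i => ?_
    rw [GroupLike.bcMap_comul, GroupLike.bcMap_sq, hz, ((GroupLike.iff_sq (y i)).mp (hy i)).2]
  · refine eq_of_family S.T fun i => ?_
    let as : (R₀ ⊗[R] U) ⊗[R] S.T i ≃ₐ[R] R₀ ⊗[R] (U ⊗[R] S.T i) := Algebra.TensorProduct.assoc R R R R₀ U (S.T i)
    have hinj : Function.Injective (bcMap as.toAlgHom B) := Function.LeftInverse.injective
      (g := bcMap as.symm.toAlgHom B) fun x => by
        rw [bcMap_bcMap, show as.symm.toAlgHom.comp as.toAlgHom = AlgHom.id R _ from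
          AlgHom.ext fun a => as.symm_apply_apply a]
        exact congrFun (congrArg DFunLike.coe (Algebra.TensorProduct.map_id (R := R) (S := R))) x
    apply hinj
    have h4 : as.toAlgHom.comp ((Algebra.TensorProduct.includeLeft : R₀ ⊗[R] U →ₐ[R] (R₀ ⊗[R] U) ⊗[R] S.T i).comp (ρ R₀ U)) =
        (ρ R₀ (U ⊗[R] S.T i)).comp Algebra.TensorProduct.includeLeft := AlgHom.ext fun u => by simp [as]
    have h5 : as.toAlgHom.comp (Algebra.TensorProduct.includeLeft : R₀ ⊗[R] U →ₐ[R] (R₀ ⊗[R] U) ⊗[R] S.T i) =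
        up _ Algebra.TensorProduct.includeLeft := by
      apply Algebra.TensorProduct.ext'
      intro r u
      simp [as, up]
    rw [bcMap_bcMap, bcMap_bcMap, bcMap_bcMap, AlgHom.comp_assoc, h4, h5, ← bcMap_bcMap, hz, hy']

end

end Groth.Agent.MultType.GLLift
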