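import Groth.Agent.MultType.OpenSub
import Groth.Agent.MultType.QIGlobal
import Groth.Agent.MultType.HenselSep
import Groth.Agent.MultType.Fibres
import Groth.Agent.Adic.Basic

/-!
# Homomorphisms from groups of multiplicative type over a henselian ring and its completion

* `exists_bialgHom`: they are defined over the henselian ring.
-/

open Coalgebra TensorProduct

universe u

namespace Groth.Agent.MultType.HenselHom

noncomputable section

/-- a bialgebra map with values in the base ring comes from the base ring -/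
theorem exists_bialgHom_of_range {R : Type u} [CommRing R] {U : Type u} [CommRing U] [Algebra R U]
    [Module.FaithfullyFlat R U] {C B : Type u} [CommRing C] [HopfAlgebra R C] [CommRing B] [HopfAlgebra R B]
    (Φ : U ⊗[R] C →ₐc[U] U ⊗[R] B) (h : ∀ c, ∃ b, Φ ((1 : U) ⊗ₜ[R] c) = (1 : U) ⊗ₜ[R] b) :
    ∃ φ : C →ₐc[R] B, ∀ c, Φ ((1 : U) ⊗ₜ[R] c) = (1 : U) ⊗ₜ[R] φ c := by
  choose g hg using h
  have hinj : Function.Injective fun b : B => (1 : U) ⊗ₜ[R] b :=
    Module.FaithfullyFlat.tensorProduct_mk_injective (A := R) (B := U) B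
  let f : C →ₐ[R] B :=
    { toFun := g
      map_one' := hinj (by dsimp only; rw [← hg, ← Algebra.TensorProduct.one_def, map_one, Algebra.TensorProduct.one_def])
      map_zero' := hinj (by dsimp only; rw [← hg, TensorProduct.tmul_zero, map_zero, TensorProduct.tmul_zero])
      map_add' := fun a b => hinj (by
        dsimp only
        rw [← hg, TensorProduct.tmul_add, map_add, hg, hg, TensorProduct.tmul_add])
      map_mul' := fun a b => hinj (by
        dsimp only
        rw [← hg, show (1 : U) ⊗ₜ[R] (a * b) = ((1 : U) ⊗ₜ[R] a) * ((1 : U) ⊗ₜ[R] b) by simp, map_mul, hg, hg,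
          Algebra.TensorProduct.tmul_mul_tmul, one_mul])
      commutes' := fun r => hinj (by
        dsimp only
        rw [← hg, Algebra.algebraMap_eq_smul_one, TensorProduct.tmul_smul, ← Algebra.TensorProduct.one_def,
          Algebra.algebraMap_eq_smul_one, TensorProduct.tmul_smul, ← Algebra.TensorProduct.one_def,
          ← algebraMap_smul U r, map_smul, map_one, algebraMap_smul]) }
  have hf : ∀ c, Φ ((1 : U) ⊗ₜ[R] c) = (1 : U) ⊗ₜ[R] f c := hg
  refine ⟨BialgHom.ofAlgHom f (AlgHom.ext fun c => ?_) (AlgHom.ext fun c => ?_), hf⟩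
  · have h1 := CoalgHomClass.counit_comp_apply Φ ((1 : U) ⊗ₜ[R] c)
    rw [hf, TensorProduct.counit_tmul, TensorProduct.counit_tmul] at h1
    refine FaithfulSMul.algebraMap_injective R U ?_
    simpa [Algebra.smul_def] using h1
  · refine Module.FaithfullyFlat.tensorProduct_mk_injective (A := R) (B := U) _ ?_
    change (1 : U) ⊗ₜ[R] TensorProduct.map f.toLinearMap f.toLinearMap (comul (R := R) c) =
      (1 : U) ⊗ₜ[R] comul (R := R) (f c)
    let d := fun (X : Type u) (_ : AddCommGroup X) (_ : Module R X) =>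
      TensorProduct.AlgebraTensorModule.distribBaseChange R U X X
    have hB : ∀ b : B, (d B _ _) ((1 : U) ⊗ₜ[R] comul (R := R) b) = comul (R := U) ((1 : U) ⊗ₜ[R] b) := fun b => by
      rw [TensorProduct.comul_tmul]
      generalize comul (R := R) b = w
      induction w using TensorProduct.induction_on with
      | zero => simp
      | add a b ha hb => simp only [map_add, TensorProduct.tmul_add, ha, hb]
      | tmul a b => simp [CommSemiring.comul_apply, d]
    apply (d B _ _).injective
    rw [hB, ← hf, ← CoalgHomClass.map_comp_comul_apply Φ, TensorProduct.comul_tmul]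
    generalize comul (R := R) c = w
    induction w using TensorProduct.induction_on with
    | zero => simp
    | add a b ha hb => simp only [map_add, TensorProduct.tmul_add, ha, hb]
    | tmul a b => simp [CommSemiring.comul_apply, d, ← hf]

/-- diagonalisable groups are of multiplicative type -/
theorem isMultType_of_isDiag {R : Type u} [CommRing R] {A : Type u} [CommRing A] [HopfAlgebra R A]
    (h : SGA3b.IsDiag R A) : SGA3b.IsMultType R A := by
  obtain ⟨M, _, ⟨e⟩⟩ := h
  exact Diag.isMultType_of_diag R ⟨M, inferInstance,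
    ⟨(LocalMult.congrBC R e).trans (Split.scalarBialgEquiv (T := R) (T' := R) (M := M))⟩⟩

/-- an element becoming rational after a faithfully flat extension is rational -/
theorem mem_range_of_lTensor {R : Type u} [CommRing R] {T : Type u} [CommRing T] [Algebra R T]
    [Module.FaithfullyFlat R T] {X Y : Type u} [AddCommGroup X] [Module R X] [AddCommGroup Y] [Module R Y]
    (ι : X →ₗ[R] Y) (y : Y) (h : ∃ w, ι.lTensor T w = (1 : T) ⊗ₜ[R] y) : ∃ x, ι x = y := by
  obtain ⟨w, hw⟩ := h
  have h1 : (LinearMap.range ι).mkQ y = 0 := by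
    refine Module.FaithfullyFlat.tensorProduct_mk_injective (A := R) (B := T) _ ?_
    simp only [TensorProduct.mk_apply, TensorProduct.tmul_zero]
    rw [← LinearMap.lTensor_tmul, ← hw, ← LinearMap.comp_apply, ← LinearMap.lTensor_comp,
      LinearMap.range_mkQ_comp, LinearMap.lTensor_zero, LinearMap.zero_apply]
  exact (Submodule.Quotient.mk_eq_zero _).mp h1

/-- coordinates after base change of a splitting -/
theorem extend_bcMap {R : Type u} [CommRing R] {B : Type u} [CommRing B] [HopfAlgebra R B] {T : Type u} [CommRing T]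
    [Algebra R T] {M : Type u} [CommGroup M] (e : T ⊗[R] B ≃ₐc[T] MonoidAlgebra T M) {U : Type u} [CommRing U]
    [Algebra R U] (g : T →ₐ[R] U) (v : T ⊗[R] B) (m : M) :
    (GLLift.extend e g (GroupLike.bcMap g B v)).coeff m = g ((e v).coeff m) := by
  induction v using TensorProduct.induction_on with
  | zero => simp
  | add a b ha hb => simp only [map_add, MonoidAlgebra.coeff_add, Finsupp.add_apply, ha, hb]
  | tmul t b =>
    rw [GLLift.bcMap_tmul, show g t ⊗ₜ[R] b = g t • ((1 : U) ⊗ₜ[R] b) by simp [TensorProduct.smul_tmul'],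
      show t ⊗ₜ[R] b = t • ((1 : T) ⊗ₜ[R] b) by simp [TensorProduct.smul_tmul'], map_smul, map_smul,
      MonoidAlgebra.coeff_smul, MonoidAlgebra.coeff_smul, Finsupp.smul_apply, Finsupp.smul_apply, smul_eq_mul,
      smul_eq_mul, map_mul, GLLift.extend_one_tmul]

theorem cancel_bcMap {R : Type u} [CommRing R] {S : Type u} [CommRing S] [Algebra R S] {U : Type u} [CommRing U]
    [Algebra R U] [Algebra S U] [IsScalarTower R S U] {B : Type u} [CommRing B] [HopfAlgebra R B] (y : S ⊗[R] B) :
    Split.cancel (R := R) (S := S) (T := U) (A := B) ((1 : U) ⊗ₜ[S] y) =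
      GroupLike.bcMap (IsScalarTower.toAlgHom R S U) B y := by
  induction y using TensorProduct.induction_on with
  | zero => simp
  | add a b ha hb => simp only [TensorProduct.tmul_add, map_add, ha, hb]
  | tmul a b =>
    rw [Split.cancel_tmul, GLLift.bcMap_tmul]
    simp [Algebra.smul_def]

/-- a common finite separable splitting field -/
theorem exists_common_split {k : Type u} [Field k] {B C : Type u} [CommRing B] [HopfAlgebra k B] [CommRing C]
    [HopfAlgebra k C] (hB : SGA3b.IsMultType k B) (hBft : Algebra.FiniteType k B) (hC : SGA3b.IsMultType k C)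
    (hCft : Algebra.FiniteType k C) :
    ∃ (k' : Type u) (_ : Field k') (_ : Algebra k k'), Module.Finite k k' ∧ Algebra.IsSeparable k k' ∧
      SGA3b.IsDiag k' (k' ⊗[k] B) ∧ SGA3b.IsDiag k' (k' ⊗[k] C) := by
  obtain ⟨k₁, _, _, _, _, M₁, _, _, ⟨e₁⟩⟩ := FieldSplit.exists_separable_split hB hBft
  obtain ⟨k₂, _, _, _, _, M₂, _, _, ⟨e₂⟩⟩ := FieldSplit.exists_separable_split hC hCft
  obtain ⟨p, hp⟩ := Ideal.exists_maximal (k₁ ⊗[k] k₂)
  haveI := hp
  let k' := (k₁ ⊗[k] k₂) ⧸ p
  letI : Field k' := Ideal.Quotient.field p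
  haveI : Algebra.FormallyUnramified k k₁ := Algebra.FormallyUnramified.of_isSeparable k k₁
  haveI : Algebra.FormallyUnramified k k₂ := Algebra.FormallyUnramified.of_isSeparable k k₂
  haveI : Algebra.FormallyUnramified k (k₁ ⊗[k] k₂) := Algebra.FormallyUnramified.comp k k₁ _
  haveI : Algebra.FormallyUnramified k k' := Algebra.FormallyUnramified.of_surjective (Ideal.Quotient.mkₐ k p) Ideal.Quotient.mk_surjective
  haveI : Module.Finite k k' := Module.Finite.of_surjective (Ideal.Quotient.mkₐ k p).toLinearMap Ideal.Quotient.mk_surjective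
  refine ⟨k', inferInstance, inferInstance, inferInstance, Algebra.FormallyUnramified.isSeparable k k',
    ⟨M₁, inferInstance, ⟨GLLift.extend e₁ ((Ideal.Quotient.mkₐ k p).comp Algebra.TensorProduct.includeLeft)⟩⟩,
    ⟨M₂, inferInstance, ⟨GLLift.extend e₂ ((Ideal.Quotient.mkₐ k p).comp Algebra.TensorProduct.includeRight)⟩⟩⟩

section Extension

variable {A : Type u} [CommRing A] [IsNoetherianRing A] [IsLocalRing A]
  (R' : Type u) [CommRing R'] [IsLocalRing R'] [Algebra A R'] [Module.Finite A R'] [Module.FaithfullyFlat A R']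
  (Ah : Type u) [CommRing Ah] [IsLocalRing Ah] [IsNoetherianRing Ah] [Algebra A Ah]
  [IsAdicComplete (IsLocalRing.maximalIdeal Ah) Ah] [Module.FaithfullyFlat A Ah]

/-- the common extension is local, complete and has the residue field of the finite extension -/
theorem exists_extension_props
    (hR : IsLocalRing.maximalIdeal R' = (IsLocalRing.maximalIdeal A).map (algebraMap A R'))
    (hA : IsLocalRing.maximalIdeal Ah = (IsLocalRing.maximalIdeal A).map (algebraMap A Ah))
    (gh : Ah →ₐ[A] IsLocalRing.ResidueField A) :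
    ∃ (_ : IsLocalRing (R' ⊗[A] Ah)), IsNoetherianRing (R' ⊗[A] Ah) ∧
      IsAdicComplete (IsLocalRing.maximalIdeal (R' ⊗[A] Ah)) (R' ⊗[A] Ah) ∧
      IsLocalHom (algebraMap R' (R' ⊗[A] Ah)) ∧
      Nonempty ((R' ⊗[A] Ah) →ₐ[R'] IsLocalRing.ResidueField R') := by
  let U := R' ⊗[A] Ah
  letI : Algebra Ah U := Algebra.TensorProduct.rightAlgebra
  have hal : ∀ a : Ah, algebraMap Ah U a = (1 : R') ⊗ₜ[A] a := fun a => rfl
  let k' := IsLocalRing.ResidueField R'
  haveI : IsLocalHom (algebraMap A R') := ⟨fun a ha => by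
    by_contra hna
    have h1 : algebraMap A R' a ∈ IsLocalRing.maximalIdeal R' := hR ▸ Ideal.mem_map_of_mem _ hna
    exact h1 ha⟩
  let gk : IsLocalRing.ResidueField A →ₐ[A] k' :=
    { IsLocalRing.ResidueField.map (algebraMap A R') with commutes' := fun r => rfl }
  let g : U →ₐ[R'] k' := Algebra.TensorProduct.lift (Algebra.ofId R' k') (gk.comp gh) fun _ _ => Commute.all _ _
  haveI : Module.Finite Ah U := by
    let c : Ah ⊗[A] R' →ₐ[Ah] U :=
      Algebra.TensorProduct.lift (Algebra.ofId Ah U) Algebra.TensorProduct.includeLeft fun _ _ => Commute.all _ _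
    refine Module.Finite.of_surjective c.toLinearMap fun y => ?_
    induction y using TensorProduct.induction_on with
    | zero => exact ⟨0, map_zero _⟩
    | add a b ha hb =>
      obtain ⟨a', rfl⟩ := ha; obtain ⟨b', rfl⟩ := hb
      exact ⟨a' + b', map_add _ _ _⟩
    | tmul r a =>
      refine ⟨a ⊗ₜ r, ?_⟩
      change algebraMap Ah U a * (r ⊗ₜ[A] (1 : Ah)) = r ⊗ₜ[A] a
      rw [hal, Algebra.TensorProduct.tmul_mul_tmul, one_mul, mul_one]
  haveI : IsNoetherianRing U := IsNoetherianRing.of_finite Ah U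
  let m := (IsLocalRing.maximalIdeal A).map (algebraMap A U)
  haveI hcomp : IsAdicComplete m U := by
    haveI := Groth.Agent.Adic.isAdicComplete_of_finite (A := Ah) (I := IsLocalRing.maximalIdeal Ah) (M := U)
    have h1 : IsAdicComplete ((IsLocalRing.maximalIdeal Ah).map (algebraMap Ah U)) U :=
      (IsAdicComplete.map_algebraMap_iff (I := IsLocalRing.maximalIdeal Ah) (M := U) (S := U)).mpr this
    rwa [hA, Ideal.map_map, ← IsScalarTower.algebraMap_eq] at h1
  have hm : m = RingHom.ker g.toRingHom := by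
    refine le_antisymm (Ideal.map_le_iff_le_comap.mpr fun a ha => ?_) fun z hz => ?_
    · change g (algebraMap A U a) = 0
      rw [IsScalarTower.algebraMap_apply A R' U, AlgHom.commutes, IsScalarTower.algebraMap_apply R' R' k']
      change algebraMap R' k' (algebraMap A R' a) = 0
      exact (IsLocalRing.residue_eq_zero_iff _).mpr (hR ▸ Ideal.mem_map_of_mem _ ha)
    · obtain ⟨r, hr⟩ : ∃ r : R', z - algebraMap R' U r ∈ m := by
        clear hz
        induction z using TensorProduct.induction_on with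
        | zero => exact ⟨0, by simp⟩
        | add a b ha hb =>
          obtain ⟨r, hr⟩ := ha; obtain ⟨s, hs⟩ := hb
          exact ⟨r + s, by rw [map_add, add_sub_add_comm]; exact add_mem hr hs⟩
        | tmul r a =>
          obtain ⟨x, hx⟩ := IsLocalRing.residue_surjective (gh a)
          have hmem : a - algebraMap A Ah x ∈ IsLocalRing.maximalIdeal Ah := by
            intro hu
            have h2 := hu.map gh
            rw [map_sub, gh.commutes, ← hx] at h2
            simpa using h2
          refine ⟨r * algebraMap A R' x, ?_⟩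
          have h3 : r ⊗ₜ[A] a - algebraMap R' U (r * algebraMap A R' x) =
              algebraMap R' U r * algebraMap Ah U (a - algebraMap A Ah x) := by
            rw [map_sub, mul_sub, hal, hal, Algebra.TensorProduct.algebraMap_apply,
              Algebra.TensorProduct.algebraMap_apply, Algebra.algebraMap_self, RingHom.id_apply, RingHom.id_apply,
              Algebra.TensorProduct.tmul_mul_tmul, Algebra.TensorProduct.tmul_mul_tmul, mul_one, one_mul, one_mul,
              Algebra.algebraMap_eq_smul_one (A := Ah), Algebra.algebraMap_eq_smul_one (A := R'),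
              TensorProduct.tmul_smul, mul_smul_comm, mul_one, TensorProduct.smul_tmul']
          rw [h3]
          refine Ideal.mul_mem_left _ _ ?_
          have h4 := Ideal.mem_map_of_mem (algebraMap Ah U) hmem
          rwa [hA, Ideal.map_map, ← IsScalarTower.algebraMap_eq] at h4
      have hr0 : r ∈ IsLocalRing.maximalIdeal R' := by
        have h5 : g (z - algebraMap R' U r) = 0 := by
          have hle : m ≤ RingHom.ker g.toRingHom := Ideal.map_le_iff_le_comap.mpr fun a ha => by
            change g (algebraMap A U a) = 0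
            rw [IsScalarTower.algebraMap_apply A R' U, AlgHom.commutes]
            exact (IsLocalRing.residue_eq_zero_iff _).mpr (hR ▸ Ideal.mem_map_of_mem _ ha)
          exact hle hr
        rw [map_sub, show g z = 0 from hz, zero_sub, neg_eq_zero, AlgHom.commutes] at h5
        exact (IsLocalRing.residue_eq_zero_iff r).mp h5
      have h6 := Ideal.mem_map_of_mem (algebraMap R' U) hr0
      rw [hR, Ideal.map_map, ← IsScalarTower.algebraMap_eq] at h6
      simpa using add_mem hr h6
  have hg : Function.Surjective g := fun y => by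
    obtain ⟨r, rfl⟩ := IsLocalRing.residue_surjective y
    exact ⟨algebraMap R' U r, g.commutes r⟩
  haveI : m.IsMaximal := hm ▸ RingHom.ker_isMaximal_of_surjective g.toRingHom hg
  haveI hloc : IsLocalRing U := isLocalRing_of_isAdicComplete_maximal m
  have hmax : IsLocalRing.maximalIdeal U = m := (IsLocalRing.eq_maximalIdeal ‹_›).symm
  refine ⟨hloc, inferInstance, hmax ▸ hcomp, ⟨fun r hr => ?_⟩, ⟨g⟩⟩
  have h7 := hr.map g
  rw [g.commutes] at h7
  exact isUnit_of_map_unit (IsLocalRing.residue R') r h7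

end Extension

section Main

variable {A : Type u} [CommRing A] [IsNoetherianRing A] [HenselianLocalRing A]
  {B : Type u} [CommRing B] [HopfAlgebra A B] {C : Type u} [CommRing C] [HopfAlgebra A C]

/-- homomorphisms from a group of multiplicative type over a complete extension are defined over the henselian
ring -/
theorem exists_bialgHom (hG : SGA3b.IsMultType A B) (hBft : Algebra.FiniteType A B) (hCft : Algebra.FiniteType A C)
    (hfl : ModelFlat.FlatOn A C (IsLocalRing.maximalIdeal A))
    (hs : SGA3b.IsMultType (IsLocalRing.ResidueField A) (IsLocalRing.ResidueField A ⊗[A] C))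
    (Ah : Type u) [CommRing Ah] [IsLocalRing Ah] [IsNoetherianRing Ah] [Algebra A Ah]
    [IsAdicComplete (IsLocalRing.maximalIdeal Ah) Ah] [Module.FaithfullyFlat A Ah]
    (hA : IsLocalRing.maximalIdeal Ah = (IsLocalRing.maximalIdeal A).map (algebraMap A Ah))
    (gh : Ah →ₐ[A] IsLocalRing.ResidueField A)
    (φ' : Ah ⊗[A] C →ₐc[Ah] Ah ⊗[A] B) :
    ∃ φ : C →ₐc[A] B, ∀ c, φ' ((1 : Ah) ⊗ₜ[A] c) = (1 : Ah) ⊗ₜ[A] φ c := by
  refine exists_bialgHom_of_range φ' fun c => ?_
  haveI := hCft
  let k := IsLocalRing.ResidueField A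
  obtain ⟨k', _, _, _, _, ⟨MB, _, ⟨eB⟩⟩, ⟨MC, _, ⟨eC⟩⟩⟩ :=
    exists_common_split (Isotrivial.isMultType_field hG k) (haveI := hBft; inferInstance) hs inferInstance
  letI : Algebra A k' := ((algebraMap k k').comp (algebraMap A k)).toAlgebra
  haveI : IsScalarTower A k k' := IsScalarTower.of_algebraMap_eq fun x => rfl
  obtain ⟨R', _, _, _, σ, het, hfin, hff, hσ, hker, hm⟩ := HenselSep.exists_lift A k'
  haveI := hfin
  haveI := hff
  haveI := HenselSep.henselianLocalRing hm
  haveI : IsNoetherianRing R' := IsNoetherianRing.of_finite A R'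
  let k₁ := IsLocalRing.ResidueField R'
  have hle : RingHom.ker σ.toRingHom ≤ RingHom.ker (algebraMap R' k₁) := fun x hx => by
    have hx' : x ∈ IsLocalRing.maximalIdeal R' := hker ▸ hx
    exact (IsLocalRing.residue_eq_zero_iff x).mpr hx'
  let g : k' →+* k₁ := σ.toRingHom.liftOfSurjective hσ ⟨algebraMap R' k₁, hle⟩
  have hg : ∀ x, g (σ x) = algebraMap R' k₁ x := fun x =>
    RingHom.liftOfRightInverse_comp_apply _ _ _ ⟨algebraMap R' k₁, hle⟩ x
  let gA : k' →ₐ[A] k₁ :=
    { g with
      commutes' := fun r => by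
        change g (algebraMap A k' r) = _
        rw [← σ.commutes r, hg]
        rfl }
  let eB₁ : k₁ ⊗[A] B ≃ₐc[k₁] MonoidAlgebra k₁ MB :=
    GLLift.extend ((Split.cancel (R := A) (S := k) (T := k') (A := B)).symm.trans eB) gA
  let eC₁ : k₁ ⊗[A] C ≃ₐc[k₁] MonoidAlgebra k₁ MC :=
    GLLift.extend ((Split.cancel (R := A) (S := k) (T := k') (A := C)).symm.trans eC) gA
  haveI : Algebra.FiniteType A B := hBft
  obtain ⟨M, _, -, ⟨eB'⟩⟩ := HenselSplit.isDiag_of_henselian (QIGlobal.isMultType_bc_local hG R')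
    ⟨MB, inferInstance, ⟨(Split.cancel (R := A) (S := R') (T := k₁) (A := B)).trans eB₁⟩⟩
  have hkC : SGA3b.IsDiag k₁ (k₁ ⊗[R'] (R' ⊗[A] C)) :=
    ⟨MC, inferInstance, ⟨(Split.cancel (R := A) (S := R') (T := k₁) (A := C)).trans eC₁⟩⟩
  let U := R' ⊗[A] Ah
  obtain ⟨_, _, _, _, ⟨gU⟩⟩ := exists_extension_props R' Ah hm hA gh
  let hU : Ah →ₐ[A] U := Algebra.TensorProduct.includeRight
  letI : Algebra Ah U := hU.toRingHom.toAlgebra
  haveI : IsScalarTower A Ah U := IsScalarTower.of_algebraMap_eq fun r => (hU.commutes r).symm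
  let E : U ⊗[A] B ≃ₐc[U] MonoidAlgebra U M :=
    GLLift.extend eB' (IsScalarTower.toAlgHom A R' U)
  let ψ : U ⊗[R'] (R' ⊗[A] C) →ₐc[U] MonoidAlgebra U M :=
    ((E : U ⊗[A] B →ₐc[U] MonoidAlgebra U M).comp
      ((Split.cancel (R := A) (S := Ah) (T := U) (A := B) : U ⊗[Ah] (Ah ⊗[A] B) →ₐc[U] U ⊗[A] B).comp
        ((Bialgebra.TensorProduct.map (BialgHom.id U U) φ').comp
          ((Split.cancel (R := A) (S := Ah) (T := U) (A := C)).symm : U ⊗[A] C →ₐc[U] U ⊗[Ah] (Ah ⊗[A] C))))).comp
      (Split.cancel (R := A) (S := R') (T := U) (A := C) : U ⊗[R'] (R' ⊗[A] C) →ₐc[U] U ⊗[A] C)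
  have key := OpenSub.coeff_mem_range (R := R') (C := R' ⊗[A] C) (U := U) (hfl.bc R' hm.ge) hkC
    (isMultType_of_isDiag hkC) gU ψ ((1 : R') ⊗ₜ c)
  set y := φ' ((1 : Ah) ⊗ₜ[A] c)
  let ι₂ : Ah ⊗[A] B →ₐ[A] U ⊗[A] B := GroupLike.bcMap hU B
  have hψ : ψ ((1 : U) ⊗ₜ[R'] ((1 : R') ⊗ₜ[A] c)) = E (ι₂ y) := by
    have h1 : Split.cancel (R := A) (S := R') (T := U) (A := C) ((1 : U) ⊗ₜ[R'] ((1 : R') ⊗ₜ[A] c)) =
        (1 : U) ⊗ₜ[A] c := by rw [Split.cancel_tmul, one_smul]
    have h2 : (Bialgebra.TensorProduct.map (BialgHom.id U U) φ')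
        ((Split.cancel (R := A) (S := Ah) (T := U) (A := C)).symm ((1 : U) ⊗ₜ[A] c)) = (1 : U) ⊗ₜ[Ah] y := by
      rw [Split.cancel_symm_one_tmul]
      rfl
    simp only [ψ, BialgHom.coe_comp, Function.comp_apply, BialgEquiv.toBialgHom_eq_coe, BialgHom.coe_coe]
    rw [h1, h2, cancel_bcMap]
    rfl
  rw [hψ] at key
  choose z hz using fun x => key x
  obtain ⟨b₀, hb₀⟩ : ∃ v : R' ⊗[A] B, GroupLike.bcMap (IsScalarTower.toAlgHom A R' U) B v = ι₂ y := by
    classical
    let z' : MonoidAlgebra R' M := ∑ x ∈ (E (ι₂ y)).coeff.support, MonoidAlgebra.single x (z x)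
    refine ⟨eB'.symm z', E.toAlgEquiv.injective ?_⟩
    refine MonoidAlgebra.coeff_injective (Finsupp.ext fun x => ?_)
    refine (extend_bcMap eB' (IsScalarTower.toAlgHom A R' U) (eB'.symm z') x).trans ?_
    rw [show eB' (eB'.symm z') = z' from eB'.toAlgEquiv.apply_symm_apply _, IsScalarTower.coe_toAlgHom']
    change algebraMap R' U (z'.coeff x) = (E (ι₂ y)).coeff x
    simp only [z', MonoidAlgebra.coeff_sum, MonoidAlgebra.coeff_single, Finsupp.finset_sum_apply]
    rw [Finset.sum_eq_single x (fun a _ hne => Finsupp.single_eq_of_ne hne.symm)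
      (fun hx => by
        rw [Finsupp.single_eq_same]
        refine FaithfulSMul.algebraMap_injective R' U ?_
        rw [map_zero, hz x, Finsupp.notMem_support_iff.mp hx])]
    rw [Finsupp.single_eq_same, hz x]
  let ι : B →ₗ[A] Ah ⊗[A] B := TensorProduct.mk A Ah B 1
  obtain ⟨b, hb⟩ := mem_range_of_lTensor (T := R') ι y ⟨b₀, by
    apply (Algebra.TensorProduct.assoc A A A R' Ah B).symm.injective
    change (Algebra.TensorProduct.assoc A A A R' Ah B).symm (ι.lTensor R' b₀) =
      (Algebra.TensorProduct.assoc A A A R' Ah B).symm ((1 : R') ⊗ₜ[A] y)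
    trans ι₂ y
    · rw [← hb₀]
      clear hb₀
      induction b₀ using TensorProduct.induction_on with
      | zero => simp
      | add a b ha hb => simp only [map_add, ha, hb]
      | tmul a b => simp [ι, GLLift.bcMap_tmul, U, Algebra.TensorProduct.algebraMap_apply]
    · induction y using TensorProduct.induction_on with
      | zero => simp
      | add a b ha hb => simp only [TensorProduct.tmul_add, map_add, ha, hb]
      | tmul a b => simp [ι₂, GLLift.bcMap_tmul, hU, U]⟩
  exact ⟨b, hb.symm⟩

end Main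

end

end Groth.Agent.MultType.HenselHom
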