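import Groth.Agent.MultType.GroupLike
import Mathlib.RingTheory.Idempotents

/-!
# Ring maps bijective on idempotents, and lifting of group-like elements
-/

open TensorProduct

universe u v w

namespace Groth.Agent.MultType.IdemBij

noncomputable section

/-- a ring map which is bijective on idempotents -/
structure IdemBij {S : Type u} {S' : Type v} [CommRing S] [CommRing S'] (f : S →+* S') : Prop where
  inj : ∀ a b, IsIdempotentElem a → IsIdempotentElem b → f a = f b → a = b
  surj : ∀ b, IsIdempotentElem b → ∃ a, IsIdempotentElem a ∧ f a = b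

variable {S : Type u} {S' : Type v} [CommRing S] [CommRing S'] {f : S →+* S'}

theorem IdemBij.of_nil (hs : Function.Surjective f) (hn : ∀ x ∈ RingHom.ker f, IsNilpotent x) : IdemBij f where
  inj a b ha hb h := eq_of_isNilpotent_sub_of_isIdempotentElem ha hb
    (hn _ (by rw [RingHom.mem_ker, map_sub, h, sub_self]))
  surj b hb := exists_isIdempotentElem_eq_of_ker_isNilpotent f hn b (hs b) hb

theorem IdemBij.of_bijective (h : Function.Bijective f) : IdemBij f where
  inj _ _ _ _ hab := h.injective hab
  surj b hb := by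
    obtain ⟨a, rfl⟩ := h.surjective b
    exact ⟨a, h.injective (by rw [map_mul]; exact hb), rfl⟩

theorem IdemBij.comp {S'' : Type w} [CommRing S''] {g : S' →+* S''} (hg : IdemBij g) (hf : IdemBij f) :
    IdemBij (g.comp f) where
  inj a b ha hb h := hf.inj a b ha hb (hg.inj _ _ (ha.map f) (hb.map f) h)
  surj c hc := by
    obtain ⟨b, hb, rfl⟩ := hg.surj c hc
    obtain ⟨a, ha, rfl⟩ := hf.surj b hb
    exact ⟨a, ha, rfl⟩

theorem IdemBij.of_bijOn (hs : Set.BijOn f {e | IsIdempotentElem e} {e | IsIdempotentElem e}) : IdemBij f where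
  inj _ _ ha hb h := hs.injOn ha hb h
  surj b hb := by
    obtain ⟨a, ha, h⟩ := hs.surjOn hb
    exact ⟨a, ha, h⟩

section GroupLike

variable {M : Type w} [CommMonoid M]

omit [CommMonoid M] in
theorem sum_coeff_eq_one {x : MonoidAlgebra S M} (hx : IsGroupLikeElem S x) :
    ∑ m ∈ x.coeff.support, x.coeff m = 1 := by
  have h := hx.counit_eq_one
  conv_lhs at h => rw [← MonoidAlgebra.sum_coeff_single x, Finsupp.sum, map_sum]
  simpa using h

omit [CommMonoid M] in
theorem isGroupLikeElem_of_coeff {x : MonoidAlgebra S M}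
    (ho : ∀ m n, m ≠ n → x.coeff m * x.coeff n = 0) (hi : ∀ m, IsIdempotentElem (x.coeff m))
    (hsum : ∑ m ∈ x.coeff.support, x.coeff m = 1) : IsGroupLikeElem S x := by
  classical
  refine ⟨?_, ?_⟩
  · conv_lhs => rw [← MonoidAlgebra.sum_coeff_single x, Finsupp.sum, map_sum]
    simpa using hsum
  · have hx : x = ∑ m ∈ x.coeff.support, MonoidAlgebra.single m (x.coeff m) :=
      (MonoidAlgebra.sum_coeff_single x).symm
    generalize hs : x.coeff.support = s at hx
    generalize hc : x.coeff = c at ho hi hx
    subst hx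
    simp only [map_sum, TensorProduct.sum_tmul, TensorProduct.tmul_sum, MonoidAlgebra.comul_single,
      CommSemiring.comul_apply, TensorProduct.map_tmul, MonoidAlgebra.lsingle_apply]
    have hsing : ∀ (m : M) (r : S), MonoidAlgebra.single m r = r • MonoidAlgebra.single m (1 : S) := fun m r => by
      simp
    have hmn : ∀ m n, MonoidAlgebra.single m (c m) ⊗ₜ[S] MonoidAlgebra.single n (c n) =
        (c m * c n) • (MonoidAlgebra.single m (1 : S) ⊗ₜ[S] MonoidAlgebra.single n 1) := fun m n => by
      rw [hsing m (c m), hsing n (c n), TensorProduct.smul_tmul_smul]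
    refine Finset.sum_congr rfl fun m hm => ?_
    rw [Finset.sum_eq_single m]
    · rw [hmn, show c m * c m = c m from hi m, hsing m (c m)]
      exact (TensorProduct.smul_tmul (c m) (MonoidAlgebra.single m 1) (MonoidAlgebra.single m 1)).symm
    · intro n _ hn
      first
        | (rw [hmn, ho n m hn, zero_smul])
        | (rw [hmn, ho m n (Ne.symm hn), zero_smul])
    · intro h; exact absurd hm h

omit [CommMonoid M] in
theorem isGroupLikeElem_map (g : S →+* S') {x : MonoidAlgebra S M} (hx : IsGroupLikeElem S x)
    {y : MonoidAlgebra S' M} (hy : ∀ m, y.coeff m = g (x.coeff m)) : IsGroupLikeElem S' y := by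
  classical
  refine isGroupLikeElem_of_coeff ?_ ?_ ?_
  · intro m n hmn
    rw [hy, hy, ← map_mul, GroupLike.coeff_mul_coeff hx, if_neg hmn, map_zero]
  · intro m; rw [hy]; exact (GroupLike.isIdempotentElem_coeff hx m).map g
  · rw [Finset.sum_subset (s₂ := x.coeff.support) (fun m hm => ?_) (fun m _ hm => ?_)]
    · simp only [hy, ← map_sum, sum_coeff_eq_one hx, map_one]
    · rw [Finsupp.mem_support_iff, hy] at hm
      rw [Finsupp.mem_support_iff]
      intro h; rw [h, map_zero] at hm; exact hm rfl
    · exact Finsupp.notMem_support_iff.mp hm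

omit [CommMonoid M] in
theorem eq_of_map (hf : IdemBij f) {x y : MonoidAlgebra S M} (hx : IsGroupLikeElem S x) (hy : IsGroupLikeElem S y)
    (h : ∀ m, f (x.coeff m) = f (y.coeff m)) : x = y := by
  ext m
  exact hf.inj _ _ (GroupLike.isIdempotentElem_coeff hx m) (GroupLike.isIdempotentElem_coeff hy m) (h m)

omit [CommMonoid M] in
theorem exists_lift (hf : IdemBij f) {y : MonoidAlgebra S' M} (hy : IsGroupLikeElem S' y) :
    ∃ x : MonoidAlgebra S M, IsGroupLikeElem S x ∧ ∀ m, f (x.coeff m) = y.coeff m := by
  classical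
  choose a ha ha' using fun m => hf.surj _ (GroupLike.isIdempotentElem_coeff hy m)
  have hz : ∀ m, y.coeff m = 0 → a m = 0 := fun m hm =>
    hf.inj _ _ (ha m) IsIdempotentElem.zero (by rw [ha', hm, map_zero])
  have hco : ∀ m, (∑ n ∈ y.coeff.support, MonoidAlgebra.single n (a n) : MonoidAlgebra S M).coeff m = a m := by
    intro m
    rw [MonoidAlgebra.coeff_sum, Finset.sum_apply']
    simp only [MonoidAlgebra.coeff_single, Finsupp.single_apply]
    rw [Finset.sum_ite_eq']
    split_ifs with hm
    · rfl
    · exact (hz m (Finsupp.notMem_support_iff.mp hm)).symm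
  have ho : ∀ m n, m ≠ n → a m * a n = 0 := fun m n hmn =>
    hf.inj _ _ ((ha m).mul (ha n)) IsIdempotentElem.zero (by
      rw [map_mul, ha', ha', GroupLike.coeff_mul_coeff hy, if_neg hmn, map_zero])
  refine ⟨∑ n ∈ y.coeff.support, MonoidAlgebra.single n (a n), isGroupLikeElem_of_coeff ?_ ?_ ?_,
    fun m => by rw [hco, ha']⟩
  · intro m n hmn; rw [hco, hco]; exact ho m n hmn
  · intro m; rw [hco]; exact ha m
  · have hidem : IsIdempotentElem (∑ m ∈ y.coeff.support, a m) := by
      unfold IsIdempotentElem
      rw [Finset.sum_mul_sum]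
      refine Finset.sum_congr rfl fun m hm => ?_
      rw [Finset.sum_eq_single m]
      · exact ha m
      · intro n _ hn; exact ho m n (Ne.symm hn)
      · intro h; exact absurd hm h
    have h1 : ∑ m ∈ y.coeff.support, a m = 1 := hf.inj _ _ hidem IsIdempotentElem.one (by
      rw [map_sum, map_one]; simp only [ha']; exact sum_coeff_eq_one hy)
    refine Eq.trans ?_ h1
    rw [Finset.sum_subset (s₂ := y.coeff.support) (fun m hm => ?_) (fun m _ hm => ?_)]
    · exact Finset.sum_congr rfl fun m _ => hco m
    · rw [Finsupp.mem_support_iff, hco] at hm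
      rw [Finsupp.mem_support_iff]
      intro h; exact hm (hz m h)
    · exact Finsupp.notMem_support_iff.mp hm

end GroupLike

section Hom

variable {M : Type w} [CommMonoid M] {N : Type w} [CommMonoid N]

/-- characters valued in group-like elements lift uniquely -/
theorem exists_hom_lift (hf : IdemBij f) (χ : M →* MonoidAlgebra S' N) (hχ : ∀ m, IsGroupLikeElem S' (χ m)) :
    ∃ χ' : M →* MonoidAlgebra S N, (∀ m, IsGroupLikeElem S (χ' m)) ∧
      ∀ m n, f ((χ' m).coeff n) = (χ m).coeff n := by
  choose x hx hx' using fun m => exists_lift hf (hχ m)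
  have hmap : ∀ m, MonoidAlgebra.mapRingHom N f (x m) = χ m := fun m => by
    ext n; simp [hx']
  have key : ∀ (z : MonoidAlgebra S N) (m : M), IsGroupLikeElem S z → MonoidAlgebra.mapRingHom N f z = χ m → z = x m :=
    fun z m hz h => eq_of_map hf hz (hx m) fun n => by
      have := congrArg (fun w => MonoidAlgebra.coeff w n) (h.trans (hmap m).symm)
      simpa using this
  exact ⟨{ toFun := x
           map_one' := (key 1 1 IsGroupLikeElem.one (by rw [map_one, map_one])).symm
           map_mul' := fun a b => (key (x a * x b) (a * b) ((hx a).mul (hx b))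
             (by rw [map_mul, map_mul, hmap, hmap])).symm }, hx, hx'⟩

end Hom

end

end Groth.Agent.MultType.IdemBij
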