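import Groth.Agent.RGFlat.UnivInj
import Groth.Agent.Omega.SmoothNormal
import Mathlib.RingTheory.MvPolynomial.Ideal
import Mathlib.RingTheory.Smooth.NoetherianDescent
import Mathlib.RingTheory.Filtration

/-!
# Infinitesimal neighbourhoods of a section of a smooth algebra
-/

open TensorProduct MvPolynomial

universe u

namespace Groth.Agent.MultType.InfNbhd

noncomputable section

/-! ### truncated polynomials -/

theorem projective_trunc (R : Type u) [CommRing R] (N k : ℕ) :
    Module.Projective R (MvPolynomial (Fin N) R ⧸ idealOfVars (Fin N) R ^ k) := by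
  classical
  let τ : MvPolynomial (Fin N) R →ₗ[R] MvPolynomial (Fin N) R :=
    (basisMonomials (Fin N) R).constr R fun x => if x.degree < k then monomial x 1 else 0
  have hτ : ∀ x r, τ (monomial x r) = if x.degree < k then monomial x r else 0 := by
    intro x r
    rw [show monomial x r = r • (basisMonomials (Fin N) R x) by simp [smul_monomial], map_smul,
      Module.Basis.constr_basis]
    split_ifs <;> simp [smul_monomial]
  have hker : ((idealOfVars (Fin N) R ^ k).restrictScalars R) ≤ LinearMap.ker τ := by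
    intro p hp
    rw [LinearMap.mem_ker, p.as_sum, map_sum]
    refine Finset.sum_eq_zero fun x hx => ?_
    rw [hτ, if_neg (not_lt.mpr ((mem_pow_idealOfVars_iff k p).mp hp x hx))]
  have hsub : ∀ p, p - τ p ∈ idealOfVars (Fin N) R ^ k := by
    intro p
    induction p using MvPolynomial.induction_on' with
    | monomial x r =>
      rw [hτ]
      split_ifs with h
      · rw [sub_self]; exact zero_mem _
      · rw [sub_zero, mem_pow_idealOfVars_iff]
        intro y hy
        rw [Finset.mem_singleton.mp (support_monomial_subset hy)]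
        exact not_lt.mp h
    | add p q hp hq =>
      rw [map_add, add_sub_add_comm]
      exact add_mem hp hq
  refine Module.Projective.of_split
    (((idealOfVars (Fin N) R ^ k).restrictScalars R).liftQ τ hker ∘ₗ
      (Submodule.Quotient.restrictScalarsEquiv R (idealOfVars (Fin N) R ^ k)).symm.toLinearMap)
    ((idealOfVars (Fin N) R ^ k).mkQ.restrictScalars R) (LinearMap.ext fun z => ?_)
  obtain ⟨p, rfl⟩ := Submodule.Quotient.mk_surjective _ z
  change Submodule.Quotient.mk (τ p) = Submodule.Quotient.mk p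
  exact ((Submodule.Quotient.eq _).mpr (hsub p)).symm

/-! ### the infinitesimal neighbourhoods are projective -/

section Proj

variable {R : Type u} [CommRing R] {B : Type u} [CommRing B] [Algebra R B] (e : B →ₐ[R] R)

theorem projective_quot [Algebra.Smooth R B] (n : ℕ) :
    Module.Projective R (B ⧸ RingHom.ker e ^ (n + 1)) := by
  classical
  set m := RingHom.ker e with hm
  obtain ⟨N, t, ht⟩ := Submodule.fg_iff_exists_fin_generating_family.mp
    (show m.FG from Algebra.FinitePresentation.ker_fG_of_surjective (R := R) e fun r => ⟨algebraMap R B r, e.commutes r⟩)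
  have htm : ∀ i, t i ∈ m := fun i => ht ▸ Submodule.subset_span ⟨i, rfl⟩
  let V := idealOfVars (Fin N) R
  let φ : MvPolynomial (Fin N) R →ₐ[R] B ⧸ m ^ (n + 1) := aeval fun i => Ideal.Quotient.mk _ (t i)
  have hV : V.map φ ≤ m.map (Ideal.Quotient.mk (m ^ (n + 1))) := by
    rw [Ideal.map_le_iff_le_comap, show V = Ideal.span (Set.range X) from rfl, Ideal.span_le]
    rintro _ ⟨i, rfl⟩
    change φ (X i) ∈ m.map (Ideal.Quotient.mk (m ^ (n + 1)))
    rw [aeval_X]
    exact Ideal.mem_map_of_mem _ (htm i)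
  have hφ : ∀ p ∈ V ^ (n + 1), φ p = 0 := by
    intro p hp
    have h1 : φ p ∈ (m.map (Ideal.Quotient.mk (m ^ (n + 1)))) ^ (n + 1) := by
      refine Ideal.pow_right_mono hV (n + 1) ?_
      rw [← Ideal.map_pow]
      exact Ideal.mem_map_of_mem φ hp
    rwa [← Ideal.map_pow, Ideal.map_quotient_self, Ideal.mem_bot] at h1
  let ψ : MvPolynomial (Fin N) R ⧸ V ^ (n + 1) →ₐ[R] B ⧸ m ^ (n + 1) := Ideal.Quotient.liftₐ _ φ hφ
  let I2 := m ^ 2 ⊔ m ^ (n + 1)
  let π : B ⧸ m ^ (n + 1) →ₐ[R] B ⧸ I2 := Ideal.Quotient.factorₐ R le_sup_right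
  let g := π.comp ψ
  have hI2 : I2 ≤ m := sup_le (Ideal.pow_le_self (by omega)) (Ideal.pow_le_self (by omega))
  let ε : B ⧸ I2 →ₐ[R] R := Ideal.Quotient.liftₐ I2 e fun y hy => hI2 hy
  have hgX : ∀ i, g (Ideal.Quotient.mk _ (X i)) = Ideal.Quotient.mk I2 (t i) := fun i => by
    change π (φ (X i)) = _
    rw [aeval_X]
    rfl
  have hg : Function.Surjective g := by
    intro y
    obtain ⟨y, rfl⟩ := Ideal.Quotient.mk_surjective y
    have hy : y - algebraMap R B (e y) ∈ Submodule.span B (Set.range t) := by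
      rw [ht]
      change e (y - algebraMap R B (e y)) = 0
      rw [map_sub, e.commutes, Algebra.algebraMap_self_apply, sub_self]
    obtain ⟨c, hc⟩ := (Submodule.mem_span_range_iff_exists_fun B).mp hy
    refine ⟨Ideal.Quotient.mk _ (C (e y) + ∑ i, C (e (c i)) * X i), ?_⟩
    have hC : ∀ r, g (Ideal.Quotient.mk _ (C r)) = Ideal.Quotient.mk I2 (algebraMap R B r) := fun r =>
      g.commutes r
    rw [map_add, map_sum, map_add, map_sum]
    simp only [map_mul, hC, hgX]
    simp only [← map_mul, ← map_sum, ← map_add]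
    rw [Ideal.Quotient.eq]
    refine Ideal.mem_sup_left ?_
    have : algebraMap R B (e y) + ∑ i, algebraMap R B (e (c i)) * t i - y =
        ∑ i, (algebraMap R B (e (c i)) - c i) * t i := by
      simp only [sub_mul, Finset.sum_sub_distrib]
      rw [show ∑ i, c i * t i = y - algebraMap R B (e y) from hc]
      ring
    rw [this, pow_two]
    refine Ideal.sum_mem _ fun i _ => Ideal.mul_mem_mul ?_ (htm i)
    change e (algebraMap R B (e (c i)) - c i) = 0
    rw [map_sub, e.commutes, Algebra.algebraMap_self_apply, sub_self]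
  let J := V.map (Ideal.Quotient.mk (V ^ (n + 1)))
  have hεg : ∀ p, ε (g (Ideal.Quotient.mk _ p)) = constantCoeff p := by
    intro p
    have h : (ε.comp g).comp (Ideal.Quotient.mkₐ R (V ^ (n + 1))) = aeval fun _ => (0 : R) := by
      ext i
      change ε (g (Ideal.Quotient.mk _ (X i))) = aeval (fun _ => (0 : R)) (X i)
      rw [hgX, aeval_X]
      exact htm i
    refine (AlgHom.congr_fun h p).trans ?_
    rw [aeval_zero', Algebra.algebraMap_self_apply]
  have hεJ : ∀ z, ε (g z) = 0 → z ∈ J := by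
    intro z hz
    obtain ⟨p, rfl⟩ := Ideal.Quotient.mk_surjective z
    rw [hεg] at hz
    refine Ideal.mem_map_of_mem _ ?_
    rw [← pow_one V, mem_pow_idealOfVars_iff']
    intro x hx
    rw [(Finsupp.degree_eq_zero_iff x).mp (Nat.lt_one_iff.mp hx)]
    exact hz
  have hJ : J ^ (n + 1) = ⊥ := by rw [← Ideal.map_pow, Ideal.map_quotient_self]
  have hker : IsNilpotent (RingHom.ker g) := by
    refine ⟨n + 1, le_bot_iff.mp ((Ideal.pow_right_mono (fun z hz => hεJ z ?_) (n + 1)).trans hJ.le)⟩
    rw [show g z = 0 from hz, map_zero]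
  obtain ⟨θ, hθ⟩ := Algebra.FormallySmooth.exists_lift (R := R) (A := B) (RingHom.ker g) hker
    ((Ideal.quotientKerAlgEquivOfSurjective hg).symm.toAlgHom.comp (Ideal.Quotient.mkₐ R I2))
  have hgθ : ∀ y, g (θ y) = Ideal.Quotient.mk I2 y := fun y => by
    have h1 := AlgHom.congr_fun hθ y
    have h2 := congrArg (Ideal.quotientKerAlgEquivOfSurjective hg) h1
    simp only [AlgHom.comp_apply, AlgEquiv.coe_toAlgHom, AlgEquiv.apply_symm_apply,
      Ideal.Quotient.mkₐ_eq_mk] at h2
    exact h2
  have hθ0 : ∀ y ∈ m ^ (n + 1), θ y = 0 := by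
    intro y hy
    have hle : m.map θ ≤ J := Ideal.map_le_iff_le_comap.mpr fun z hz => hεJ _ (by rw [hgθ]; exact hz)
    have h1 : θ y ∈ (m.map θ) ^ (n + 1) := by
      rw [← Ideal.map_pow]
      exact Ideal.mem_map_of_mem θ hy
    have h2 := Ideal.pow_right_mono hle (n + 1) h1
    rwa [hJ, Ideal.mem_bot] at h2
  let θb : B ⧸ m ^ (n + 1) →ₐ[R] MvPolynomial (Fin N) R ⧸ V ^ (n + 1) := Ideal.Quotient.liftₐ _ θ hθ0
  let χ := ψ.comp θb
  let mb := m.map (Ideal.Quotient.mk (m ^ (n + 1)))
  let δ : Module.End R (B ⧸ m ^ (n + 1)) := χ.toLinearMap - LinearMap.id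
  have hδ0 : ∀ z, δ z ∈ mb ^ 2 := by
    intro z
    obtain ⟨y, rfl⟩ := Ideal.Quotient.mk_surjective z
    have h1 : π (χ (Ideal.Quotient.mk _ y)) = Ideal.Quotient.mk I2 y := hgθ y
    obtain ⟨w, hw⟩ := Ideal.Quotient.mk_surjective (χ (Ideal.Quotient.mk (m ^ (n + 1)) y))
    rw [← hw] at h1
    have h2 : w - y ∈ I2 := Ideal.Quotient.eq.mp h1
    change χ (Ideal.Quotient.mk _ y) - Ideal.Quotient.mk _ y ∈ _
    rw [← hw, ← map_sub, ← Ideal.map_pow]
    obtain ⟨a, ha, b, hb, hab⟩ := Submodule.mem_sup.mp h2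
    rw [← hab, map_add, Ideal.Quotient.eq_zero_iff_mem.mpr hb, add_zero]
    exact Ideal.mem_map_of_mem _ ha
  have hδk : ∀ k, ∀ z ∈ mb ^ k, δ z ∈ mb ^ (k + 1) := by
    intro k
    induction k with
    | zero => exact fun z _ => Ideal.pow_le_pow_right (by omega) (hδ0 z)
    | succ k ih =>
      intro z hz
      replace hz : z ∈ mb ^ k * mb := by rwa [← pow_succ mb k]
      refine Submodule.mul_induction_on hz (fun a ha b hb => ?_) fun a b ha hb => ?_
      · have hab : δ (a * b) = (a + δ a) * δ b + δ a * b := by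
          simp only [δ, LinearMap.sub_apply, AlgHom.toLinearMap_apply, LinearMap.id_apply, map_mul]
          ring
        rw [hab]
        refine add_mem ?_ ?_
        · rw [show k + 1 + 1 = k + 2 by omega, pow_add mb k 2]
          exact Ideal.mul_mem_mul (add_mem ha (Ideal.pow_le_pow_right (by omega) (ih a ha))) (hδ0 b)
        · rw [pow_succ _ (k + 1)]
          exact Ideal.mul_mem_mul (ih a ha) hb
      · rw [map_add]; exact add_mem ha hb
  have hδn : IsNilpotent δ := by
    refine ⟨n + 1, LinearMap.ext fun z => ?_⟩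
    have : ∀ j, (δ ^ j) z ∈ mb ^ j := by
      intro j
      induction j with
      | zero => simp
      | succ j ih => rw [pow_succ' δ j, Module.End.mul_apply]; exact hδk j _ ih
    have h := this (n + 1)
    rw [← Ideal.map_pow, Ideal.map_quotient_self, Ideal.mem_bot] at h
    exact h
  have hχ : Function.Bijective χ := by
    have h := hδn.isUnit_one_add
    rw [show 1 + δ = χ.toLinearMap from LinearMap.ext fun z => by simp [δ]] at h
    exact (Module.End.isUnit_iff _).mp h
  haveI := projective_trunc R N (n + 1)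
  exact Module.Projective.of_split θb.toLinearMap
    ((AlgEquiv.ofBijective χ hχ).symm.toAlgHom.comp ψ).toLinearMap
    (LinearMap.ext fun z => (AlgEquiv.ofBijective χ hχ).symm_apply_apply z)

/-- the ideal of coefficients of `x` in the `n`-th neighbourhood -/
def content (x : B) (n : ℕ) : Ideal R :=
  LinearMap.range ((LinearMap.applyₗ (Ideal.Quotient.mk (RingHom.ker e ^ (n + 1)) x)) :
    Module.Dual R (B ⧸ RingHom.ker e ^ (n + 1)) →ₗ[R] R)

theorem content_mono (x : B) : Monotone (content e x) := by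
  rintro a b hab r ⟨φ, rfl⟩
  exact ⟨φ ∘ₗ (Ideal.Quotient.factorₐ R (Ideal.pow_le_pow_right (by omega))).toLinearMap, rfl⟩

theorem mem_content_sup [Algebra.Smooth R B] (x : B) (n : ℕ) :
    x ∈ (content e x n).map (algebraMap R B) ⊔ RingHom.ker e ^ (n + 1) := by
  haveI := projective_quot e n
  haveI : Module.Finite R (B ⧸ RingHom.ker e ^ (n + 1)) := by
    haveI : Algebra.FiniteType R (B ⧸ RingHom.ker e ^ (n + 1)) :=
      Algebra.FiniteType.of_surjective (Ideal.Quotient.mkₐ R _)
        Ideal.Quotient.mk_surjective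
    haveI : Algebra.IsIntegral R (B ⧸ RingHom.ker e ^ (n + 1)) := by
      refine ⟨fun z => ?_⟩
      obtain ⟨y, rfl⟩ := Ideal.Quotient.mk_surjective z
      refine ⟨(Polynomial.X - Polynomial.C (e y)) ^ (n + 1), (Polynomial.monic_X_sub_C _).pow _, ?_⟩
      rw [← Polynomial.aeval_def, map_pow, map_sub, Polynomial.aeval_X, Polynomial.aeval_C,
        IsScalarTower.algebraMap_apply R B (B ⧸ RingHom.ker e ^ (n + 1)), Ideal.Quotient.algebraMap_eq, ← map_sub,
        ← map_pow]
      refine Ideal.Quotient.eq_zero_iff_mem.mpr (Ideal.pow_mem_pow ?_ _)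
      change e (y - algebraMap R B (e y)) = 0
      rw [map_sub, e.commutes, Algebra.algebraMap_self_apply, sub_self]
    exact Algebra.IsIntegral.finite
  obtain ⟨d, π, σ, -, -, hπσ⟩ := Module.Finite.exists_comp_eq_id_of_projective R (B ⧸ RingHom.ker e ^ (n + 1))
  classical
  choose b hb using fun i : Fin d => Ideal.Quotient.mk_surjective (π (Pi.single i 1))
  let xb : B ⧸ RingHom.ker e ^ (n + 1) := Ideal.Quotient.mk _ x
  have hx : xb = Ideal.Quotient.mk (RingHom.ker e ^ (n + 1)) (∑ i, algebraMap R B (σ xb i) * b i) := by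
    conv_lhs => rw [← LinearMap.id_apply (R := R) xb, ← hπσ, LinearMap.comp_apply, pi_eq_sum_univ' (σ xb), map_sum]
    rw [map_sum]
    refine Finset.sum_congr rfl fun i _ => ?_
    rw [map_smul, map_mul, hb, Algebra.smul_def]
    rfl
  have h1 : x - ∑ i, algebraMap R B (σ xb i) * b i ∈ RingHom.ker e ^ (n + 1) := Ideal.Quotient.eq.mp hx
  have h2 : ∑ i, algebraMap R B (σ xb i) * b i ∈ (content e x n).map (algebraMap R B) :=
    Ideal.sum_mem _ fun i _ => Ideal.mul_mem_right _ _ (Ideal.mem_map_of_mem _ ⟨LinearMap.proj i ∘ₗ σ, rfl⟩)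
  have h3 := Submodule.add_mem_sup h2 h1
  rwa [add_sub_cancel] at h3

/-- over a Noetherian base, the coefficient ideals stabilise at an ideal modulo which `x` dies near the section -/
theorem exists_stable [IsNoetherianRing R] [Algebra.Smooth R B] (x : B) :
    ∃ n, ∃ μ ∈ RingHom.ker e, (1 + μ) * x ∈ (content e x n).map (algebraMap R B) := by
  obtain ⟨n, hn⟩ := monotone_stabilizes_iff_noetherian.mpr (inferInstance : IsNoetherian R R)
    ⟨content e x, content_mono e x⟩
  refine ⟨n, ?_⟩
  set I := (content e x n).map (algebraMap R B)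
  haveI : IsNoetherianRing B := Algebra.FiniteType.isNoetherianRing R B
  let Q := Ideal.Quotient.mk I
  haveI : IsNoetherianRing (B ⧸ I) := inferInstance
  let mq := (RingHom.ker e).map Q
  have hmem : Q x ∈ (⨅ i : ℕ, mq ^ i • ⊤ : Submodule (B ⧸ I) (B ⧸ I)) := by
    refine Submodule.mem_iInf _ |>.mpr fun i => ?_
    rw [smul_eq_mul, Ideal.mul_top]
    have h := mem_content_sup e x (max n i)
    rw [show content e x (max n i) = content e x n from (hn _ (le_max_left n i)).symm] at h
    obtain ⟨a, ha, b, hb, hab⟩ := Submodule.mem_sup.mp h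
    rw [← hab, map_add, show Q a = 0 from Ideal.Quotient.eq_zero_iff_mem.mpr ha, zero_add, ← Ideal.map_pow]
    exact Ideal.mem_map_of_mem Q (Ideal.pow_le_pow_right (by omega) hb)
  obtain ⟨⟨r, hr⟩, hrx⟩ := (Ideal.mem_iInf_smul_pow_eq_bot_iff mq (Q x)).mp hmem
  obtain ⟨μ, hμ, rfl⟩ := (Ideal.mem_map_iff_of_surjective Q Ideal.Quotient.mk_surjective).mp hr
  refine ⟨-μ, neg_mem hμ, Ideal.Quotient.eq_zero_iff_mem.mp ?_⟩
  change Q ((1 + -μ) * x) = 0
  rw [map_mul, map_add, map_neg, map_one, add_mul, neg_mul, one_mul]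
  rw [← sub_eq_add_neg, sub_eq_zero]
  exact hrx.symm

end Proj

/-! ### universal injectivity of the localisation at the section -/

theorem idem_of_connected {F : Type u} [CommRing F] [ConnectedSpace (PrimeSpectrum F)] {x : F}
    (hx : x * x = x) : x = 0 ∨ x = 1 := by
  have hclo : IsClopen (PrimeSpectrum.basicOpen x : Set (PrimeSpectrum F)) :=
    ⟨PrimeSpectrum.basicOpen_eq_zeroLocus_of_mul_add x (1 - x) (by rw [mul_sub, mul_one, hx, sub_self])
      (add_sub_cancel x 1) ▸ PrimeSpectrum.isClosed_zeroLocus _, (PrimeSpectrum.basicOpen x).2⟩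
  rcases isClopen_iff.mp hclo with h | h
  · exact Or.inl ((show IsIdempotentElem x from hx).eq_zero_of_isNilpotent
      ((PrimeSpectrum.basicOpen_eq_bot_iff x).mp (SetLike.coe_injective h)))
  · refine Or.inr ?_
    have hu : IsUnit x := by
      by_contra hnu
      obtain ⟨q, hq, hxq⟩ := exists_max_ideal_of_mem_nonunits (mem_nonunits_iff.mpr hnu)
      exact (h ▸ trivial : (⟨q, hq.isPrime⟩ : PrimeSpectrum _) ∈ (PrimeSpectrum.basicOpen x : Set _)) hxq
    exact hu.mul_left_cancel (by rw [hx, mul_one])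

theorem isDomain_fibre {R B : Type u} [CommRing R] [CommRing B] [Algebra R B] [Algebra.Smooth R B]
    (hconn : ∀ (K : Type u) [Field K] [IsAlgClosed K] [Algebra R K], ConnectedSpace (PrimeSpectrum (K ⊗[R] B)))
    (p : Ideal R) [p.IsPrime] : IsDomain (p.Fiber B) := by
  let k := p.ResidueField
  let F := k ⊗[R] B
  let K := AlgebraicClosure k
  haveI := hconn K
  let E : K ⊗[k] F ≃ₐ[K] K ⊗[R] B := Algebra.TensorProduct.cancelBaseChange R k K K B
  let ι : F →+* K ⊗[R] B :=
    (E.toAlgHom.toRingHom).comp (Algebra.TensorProduct.includeRight : F →ₐ[k] K ⊗[k] F).toRingHom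
  have hι : Function.Injective ι :=
    E.injective.comp (Algebra.TensorProduct.includeRight_injective (algebraMap k K).injective)
  haveI : Nontrivial F := by
    refine ⟨⟨1, 0, fun h => ?_⟩⟩
    haveI : Nontrivial (K ⊗[R] B) := by
      obtain ⟨q⟩ := (inferInstance : Nonempty (PrimeSpectrum (K ⊗[R] B)))
      exact q.nontrivial
    exact one_ne_zero (α := K ⊗[R] B) (by rw [← map_one ι, h, map_zero])
  haveI : IsNoetherianRing F := Algebra.FiniteType.isNoetherianRing k F
  refine Omega.SmoothNormal.isDomain_of_localizations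
    (fun P _ => (Omega.SmoothNormal.isNormal_localization_of_domain (A := k) P).1) fun x hx => ?_
  rcases idem_of_connected (x := ι x) (by rw [← map_mul, hx]) with h | h
  · exact Or.inl (hι (h.trans (map_zero ι).symm))
  · exact Or.inr (hι (h.trans (map_one ι).symm))

/-- the elements congruent to `1` modulo the augmentation ideal -/
def oneAdd {R B : Type u} [CommRing R] [CommRing B] [Algebra R B] (e : B →ₐ[R] R) : Submonoid B where
  carrier := {b | b - 1 ∈ RingHom.ker e}
  one_mem' := by simp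
  mul_mem' := fun {a b} ha hb => by
    change a * b - 1 ∈ RingHom.ker e
    rw [show a * b - 1 = (a - 1) * b + (b - 1) by ring]
    exact add_mem (Ideal.mul_mem_right _ _ ha) hb

attribute [local instance] Algebra.TensorProduct.rightAlgebra in
theorem univInj_oneAdd {R B : Type u} [CommRing R] [CommRing B] [Algebra R B] [Algebra.Smooth R B]
    (hconn : ∀ (K : Type u) [Field K] [IsAlgClosed K] [Algebra R K], ConnectedSpace (PrimeSpectrum (K ⊗[R] B)))
    (e : B →ₐ[R] R) :
    FlatCA.UnivInj R ((TensorProduct.mk B (Localization (oneAdd e)) B 1).restrictScalars R) := by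
  let M := oneAdd e
  let S := Localization M
  haveI : Module.Flat B S := IsLocalization.flat S M
  refine RGFlat.univInj_of_covering (R := R) (S := B) (S' := S) (N := B) fun p q _ _ _ hq => ?_
  haveI := isDomain_fibre hconn p
  haveI := RGFlat.isNoetherianRing_fiber (R := R) (S := B) p
  have hq' : FlatCA.fiberIdeal p q = ⊥ := by
    have hF : associatedPrimes (p.Fiber B) (FlatCA.fiberMod p B B) = associatedPrimes (p.Fiber B) (p.Fiber B) :=
      LinearEquiv.AssociatedPrimes.eq (Algebra.TensorProduct.rid B (p.Fiber B) (p.Fiber B)).toLinearEquiv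
    rw [hF] at hq
    obtain ⟨hprime, y, hy⟩ := (isAssociatedPrime_iff.mp hq)
    rw [eq_bot_iff]
    intro a ha
    rw [hy, Submodule.mem_colon_singleton, Submodule.mem_bot, smul_eq_mul] at ha
    rcases mul_eq_zero.mp ha with h | h
    · exact h
    · exfalso
      refine hprime.ne_top ?_
      rw [hy, h]
      exact eq_top_iff.mpr fun b _ => Submodule.mem_colon_singleton.mpr (by simp)
  let ef : p.Fiber B →ₐ[R] p.ResidueField :=
    Algebra.TensorProduct.lift (AlgHom.id R p.ResidueField) ((Algebra.ofId R p.ResidueField).comp e)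
      fun _ _ => Commute.all _ _
  let P : Ideal B := RingHom.ker ((Algebra.ofId R p.ResidueField).comp e)
  haveI : P.IsPrime := RingHom.ker_isPrime _
  have hqP : q ≤ P := fun b hb => by
    have h0 : ((1 : p.ResidueField) ⊗ₜ[R] b : p.Fiber B) ∈ FlatCA.fiberIdeal p q := Ideal.mem_map_of_mem _ hb
    rw [hq', Ideal.mem_bot] at h0
    have h1 : ef ((1 : p.ResidueField) ⊗ₜ[R] b) = 0 := by rw [h0, map_zero]
    rwa [show ef ((1 : p.ResidueField) ⊗ₜ[R] b) = 1 * ((Algebra.ofId R p.ResidueField).comp e) b from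
      Algebra.TensorProduct.lift_tmul _ _ _ _ _, one_mul] at h1
  have hd : Disjoint (M : Set B) (q : Set B) := Set.disjoint_left.mpr fun b hb hbq => by
    have h1 : b ∈ P := hqP hbq
    have h2 : e b = 1 := by
      have h3 : e (b - 1) = 0 := hb
      rwa [map_sub, map_one, sub_eq_zero] at h3
    change (Algebra.ofId R p.ResidueField) (e b) = 0 at h1
    rw [h2, map_one] at h1
    exact one_ne_zero h1
  exact ⟨q.map (algebraMap B S), IsLocalization.isPrime_of_isPrime_disjoint M S q ‹_› hd,
    IsLocalization.under_map_of_isPrime_disjoint M S ‹_› hd⟩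

/-- `1 + m`, inverted -/
theorem eq_zero_of_mul {R B : Type u} [CommRing R] [CommRing B] [Algebra R B] [Algebra.Smooth R B]
    (hconn : ∀ (K : Type u) [Field K] [IsAlgClosed K] [Algebra R K], ConnectedSpace (PrimeSpectrum (K ⊗[R] B)))
    (e : B →ₐ[R] R) (R' : Type u) [CommRing R'] [Algebra R R'] (μ : B) (hμ : μ ∈ RingHom.ker e) (z : R' ⊗[R] B)
    (hz : ((1 : R') ⊗ₜ[R] (1 + μ)) * z = 0) : z = 0 := by
  let M := oneAdd e
  let S := Localization M
  have hinj := univInj_oneAdd hconn e
  apply hinj R'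
  rw [map_zero]
  let ρ : R' ⊗[R] B →ₐ[R] R' ⊗[R] (S ⊗[B] B) :=
    Algebra.TensorProduct.map (AlgHom.id R R')
      ((Algebra.TensorProduct.includeRight : B →ₐ[B] S ⊗[B] B).restrictScalars R)
  change ρ z = 0
  have hu : IsUnit (ρ ((1 : R') ⊗ₜ[R] (1 + μ))) := by
    change IsUnit ((Algebra.TensorProduct.includeRight : S ⊗[B] B →ₐ[R] R' ⊗[R] (S ⊗[B] B))
      ((Algebra.TensorProduct.includeRight : B →ₐ[B] S ⊗[B] B) (1 + μ)))
    refine IsUnit.map _ ?_
    have h1 : (Algebra.TensorProduct.includeRight : B →ₐ[B] S ⊗[B] B) (1 + μ) =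
        algebraMap B S (1 + μ) ⊗ₜ[B] (1 : B) := by
      change (1 : S) ⊗ₜ[B] (1 + μ) = _
      rw [Algebra.algebraMap_eq_smul_one, TensorProduct.smul_tmul, smul_eq_mul, mul_one]
    rw [h1]
    exact (IsLocalization.map_units S (⟨1 + μ, by
      change 1 + μ - 1 ∈ RingHom.ker e
      rwa [add_sub_cancel_left]⟩ : M)).map (Algebra.TensorProduct.includeLeft : S →ₐ[B] S ⊗[B] B)
  have h := congrArg ρ hz
  rw [map_mul, map_zero] at h
  obtain ⟨w, hw⟩ := hu.exists_left_inv
  rw [← one_mul (ρ z), ← hw, mul_assoc, h]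
  exact map_zero (LinearMap.mulLeft R w)

/-! ### a Noetherian model -/

theorem exists_model {R B : Type u} [CommRing R] [CommRing B] [Algebra R B] [Algebra.Smooth R B]
    (e : B →ₐ[R] R) (x : B) :
    ∃ (A : Type u) (_ : CommRing A) (_ : IsNoetherianRing A) (_ : Algebra A R) (C : Type u) (_ : CommRing C)
      (_ : Algebra A C) (_ : Algebra.Smooth A C) (E : R ⊗[A] C ≃ₐ[R] B) (eC : C →ₐ[A] A) (c : C),
      E ((1 : R) ⊗ₜ[A] c) = x ∧ ∀ y, e (E ((1 : R) ⊗ₜ[A] y)) = algebraMap A R (eC y) := by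
  classical
  obtain ⟨A₀, B₀, _, _, hA₀, _, ⟨E₀⟩⟩ := Algebra.Smooth.exists_subalgebra_fg ℤ R B
  haveI : Algebra.FiniteType ℤ A₀ := (Subalgebra.fg_iff_finiteType A₀).mp hA₀
  haveI : IsNoetherianRing A₀ := Algebra.FiniteType.isNoetherianRing ℤ A₀
  obtain ⟨s, hs⟩ := (inferInstance : Algebra.FiniteType A₀ B₀).out
  let η : B₀ →ₐ[A₀] R :=
    ((e.comp E₀.symm.toAlgHom).restrictScalars A₀).comp Algebra.TensorProduct.includeRight
  obtain ⟨J, ⟨G, hG⟩, z, hz⟩ := Submodule.exists_fg_le_eq_rTensor_subtype (E₀ x)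
  let A₁ : Subalgebra A₀ R := Algebra.adjoin A₀ ((G : Set R) ∪ η '' (s : Set B₀))
  haveI : Algebra.FiniteType A₀ A₁ :=
    (Subalgebra.fg_iff_finiteType A₁).mp ⟨G ∪ s.image η, by simp [A₁]⟩
  haveI : IsNoetherianRing A₁ := Algebra.FiniteType.isNoetherianRing A₀ A₁
  have hη : ∀ b, η b ∈ A₁ := by
    intro b
    have hb : b ∈ Algebra.adjoin A₀ (s : Set B₀) := hs ▸ Algebra.mem_top
    induction hb using Algebra.adjoin_induction with
    | mem y hy => exact Algebra.subset_adjoin (Or.inr ⟨y, hy, rfl⟩)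
    | algebraMap r => rw [η.commutes]; exact A₁.algebraMap_mem r
    | add y y' _ _ hy hy' => rw [map_add]; exact A₁.add_mem hy hy'
    | mul y y' _ _ hy hy' => rw [map_mul]; exact A₁.mul_mem hy hy'
  let eC : A₁ ⊗[A₀] B₀ →ₐ[A₁] A₁ :=
    Algebra.TensorProduct.lift (AlgHom.id A₁ A₁) (η.codRestrict A₁ hη) fun _ _ => Commute.all _ _
  let E : R ⊗[A₁] (A₁ ⊗[A₀] B₀) ≃ₐ[R] B :=
    (Algebra.TensorProduct.cancelBaseChange A₀ A₁ R R B₀).trans E₀.symm
  have hJ : ∀ j : J, (j : R) ∈ A₁ := by
    rintro ⟨j, hj⟩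
    rw [← hG] at hj
    change j ∈ A₁.toSubmodule
    exact Submodule.span_le.mpr (fun g hg => (Algebra.subset_adjoin (Or.inl hg) : g ∈ A₁)) hj
  let jA : J →ₗ[A₀] A₁ := LinearMap.codRestrict A₁.toSubmodule J.subtype hJ
  refine ⟨A₁, inferInstance, inferInstance, inferInstance, A₁ ⊗[A₀] B₀, inferInstance, inferInstance, inferInstance,
    E, eC, LinearMap.rTensor B₀ jA z, ?_, fun y => ?_⟩
  · apply E₀.injective
    rw [hz]
    change E₀ (E₀.symm (Algebra.TensorProduct.cancelBaseChange A₀ A₁ R R B₀ (1 ⊗ₜ LinearMap.rTensor B₀ jA z))) = _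
    rw [E₀.apply_symm_apply]
    clear hz
    induction z using TensorProduct.induction_on with
    | zero => simp
    | add p q hp hq => simp only [map_add, TensorProduct.tmul_add, hp, hq]
    | tmul j b =>
      simp [jA, Algebra.smul_def]
      rfl
  · induction y using TensorProduct.induction_on with
    | zero => simp
    | add p q hp hq => simp only [map_add, TensorProduct.tmul_add, hp, hq]
    | tmul a b =>
      change e (E₀.symm (Algebra.TensorProduct.cancelBaseChange A₀ A₁ R R B₀ ((1 : R) ⊗ₜ[A₁] (a ⊗ₜ[A₀] b)))) =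
        algebraMap A₁ R (eC (a ⊗ₜ[A₀] b))
      rw [Algebra.TensorProduct.cancelBaseChange_tmul, show eC (a ⊗ₜ[A₀] b) = a * η.codRestrict A₁ hη b from
        Algebra.TensorProduct.lift_tmul _ _ _ _ _, map_mul, Algebra.smul_def, mul_one,
        show algebraMap A₁ R a ⊗ₜ[A₀] b = algebraMap A₁ R a • ((1 : R) ⊗ₜ[A₀] b) by
          rw [TensorProduct.smul_tmul', smul_eq_mul, mul_one],
        map_smul, map_smul, smul_eq_mul]
      rfl

/-- one element of `J` -/
theorem exists_n {R B : Type u} [CommRing R] [CommRing B] [Algebra R B] [Algebra.Smooth R B]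
    (hconn : ∀ (K : Type u) [Field K] [IsAlgClosed K] [Algebra R K], ConnectedSpace (PrimeSpectrum (K ⊗[R] B)))
    (e : B →ₐ[R] R) (x : B) :
    ∃ n : ℕ, ∀ k, n ≤ k → ∀ (R' : Type u) [CommRing R'] [Algebra R R'],
      (1 : R') ⊗ₜ[R] (Ideal.Quotient.mk (RingHom.ker e ^ (k + 1)) x) = 0 → (1 : R') ⊗ₜ[R] x = 0 := by
  obtain ⟨A, _, _, _, C, _, _, _, E, eC, c, hc, heC⟩ := exists_model e x
  obtain ⟨n, μ, hμ, hμc⟩ := exists_stable eC c
  refine ⟨n, fun k hk R' _ _ h0 => ?_⟩
  let ι : C →+* B := E.toAlgHom.toRingHom.comp (Algebra.TensorProduct.includeRight : C →ₐ[A] R ⊗[A] C).toRingHom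
  have hι : ∀ y, ι y = E ((1 : R) ⊗ₜ[A] y) := fun y => rfl
  have hιe : ∀ y, e (ι y) = algebraMap A R (eC y) := heC
  have hιr : ∀ a, ι (algebraMap A C a) = algebraMap R B (algebraMap A R a) := fun a => by
    rw [hι, Algebra.algebraMap_eq_smul_one a, ← TensorProduct.smul_tmul, ← Algebra.algebraMap_eq_smul_one,
      show algebraMap A R a ⊗ₜ[A] (1 : C) = algebraMap R (R ⊗[A] C) (algebraMap A R a) from
        (Algebra.TensorProduct.algebraMap_apply _).symm, E.commutes]
  letI : Algebra A R' := ((algebraMap R R').comp (algebraMap A R)).toAlgebra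
  haveI : IsScalarTower A R R' := IsScalarTower.of_algebraMap_eq' rfl
  have hm : RingHom.ker e ≤ (RingHom.ker eC).map ι := by
    intro y hy
    obtain ⟨w, rfl⟩ := E.surjective y
    have key : ∀ w, E w - algebraMap R B (e (E w)) ∈ (RingHom.ker eC).map ι := by
      intro w
      induction w using TensorProduct.induction_on with
      | zero => simp
      | add p q hp hq =>
        rw [map_add, map_add, map_add, add_sub_add_comm]
        exact add_mem hp hq
      | tmul r v =>
        have h1 : E (r ⊗ₜ[A] v) = algebraMap R B r * ι v := by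
          rw [hι, ← Algebra.smul_def, ← map_smul, TensorProduct.smul_tmul', smul_eq_mul, mul_one]
        rw [h1, map_mul, e.commutes, Algebra.algebraMap_self_apply, hιe, map_mul, ← hιr, ← mul_sub, ← map_sub]
        refine Ideal.mul_mem_left _ _ (Ideal.mem_map_of_mem ι ?_)
        change eC (v - algebraMap A C (eC v)) = 0
        rw [map_sub, eC.commutes, Algebra.algebraMap_self_apply, sub_self]
    have := key w
    rwa [show e (E w) = 0 from hy, map_zero, sub_zero] at this
  have hkill : ∀ r ∈ content eC c n, algebraMap A R' r = 0 := by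
    intro r hr
    obtain ⟨φ, rfl⟩ := content_mono eC c hk hr
    let φ' : C →ₗ[A] A := φ ∘ₗ (Ideal.Quotient.mkₐ A (RingHom.ker eC ^ (k + 1))).toLinearMap
    let Φ : R ⊗[A] C →ₗ[R] R := (TensorProduct.AlgebraTensorModule.rid A R R).toLinearMap ∘ₗ φ'.baseChange R
    let Φ' : B →ₗ[R] R' := (Algebra.linearMap R R') ∘ₗ Φ ∘ₗ E.symm.toLinearEquiv.toLinearMap
    have hΦ : ∀ y, Φ' (ι y) = algebraMap A R' (φ' y) := fun y => by
      change algebraMap R R' (Φ (E.symm (E ((1 : R) ⊗ₜ[A] y)))) = _
      rw [E.symm_apply_apply]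
      simp [Φ, Algebra.smul_def, IsScalarTower.algebraMap_apply A R R']
    have hker : (RingHom.ker e ^ (k + 1)).restrictScalars R ≤ LinearMap.ker Φ' := by
      intro y hy
      have hy' : y ∈ (RingHom.ker eC ^ (k + 1)).map ι := by
        rw [Ideal.map_pow]
        exact Ideal.pow_right_mono hm (k + 1) hy
      refine Submodule.span_induction (p := fun y _ => ∀ b, Φ' (b * y) = 0) ?_ (fun b => by simp)
        (fun p q _ _ hp hq b => by rw [mul_add, map_add, hp, hq, add_zero])
        (fun r p _ hp b => by rw [smul_eq_mul, ← mul_assoc]; exact hp _) hy' 1 |> fun h => by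
          rwa [one_mul] at h
      rintro _ ⟨v, hv, rfl⟩ b
      obtain ⟨w, rfl⟩ := E.surjective b
      induction w using TensorProduct.induction_on with
      | zero => simp
      | add p q hp hq => rw [map_add, add_mul, map_add, hp, hq, add_zero]
      | tmul r u =>
        have h1 : E (r ⊗ₜ[A] u) * ι v = r • ι (u * v) := by
          rw [map_mul, ← smul_mul_assoc]
          congr 1
          rw [hι, ← map_smul, TensorProduct.smul_tmul', smul_eq_mul, mul_one]
        rw [h1, map_smul, hΦ]
        change r • algebraMap A R' (φ (Ideal.Quotient.mk _ (u * v))) = 0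
        rw [Ideal.Quotient.eq_zero_iff_mem.mpr (Ideal.mul_mem_left _ u hv), map_zero, map_zero, smul_zero]
    let Ψ : (B ⧸ RingHom.ker e ^ (k + 1)) →ₗ[R] R' :=
      ((RingHom.ker e ^ (k + 1)).restrictScalars R).liftQ Φ' hker ∘ₗ
        (Submodule.Quotient.restrictScalarsEquiv R (RingHom.ker e ^ (k + 1))).symm.toLinearMap
    have h1 := congrArg (TensorProduct.lift ((LinearMap.lsmul R' R').restrictScalars₁₂ R R)) (congrArg (Ψ.lTensor R') h0)
    simp only [map_zero, LinearMap.lTensor_tmul, TensorProduct.lift.tmul] at h1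
    change (1 : R') * Φ' x = 0 at h1
    rw [one_mul, ← hc, ← hι, hΦ] at h1
    exact h1
  have h2 : ((1 : R') ⊗ₜ[R] (1 + ι μ)) * ((1 : R') ⊗ₜ[R] x) = 0 := by
    rw [Algebra.TensorProduct.tmul_mul_tmul, one_mul, ← hc, ← hι, ← map_one ι, ← map_add, ← map_mul]
    generalize (1 + μ) * c = w at hμc
    refine Submodule.span_induction (p := fun w _ => (1 : R') ⊗ₜ[R] ι w = (0 : R' ⊗[R] B)) ?_
      (by rw [map_zero, TensorProduct.tmul_zero])
      (fun p q _ _ hp hq => by rw [map_add, TensorProduct.tmul_add, hp, hq, add_zero])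
      (fun r p _ hp => by
        rw [smul_eq_mul, map_mul, ← one_mul (1 : R'), ← Algebra.TensorProduct.tmul_mul_tmul, hp, mul_zero]) hμc
    rintro _ ⟨a, ha, rfl⟩
    rw [hιr, Algebra.algebraMap_eq_smul_one, TensorProduct.tmul_smul, ← algebraMap_smul R' (algebraMap A R a),
      ← IsScalarTower.algebraMap_apply, hkill a ha, zero_smul]
  refine eq_zero_of_mul hconn e R' (ι μ) ?_ _ h2
  change e (ι μ) = 0
  rw [hιe, show eC μ = 0 from hμ, map_zero]

end

end Groth.Agent.MultType.InfNbhd
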