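import Groth.Agent.MultType.Descent
import Groth.Agent.MultType.NilLift

/-!
# Existence of lifts of groups of multiplicative type
-/

set_option maxRecDepth 4000

open Coalgebra TensorProduct

universe u

namespace Groth.Agent.MultType.LiftExists

open GroupLike (bcMap)
open GLLift Sq

noncomputable section

variable {R : Type u} [CommRing R]

section Local

variable {R₀ : Type u} [CommRing R₀] [Algebra R R₀] {Q : ∀ (U : Type u) [CommRing U] [Algebra R U], Prop}
  {B : Type u} [CommRing B] [HopfAlgebra R B] {C : Type u} [CommRing C] [HopfAlgebra R C]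

/-- local existence of lifts of homomorphisms out of a split group -/
theorem exists_bc_hom (D : LiftData R R₀ Q) (SB : Splitting R B Q) {U : Type u} [CommRing U] [Algebra R U] (hU : Q U)
    {M : Type u} [CommGroup M] (e : U ⊗[R] C ≃ₐc[U] MonoidAlgebra U M)
    (Ψ : (R₀ ⊗[R] U) ⊗[R] C →ₐc[R₀ ⊗[R] U] (R₀ ⊗[R] U) ⊗[R] B) :
    ∃ φ : U ⊗[R] C →ₐc[U] U ⊗[R] B, ∀ z, bcMap (ρ R₀ U) B (φ z) = Ψ (bcMap (ρ R₀ U) C z) := by
  have hgl : ∀ m, IsGroupLikeElem U (e.symm (MonoidAlgebra.single m 1)) := fun m =>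
    (MonoidAlgebra.isGroupLikeElem_single_one m).map e.symm
  choose x hx hx' using fun m => GLLift.exists_bcMap D SB U hU
    ((GroupLike.map_isGroupLikeElem (ρ R₀ U) (hgl m)).map Ψ)
  have huniq : ∀ z m, IsGroupLikeElem U z →
      bcMap (ρ R₀ U) B z = Ψ (bcMap (ρ R₀ U) C (e.symm (MonoidAlgebra.single m 1))) → z = x m := fun z m hz h =>
    GLLift.eq_of_bcMap D SB U hU hz (hx m) (h.trans (hx' m).symm)
  let χ : M →* U ⊗[R] B :=
    { toFun := x
      map_one' := (huniq 1 1 IsGroupLikeElem.one (by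
        rw [_root_.map_one, ← MonoidAlgebra.one_def, show e.symm 1 = 1 from e.toAlgEquiv.symm.map_one,
          _root_.map_one, _root_.map_one])).symm
      map_mul' := fun a b => (huniq (x a * x b) (a * b) ((hx a).mul (hx b)) (by
        rw [_root_.map_mul, hx', hx', ← _root_.map_mul, ← _root_.map_mul,
          ← show e.symm (MonoidAlgebra.single a 1 * MonoidAlgebra.single b 1) =
            e.symm (MonoidAlgebra.single a 1) * e.symm (MonoidAlgebra.single b 1) from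
            e.toAlgEquiv.symm.map_mul _ _, MonoidAlgebra.single_mul_single, mul_one])).symm }
  refine ⟨(HomLift.ofChar χ hx).comp (e : U ⊗[R] C →ₐc[U] MonoidAlgebra U M), fun z => ?_⟩
  change bcMap (ρ R₀ U) B (HomLift.ofChar χ hx (e z)) = Ψ _
  conv_rhs => rw [← show e.symm (e z) = z from e.toAlgEquiv.symm_apply_apply _]
  generalize e z = y
  induction y using MonoidAlgebra.induction_linear with
  | zero => simp
  | add y y' hy hy' => simp only [map_add, hy, hy']
  | single m r =>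
    rw [show MonoidAlgebra.single m r = r • MonoidAlgebra.single m (1 : U) by simp, map_smul (HomLift.ofChar χ hx),
      map_smul e.symm, Sq.bcMap_smul, Sq.bcMap_smul, map_smul Ψ, HomLift.ofChar_single]
    exact congrArg _ (hx' m)

end Local

/-- a group split by a finite family after reduction -/
structure Input (R : Type u) [CommRing R] (R₀ : Type u) [CommRing R₀] [Algebra R R₀] (A₀ : Type u) [CommRing A₀]
    [HopfAlgebra R₀ A₀] (Q : ∀ (U : Type u) [CommRing U] [Algebra R U], Prop) where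
  ι : Type u
  [fintype : Fintype ι]
  T : ι → Type u
  [commRing : ∀ i, CommRing (T i)]
  [algebra : ∀ i, Algebra R (T i)]
  [ff : Module.FaithfullyFlat R (∀ i, T i)]
  mem : ∀ i, Q (T i)
  M : ι → Type u
  [commGroup : ∀ i, CommGroup (M i)]
  e : ∀ i, (R₀ ⊗[R] T i) ⊗[R₀] A₀ ≃ₐc[R₀ ⊗[R] T i] MonoidAlgebra (R₀ ⊗[R] T i) (M i)

attribute [instance] Input.fintype Input.commRing Input.algebra Input.ff Input.commGroup

variable {R₀ : Type u} [CommRing R₀] [Algebra R R₀] {A₀ : Type u} [CommRing A₀] [HopfAlgebra R₀ A₀]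
  {Q : ∀ (U : Type u) [CommRing U] [Algebra R U], Prop} (I : Input R R₀ A₀ Q)

/-- the constant models -/
abbrev Dm (i : I.ι) : Type u := MonoidAlgebra R (I.M i)

/-- the trivialisation of `A₀` with values in the constant model -/
def K {W : Type u} [CommRing W] [Algebra R W] [Algebra R₀ W] (i : I.ι) (g : R₀ ⊗[R] I.T i →ₐ[R₀] W) :
    W ⊗[R₀] A₀ ≃ₐc[W] W ⊗[R] Dm I i :=
  (GLLift.extend (I.e i) g).trans (Split.scalarBialgEquiv R W (I.M i)).symm

theorem K_coeff {W : Type u} [CommRing W] [Algebra R W] [Algebra R₀ W] (i : I.ι) (g : R₀ ⊗[R] I.T i →ₐ[R₀] W)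
    (y : W ⊗[R₀] A₀) : Split.scalarBialgEquiv R W (I.M i) (K I i g y) = GLLift.extend (I.e i) g y :=
  (Split.scalarBialgEquiv R W (I.M i)).toAlgEquiv.apply_symm_apply _

theorem K_natural {W W' : Type u} [CommRing W] [Algebra R W] [Algebra R₀ W] [IsScalarTower R R₀ W] [CommRing W']
    [Algebra R W'] [Algebra R₀ W'] [IsScalarTower R R₀ W'] (i : I.ι) (g : R₀ ⊗[R] I.T i →ₐ[R₀] W) (h : W →ₐ[R₀] W')
    (y : W ⊗[R₀] A₀) : bcMap (h.restrictScalars R) (Dm I i) (K I i g y) = K I i (h.comp g) (bcMap h A₀ y) := by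
  apply (Split.scalarBialgEquiv R W' (I.M i)).toAlgEquiv.injective
  ext m
  change (Split.scalarBialgEquiv R W' (I.M i) (bcMap (h.restrictScalars R) (Dm I i) (K I i g y))).coeff m =
    (Split.scalarBialgEquiv R W' (I.M i) (K I i (h.comp g) (bcMap h A₀ y))).coeff m
  have h1 : ∀ z : W ⊗[R] Dm I i, (Split.scalarBialgEquiv R W' (I.M i) (bcMap (h.restrictScalars R) (Dm I i) z)).coeff m =
      h ((Split.scalarBialgEquiv R W (I.M i) z).coeff m) := by
    intro z
    induction z using TensorProduct.induction_on with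
    | zero => simp
    | add a b ha hb => simp only [map_add, MonoidAlgebra.coeff_add, Finsupp.add_apply, ha, hb]
    | tmul w x =>
      rw [GLLift.bcMap_tmul]
      change (MonoidAlgebra.scalarTensorEquiv R W' (h w ⊗ₜ[R] x)).coeff m =
        h ((MonoidAlgebra.scalarTensorEquiv R W (w ⊗ₜ[R] x)).coeff m)
      rw [MonoidAlgebra.scalarTensorEquiv_tmul, MonoidAlgebra.scalarTensorEquiv_tmul, MonoidAlgebra.coeff_smul,
        MonoidAlgebra.coeff_smul, Finsupp.smul_apply, Finsupp.smul_apply, MonoidAlgebra.coeff_mapAlgHom,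
        MonoidAlgebra.coeff_mapAlgHom, smul_eq_mul, smul_eq_mul, map_mul]
      exact congrArg _ ((h.restrictScalars R).commutes _).symm
  rw [h1, K_coeff, K_coeff, GLLift.extend_natural]

/-- the transition maps after reduction -/
def θ₀ {W : Type u} [CommRing W] [Algebra R W] [Algebra R₀ W] (i j : I.ι) (gi : R₀ ⊗[R] I.T i →ₐ[R₀] W)
    (gj : R₀ ⊗[R] I.T j →ₐ[R₀] W) : W ⊗[R] Dm I i ≃ₐc[W] W ⊗[R] Dm I j := (K I i gi).symm.trans (K I j gj)

theorem θ₀_K {W : Type u} [CommRing W] [Algebra R W] [Algebra R₀ W] (i j : I.ι) (gi : R₀ ⊗[R] I.T i →ₐ[R₀] W)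
    (gj : R₀ ⊗[R] I.T j →ₐ[R₀] W) (y : W ⊗[R₀] A₀) : θ₀ I i j gi gj (K I i gi y) = K I j gj y :=
  congrArg (K I j gj) ((K I i gi).toAlgEquiv.symm_apply_apply y)

theorem θ₀_natural {W W' : Type u} [CommRing W] [Algebra R W] [Algebra R₀ W] [IsScalarTower R R₀ W] [CommRing W']
    [Algebra R W'] [Algebra R₀ W'] [IsScalarTower R R₀ W'] (i j : I.ι) (gi : R₀ ⊗[R] I.T i →ₐ[R₀] W)
    (gj : R₀ ⊗[R] I.T j →ₐ[R₀] W) (h : W →ₐ[R₀] W') (z : W ⊗[R] Dm I i) :
    bcMap (h.restrictScalars R) (Dm I j) (θ₀ I i j gi gj z) =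
      θ₀ I i j (h.comp gi) (h.comp gj) (bcMap (h.restrictScalars R) (Dm I i) z) := by
  obtain ⟨y, rfl⟩ := (K I i gi).toAlgEquiv.surjective z
  change bcMap (h.restrictScalars R) (Dm I j) (θ₀ I i j gi gj (K I i gi y)) =
      θ₀ I i j (h.comp gi) (h.comp gj) (bcMap (h.restrictScalars R) (Dm I i) (K I i gi y))
  rw [θ₀_K, K_natural, K_natural, θ₀_K]

theorem θ₀_trans {W : Type u} [CommRing W] [Algebra R W] [Algebra R₀ W] (i j k : I.ι)
    (gi : R₀ ⊗[R] I.T i →ₐ[R₀] W) (gj : R₀ ⊗[R] I.T j →ₐ[R₀] W) (gk : R₀ ⊗[R] I.T k →ₐ[R₀] W) (z : W ⊗[R] Dm I i) :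
    θ₀ I j k gj gk (θ₀ I i j gi gj z) = θ₀ I i k gi gk z := by
  obtain ⟨y, rfl⟩ := (K I i gi).toAlgEquiv.surjective z
  change θ₀ I j k gj gk (θ₀ I i j gi gj (K I i gi y)) = θ₀ I i k gi gk (K I i gi y)
  rw [θ₀_K, θ₀_K, θ₀_K]

/-- reduction of a map of `R`-algebras -/
abbrev red (R₀ : Type u) [CommRing R₀] [Algebra R R₀] {U V : Type u} [CommRing U] [Algebra R U] [CommRing V]
    [Algebra R V] (h : U →ₐ[R] V) : R₀ ⊗[R] U →ₐ[R₀] R₀ ⊗[R] V :=
  Algebra.TensorProduct.map (AlgHom.id R₀ R₀) h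

theorem ff₀ : Module.FaithfullyFlat R₀ (∀ i, R₀ ⊗[R] I.T i) := by
  classical
  exact Module.FaithfullyFlat.of_linearEquiv R₀ (R₀ ⊗[R] (∀ i, I.T i)) (TensorProduct.piRight R R₀ R₀ I.T).symm

include I in
theorem flat₀ : Module.Flat R₀ A₀ := by
  haveI := ff₀ I
  haveI : ∀ i, Module.Flat R₀ ((R₀ ⊗[R] I.T i) ⊗[R₀] A₀) := fun i => by
    haveI : Module.Flat R₀ (R₀ ⊗[R] I.T i) := by
      classical
      exact Module.Flat.of_retract (LinearMap.single R₀ (fun i => R₀ ⊗[R] I.T i) i) (LinearMap.proj i) (by ext x; simp)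
    haveI : Module.Flat (R₀ ⊗[R] I.T i) ((R₀ ⊗[R] I.T i) ⊗[R₀] A₀) :=
      Module.Flat.of_linearEquiv (I.e i).toAlgEquiv.toLinearEquiv
    exact Module.Flat.trans R₀ (R₀ ⊗[R] I.T i) _
  exact Family.flat_of_family (fun i => R₀ ⊗[R] I.T i)

omit [CommRing R] in
theorem inl_eq_bcMap {S : Type u} [CommRing S] {κ : Type u} (T : κ → Type u) [∀ i, CommRing (T i)]
    [∀ i, Algebra S (T i)] {N : Type u} [CommRing N] [Algebra S N] (i j : κ) (z : T i ⊗[S] N) :
    Family.inl (R := S) T i j z = bcMap (Descent.inl T i j) N z := by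
  induction z using TensorProduct.induction_on with
  | zero => simp
  | add x y hx hy => simp only [map_add, hx, hy]
  | tmul t n => rfl

omit [CommRing R] in
theorem inr_eq_bcMap {S : Type u} [CommRing S] {κ : Type u} (T : κ → Type u) [∀ i, CommRing (T i)]
    [∀ i, Algebra S (T i)] {N : Type u} [CommRing N] [Algebra S N] (i j : κ) (z : T j ⊗[S] N) :
    Family.inr (R := S) T i j z = bcMap (Descent.inr T i j) N z := by
  induction z using TensorProduct.induction_on with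
  | zero => simp
  | add x y hx hy => simp only [map_add, hx, hy]
  | tmul t n => rfl

/-- from the reduction of an overlap to the overlap of the reductions -/
def ov (i j : I.ι) : R₀ ⊗[R] (I.T i ⊗[R] I.T j) →ₐ[R₀] (R₀ ⊗[R] I.T i) ⊗[R₀] (R₀ ⊗[R] I.T j) :=
  Algebra.TensorProduct.lift (Algebra.ofId R₀ _)
    (Algebra.TensorProduct.lift
      (((Algebra.TensorProduct.includeLeft : R₀ ⊗[R] I.T i →ₐ[R₀] _).restrictScalars R).comp (ρ R₀ (I.T i)))
      (((Algebra.TensorProduct.includeRight : R₀ ⊗[R] I.T j →ₐ[R₀] _).restrictScalars R).comp (ρ R₀ (I.T j)))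
      fun _ _ => Commute.all _ _)
    fun _ _ => Commute.all _ _

theorem ov_left (i j : I.ι) : (ov I i j).comp (red R₀ (Descent.inl I.T i j)) =
    Descent.inl (fun i => R₀ ⊗[R] I.T i) i j := by
  ext t
  simp [ov, red, Algebra.TensorProduct.one_def]

theorem ov_right (i j : I.ι) : (ov I i j).comp (red R₀ (Descent.inr I.T i j)) =
    Descent.inr (fun i => R₀ ⊗[R] I.T i) i j := by
  ext t
  simp [ov, red, Algebra.TensorProduct.one_def]

theorem ρ_natural {U V : Type u} [CommRing U] [Algebra R U] [CommRing V] [Algebra R V] (g : U →ₐ[R] V) {N : Type u}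
    [CommRing N] [Algebra R N] (z : U ⊗[R] N) :
    bcMap ((red R₀ g).restrictScalars R) N (bcMap (ρ R₀ U) N z) = bcMap (ρ R₀ V) N (bcMap g N z) := by
  induction z using TensorProduct.induction_on with
  | zero => simp
  | add x y hx hy => simp only [map_add, hx, hy]
  | tmul u n => rfl

theorem K_symm_natural {W W' : Type u} [CommRing W] [Algebra R W] [Algebra R₀ W] [IsScalarTower R R₀ W] [CommRing W']
    [Algebra R W'] [Algebra R₀ W'] [IsScalarTower R R₀ W'] (i : I.ι) (g : R₀ ⊗[R] I.T i →ₐ[R₀] W) (h : W →ₐ[R₀] W')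
    (x : W ⊗[R] Dm I i) :
    (K I i (h.comp g)).symm (bcMap (h.restrictScalars R) (Dm I i) x) = bcMap h A₀ ((K I i g).symm x) := by
  obtain ⟨y, rfl⟩ := (K I i g).toAlgEquiv.surjective x
  change (K I i (h.comp g)).symm (bcMap (h.restrictScalars R) (Dm I i) (K I i g y)) =
    bcMap h A₀ ((K I i g).symm (K I i g y))
  rw [K_natural]
  exact ((K I i (h.comp g)).toAlgEquiv.symm_apply_apply _).trans
    (congrArg _ ((K I i g).toAlgEquiv.symm_apply_apply y).symm)

theorem one_tmul_smul (i : I.ι) {N : Type u} [AddCommGroup N] [Module R₀ N] (r : R₀) (x : N) :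
    (1 : R₀ ⊗[R] I.T i) ⊗ₜ[R₀] (r • x) = r • ((1 : R₀ ⊗[R] I.T i) ⊗ₜ[R₀] x) := TensorProduct.tmul_smul _ _ _

theorem eq₀ {N : Type u} [AddCommGroup N] [Module R₀ N] {x y : N}
    (h : ∀ i, (1 : R₀ ⊗[R] I.T i) ⊗ₜ[R₀] x = (1 : R₀ ⊗[R] I.T i) ⊗ₜ[R₀] y) : x = y := by
  haveI := ff₀ I
  exact Family.eq_of_family (R := R₀) (fun i => R₀ ⊗[R] I.T i) h

section Data

variable (D : LiftData R R₀ Q)
include D

/-- the trivial splitting of a constant model -/
def SD (i : I.ι) : Splitting R (Dm I i) Q := NilLift.trivialSplitting D.base (BialgEquiv.refl R _)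

theorem exists_θ (i j : I.ι) :
    ∃ φ : (I.T i ⊗[R] I.T j) ⊗[R] Dm I i →ₐc[I.T i ⊗[R] I.T j] (I.T i ⊗[R] I.T j) ⊗[R] Dm I j,
      ∀ z, bcMap (ρ R₀ _) (Dm I j) (φ z) =
        θ₀ I i j (red R₀ (Descent.inl I.T i j)) (red R₀ (Descent.inr I.T i j)) (bcMap (ρ R₀ _) (Dm I i) z) :=
  exists_bc_hom D (SD I D j) (D.tensor _ _ (I.mem i) (I.mem j)) (Split.scalarBialgEquiv R _ (I.M i))
    (θ₀ I i j (red R₀ (Descent.inl I.T i j)) (red R₀ (Descent.inr I.T i j)) : _ →ₐc[_] _)

/-- the chosen transition maps -/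
def θ (i j : I.ι) : (I.T i ⊗[R] I.T j) ⊗[R] Dm I i →ₐc[I.T i ⊗[R] I.T j] (I.T i ⊗[R] I.T j) ⊗[R] Dm I j :=
  (exists_θ I D i j).choose

theorem θ_spec {i j : I.ι} {W : Type u} [CommRing W] [Algebra R W] (h : I.T i ⊗[R] I.T j →ₐ[R] W)
    (z : W ⊗[R] Dm I i) : bcMap (ρ R₀ W) (Dm I j) (HomLift.bcHom h (θ I D i j) z) =
      θ₀ I i j (red R₀ (h.comp (Descent.inl I.T i j))) (red R₀ (h.comp (Descent.inr I.T i j)))
        (bcMap (ρ R₀ W) (Dm I i) z) := by
  induction z using TensorProduct.induction_on with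
  | zero => simp
  | add x y hx hy => simp only [map_add, hx, hy]
  | tmul w c =>
    have hρ : (ρ R₀ W).comp h = ((red R₀ h).restrictScalars R).comp (ρ R₀ (I.T i ⊗[R] I.T j)) :=
      AlgHom.ext fun u => rfl
    have hg : ∀ {a : I.ι} (g : I.T a →ₐ[R] I.T i ⊗[R] I.T j), (red R₀ h).comp (red R₀ g) = red R₀ (h.comp g) :=
      fun g => by ext x; simp
    rw [Sq.smul_tmul_one w c, map_smul (HomLift.bcHom h (θ I D i j)), Sq.bcMap_smul, Sq.bcMap_smul, map_smul,
      HomLift.bcHom_one_tmul, bcMap_bcMap, hρ, ← bcMap_bcMap,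
      show θ I D i j = (exists_θ I D i j).choose from rfl, (exists_θ I D i j).choose_spec, θ₀_natural, hg, hg,
      GLLift.bcMap_tmul, GLLift.bcMap_tmul, GLLift.bcMap_tmul, map_one, map_one, map_one]

theorem eq_of_red {i j : I.ι} {W : Type u} [CommRing W] [Algebra R W] (hW : Q W)
    {φ ψ : W ⊗[R] Dm I i →ₐc[W] W ⊗[R] Dm I j}
    (h : ∀ z, bcMap (ρ R₀ W) (Dm I j) (φ z) = bcMap (ρ R₀ W) (Dm I j) (ψ z)) : φ = ψ :=
  HomLift.eq_of_red D (SD I D j) (T := R) (Split.scalarBialgEquiv R R (I.M i)) hW (Algebra.ofId R W) h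

/-- the descent datum -/
def datum : Descent.Datum (R := R) I.T (Dm I) where
  θ := θ I D
  unit i z := by
    rw [← Sq.bcHom_eq]
    refine DFunLike.congr_fun (eq_of_red I D (I.mem i)
      (φ := HomLift.bcHom (Algebra.TensorProduct.lmul' R) (θ I D i i)) (ψ := BialgHom.id _ _) fun z => ?_) z
    have h1 : (Algebra.TensorProduct.lmul' R : I.T i ⊗[R] I.T i →ₐ[R] I.T i).comp (Descent.inl I.T i i) =
        AlgHom.id R (I.T i) := AlgHom.ext fun u => by simp
    have h2 : (Algebra.TensorProduct.lmul' R : I.T i ⊗[R] I.T i →ₐ[R] I.T i).comp (Descent.inr I.T i i) =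
        AlgHom.id R (I.T i) := AlgHom.ext fun u => by simp
    rw [θ_spec, h1, h2]
    exact (K I i _).toAlgEquiv.apply_symm_apply _
  cocycle k i j z := by
    rw [← Sq.bcHom_eq, ← Sq.bcHom_eq, ← Sq.bcHom_eq]
    refine DFunLike.congr_fun (eq_of_red I D (D.tensor _ _ (I.mem k) (D.tensor _ _ (I.mem i) (I.mem j)))
      (φ := (HomLift.bcHom _ (θ I D i j)).comp (HomLift.bcHom _ (θ I D k i)))
      (ψ := HomLift.bcHom _ (θ I D k j)) fun z => ?_) z
    have hl : ∀ {a : I.ι} (h : I.T a →ₐ[R] I.T i ⊗[R] I.T j),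
        (Algebra.TensorProduct.map (AlgHom.id R (I.T k)) h).comp (Descent.inl I.T k a) =
          (Algebra.TensorProduct.includeLeft : I.T k →ₐ[R] I.T k ⊗[R] (I.T i ⊗[R] I.T j)) := fun h =>
      AlgHom.ext fun u => by simp
    have hr : ∀ {a : I.ι} (h : I.T a →ₐ[R] I.T i ⊗[R] I.T j),
        (Algebra.TensorProduct.map (AlgHom.id R (I.T k)) h).comp (Descent.inr I.T k a) =
          (Algebra.TensorProduct.includeRight : I.T i ⊗[R] I.T j →ₐ[R] I.T k ⊗[R] (I.T i ⊗[R] I.T j)).comp h := fun h =>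
      AlgHom.ext fun u => by simp
    rw [BialgHom.comp_apply, θ_spec, θ_spec, θ_spec, hl, hl, hr, hr, θ₀_trans]

/-- the lift -/
abbrev Lifted : Type u := Descent.Obj (datum I D)

/-- the splitting of the lift -/
def splitting : Splitting R (Lifted I D) Q :=
  { ι := I.ι, T := I.T, mem := I.mem, M := I.M
    equiv := fun i => (Descent.φc (datum I D) i).trans (Split.scalarBialgEquiv R (I.T i) (I.M i)) }

end Data

end

end Groth.Agent.MultType.LiftExists
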