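import Groth.Agent.MultType.LiftExists
import Groth.Agent.MultType.Glue

/-!
# Existence of lifts: comparison with the given group
-/

set_option maxRecDepth 4000

open Coalgebra TensorProduct

universe u

namespace Groth.Agent.MultType.LiftExists

open GroupLike (bcMap)
open GLLift Sq

noncomputable section

variable {R : Type u} [CommRing R] {R₀ : Type u} [CommRing R₀] [Algebra R R₀] {A₀ : Type u} [CommRing A₀]
  [HopfAlgebra R₀ A₀] {Q : ∀ (U : Type u) [CommRing U] [Algebra R U], Prop} (I : Input R R₀ A₀ Q)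
  (D : LiftData R R₀ Q)
include D

/-- the reduction of the trivialisation -/
def E (i : I.ι) : (R₀ ⊗[R] I.T i) ⊗[R₀] (R₀ ⊗[R] Lifted I D) ≃ₐc[R₀ ⊗[R] I.T i] (R₀ ⊗[R] I.T i) ⊗[R₀] A₀ :=
  (Split.cancel (R := R) (S := R₀) (T := R₀ ⊗[R] I.T i) (A := Lifted I D)).trans
    (((GLLift.extend ((Descent.φc (datum I D) i).trans (Split.scalarBialgEquiv R (I.T i) (I.M i))) (ρ R₀ (I.T i))).trans
      (Split.scalarBialgEquiv R (R₀ ⊗[R] I.T i) (I.M i)).symm).trans (K I i (AlgHom.id R₀ _)).symm)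

theorem E_one_tmul (i : I.ι) (a : Lifted I D) :
    E I D i (1 ⊗ₜ[R₀] ((1 : R₀) ⊗ₜ[R] a)) =
      (K I i (AlgHom.id R₀ _)).symm (bcMap (ρ R₀ (I.T i)) (Dm I i) (Descent.π (datum I D) i a)) := by
  have h0 : Split.cancel (R := R) (S := R₀) (T := R₀ ⊗[R] I.T i) (A := Lifted I D)
      ((1 : R₀ ⊗[R] I.T i) ⊗ₜ[R₀] ((1 : R₀) ⊗ₜ[R] a)) = (1 : R₀ ⊗[R] I.T i) ⊗ₜ[R] a :=
    (Split.cancel_tmul (R := R) (S := R₀) (T := R₀ ⊗[R] I.T i) _ _ a).trans (by rw [one_smul])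
  change (K I i (AlgHom.id R₀ _)).symm ((Split.scalarBialgEquiv R (R₀ ⊗[R] I.T i) (I.M i)).symm
    (GLLift.extend ((Descent.φc (datum I D) i).trans (Split.scalarBialgEquiv R (I.T i) (I.M i))) (ρ R₀ (I.T i))
      (Split.cancel (R := R) (S := R₀) (T := R₀ ⊗[R] I.T i) (A := Lifted I D) _))) = _
  rw [h0]
  congr 1
  apply (Split.scalarBialgEquiv R (R₀ ⊗[R] I.T i) (I.M i)).toAlgEquiv.injective
  refine ((Split.scalarBialgEquiv R (R₀ ⊗[R] I.T i) (I.M i)).toAlgEquiv.apply_symm_apply _).trans ?_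
  ext m
  rw [GLLift.extend_one_tmul]
  change ρ R₀ (I.T i) ((Split.scalarBialgEquiv R (I.T i) (I.M i) (Descent.φc (datum I D) i (1 ⊗ₜ a))).coeff m) =
    (Split.scalarBialgEquiv R (R₀ ⊗[R] I.T i) (I.M i) (bcMap (ρ R₀ (I.T i)) (Dm I i) _)).coeff m
  rw [Descent.φc_one_tmul]
  generalize Descent.π (datum I D) i a = z
  induction z using TensorProduct.induction_on with
  | zero => simp
  | add x y hx hy => simp only [map_add, MonoidAlgebra.coeff_add, Finsupp.add_apply, hx, hy]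
  | tmul t d =>
    rw [GLLift.bcMap_tmul]
    change ρ R₀ (I.T i) ((MonoidAlgebra.scalarTensorEquiv R (I.T i) (t ⊗ₜ[R] d)).coeff m) =
      (MonoidAlgebra.scalarTensorEquiv R (R₀ ⊗[R] I.T i) (ρ R₀ (I.T i) t ⊗ₜ[R] d)).coeff m
    rw [MonoidAlgebra.scalarTensorEquiv_tmul, MonoidAlgebra.scalarTensorEquiv_tmul, MonoidAlgebra.coeff_smul,
      MonoidAlgebra.coeff_smul, Finsupp.smul_apply, Finsupp.smul_apply, MonoidAlgebra.coeff_mapAlgHom,
      MonoidAlgebra.coeff_mapAlgHom, smul_eq_mul, smul_eq_mul, map_mul]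
    exact congrArg _ ((ρ R₀ (I.T i)).commutes _)

theorem compat (a : Lifted I D) (i j : I.ι) :
    Family.inl (fun i => R₀ ⊗[R] I.T i) i j (E I D i (1 ⊗ₜ[R₀] ((1 : R₀) ⊗ₜ[R] a))) =
      Family.inr (fun i => R₀ ⊗[R] I.T i) i j (E I D j (1 ⊗ₜ[R₀] ((1 : R₀) ⊗ₜ[R] a))) := by
  rw [E_one_tmul, E_one_tmul, inl_eq_bcMap (fun i => R₀ ⊗[R] I.T i), inr_eq_bcMap (fun i => R₀ ⊗[R] I.T i),
    ← K_symm_natural, ← K_symm_natural, AlgHom.comp_id, AlgHom.comp_id, ← ov_left, ← ov_right]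
  have hc : ∀ {W W' : Type u} [CommRing W] [Algebra R W] [Algebra R₀ W] [IsScalarTower R R₀ W] [CommRing W']
      [Algebra R W'] [Algebra R₀ W'] [IsScalarTower R R₀ W'] {V : Type u} [CommRing V] [Algebra R V] [Algebra R₀ V]
      [IsScalarTower R R₀ V] (f : W →ₐ[R₀] W') (g : W' →ₐ[R₀] V),
      (g.comp f).restrictScalars R = (g.restrictScalars R).comp (f.restrictScalars R) := fun f g => rfl
  rw [hc, hc, ← bcMap_bcMap, ← bcMap_bcMap, ρ_natural, ρ_natural, K_symm_natural, K_symm_natural]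
  congr 1
  apply (K I j (red R₀ (Descent.inr I.T i j))).toAlgEquiv.injective
  refine Eq.trans ?_ ((K I j (red R₀ (Descent.inr I.T i j))).toAlgEquiv.apply_symm_apply _).symm
  change θ₀ I i j (red R₀ (Descent.inl I.T i j)) (red R₀ (Descent.inr I.T i j)) _ = _
  rw [← (exists_θ I D i j).choose_spec, ← Descent.rel (datum I D) a i j]
  rfl

/-- compatibility on all of `R₀ ⊗ A` -/
theorem compat' (x : R₀ ⊗[R] Lifted I D) (i j : I.ι) :
    Family.inl (R := R₀) (fun i => R₀ ⊗[R] I.T i) i j (E I D i (1 ⊗ₜ[R₀] x)) =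
      Family.inr (R := R₀) (fun i => R₀ ⊗[R] I.T i) i j (E I D j (1 ⊗ₜ[R₀] x)) := by
  induction x using TensorProduct.induction_on with
  | zero => simp
  | add p q hp hq => simp only [TensorProduct.tmul_add, map_add, hp, hq]
  | tmul r a =>
    have h : ∀ k, E I D k ((1 : R₀ ⊗[R] I.T k) ⊗ₜ[R₀] (r ⊗ₜ[R] a)) =
        r • E I D k (1 ⊗ₜ[R₀] ((1 : R₀) ⊗ₜ[R] a)) := fun k => by
      rw [Sq.smul_tmul_one r a, TensorProduct.tmul_smul, ← algebraMap_smul (R₀ ⊗[R] I.T k) r, map_smul (E I D k),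
        algebraMap_smul]
    rw [h, h, map_smul, map_smul, compat]

include I in
theorem exists_red_equiv : Nonempty (R₀ ⊗[R] Lifted I D ≃ₐc[R₀] A₀) := by
  haveI := ff₀ I
  haveI := flat₀ I
  exact Glue.exists_equiv (fun i => R₀ ⊗[R] I.T i) (E I D) fun x i j => compat' I D x i j

end

end Groth.Agent.MultType.LiftExists
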