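import Groth.Agent.MultType.Lift

/-!
# Noetherian models of finitely presented commutative Hopf algebras

* `sqMap`, `isBaseChange_sqMap`: squares of base change maps.
* `Data`, `Data.toHopf`: Hopf algebra data along a change of the base ring.
* `exists_hopf_model`: a finitely presented Hopf algebra `C` over `R` with a finitely generated model of
  the algebra has a model of the Hopf algebra over a finitely generated subalgebra of `R`.
-/

open Coalgebra TensorProduct

universe u

namespace Groth.Agent.MultType.Model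

noncomputable section

open Algebra.TensorProduct (includeLeft includeRight)

section Square

variable {A : Type u} [CommRing A] {R : Type u} [CommRing R] [Algebra A R]
  {X : Type u} [CommRing X] [Algebra A X] {C : Type u} [CommRing C] [Algebra R C] [Algebra A C]
  [IsScalarTower A R C] {Z : Type u} [CommRing Z] [Algebra A Z] {D : Type u} [CommRing D] [Algebra R D]
  [Algebra A D] [IsScalarTower A R D]

/-- the tensor square of two maps semilinear over `A → R` -/
def sqMap (ι : X →ₐ[A] C) (κ : Z →ₐ[A] D) : X ⊗[A] Z →ₐ[A] C ⊗[R] D :=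
  Algebra.TensorProduct.lift (((includeLeft : C →ₐ[R] C ⊗[R] D).restrictScalars A).comp ι)
    (((includeRight : D →ₐ[R] C ⊗[R] D).restrictScalars A).comp κ) fun _ _ => Commute.all _ _

@[simp]
theorem sqMap_tmul (ι : X →ₐ[A] C) (κ : Z →ₐ[A] D) (x : X) (z : Z) :
    sqMap (R := R) ι κ (x ⊗ₜ z) = ι x ⊗ₜ κ z := by
  simp [sqMap]

theorem isBaseChange_sqMap {ι : X →ₐ[A] C} {κ : Z →ₐ[A] D} (hι : IsBaseChange R ι.toLinearMap)
    (hκ : IsBaseChange R κ.toLinearMap) : IsBaseChange R (sqMap (R := R) ι κ).toLinearMap := by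
  refine IsBaseChange.of_equiv ((TensorProduct.AlgebraTensorModule.distribBaseChange A R X Z).trans
    (TensorProduct.congr hι.equiv hκ.equiv)) fun w => ?_
  induction w using TensorProduct.induction_on with
  | zero => simp
  | add x y hx hy => simp only [TensorProduct.tmul_add, map_add, hx, hy]
  | tmul x z =>
    simp [TensorProduct.AlgebraTensorModule.distribBaseChange, IsBaseChange.equiv_tmul]

theorem sqMap_comp {B : Type u} [CommRing B] [Algebra A B] [Algebra B R] [IsScalarTower A B R]
    {Y : Type u} [CommRing Y] [Algebra B Y] [Algebra A Y] [IsScalarTower A B Y] [Algebra B C]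
    [IsScalarTower B R C] [IsScalarTower A B C] [Algebra B D]
    [IsScalarTower B R D] [IsScalarTower A B D] {W : Type u} [CommRing W] [Algebra B W] [Algebra A W]
    [IsScalarTower A B W] (j : X →ₐ[A] Y) (k : Z →ₐ[A] W) (ι : Y →ₐ[B] C) (κ : W →ₐ[B] D) (w : X ⊗[A] Z) :
    sqMap (R := R) ι κ (sqMap (R := B) j k w) =
      sqMap (R := R) ((ι.restrictScalars A).comp j) ((κ.restrictScalars A).comp k) w := by
  induction w using TensorProduct.induction_on with
  | zero => simp
  | add x y hx hy => simp only [map_add, hx, hy]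
  | tmul x z => simp

end Square

section Data

/-- the data of a commutative Hopf algebra -/
structure Data (A : Type u) [CommRing A] (X : Type u) [CommRing X] [Algebra A X] where
  /-- comultiplication -/
  Δ : X →ₐ[A] X ⊗[A] X
  /-- counit -/
  ε : X →ₐ[A] A
  /-- antipode -/
  S : X →ₐ[A] X

variable {A : Type u} [CommRing A] {X : Type u} [CommRing X] [Algebra A X]

namespace Data

variable (d : Data A X)

/-- left side of coassociativity -/
def coL : X →ₐ[A] X ⊗[A] (X ⊗[A] X) :=
  (Algebra.TensorProduct.assoc A A A X X X).toAlgHom.comp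
    ((Algebra.TensorProduct.map d.Δ (.id A X)).comp d.Δ)

/-- right side of coassociativity -/
def coR : X →ₐ[A] X ⊗[A] (X ⊗[A] X) :=
  (Algebra.TensorProduct.map (.id A X) d.Δ).comp d.Δ

/-- left counit composite -/
def unL : X →ₐ[A] X :=
  (Algebra.TensorProduct.lid A X).toAlgHom.comp ((Algebra.TensorProduct.map d.ε (.id A X)).comp d.Δ)

/-- right counit composite -/
def unR : X →ₐ[A] X :=
  (Algebra.TensorProduct.rid A A X).toAlgHom.comp ((Algebra.TensorProduct.map (.id A X) d.ε).comp d.Δ)

/-- left antipode composite -/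
def invL : X →ₐ[A] X :=
  (Algebra.TensorProduct.lift d.S (.id A X) fun _ _ => Commute.all _ _).comp d.Δ

/-- right antipode composite -/
def invR : X →ₐ[A] X :=
  (Algebra.TensorProduct.lift (.id A X) d.S fun _ _ => Commute.all _ _).comp d.Δ

/-- the axioms on a given element -/
def AxiomsAt (x : X) : Prop :=
  d.coL x = d.coR x ∧ d.unL x = x ∧ d.unR x = x ∧
    d.invL x = algebraMap A X (d.ε x) ∧ d.invR x = algebraMap A X (d.ε x)

/-- the axioms -/
def IsHopf : Prop := ∀ x, d.AxiomsAt x

theorem isHopf_of_adjoin {s : Set X} (hs : Algebra.adjoin A s = ⊤) (h : ∀ x ∈ s, d.AxiomsAt x) :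
    d.IsHopf := by
  have h1 : d.coL = d.coR := AlgHom.ext_of_adjoin_eq_top hs fun x hx => (h x hx).1
  have h2 : d.unL = AlgHom.id A X := AlgHom.ext_of_adjoin_eq_top hs fun x hx => (h x hx).2.1
  have h3 : d.unR = AlgHom.id A X := AlgHom.ext_of_adjoin_eq_top hs fun x hx => (h x hx).2.2.1
  have h4 : d.invL = (Algebra.ofId A X).comp d.ε :=
    AlgHom.ext_of_adjoin_eq_top hs fun x hx => (h x hx).2.2.2.1
  have h5 : d.invR = (Algebra.ofId A X).comp d.ε :=
    AlgHom.ext_of_adjoin_eq_top hs fun x hx => (h x hx).2.2.2.2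
  exact fun x => ⟨AlgHom.congr_fun h1 x, AlgHom.congr_fun h2 x, AlgHom.congr_fun h3 x,
    AlgHom.congr_fun h4 x, AlgHom.congr_fun h5 x⟩

/-- the bialgebra with given data -/
@[reducible] def toBialg (h : d.IsHopf) : Bialgebra A X :=
  Bialgebra.ofAlgHom d.Δ d.ε (AlgHom.ext fun x => (h x).1)
    (AlgHom.ext fun x => (Algebra.TensorProduct.lid A X).injective (by
      simpa [unL] using (h x).2.1))
    (AlgHom.ext fun x => (Algebra.TensorProduct.rid A A X).injective (by
      simpa [unR] using (h x).2.2.1))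

/-- the Hopf algebra with given data -/
@[reducible] def toHopf (h : d.IsHopf) : HopfAlgebra A X :=
  letI := d.toBialg h
  HopfAlgebra.ofAlgHom d.S (AlgHom.ext fun x => (h x).2.2.2.1) (AlgHom.ext fun x => (h x).2.2.2.2)

end Data

/-- the data of a Hopf algebra -/
def ofHopf (R C : Type u) [CommRing R] [CommRing C] [HopfAlgebra R C] : Data R C :=
  ⟨Bialgebra.comulAlgHom R C, Bialgebra.counitAlgHom R C, HopfAlgebra.antipodeAlgHom R C⟩

theorem isHopf_ofHopf (R C : Type u) [CommRing R] [CommRing C] [HopfAlgebra R C] :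
    (ofHopf R C).IsHopf := by
  intro x
  refine ⟨?_, ?_, ?_, ?_, ?_⟩
  · exact LinearMap.congr_fun (Coalgebra.coassoc (R := R) (A := C)) x
  · have := LinearMap.congr_fun (Coalgebra.rTensor_counit_comp_comul (R := R) (A := C)) x
    have h1 : Algebra.TensorProduct.map (Bialgebra.counitAlgHom R C) (AlgHom.id R C) (comul (R := R) x) =
        (1 : R) ⊗ₜ[R] x := this
    simp [Data.unL, ofHopf, h1]
  · have := LinearMap.congr_fun (Coalgebra.lTensor_counit_comp_comul (R := R) (A := C)) x
    have h1 : Algebra.TensorProduct.map (AlgHom.id R C) (Bialgebra.counitAlgHom R C) (comul (R := R) x) =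
        x ⊗ₜ[R] (1 : R) := this
    simp [Data.unR, ofHopf, h1]
  · have h := HopfAlgebra.mul_antipode_rTensor_comul_apply (R := R) x
    simp only [Data.invL, ofHopf, AlgHom.comp_apply, Bialgebra.comulAlgHom_apply,
      Bialgebra.counitAlgHom_apply]
    rw [← h]
    generalize comul (R := R) x = w
    induction w using TensorProduct.induction_on with
    | zero => simp
    | add a b ha hb => simp only [map_add, ha, hb]
    | tmul a b => rfl
  · have h := HopfAlgebra.mul_antipode_lTensor_comul_apply (R := R) x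
    simp only [Data.invR, ofHopf, AlgHom.comp_apply, Bialgebra.comulAlgHom_apply,
      Bialgebra.counitAlgHom_apply]
    rw [← h]
    generalize comul (R := R) x = w
    induction w using TensorProduct.induction_on with
    | zero => simp
    | add a b ha hb => simp only [map_add, ha, hb]
    | tmul a b => rfl

variable {B : Type u} [CommRing B] [Algebra A B] {Y : Type u} [CommRing Y] [Algebra B Y] [Algebra A Y]
  [IsScalarTower A B Y]

/-- a semilinear map respecting the data -/
structure Compat (j : X →ₐ[A] Y) (d : Data A X) (d' : Data B Y) : Prop where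
  comul : ∀ x, d'.Δ (j x) = sqMap (R := B) j j (d.Δ x)
  counit : ∀ x, d'.ε (j x) = algebraMap A B (d.ε x)
  antipode : ∀ x, d'.S (j x) = j (d.S x)

variable {j : X →ₐ[A] Y} {d : Data A X} {d' : Data B Y} (h : Compat j d d')
include h

theorem Compat.coL_apply (x : X) :
    d'.coL (j x) = sqMap (R := B) j (sqMap (R := B) j j) (d.coL x) := by
  simp only [Data.coL, AlgHom.comp_apply, h.comul]
  generalize d.Δ x = w
  induction w using TensorProduct.induction_on with
  | zero => simp
  | add a b ha hb => simp only [map_add, ha, hb]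
  | tmul a b =>
    simp only [sqMap_tmul, Algebra.TensorProduct.map_tmul, AlgHom.id_apply, h.comul]
    generalize d.Δ a = v
    induction v using TensorProduct.induction_on with
    | zero => simp
    | add p q hp hq => simp only [map_add, TensorProduct.add_tmul, hp, hq]
    | tmul p q => simp

theorem Compat.coR_apply (x : X) :
    d'.coR (j x) = sqMap (R := B) j (sqMap (R := B) j j) (d.coR x) := by
  simp only [Data.coR, AlgHom.comp_apply, h.comul]
  generalize d.Δ x = w
  induction w using TensorProduct.induction_on with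
  | zero => simp
  | add a b ha hb => simp only [map_add, ha, hb]
  | tmul a b => simp [h.comul]

theorem Compat.unL_apply (x : X) : d'.unL (j x) = j (d.unL x) := by
  simp only [Data.unL, AlgHom.comp_apply, h.comul]
  generalize d.Δ x = w
  induction w using TensorProduct.induction_on with
  | zero => simp
  | add a b ha hb => simp only [map_add, ha, hb]
  | tmul a b => simp [h.counit]

theorem Compat.unR_apply (x : X) : d'.unR (j x) = j (d.unR x) := by
  simp only [Data.unR, AlgHom.comp_apply, h.comul]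
  generalize d.Δ x = w
  induction w using TensorProduct.induction_on with
  | zero => simp
  | add a b ha hb => simp only [map_add, ha, hb]
  | tmul a b => simp [h.counit]

theorem Compat.invL_apply (x : X) : d'.invL (j x) = j (d.invL x) := by
  simp only [Data.invL, AlgHom.comp_apply, h.comul]
  generalize d.Δ x = w
  induction w using TensorProduct.induction_on with
  | zero => simp
  | add a b ha hb => simp only [map_add, ha, hb]
  | tmul a b => simp [h.antipode]

theorem Compat.invR_apply (x : X) : d'.invR (j x) = j (d.invR x) := by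
  simp only [Data.invR, AlgHom.comp_apply, h.comul]
  generalize d.Δ x = w
  induction w using TensorProduct.induction_on with
  | zero => simp
  | add a b ha hb => simp only [map_add, ha, hb]
  | tmul a b => simp [h.antipode]

theorem Compat.algebraMap_counit (x : X) :
    j (algebraMap A X (d.ε x)) = algebraMap B Y (d'.ε (j x)) := by
  rw [h.counit, AlgHom.commutes, ← IsScalarTower.algebraMap_apply]

end Data

section BaseChange

variable {A : Type u} [CommRing A] {X : Type u} [CommRing X] [Algebra A X]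
  (B : Type u) [CommRing B] [Algebra A B]

/-- the inclusion in the base change -/
abbrev inB : X →ₐ[A] B ⊗[A] X := includeRight

/-- base change of data -/
def Data.bc (d : Data A X) : Data B (B ⊗[A] X) where
  Δ := Algebra.TensorProduct.lift (Algebra.ofId B _) ((sqMap (R := B) (inB B) (inB B)).comp d.Δ)
    fun _ _ => Commute.all _ _
  ε := Algebra.TensorProduct.lift (AlgHom.id B B) ((Algebra.ofId A B).comp d.ε) fun _ _ => Commute.all _ _
  S := Algebra.TensorProduct.map (AlgHom.id B B) d.S

theorem Data.compat_bc (d : Data A X) : Compat (inB B) d (d.bc B) where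
  comul x := by simp [Data.bc, inB, ← Algebra.TensorProduct.one_def]
  counit x := by simp [Data.bc, inB, Algebra.ofId_apply]
  antipode x := by simp [Data.bc, inB]

variable {R : Type u} [CommRing R] [Algebra A R] [Algebra B R] [IsScalarTower A B R] {C : Type u}
  [CommRing C] [Algebra R C] [Algebra A C] [Algebra B C] [IsScalarTower A R C] [IsScalarTower B R C]
  [IsScalarTower A B C]

/-- the structure map from the base change -/
def ext (ι : X →ₐ[A] C) : B ⊗[A] X →ₐ[B] C :=
  Algebra.TensorProduct.lift (Algebra.ofId B C) ι fun _ _ => Commute.all _ _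

theorem ext_inB (ι : X →ₐ[A] C) (x : X) : ext B ι (inB B x) = ι x := by simp [ext, inB]

@[simp]
theorem ext_tmul (ι : X →ₐ[A] C) (b : B) (x : X) : ext B ι (b ⊗ₜ x) = algebraMap B C b * ι x := by
  simp [ext, Algebra.ofId_apply]

theorem ext_comp (ι : X →ₐ[A] C) : ((ext B ι).restrictScalars A).comp (inB B) = ι :=
  AlgHom.ext fun x => ext_inB B ι x

theorem isBaseChange_ext {ι : X →ₐ[A] C} (hι : IsBaseChange R ι.toLinearMap) :
    IsBaseChange R (ext B ι).toLinearMap := by
  refine IsBaseChange.of_comp (TensorProduct.isBaseChange A X B) ?_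
  convert hι using 1
  refine LinearMap.ext fun x => ?_
  exact ext_inB B ι x

theorem compat_ext {d : Data A X} {e : Data R C} {ι : X →ₐ[A] C} (h : Compat ι d e) :
    Compat (ext B ι) (d.bc B) e := by
  have hj := d.compat_bc B
  refine ⟨?_, ?_, ?_⟩ <;> intro z <;> induction z using TensorProduct.induction_on with
    | zero => simp
    | add a b ha hb => simp only [map_add, ha, hb]
    | tmul b x => ?_
  all_goals
    have hz : b ⊗ₜ[A] x = algebraMap B (B ⊗[A] X) b * inB B x := by simp [inB]
    rw [hz]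
  · simp only [map_mul, AlgHom.commutes, hj.comul, sqMap_comp, ext_comp, ext_inB, h.comul]
    congr 1
    rw [IsScalarTower.algebraMap_apply B R C, AlgHom.commutes,
      IsScalarTower.algebraMap_apply B R (C ⊗[R] C)]
  · simp only [map_mul, AlgHom.commutes, hj.counit, ext_inB, h.counit]
    rw [IsScalarTower.algebraMap_apply B R C, AlgHom.commutes, IsScalarTower.algebraMap_apply A B R]
    rfl
  · simp only [map_mul, AlgHom.commutes, hj.antipode, ext_inB, h.antipode]
    rw [IsScalarTower.algebraMap_apply B R C, AlgHom.commutes]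

end BaseChange

section Equiv

variable {A : Type u} [CommRing A] {X : Type u} [CommRing X] [HopfAlgebra A X]
  {R : Type u} [CommRing R] [Algebra A R] {C : Type u} [CommRing C] [HopfAlgebra R C] [Algebra A C]
  [IsScalarTower A R C]

/-- a compatible base change map is an equivalence of bialgebras -/
theorem exists_bialgEquiv (ι : X →ₐ[A] C) (hι : IsBaseChange R ι.toLinearMap)
    (hΔ : ∀ x, comul (R := R) (ι x) = sqMap (R := R) ι ι (comul x))
    (hε : ∀ x, counit (R := R) (ι x) = algebraMap A R (counit x)) :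
    ∃ e : R ⊗[A] X ≃ₐc[R] C, ∀ r x, e (r ⊗ₜ x) = r • ι x := by
  let f : R ⊗[A] X →ₐ[R] C := Algebra.TensorProduct.lift (Algebra.ofId R C) ι fun _ _ => Commute.all _ _
  have hf : ∀ r x, f (r ⊗ₜ x) = r • ι x := fun r x => by simp [f, Algebra.smul_def, Algebra.ofId_apply]
  have hf1 : ∀ x, f (1 ⊗ₜ x) = ι x := fun x => by rw [hf, one_smul]
  have hbij : Function.Bijective f := by
    have : ⇑f = ⇑hι.equiv := funext fun z => by
      induction z using TensorProduct.induction_on with
      | zero => simp
      | add a b ha hb => simp only [map_add, ha, hb]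
      | tmul r x => rw [hf, IsBaseChange.equiv_tmul]; rfl
    exact this ▸ hι.equiv.bijective
  refine ⟨BialgEquiv.ofAlgEquiv (AlgEquiv.ofBijective f hbij) ?_ ?_, fun r x => hf r x⟩
  · refine Algebra.TensorProduct.ext (Subsingleton.elim _ _) (AlgHom.ext fun x => ?_)
    show counit (R := R) (f (1 ⊗ₜ x)) = counit (R := R) ((1 : R) ⊗ₜ[A] x)
    rw [hf1, hε, TensorProduct.counit_tmul]
    simp [Algebra.smul_def]
  · refine Algebra.TensorProduct.ext (Subsingleton.elim _ _) (AlgHom.ext fun x => ?_)
    show Algebra.TensorProduct.map f f (comul (R := R) ((1 : R) ⊗ₜ[A] x)) = comul (R := R) (f (1 ⊗ₜ x))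
    rw [hf1, hΔ, Lift.comul_red]
    generalize comul (R := A) x = w
    induction w using TensorProduct.induction_on with
    | zero => simp
    | add a b ha hb => simp only [map_add, ha, hb]
    | tmul a b =>
      rw [Lift.red₂_tmul, Algebra.TensorProduct.map_tmul, sqMap_tmul, hf1, hf1]

end Equiv

section Elements

variable {A : Type u} [CommRing A] {R : Type u} [CommRing R] [Algebra A R] {N : Type u} [AddCommGroup N]
  [Module A N]

/-- elements of `R ⊗ N` come from a finitely generated subalgebra -/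
theorem exists_fg_preimage (z : R ⊗[A] N) :
    ∃ S : Subalgebra A R, S.FG ∧ z ∈ LinearMap.range (LinearMap.rTensor N S.val.toLinearMap) := by
  classical
  obtain ⟨J, ⟨g, hg⟩, y, rfl⟩ := Submodule.exists_fg_le_eq_rTensor_subtype z
  let S : Subalgebra A R := Algebra.adjoin A (g : Set R)
  have hJS : J ≤ S.toSubmodule := by
    rw [← hg, Submodule.span_le]
    exact Algebra.subset_adjoin
  refine ⟨S, ⟨g, rfl⟩, LinearMap.rTensor N (Submodule.inclusion hJS) y, ?_⟩
  rw [← LinearMap.rTensor_comp_apply]
  rfl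

/-- equalities in `R ⊗ N` hold at a finitely generated subalgebra -/
theorem exists_fg_eq {S : Subalgebra A R} (hS : S.FG) {y y' : S ⊗[A] N}
    (h : LinearMap.rTensor N S.val.toLinearMap y = LinearMap.rTensor N S.val.toLinearMap y') :
    ∃ (T : Subalgebra A R) (hle : S ≤ T), T.FG ∧
      LinearMap.rTensor N (Subalgebra.inclusion hle).toLinearMap y =
        LinearMap.rTensor N (Subalgebra.inclusion hle).toLinearMap y' := by
  classical
  obtain ⟨J, hJfg, hsub⟩ := Submodule.exists_fg_le_subset_range_rTensor_subtype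
    ({y, y'} : Set (S ⊗[A] N)) (by simp)
  obtain ⟨v, rfl⟩ := hsub (Or.inl rfl)
  obtain ⟨v', rfl⟩ := hsub (Or.inr rfl)
  let J' : Submodule A R := J.map S.val.toLinearMap
  have hJ' : J'.FG := hJfg.map _
  let p : J →ₗ[A] J' := S.val.toLinearMap.submoduleMap J
  have hp : J'.subtype ∘ₗ p = S.val.toLinearMap ∘ₗ J.subtype := rfl
  have e : LinearMap.rTensor N J'.subtype (LinearMap.rTensor N p v) =
      LinearMap.rTensor N J'.subtype (LinearMap.rTensor N p v') := by
    rw [← LinearMap.rTensor_comp_apply, ← LinearMap.rTensor_comp_apply, hp, LinearMap.rTensor_comp_apply,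
      LinearMap.rTensor_comp_apply]
    exact h
  obtain ⟨P', ⟨g, hg⟩, hle, he⟩ := hJ'.exists_rTensor_fg_inclusion_eq e
  let T : Subalgebra A R := S ⊔ Algebra.adjoin A (g : Set R)
  have hPT : P' ≤ T.toSubmodule := by
    rw [← hg, Submodule.span_le]
    exact fun x hx => Algebra.mem_sup_right (Algebra.subset_adjoin hx)
  refine ⟨T, le_sup_left, hS.sup ⟨g, rfl⟩, ?_⟩
  have he' := congrArg (LinearMap.rTensor N (Submodule.inclusion hPT)) he
  rw [← LinearMap.rTensor_comp_apply, ← LinearMap.rTensor_comp_apply, ← LinearMap.rTensor_comp_apply,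
    ← LinearMap.rTensor_comp_apply] at he'
  rw [← LinearMap.rTensor_comp_apply, ← LinearMap.rTensor_comp_apply]
  exact he'

/-- finitely many elements come from one finitely generated subalgebra -/
theorem exists_fg_preimages {ι' : Type u} [Finite ι'] (z : ι' → R ⊗[A] N) :
    ∃ S : Subalgebra A R, S.FG ∧
      ∀ i, z i ∈ LinearMap.range (LinearMap.rTensor N S.val.toLinearMap) := by
  classical
  haveI := Fintype.ofFinite ι'
  choose S hS hz using fun i => exists_fg_preimage (z i)
  refine ⟨Finset.univ.sup S, Finset.sup_induction Subalgebra.fg_bot (fun a ha b hb => ha.sup hb)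
    (fun i _ => hS i), fun i => ?_⟩
  obtain ⟨v, hv⟩ := hz i
  refine ⟨LinearMap.rTensor N (Subalgebra.inclusion (Finset.le_sup (f := S) (Finset.mem_univ i))).toLinearMap v, ?_⟩
  rw [← LinearMap.rTensor_comp_apply]
  exact hv

/-- finitely many equalities hold at one finitely generated subalgebra -/
theorem exists_fg_eqs {ι' : Type u} [Finite ι'] {S : Subalgebra A R} (hS : S.FG) (y y' : ι' → S ⊗[A] N)
    (h : ∀ i, LinearMap.rTensor N S.val.toLinearMap (y i) = LinearMap.rTensor N S.val.toLinearMap (y' i)) :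
    ∃ (T : Subalgebra A R) (hle : S ≤ T), T.FG ∧ ∀ i,
      LinearMap.rTensor N (Subalgebra.inclusion hle).toLinearMap (y i) =
        LinearMap.rTensor N (Subalgebra.inclusion hle).toLinearMap (y' i) := by
  classical
  haveI := Fintype.ofFinite ι'
  choose T hle hT heq using fun i => exists_fg_eq hS (h i)
  have hsup : ∀ i, T i ≤ S ⊔ Finset.univ.sup T := fun i =>
    (Finset.le_sup (f := T) (Finset.mem_univ i)).trans le_sup_right
  refine ⟨S ⊔ Finset.univ.sup T, le_sup_left, hS.sup (Finset.sup_induction Subalgebra.fg_bot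
    (fun a ha b hb => ha.sup hb) (fun i _ => hT i)), fun i => ?_⟩
  have := congrArg (LinearMap.rTensor N (Subalgebra.inclusion (hsup i)).toLinearMap) (heq i)
  rw [← LinearMap.rTensor_comp_apply, ← LinearMap.rTensor_comp_apply] at this
  exact this

theorem eq_of_le {S T : Subalgebra A R} (hle : S ≤ T) {y y' : N} (h : (1 : S) ⊗ₜ[A] y = (1 : S) ⊗ₜ[A] y') :
    (1 : T) ⊗ₜ[A] y = (1 : T) ⊗ₜ[A] y' := by
  simpa using congrArg (LinearMap.rTensor N (Subalgebra.inclusion hle).toLinearMap) h

/-- an equality in `R ⊗ N` of elements of `N` holds at a finitely generated subalgebra -/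
theorem exists_fg_eq₁ {y y' : N} (h : (1 : R) ⊗ₜ[A] y = (1 : R) ⊗ₜ[A] y') :
    ∃ T : Subalgebra A R, T.FG ∧ (1 : T) ⊗ₜ[A] y = (1 : T) ⊗ₜ[A] y' := by
  obtain ⟨T, hle, hT, he⟩ := exists_fg_eq (N := N) (S := (⊥ : Subalgebra A R)) Subalgebra.fg_bot
    (y := (1 : (⊥ : Subalgebra A R)) ⊗ₜ[A] y) (y' := 1 ⊗ₜ[A] y') (by simpa using h)
  exact ⟨T, hT, by simpa using he⟩

end Elements

section Homs

variable {A : Type u} [CommRing A] {R : Type u} [CommRing R] [Algebra A R]
  {X : Type u} [CommRing X] [Algebra A X] {N : Type u} [CommRing N] [Algebra A N]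

theorem map_eq_rTensor {S : Type u} [CommRing S] [Algebra A S] {T : Type u} [CommRing T] [Algebra A T]
    (f : S →ₐ[A] T) (z : S ⊗[A] N) :
    Algebra.TensorProduct.map f (AlgHom.id A N) z = LinearMap.rTensor N f.toLinearMap z := rfl

/-- a homomorphism from a finitely presented algebra lands in a finitely generated subalgebra -/
theorem exists_fg_hom [Algebra.FinitePresentation A X] (φ : X →ₐ[A] R ⊗[A] N) :
    ∃ S : Subalgebra A R, S.FG ∧ ∀ T : Subalgebra A R, S ≤ T → ∃ φT : X →ₐ[A] T ⊗[A] N,
      ∀ x, Algebra.TensorProduct.map T.val (AlgHom.id A N) (φT x) = φ x := by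
  classical
  obtain ⟨k, π, hπ, G, hG⟩ := (inferInstance : Algebra.FinitePresentation A X).out
  obtain ⟨S₁, hS₁, hy⟩ := exists_fg_preimages (fun i : ULift.{u} (Fin k) => φ (π (MvPolynomial.X i.down)))
  choose y hy using hy
  let ψ : MvPolynomial (Fin k) A →ₐ[A] S₁ ⊗[A] N := MvPolynomial.aeval fun i => y ⟨i⟩
  have hψ : (Algebra.TensorProduct.map S₁.val (AlgHom.id A N)).comp ψ = φ.comp π :=
    MvPolynomial.algHom_ext fun i => by
      simpa [ψ, map_eq_rTensor] using hy ⟨i⟩
  have hker : ∀ g : G, LinearMap.rTensor N S₁.val.toLinearMap (ψ g) =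
      LinearMap.rTensor N S₁.val.toLinearMap 0 := fun g => by
    have h0 : π (g : MvPolynomial (Fin k) A) = 0 := by
      have : (g : MvPolynomial (Fin k) A) ∈ RingHom.ker π.toRingHom := hG ▸ Submodule.subset_span g.2
      exact this
    rw [map_zero, ← map_eq_rTensor]
    exact (DFunLike.congr_fun hψ (g : MvPolynomial (Fin k) A)).trans (by simp [h0])
  obtain ⟨S₂, hle, hS₂, hg⟩ := exists_fg_eqs hS₁ (fun g : G => ψ g) (fun _ => 0) hker
  refine ⟨S₂, hS₂, fun T hT => ?_⟩
  let ψT : MvPolynomial (Fin k) A →ₐ[A] T ⊗[A] N :=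
    (Algebra.TensorProduct.map (Subalgebra.inclusion (hle.trans hT)) (AlgHom.id A N)).comp ψ
  have hψT : RingHom.ker π.toRingHom ≤ RingHom.ker ψT.toRingHom := by
    rw [← hG, Ideal.span_le]
    intro g hg'
    show ψT g = 0
    have := congrArg (LinearMap.rTensor N (Subalgebra.inclusion hT).toLinearMap) (hg ⟨g, hg'⟩)
    rw [map_zero, map_zero, ← LinearMap.rTensor_comp_apply] at this
    exact this
  refine ⟨AlgHom.liftOfSurjective π hπ ψT hψT, fun x => ?_⟩
  obtain ⟨v, rfl⟩ := hπ x
  rw [AlgHom.liftOfSurjective_apply]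
  refine Eq.trans ?_ (DFunLike.congr_fun hψ v)
  show _ = Algebra.TensorProduct.map S₁.val (AlgHom.id A N) (ψ v)
  rw [map_eq_rTensor, map_eq_rTensor]
  show LinearMap.rTensor N T.val.toLinearMap (LinearMap.rTensor N _ (ψ v)) = _
  rw [← LinearMap.rTensor_comp_apply]
  rfl

end Homs

section Bij

variable {A : Type u} [CommRing A] {R : Type u} [CommRing R] [Algebra A R] {C : Type u} [CommRing C]
  [Algebra R C] [Algebra A C] [IsScalarTower A R C] {X : Type u} [CommRing X] [Algebra A X]

theorem bijective_ext {ι : X →ₐ[A] C} (hι : IsBaseChange R ι.toLinearMap) :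
    Function.Bijective (ext R ι) := by
  have : ⇑(ext R ι) = ⇑hι.equiv := funext fun z => by
    induction z using TensorProduct.induction_on with
    | zero => simp
    | add a b ha hb => simp only [map_add, ha, hb]
    | tmul r x => simp [ext, IsBaseChange.equiv_tmul, Algebra.smul_def, Algebra.ofId_apply]
  exact this ▸ hι.equiv.bijective

theorem ext_map_val {M : Type u} [CommRing M] [Algebra A M] {D : Type u} [CommRing D] [Algebra R D]
    [Algebra A D] [IsScalarTower A R D] (T : Subalgebra A R) (κ : M →ₐ[A] D) (z : T ⊗[A] M) :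
    ext R κ (Algebra.TensorProduct.map T.val (AlgHom.id A M) z) = ext T κ z := by
  induction z using TensorProduct.induction_on with
  | zero => simp
  | add a b ha hb => simp only [map_add, ha, hb]
  | tmul t x =>
    simp [ext, Algebra.ofId_apply, IsScalarTower.algebraMap_apply T R D]

end Bij

section Stages

variable {R : Type u} [CommRing R] {C : Type u} [CommRing C] [HopfAlgebra R C]
  {A : Type u} [CommRing A] [Algebra A R] [Algebra A C] [IsScalarTower A R C]
  {X : Type u} [CommRing X] [Algebra A X]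

/-- compatibility is checked on the generators -/
theorem compat_of_inB {B : Type u} [CommRing B] [Algebra A B] [Algebra B R] [IsScalarTower A B R]
    [Algebra B C] [IsScalarTower B R C] [IsScalarTower A B C] {ι : X →ₐ[A] C}
    {d : Data B (B ⊗[A] X)} {e : Data R C}
    (hΔ : ∀ x, e.Δ (ι x) = sqMap (R := R) (ext B ι) (ext B ι) (d.Δ (inB B x)))
    (hε : ∀ x, e.ε (ι x) = algebraMap B R (d.ε (inB B x)))
    (hS : ∀ x, e.S (ι x) = ext B ι (d.S (inB B x))) : Compat (ext B ι) d e := by
  have h1 : (e.Δ.restrictScalars B).comp (ext B ι) = (sqMap (R := R) (ext B ι) (ext B ι)).comp d.Δ :=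
    Algebra.TensorProduct.ext (Subsingleton.elim _ _) (AlgHom.ext fun x => by
      show _ = _
      exact (congrArg _ (ext_inB B ι x)).trans (hΔ x))
  have h2 : (e.ε.restrictScalars B).comp (ext B ι) = (Algebra.ofId B R).comp d.ε :=
    Algebra.TensorProduct.ext (Subsingleton.elim _ _) (AlgHom.ext fun x => by
      show _ = _
      exact (congrArg _ (ext_inB B ι x)).trans (hε x))
  have h3 : (e.S.restrictScalars B).comp (ext B ι) = (ext B ι).comp d.S :=
    Algebra.TensorProduct.ext (Subsingleton.elim _ _) (AlgHom.ext fun x => by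
      show _ = _
      exact (congrArg _ (ext_inB B ι x)).trans (hS x))
  exact ⟨fun z => AlgHom.congr_fun h1 z, fun z => AlgHom.congr_fun h2 z, fun z => AlgHom.congr_fun h3 z⟩

/-- the data of the Hopf algebra exist over a finitely generated subalgebra -/
theorem exists_data [Algebra.FinitePresentation A X] (ι : X →ₐ[A] C)
    (hι : IsBaseChange R ι.toLinearMap) :
    ∃ S : Subalgebra A R, S.FG ∧ ∃ d : Data S (S ⊗[A] X), Compat (ext S ι) d (ofHopf R C) := by
  classical
  let e₁ := AlgEquiv.ofBijective (ext R ι) (bijective_ext hι)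
  let e₂ := AlgEquiv.ofBijective (ext R (sqMap (R := R) ι ι)) (bijective_ext (isBaseChange_sqMap hι hι))
  obtain ⟨S₁, hS₁, h1⟩ := exists_fg_hom ((e₂.symm.toAlgHom.restrictScalars A).comp
    (((Bialgebra.comulAlgHom R C).restrictScalars A).comp ι))
  obtain ⟨S₂, hS₂, h2⟩ := exists_fg_hom
    ((Algebra.TensorProduct.includeLeft : R →ₐ[A] R ⊗[A] A).comp
      (((Bialgebra.counitAlgHom R C).restrictScalars A).comp ι))
  obtain ⟨S₃, hS₃, h3⟩ := exists_fg_hom ((e₁.symm.toAlgHom.restrictScalars A).comp
    (((HopfAlgebra.antipodeAlgHom R C).restrictScalars A).comp ι))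
  let S := S₁ ⊔ S₂ ⊔ S₃
  obtain ⟨φΔ, hΔ⟩ := h1 S (le_sup_left.trans le_sup_left)
  obtain ⟨φε, hε⟩ := h2 S (le_sup_right.trans le_sup_left)
  obtain ⟨φS, hS⟩ := h3 S le_sup_right
  refine ⟨S, (hS₁.sup hS₂).sup hS₃, ⟨ext S (((ext S (sqMap (R := S) (inB S) (inB S))).restrictScalars A).comp φΔ),
    ext S (((Algebra.TensorProduct.rid A A S).toAlgHom).comp φε), ext S φS⟩, ?_⟩
  refine compat_of_inB (fun x => ?_) (fun x => ?_) fun x => ?_
  · have h := congrArg e₂ (hΔ x)
    simp only [AlgHom.comp_apply, AlgHom.restrictScalars_apply, AlgEquiv.coe_toAlgHom,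
      AlgEquiv.apply_symm_apply] at h
    simp only [ext_inB, AlgHom.comp_apply, AlgHom.restrictScalars_apply]
    refine h.symm.trans ?_
    show ext R _ _ = _
    rw [ext_map_val]
    generalize φΔ x = z
    induction z using TensorProduct.induction_on with
    | zero => simp
    | add a b ha hb => simp only [map_add, ha, hb]
    | tmul t w =>
      simp only [ext_tmul, map_mul, AlgHom.commutes, sqMap_comp, ext_comp]
      rfl
  · simp only [ext_inB, AlgHom.comp_apply]
    have h := congrArg (Algebra.TensorProduct.rid A R R) (hε x)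
    simp only [AlgHom.comp_apply, AlgHom.restrictScalars_apply, Algebra.TensorProduct.includeLeft_apply,
      Algebra.TensorProduct.rid_tmul, one_smul] at h
    refine h.symm.trans ?_
    generalize φε x = z
    induction z using TensorProduct.induction_on with
    | zero => simp
    | add a b ha hb => simp only [map_add, ha, hb]
    | tmul t a => simp
  · have h := congrArg e₁ (hS x)
    simp only [AlgHom.comp_apply, AlgHom.restrictScalars_apply, AlgEquiv.coe_toAlgHom,
      AlgEquiv.apply_symm_apply] at h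
    simp only [ext_inB]
    refine h.symm.trans ?_
    show ext R _ _ = _
    rw [ext_map_val]

theorem adjoin_inB (B : Type u) [CommRing B] [Algebra A B] {s : Set X} (hs : Algebra.adjoin A s = ⊤) :
    Algebra.adjoin B ((inB B : X →ₐ[A] B ⊗[A] X) '' s) = ⊤ := by
  rw [eq_top_iff]
  rintro z -
  induction z using TensorProduct.induction_on with
  | zero => exact zero_mem _
  | add a b ha hb => exact add_mem ha hb
  | tmul b x =>
    have h1 : inB B x ∈ (Algebra.adjoin B ((inB B : X →ₐ[A] B ⊗[A] X) '' s)).restrictScalars A := by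
      have h2 : (Algebra.adjoin A s).map (inB B) ≤ (Algebra.adjoin B ((inB B : X →ₐ[A] B ⊗[A] X) '' s)).restrictScalars A := by
        rw [AlgHom.map_adjoin, Algebra.adjoin_le_iff]
        exact Algebra.subset_adjoin
      exact h2 ⟨x, hs ▸ trivial, rfl⟩
    have : b ⊗ₜ[A] x = b • inB B x := by simp [inB, TensorProduct.smul_tmul']
    rw [this]
    exact Subalgebra.smul_mem (Algebra.adjoin B ((inB B : X →ₐ[A] B ⊗[A] X) '' s)) h1 b

/-- the axioms at an element from equalities over the new base -/
theorem Data.axiomsAt_bc (d : Data A X) {B : Type u} [CommRing B] [Algebra A B] (x : X)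
    (h1 : (1 : B) ⊗ₜ[A] d.coL x = (1 : B) ⊗ₜ[A] d.coR x)
    (h2 : (1 : B) ⊗ₜ[A] d.unL x = (1 : B) ⊗ₜ[A] x) (h3 : (1 : B) ⊗ₜ[A] d.unR x = (1 : B) ⊗ₜ[A] x)
    (h4 : (1 : B) ⊗ₜ[A] d.invL x = (1 : B) ⊗ₜ[A] algebraMap A X (d.ε x))
    (h5 : (1 : B) ⊗ₜ[A] d.invR x = (1 : B) ⊗ₜ[A] algebraMap A X (d.ε x)) :
    (d.bc B).AxiomsAt (inB B x) := by
  have hj := d.compat_bc B
  refine ⟨?_, ?_, ?_, ?_, ?_⟩
  · rw [hj.coL_apply, hj.coR_apply]
    have := congrArg (ext B (sqMap (R := B) (inB B) (sqMap (R := B) (inB B) (inB B)))) h1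
    simpa only [ext_tmul, map_one, one_mul] using this
  · rw [hj.unL_apply]; exact h2
  · rw [hj.unR_apply]; exact h3
  · rw [hj.invL_apply, ← hj.algebraMap_counit]; exact h4
  · rw [hj.invR_apply, ← hj.algebraMap_counit]; exact h5

theorem Data.IsHopf.bc {d : Data A X} (h : d.IsHopf) (B : Type u) [CommRing B] [Algebra A B] :
    (d.bc B).IsHopf := by
  refine (d.bc B).isHopf_of_adjoin (adjoin_inB B (Algebra.adjoin_univ A X)) ?_
  rintro _ ⟨x, -, rfl⟩
  obtain ⟨h1, h2, h3, h4, h5⟩ := h x
  exact d.axiomsAt_bc x (by rw [h1]) (by rw [h2]) (by rw [h3]) (by rw [h4]) (by rw [h5])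

/-- the axioms hold over a finitely generated subalgebra -/
theorem exists_isHopf [Algebra.FiniteType A X] (ι : X →ₐ[A] C) (hι : IsBaseChange R ι.toLinearMap)
    (d : Data A X) (hd : Compat ι d (ofHopf R C)) :
    ∃ T : Subalgebra A R, T.FG ∧ (d.bc T).IsHopf := by
  classical
  obtain ⟨s, hs⟩ := (inferInstance : Algebra.FiniteType A X).out
  have key : ∀ x, ∃ T : Subalgebra A R, T.FG ∧ ∀ T', T ≤ T' → (d.bc T').AxiomsAt (inB T' x) := by
    intro x
    obtain ⟨hC1, hC2, hC3, hC4, hC5⟩ := isHopf_ofHopf R C (ι x)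
    rw [hd.coL_apply, hd.coR_apply] at hC1
    rw [hd.unL_apply] at hC2
    rw [hd.unR_apply] at hC3
    rw [hd.invL_apply, ← hd.algebraMap_counit] at hC4
    rw [hd.invR_apply, ← hd.algebraMap_counit] at hC5
    have hinj : ∀ {y y' : X}, ι y = ι y' → (1 : R) ⊗ₜ[A] y = (1 : R) ⊗ₜ[A] y' := by
      intro y y' h
      apply (bijective_ext hι).1
      simp only [ext_tmul, map_one, one_mul, h]
    have h3 : (1 : R) ⊗ₜ[A] d.coL x = (1 : R) ⊗ₜ[A] d.coR x := by
      have hb : IsBaseChange R (sqMap (R := R) ι (sqMap (R := R) ι ι)).toLinearMap :=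
        isBaseChange_sqMap hι (isBaseChange_sqMap hι hι)
      apply (bijective_ext hb).1
      simp only [ext_tmul, map_one, one_mul, hC1]
    obtain ⟨T₁, hT₁, e1⟩ := exists_fg_eq₁ h3
    obtain ⟨T₂, hT₂, e2⟩ := exists_fg_eq₁ (hinj hC2)
    obtain ⟨T₃, hT₃, e3⟩ := exists_fg_eq₁ (hinj hC3)
    obtain ⟨T₄, hT₄, e4⟩ := exists_fg_eq₁ (hinj hC4)
    obtain ⟨T₅, hT₅, e5⟩ := exists_fg_eq₁ (hinj hC5)
    refine ⟨T₁ ⊔ T₂ ⊔ T₃ ⊔ T₄ ⊔ T₅, (((hT₁.sup hT₂).sup hT₃).sup hT₄).sup hT₅, fun T' hT' => ?_⟩
    simp only [sup_le_iff] at hT'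
    exact d.axiomsAt_bc x (eq_of_le hT'.1.1.1.1 e1) (eq_of_le hT'.1.1.1.2 e2) (eq_of_le hT'.1.1.2 e3)
      (eq_of_le hT'.1.2 e4) (eq_of_le hT'.2 e5)
  choose T hT hTx using key
  refine ⟨s.sup T, Finset.sup_induction Subalgebra.fg_bot (fun a ha b hb => ha.sup hb) (fun x _ => hT x),
    (d.bc _).isHopf_of_adjoin (adjoin_inB _ hs) ?_⟩
  rintro _ ⟨x, hx, rfl⟩
  exact hTx x _ (Finset.le_sup (f := T) hx)

/-- a finitely presented algebra model of a Hopf algebra becomes a model of the Hopf algebra over a
finitely generated extension -/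
theorem exists_hopf_model [Algebra.FinitePresentation A X] (ι : X →ₐ[A] C)
    (hι : IsBaseChange R ι.toLinearMap) :
    ∃ (S : Subalgebra A R) (T : Subalgebra S R) (d : Data T (T ⊗[S] (S ⊗[A] X))),
      S.FG ∧ T.FG ∧ d.IsHopf ∧ IsBaseChange R (ext T (ext S ι)).toLinearMap ∧
        Compat (ext T (ext S ι)) d (ofHopf R C) := by
  obtain ⟨S, hS, d, hd⟩ := exists_data ι hι
  haveI : Algebra.FiniteType S (S ⊗[A] X) := inferInstance
  obtain ⟨T, hT, hT'⟩ := exists_isHopf (ext S ι) (isBaseChange_ext S hι) d hd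
  exact ⟨S, T, d.bc T, hS, hT, hT', isBaseChange_ext T (isBaseChange_ext S hι), compat_ext T hd⟩

end Stages

end

end Groth.Agent.MultType.Model
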