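import Groth.Agent.MultType.FiniteLevel
import Groth.Agent.MultType.FiniteDual
import Groth.Agent.MultType.HomLift
import Groth.Agent.PurityReg.Pointwise
import Mathlib.RingTheory.Etale.Field

/-!
# Groups of multiplicative type over a normal base are isotrivial
-/

open TensorProduct Coalgebra

universe u

namespace Groth.Agent.MultType.NormalBase

open Groth.Agent.MultType.IdemBij (IdemBij)
open Groth.Agent.MultType.GLLift (LiftData Splitting)

noncomputable section

/-- the class of étale algebras -/
abbrev EtQ (R : Type u) [CommRing R] : ∀ (U : Type u) [CommRing U] [Algebra R U], Prop :=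
  fun U _ _ => Algebra.Etale R U

theorem etale_tensor (R U V : Type u) [CommRing R] [CommRing U] [Algebra R U] [CommRing V] [Algebra R V]
    [Algebra.Etale R U] [Algebra.Etale R V] : Algebra.Etale R (U ⊗[R] V) :=
  Algebra.Etale.comp R U (U ⊗[R] V)

/-- local rings of an étale algebra over a normal domain are domains -/
theorem isDomain_local {R U : Type u} [CommRing R] [IsDomain R] [IsIntegrallyClosed R] [CommRing U] [Algebra R U]
    [Algebra.Etale R U] (Q : Ideal U) [Q.IsPrime] : IsDomain (Localization.AtPrime Q) := by
  let p := Q.comap (algebraMap R U)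
  haveI : p.IsPrime := Ideal.IsPrime.comap _
  haveI : Q.LiesOver p := ⟨rfl⟩
  letI := Localization.AtPrime.algebraOfLiesOver p Q
  haveI : IsDomain (Localization.AtPrime p) :=
    IsLocalization.isDomain_localization (Ideal.primeCompl_le_nonZeroDivisors p)
  haveI : IsIntegrallyClosed (Localization.AtPrime p) :=
    isIntegrallyClosed_of_isLocalization (Localization.AtPrime p) p.primeCompl p.primeCompl_le_nonZeroDivisors
  exact (PurityReg.isEtLike_localization p Q).isDomain_and_isIntegrallyClosed.1

theorem idemBij_of_domains {R U : Type u} [CommRing R] [IsDomain R] [CommRing U] [Algebra R U]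
    (hdom : ∀ (P : Ideal U) [P.IsPrime], IsDomain (Localization.AtPrime P)) {W : Type u} [CommRing W]
    (g : U →+* W) (hinj : Function.Injective g)
    (hsurj : ∀ w, ∃ (r : R) (u : U), IsUnit (g (algebraMap R U r)) ∧ g (algebraMap R U r) * w = g u) :
    IdemBij g where
  inj _ _ _ _ h := hinj h
  surj w hw := by
    obtain ⟨r, u, hr, hu⟩ := hsurj w
    have huu : u * u = algebraMap R U r * u := hinj (by
      rw [map_mul, map_mul, ← hu]
      calc g (algebraMap R U r) * w * (g (algebraMap R U r) * w)
          = g (algebraMap R U r) * (g (algebraMap R U r) * (w * w)) := by ring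
        _ = g (algebraMap R U r) * (g (algebraMap R U r) * w) := by rw [hw.eq])
    have hmem : u ∈ Ideal.span {algebraMap R U r} := by
      refine Ideal.mem_of_localization_maximal fun P hP => ?_
      haveI := hdom P
      let f := algebraMap U (Localization.AtPrime P)
      have h1 : f u * (f u - f (algebraMap R U r)) = 0 := by
        rw [mul_sub, ← map_mul, ← map_mul, huu, mul_comm u, sub_self]
      rcases mul_eq_zero.mp h1 with h | h
      · rw [h]; exact zero_mem _
      · rw [sub_eq_zero.mp h]
        exact Ideal.mem_map_of_mem f (Ideal.mem_span_singleton_self _)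
    obtain ⟨v, rfl⟩ := Ideal.mem_span_singleton.mp hmem
    have hv : g v = w := hr.mul_left_cancel (by rw [← map_mul]; exact hu.symm)
    exact ⟨v, hinj (by rw [map_mul, hv, hw.eq]), hv⟩

section Main

variable {R : Type u} [CommRing R] [IsDomain R] [IsIntegrallyClosed R]

/-- the generic fibre of a finite étale algebra, as the reduction of étale algebras over it -/
theorem liftData (T : Type u) [CommRing T] [Algebra R T] [Algebra.Etale R T] {L : Type u} [CommRing L]
    [Algebra T L] (hL : Function.Injective (algebraMap T L))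
    (hloc : ∀ l : L, ∃ (r : R) (t : T), IsUnit (algebraMap T L (algebraMap R T r)) ∧
      algebraMap T L (algebraMap R T r) * l = algebraMap T L t) : LiftData T L (EtQ T) where
  base := inferInstanceAs (Algebra.Etale T T)
  tensor U V _ _ _ _ hU hV := by
    haveI : Algebra.Etale T U := hU
    haveI : Algebra.Etale T V := hV
    exact etale_tensor T U V
  flat U _ _ hU := by
    haveI : Algebra.Etale T U := hU
    infer_instance
  idem U _ _ hU := by
    haveI : Algebra.Etale T U := hU
    letI algRU : Algebra R U := ((algebraMap T U).comp (algebraMap R T)).toAlgebra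
    haveI : IsScalarTower R T U := IsScalarTower.of_algebraMap_eq' rfl
    haveI : Algebra.Etale R U := Algebra.Etale.comp R T U
    refine idemBij_of_domains (R := R) (fun P _ => isDomain_local (R := R) P) _
      (Algebra.TensorProduct.includeRight_injective hL) fun w => ?_
    have hmap : ∀ r : R, (Algebra.TensorProduct.includeRight : U →ₐ[T] L ⊗[T] U) (algebraMap R U r) =
        algebraMap T L (algebraMap R T r) ⊗ₜ[T] (1 : U) := fun r => by
      change (1 : L) ⊗ₜ[T] algebraMap T U (algebraMap R T r) = _
      rw [Algebra.algebraMap_eq_smul_one, ← TensorProduct.smul_tmul, ← Algebra.algebraMap_eq_smul_one]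
    induction w using TensorProduct.induction_on with
    | zero => exact ⟨1, 0, by rw [map_one, map_one]; exact isUnit_one, by rw [mul_zero, map_zero]⟩
    | tmul l u =>
      obtain ⟨r, t, hr, hl⟩ := hloc l
      refine ⟨r, t • u, ?_, ?_⟩
      · change IsUnit ((Algebra.TensorProduct.includeRight : U →ₐ[T] L ⊗[T] U) (algebraMap R U r))
        rw [hmap]
        exact hr.map (Algebra.TensorProduct.includeLeft : L →ₐ[T] L ⊗[T] U)
      · change (Algebra.TensorProduct.includeRight : U →ₐ[T] L ⊗[T] U) (algebraMap R U r) * (l ⊗ₜ[T] u) =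
          (1 : L) ⊗ₜ[T] (t • u)
        rw [hmap, Algebra.TensorProduct.tmul_mul_tmul, one_mul, hl, Algebra.algebraMap_eq_smul_one,
          TensorProduct.smul_tmul]
    | add p q hp hq =>
      obtain ⟨r, u, hr, hu⟩ := hp
      obtain ⟨r', u', hr', hu'⟩ := hq
      refine ⟨r * r', algebraMap R U r' * u + algebraMap R U r * u', ?_, ?_⟩
      · rw [map_mul, map_mul]
        exact hr.mul hr'
      · rw [map_mul, map_mul, map_add, map_mul, map_mul, ← hu, ← hu']
        ring

/-- a connected finite étale algebra over a normal domain has a field as generic fibre -/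
theorem isField_fibre (T : Type u) [CommRing T] [Algebra R T] [Algebra.Etale R T] [Nontrivial T]
    (hconn : ∀ e : T, IsIdempotentElem e → e = 0 ∨ e = 1) :
    IsField (FractionRing R ⊗[R] T) := by
  let K := FractionRing R
  let g : T →ₐ[R] K ⊗[R] T := Algebra.TensorProduct.includeRight
  have hinj : Function.Injective g := Algebra.TensorProduct.includeRight_injective (IsFractionRing.injective R K)
  haveI : Nontrivial (K ⊗[R] T) := hinj.nontrivial
  have hb : IdemBij g.toRingHom := by
    refine idemBij_of_domains (R := R) (fun P _ => isDomain_local (R := R) P) _ hinj fun w => ?_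
    have hmap : ∀ r : R, g (algebraMap R T r) = algebraMap R K r ⊗ₜ[R] (1 : T) := fun r => by
      change (1 : K) ⊗ₜ[R] algebraMap R T r = _
      rw [Algebra.algebraMap_eq_smul_one, ← TensorProduct.smul_tmul, ← Algebra.algebraMap_eq_smul_one]
    induction w using TensorProduct.induction_on with
    | zero => exact ⟨1, 0, by simp, by simp⟩
    | tmul k t =>
      obtain ⟨⟨a, s⟩, hk⟩ := IsLocalization.surj (nonZeroDivisors R) k
      refine ⟨s, a • t, ?_, ?_⟩
      · change IsUnit (g (algebraMap R T s))
        rw [hmap]
        exact (IsLocalization.map_units K s).map (Algebra.TensorProduct.includeLeft : K →ₐ[R] K ⊗[R] T)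
      · change g (algebraMap R T s) * (k ⊗ₜ[R] t) = (1 : K) ⊗ₜ[R] (a • t)
        rw [hmap, Algebra.TensorProduct.tmul_mul_tmul, one_mul, mul_comm, hk, Algebra.algebraMap_eq_smul_one,
          TensorProduct.smul_tmul]
    | add p q hp hq =>
      obtain ⟨r, u, hr, hu⟩ := hp
      obtain ⟨r', u', hr', hu'⟩ := hq
      refine ⟨r * r', algebraMap R T r' * u + algebraMap R T r * u', ?_, ?_⟩
      · rw [map_mul, map_mul]
        exact hr.mul hr'
      · rw [map_mul, map_mul, map_add, map_mul, map_mul, ← hu, ← hu']
        ring
  have hK : ∀ e : K ⊗[R] T, IsIdempotentElem e → e = 0 ∨ e = 1 := fun e he => by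
    obtain ⟨a, ha, rfl⟩ := hb.surj e he
    rcases hconn a ha with rfl | rfl
    · exact Or.inl (map_zero _)
    · exact Or.inr (map_one _)
  obtain ⟨I, _, Ai, _, _, e, -⟩ := (Algebra.Etale.iff_exists_algEquiv_prod K (K ⊗[R] T)).mp inferInstance
  classical
  have hsub : ∀ i j : I, i = j := by
    intro i j
    by_contra hij
    rcases hK (e.symm (Pi.single i 1)) (IsIdempotentElem.map (by
      change Pi.single i (1 : Ai i) * Pi.single i 1 = Pi.single i 1
      rw [← Pi.single_mul, one_mul]) e.symm) with h | h
    · have h1 := congrArg (fun z => e z i) h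
      simp at h1
    · have h1 := congrArg (fun z => e z j) h
      simp [Pi.single_eq_of_ne (Ne.symm hij)] at h1
  refine { exists_pair_ne := ⟨0, 1, zero_ne_one⟩, mul_comm := mul_comm, mul_inv_cancel := fun {x} hx => ?_ }
  obtain ⟨i, hi⟩ : ∃ i, e x i ≠ 0 := by
    by_contra! hall
    exact hx (e.injective (by rw [map_zero]; exact funext hall))
  refine ⟨e.symm (Pi.single i (e x i)⁻¹), e.injective ?_⟩
  funext k
  obtain rfl := hsub i k
  simp [hi]

theorem exists_etale_splitting {A : Type u} [CommRing A] [HopfAlgebra R A] (h : SGA3b.IsQuasiIsotrivial R A) :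
    Nonempty (Splitting R A (EtQ R)) := by
  classical
  obtain ⟨s, hs, hloc⟩ := h
  obtain ⟨t, hts, ht⟩ := (Ideal.span_eq_top_iff_finite s).mp hs
  choose T instT algT het hff M instM he using fun f : t => hloc f (hts f.2)
  let algR : ∀ f : t, Algebra R (T f) := fun f =>
    ((algebraMap (Localization.Away (f : R)) (T f)).comp (algebraMap R (Localization.Away (f : R)))).toAlgebra
  have tow : ∀ f : t, IsScalarTower R (Localization.Away (f : R)) (T f) := fun f =>
    IsScalarTower.of_algebraMap_eq' rfl
  have hET : ∀ f : t, Algebra.Etale R (T f) := fun f => by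
    haveI := het f
    haveI : Algebra.Etale R (Localization.Away (f : R)) := Algebra.Etale.of_isLocalizationAway (f : R)
    exact Algebra.Etale.comp R (Localization.Away (f : R)) (T f)
  haveI : ∀ f : t, Module.Flat R (T f) := fun f => by haveI := hET f; infer_instance
  haveI : Module.Flat R (∀ f, T f) :=
    Module.Flat.of_linearEquiv (DirectSum.linearEquivFunOnFintype R t T).symm
  haveI : Module.FaithfullyFlat R (∀ f, T f) := by
    refine Module.FaithfullyFlat.of_comap_surjective fun p => ?_
    obtain ⟨f, hf, hfp⟩ : ∃ f ∈ t, f ∉ p.asIdeal := by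
      by_contra! hcon
      exact p.isPrime.ne_top (top_le_iff.mp (ht ▸ Ideal.span_le.mpr hcon))
    let f' : t := ⟨f, hf⟩
    obtain ⟨q', hq'⟩ : p ∈ Set.range (PrimeSpectrum.comap (algebraMap R (Localization.Away (f' : R)))) := by
      rw [PrimeSpectrum.localization_away_comap_range (Localization.Away (f' : R)) (f' : R)]; exact hfp
    have := hff f'
    obtain ⟨q, hq⟩ := PrimeSpectrum.comap_surjective_of_faithfullyFlat (B := T f') q'
    refine ⟨q.comap (Pi.evalRingHom T f'), ?_⟩
    rw [← hq', ← hq]
    rfl
  exact ⟨{ ι := t, T := T, mem := hET, M := M,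
           equiv := fun f => (Split.cancel (R := R) (S := Localization.Away (f : R)) (T := T f) (A := A)).symm.trans
             (he f).some }⟩

/-- **groups of multiplicative type and of finite type over a normal domain are isotrivial** -/
theorem isIsotrivial {A : Type u} [CommRing A] [HopfAlgebra R A] (hft : Algebra.FiniteType R A)
    (h : SGA3b.IsMultType R A) : SGA3b.IsIsotrivial R A := by
  classical
  haveI := hft
  haveI := Isotrivial.isCocomm_of_isMultType h
  let K := FractionRing R
  obtain ⟨K', _, _, M, _, ⟨eK⟩⟩ := Diag.exists_field_split (Isotrivial.isMultType_field h K)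
  letI : Algebra R K' := ((algebraMap K K').comp (algebraMap R K)).toAlgebra
  haveI : IsScalarTower R K K' := IsScalarTower.of_algebraMap_eq' rfl
  let e : K' ⊗[R] A ≃ₐc[K'] MonoidAlgebra K' M :=
    (Split.cancel (R := R) (S := K) (T := K') (A := A)).symm.trans eK
  haveI : Group.FG M := Diag.group_fg_of_finiteType (R := K') (A := K' ⊗[R] A) e.toAlgEquiv
  obtain ⟨n, hn, hlevel⟩ := FiniteLevel.exists_level e
  haveI := TorsionMult.finite_torsion h hn
  obtain ⟨T, _, _, _, _, hff, N₀, _, ⟨eT⟩⟩ :=
    FiniteDual.isIsotrivial_of_isMultType (KerPow.isMultType_torsion hft h n)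
  haveI := hff
  haveI : Nontrivial T := by
    obtain ⟨q, -⟩ := PrimeSpectrum.comap_surjective_of_faithfullyFlat (A := R) (B := T) ⟨⊥, Ideal.isPrime_bot⟩
    exact q.nontrivial
  obtain ⟨T', _, _, f, het, hfin, hff', hnt, hconn⟩ := FiniteDual.exists_connected_piece (R := R) T
  haveI := het
  haveI := hff'
  let L := K ⊗[R] T'
  letI : Field L := (isField_fibre T' hconn).toField
  letI : Algebra T' L := Algebra.TensorProduct.rightAlgebra
  haveI : IsScalarTower R T' L := IsScalarTower.of_algebraMap_eq fun r => by
    change _ = (1 : K) ⊗ₜ[R] algebraMap R T' r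
    rw [Algebra.TensorProduct.algebraMap_apply, Algebra.algebraMap_eq_smul_one, TensorProduct.smul_tmul,
      Algebra.algebraMap_eq_smul_one]
  have hinjL : Function.Injective (algebraMap R L) := by
    rw [IsScalarTower.algebraMap_eq R K L]
    exact (algebraMap K L).injective.comp (IsFractionRing.injective R K)
  have hinjK' : Function.Injective (algebraMap R K') :=
    (algebraMap K K').injective.comp (IsFractionRing.injective R K)
  obtain ⟨E₀, _, _, g₁, g₂, -⟩ := KerGen.exists_common_field (R := R) (T := L) (T' := K')
    ⟨⊥, Ideal.isPrime_bot⟩ ⟨⊥, Ideal.isPrime_bot⟩ (by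
      apply PrimeSpectrum.ext
      simp only [PrimeSpectrum.comap_asIdeal, ← RingHom.ker_eq_comap_bot]
      rw [(RingHom.injective_iff_ker_eq_bot _).mp hinjL, (RingHom.injective_iff_ker_eq_bot _).mp hinjK'])
  obtain ⟨N, _, ⟨eL⟩⟩ := hlevel L E₀ g₁ g₂
    ⟨N₀, inferInstance, ⟨GLLift.extend eT ((IsScalarTower.toAlgHom R T' L).comp f)⟩⟩
  obtain ⟨SA⟩ := exists_etale_splitting
    (QIGlobal.isQuasiIsotrivial_of_local (QIGlobal.finitePresentation_of_isMultType hft h)
      fun p _ => QIGlobal.isMultType_bc_local h _)
  haveI : Module.FaithfullyFlat T' (∀ i, T' ⊗[R] SA.T i) :=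
    Module.FaithfullyFlat.of_linearEquiv T' (T' ⊗[R] (∀ i, SA.T i)) (TensorProduct.piRight R T' T' SA.T).symm
  let SB : Splitting T' (T' ⊗[R] A) (EtQ T') :=
    { ι := SA.ι
      T := fun i => T' ⊗[R] SA.T i
      mem := fun i => by
        haveI : Algebra.Etale R (SA.T i) := SA.mem i
        exact (inferInstance : Algebra.Etale T' (T' ⊗[R] SA.T i))
      M := SA.M
      equiv := fun i => (Split.cancel (R := R) (S := T') (T := T' ⊗[R] SA.T i) (A := A)).trans
        (GLLift.extend (SA.equiv i) (Algebra.TensorProduct.includeRight : SA.T i →ₐ[R] T' ⊗[R] SA.T i)) }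
  let SC : Splitting T' (MonoidAlgebra T' N) (EtQ T') :=
    NilLift.trivialSplitting (R := T') (Q := EtQ T') (inferInstanceAs (Algebra.Etale T' T')) (BialgEquiv.refl T' _)
  have hD : LiftData T' L (EtQ T') := liftData (R := R) T'
    (Algebra.TensorProduct.includeRight_injective (IsFractionRing.injective R K)) fun l => by
      induction l using TensorProduct.induction_on with
      | zero => exact ⟨1, 0, by simp, by simp⟩
      | tmul k t =>
        obtain ⟨⟨a, s⟩, hk⟩ := IsLocalization.surj (nonZeroDivisors R) k
        have hs : algebraMap T' L (algebraMap R T' s) = algebraMap R K s ⊗ₜ[R] (1 : T') :=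
          (IsScalarTower.algebraMap_apply R T' L (s : R)).symm.trans (Algebra.TensorProduct.algebraMap_apply _)
        refine ⟨s, a • t, ?_, ?_⟩
        · rw [hs]
          exact (IsLocalization.map_units K s).map (Algebra.TensorProduct.includeLeft : K →ₐ[R] K ⊗[R] T')
        · rw [hs]
          change (algebraMap R K s ⊗ₜ[R] (1 : T')) * (k ⊗ₜ[R] t) = (1 : K) ⊗ₜ[R] (a • t)
          rw [Algebra.TensorProduct.tmul_mul_tmul, one_mul, mul_comm, hk, Algebra.algebraMap_eq_smul_one,
            TensorProduct.smul_tmul]
      | add p q hp hq =>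
        obtain ⟨r, u, hr, hu⟩ := hp
        obtain ⟨r', u', hr', hu'⟩ := hq
        refine ⟨r * r', algebraMap R T' r' * u + algebraMap R T' r * u', ?_, ?_⟩
        · rw [map_mul, map_mul]
          exact hr.mul hr'
        · rw [map_mul, map_mul, map_add, map_mul, map_mul, ← hu, ← hu']
          ring
  obtain ⟨E, -⟩ := HomLift.exists_equiv_lift hD SC SB
    (((Split.cancel (R := R) (S := T') (T := L) (A := A)).trans eL).trans (Split.scalarBialgEquiv T' L N).symm)
  exact ⟨T', inferInstance, inferInstance, het, hfin, hff', N, inferInstance, ⟨E⟩⟩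

end Main

end

end Groth.Agent.MultType.NormalBase
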