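import Groth.Agent.MultType.Coef
import Groth.Agent.MultType.Split
import Mathlib.RingTheory.FiniteStability
import Mathlib.RingTheory.Filtration

/-!
# Rigidity of homomorphisms out of groups of multiplicative type
-/

open TensorProduct WithConv Coalgebra

universe u

namespace Groth.Agent.MultType.Rigid

open Coef Split

noncomputable section

variable {R : Type u} [CommRing R] {A : Type u} [CommRing A] [HopfAlgebra R A]
  {C : Type u} [CommRing C] [HopfAlgebra R C]

variable (R A C) in
/-- the trivial homomorphism -/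
abbrev triv : C →ₐc[R] A := (1 : WithConv (C →ₐc[R] A)).ofConv

theorem push_triv {p : PrimeSpectrum R} (S : SplitAt R A p) (z : S.T ⊗[R] C) :
    push S (triv R A C) z = algebraMap S.T _ (counit z) := by
  induction z using TensorProduct.induction_on with
  | zero => simp
  | add z z' hz hz' => simp only [map_add, hz, hz']
  | tmul t c =>
    rw [push_tmul]
    have h1 : (t ⊗ₜ[R] (triv R A C c) : S.T ⊗[R] A) = algebraMap S.T _ (counit (R := R) c • t) := by
      simp [triv, Algebra.algebraMap_eq_smul_one, TensorProduct.smul_tmul', TensorProduct.tmul_smul,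
        Algebra.TensorProduct.one_def]
    rw [h1, AlgHomClass.commutes]
    congr 1

theorem comm_push_triv {p : PrimeSpectrum R} (S : SplitAt R A p) (φ : C →ₐc[R] A) :
    Comm (push S φ) (push S (triv R A C)) := by
  classical
  refine comm_of_coef_trivial _ _ fun m => ?_
  by_cases hm : m = 1
  · left
    apply WithConv.ext
    refine LinearMap.ext fun z => ?_
    simp [push_triv, hm, LinearMap.convOne_apply]
  · right
    apply WithConv.ext
    refine LinearMap.ext fun z => ?_
    simp [push_triv, MonoidAlgebra.coe_algebraMap, Finsupp.single_eq_of_ne hm]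

theorem comm_push [Coalgebra.IsCocomm R C] {p : PrimeSpectrum R} (S : SplitAt R A p) (φ ψ : C →ₐc[R] A) :
    Comm (push S φ) (push S ψ) :=
  comm_of_isCocomm _ _

/-- sufficient: commutation on every splitting -/
def CommSplit (φ ψ : C →ₐc[R] A) : Prop :=
  ∀ (p : PrimeSpectrum R) (S : SplitAt R A p), Comm (push S φ) (push S ψ)

variable (h : SGA3b.IsMultType R A) {φ ψ : C →ₐc[R] A}

include h in
theorem eq_of_nilpotent (hc : CommSplit φ ψ) {I : Ideal R} (hI : IsNilpotent I)
    (hs : ∀ c, φ c - ψ c ∈ Ideal.map (algebraMap R A) I) : φ = ψ := by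
  refine bialgHom_eq_of_forall_split h fun p S => ?_
  refine Coef.eq_of_nilpotent (hc p S) (I := Ideal.map (algebraMap R S.T) I) ?_ fun z m => push_sub_mem S hs z m
  obtain ⟨n, hn⟩ := hI
  exact ⟨n, by rw [← Ideal.map_pow, hn]; simp⟩

include h in
/-- equality is detected at a prime containing the ideal -/
theorem push_eq_at [Algebra.FiniteType R C] (hc : CommSplit φ ψ) {I : Ideal R}
    (hs : ∀ c, φ c - ψ c ∈ Ideal.map (algebraMap R A) I) (p : PrimeSpectrum R) (hp : I ≤ p.asIdeal) :
    ∃ S : SplitAt R A p, IsLocalRing S.T ∧ push S φ = push S ψ := by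
  obtain ⟨S, hloc, -, hjac⟩ := exists_splitAt_local h p
  exact ⟨S, hloc, Coef.eq_of_jacobson (hc p S) (hjac I hp) fun z m => push_sub_mem S hs z m⟩

include h in
theorem eq_of_isLocalRing [IsLocalRing R] [Algebra.FiniteType R C] (hc : CommSplit φ ψ)
    (hs : ∀ c, φ c - ψ c ∈ Ideal.map (algebraMap R A) (IsLocalRing.maximalIdeal R)) : φ = ψ := by
  obtain ⟨S, _, hS⟩ := push_eq_at h hc hs (IsLocalRing.closedPoint R) le_rfl
  have : IsLocalHom (algebraMap R S.T) := by
    refine ⟨fun x hx => ?_⟩
    by_contra hne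
    have hx' : x ∈ (S.q.comap (algebraMap R S.T)).asIdeal := by rw [S.comap_q]; exact hne
    exact S.q.isPrime.ne_top (Ideal.eq_top_of_isUnit_mem _ hx' hx)
  have hff : Module.FaithfullyFlat R S.T := Module.FaithfullyFlat.of_flat_of_isLocalHom
  apply BialgHom.coe_toAlgHom_injective
  apply AlgHom.ext
  intro c
  apply Module.FaithfullyFlat.tensorProduct_mk_injective (A := R) (B := S.T) A
  exact S.equiv.injective (by simpa using DFunLike.congr_fun hS ((1 : S.T) ⊗ₜ[R] c))

theorem sub_mem_map_of_tmul_eq {I : Ideal R} {x y : A} (hxy : (1 : R ⧸ I) ⊗ₜ[R] x = (1 : R ⧸ I) ⊗ₜ[R] y) :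
    x - y ∈ Ideal.map (algebraMap R A) I := by
  have h1 : (1 : R ⧸ I) ⊗ₜ[R] (x - y) = 0 := by rw [TensorProduct.tmul_sub, hxy, sub_self]
  have h2 := congrArg (TensorProduct.quotTensorEquivQuotSMul A I) h1
  rw [map_zero] at h2
  have h3 : (1 : R ⧸ I) ⊗ₜ[R] (x - y) = Ideal.Quotient.mk I 1 ⊗ₜ[R] (x - y) := rfl
  rw [h3, TensorProduct.quotTensorEquivQuotSMul_mk_tmul, one_smul, Submodule.Quotient.mk_eq_zero,
    Ideal.smul_top_eq_map, Submodule.restrictScalars_mem] at h2
  exact h2

include h in
theorem eq_of_isLocalRing_noetherian [IsLocalRing R] [IsNoetherianRing R] [Algebra.FiniteType R A]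
    (hc : CommSplit φ ψ)
    (hs : ∀ c, φ c - ψ c ∈ Ideal.map (algebraMap R A) (IsLocalRing.maximalIdeal R)) : φ = ψ := by
  obtain ⟨S, hloc, -, hjac⟩ := exists_splitAt_local h (IsLocalRing.closedPoint R)
  have : IsLocalHom (algebraMap R S.T) := by
    refine ⟨fun x hx => ?_⟩
    by_contra hne
    have hx' : x ∈ (S.q.comap (algebraMap R S.T)).asIdeal := by rw [S.comap_q]; exact hne
    exact S.q.isPrime.ne_top (Ideal.eq_top_of_isUnit_mem _ hx' hx)
  have hff : Module.FaithfullyFlat R S.T := Module.FaithfullyFlat.of_flat_of_isLocalHom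
  have : IsNoetherianRing A := Algebra.FiniteType.isNoetherianRing R A
  set 𝔪 := IsLocalRing.maximalIdeal R
  have hV : values (push S φ) (push S ψ) ≤ Ideal.map (algebraMap R S.T) 𝔪 :=
    (values_le_iff _ _).mpr fun z m => push_sub_mem S hs z m
  let g : A →+* MonoidAlgebra S.T S.M :=
    (S.equiv : S.T ⊗[R] A →ₐ[S.T] MonoidAlgebra S.T S.M).toRingHom.comp
      Algebra.TensorProduct.includeRight.toRingHom
  have hg : ∀ r, g (algebraMap R A r) = algebraMap S.T _ (algebraMap R S.T r) := fun r => by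
    have h2 : (1 : S.T) ⊗ₜ[R] algebraMap R A r = algebraMap S.T (S.T ⊗[R] A) (algebraMap R S.T r) := by
      simp [Algebra.algebraMap_eq_smul_one, TensorProduct.tmul_smul, Algebra.TensorProduct.one_def]
    change S.equiv ((1 : S.T) ⊗ₜ[R] algebraMap R A r) = _
    rw [h2, AlgHomClass.commutes]
  apply BialgHom.coe_toAlgHom_injective
  apply AlgHom.ext
  intro c
  change φ c = ψ c
  rw [← sub_eq_zero]
  set x := φ c - ψ c
  have hgx : ∀ m, (g x).coeff m = (push S φ ((1 : S.T) ⊗ₜ c)).coeff m - (push S ψ ((1 : S.T) ⊗ₜ c)).coeff m :=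
    fun m => by
      simp [g, x, map_sub]
  have hx : ∀ n : ℕ, x ∈ Ideal.map (algebraMap R A) 𝔪 ^ (n + 1) := by
    intro n
    rw [← Ideal.map_pow, ← Ideal.comap_map_eq_self_of_faithfullyFlat (B := A ⊗[R] S.T)
      (Ideal.map (algebraMap R A) (𝔪 ^ (n + 1))), Ideal.mem_comap, Ideal.map_map,
      ← IsScalarTower.algebraMap_eq]
    let e : MonoidAlgebra S.T S.M →+* A ⊗[R] S.T :=
      (Algebra.TensorProduct.comm R S.T A : S.T ⊗[R] A →ₐ[R] A ⊗[R] S.T).toRingHom.comp
        (S.equiv.symm : MonoidAlgebra S.T S.M →ₐ[S.T] S.T ⊗[R] A).toRingHom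
    have he : algebraMap A (A ⊗[R] S.T) x = e (g x) := by simp [e, g]
    rw [he, ← MonoidAlgebra.sum_coeff_single (g x)]
    rw [Finsupp.sum, map_sum]
    refine sum_mem fun m _ => ?_
    have hm : (g x).coeff m ∈ Ideal.map (algebraMap R S.T) (𝔪 ^ (n + 1)) := by
      rw [hgx, Ideal.map_pow]
      exact (values_le_pow (hc _ S) n).trans (Ideal.pow_right_mono hV _) (coeff_sub_mem _ _ _ m)
    have hle : Ideal.map (algebraMap R S.T) (𝔪 ^ (n + 1)) ≤
        (Ideal.map (algebraMap R (A ⊗[R] S.T)) (𝔪 ^ (n + 1))).comap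
          (e.comp (algebraMap S.T (MonoidAlgebra S.T S.M))) := by
      rw [Ideal.map_le_iff_le_comap]
      intro r hr
      rw [Ideal.mem_comap, Ideal.mem_comap, RingHom.comp_apply, ← hg]
      have : e (g (algebraMap R A r)) = algebraMap R (A ⊗[R] S.T) r := by
        simp [e, g, IsScalarTower.algebraMap_apply R A (A ⊗[R] S.T)]
        rw [Algebra.algebraMap_eq_smul_one, Algebra.algebraMap_eq_smul_one, TensorProduct.tmul_smul, TensorProduct.smul_tmul']
      rw [this]
      exact Ideal.mem_map_of_mem _ hr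
    have hs' : MonoidAlgebra.single m ((g x).coeff m) =
        algebraMap S.T _ ((g x).coeff m) * MonoidAlgebra.single m 1 := by
      simp [MonoidAlgebra.coe_algebraMap, MonoidAlgebra.single_mul_single]
    rw [hs', map_mul]
    exact Ideal.mul_mem_right _ _ (hle hm)
  -- Krull
  obtain ⟨⟨r, hr⟩, hrx⟩ := (Ideal.mem_iInf_smul_pow_eq_bot_iff (Ideal.map (algebraMap R A) 𝔪) x).mp (by
    rw [Submodule.mem_iInf]
    intro n
    rw [smul_eq_mul, Ideal.mul_top]
    cases n with
    | zero => simp
    | succ n => exact hx n)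
  have h0 : g x = 0 := by
    let X : Ideal S.T := Ideal.span (Set.range fun m => (g x).coeff m)
    have hXfg : X.FG := by
      classical
      refine ⟨(g x).coeff.support.image fun m => (g x).coeff m, le_antisymm ?_ ?_⟩
      · exact Ideal.span_mono (by intro t ht; simp at ht; obtain ⟨m, -, rfl⟩ := ht; exact ⟨m, rfl⟩)
      · rw [Ideal.span_le]
        rintro _ ⟨m, rfl⟩
        by_cases hm : m ∈ (g x).coeff.support
        · exact Ideal.subset_span (Finset.mem_image_of_mem _ hm)
        · simp [Finsupp.notMem_support_iff.mp hm]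
    have hX : X = ⊥ := by
      refine Submodule.eq_bot_of_le_smul_of_le_jacobson_bot (Ideal.map (algebraMap R S.T) 𝔪) X hXfg ?_ (hjac 𝔪 le_rfl)
      rw [Ideal.span_le, smul_eq_mul]
      rintro _ ⟨m, rfl⟩
      suffices hq : MonoidAlgebra.mapRingHom S.M (Ideal.Quotient.mk (Ideal.map (algebraMap R S.T) 𝔪 * X)) (g x) = 0 by
        rw [SetLike.mem_coe]
        rw [← Ideal.Quotient.eq_zero_iff_mem]
        simpa using congrArg (fun z => MonoidAlgebra.coeff z m) hq
      conv_lhs => rw [show x = r * x from hrx.symm, map_mul, map_mul]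
      suffices hr' : r ∈ ((⊥ : Ideal _).colon {MonoidAlgebra.mapRingHom S.M
          (Ideal.Quotient.mk (Ideal.map (algebraMap R S.T) 𝔪 * X)) (g x)}).comap
          ((MonoidAlgebra.mapRingHom S.M (Ideal.Quotient.mk (Ideal.map (algebraMap R S.T) 𝔪 * X))).comp g) by
        simpa [Ideal.mem_comap, Submodule.mem_colon_singleton] using hr'
      refine (Ideal.map_le_iff_le_comap.mpr ?_) hr
      intro i hi
      rw [Ideal.mem_comap, Ideal.mem_comap, Submodule.mem_colon_singleton, Ideal.mem_bot, RingHom.comp_apply, hg,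
        smul_eq_mul, ← map_mul]
      ext k
      simp only [MonoidAlgebra.coeff_mapRingHom, ← Algebra.smul_def,
        MonoidAlgebra.coeff_smul, Finsupp.smul_apply, smul_eq_mul, MonoidAlgebra.coeff_zero, Finsupp.zero_apply]
      rw [Ideal.Quotient.eq_zero_iff_mem]
      rw [Algebra.smul_def]
      exact Ideal.mul_mem_mul (Ideal.mem_map_of_mem _ hi) (show (g x).coeff k ∈ X from Ideal.subset_span ⟨k, rfl⟩)
    ext m
    have : (g x).coeff m ∈ X := Ideal.subset_span ⟨m, rfl⟩
    rw [hX, Ideal.mem_bot] at this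
    simpa using this
  apply Module.FaithfullyFlat.tensorProduct_mk_injective (A := R) (B := S.T) A
  refine S.equiv.injective ?_
  change g x = S.equiv ((1 : S.T) ⊗ₜ[R] (0 : A))
  rw [h0, TensorProduct.tmul_zero, map_zero]


end

end Groth.Agent.MultType.Rigid
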