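import Groth.Agent.MultType.Fibres
import Groth.Agent.MultType.TorusType

/-!
# Tori from their fibres

* `exists_field_torus`, `connectedSpace_of_torus`, `isTorus_of_fibres`.
-/

open Coalgebra TensorProduct

universe u

namespace Groth.Agent.MultType.Tori

noncomputable section

/-- a torus over a field is split over a field extension -/
theorem exists_field_torus {k : Type u} [Field k] {B : Type u} [CommRing B] [HopfAlgebra k B]
    (h : SGA3b.IsTorus k B) :
    ∃ (K : Type u) (_ : Field K) (_ : Algebra k K) (n : ℕ),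
      Nonempty (K ⊗[k] B ≃ₐc[K] MonoidAlgebra K (ULift.{u} (Multiplicative (Fin n → ℤ)))) := by
  obtain ⟨s, hs, hloc⟩ := h
  obtain ⟨f, hf, hf0⟩ : ∃ f ∈ s, f ≠ (0 : k) := by
    by_contra! hcon
    have h1 : Ideal.span s = ⊥ := Ideal.span_eq_bot.mpr hcon
    exact bot_ne_top (h1.symm.trans hs)
  obtain ⟨R', _, _, hR', n, ⟨g⟩⟩ := hloc f hf
  let L := Localization.Away f
  haveI : Nontrivial L := (IsLocalization.injective L (M := Submonoid.powers f)
    (powers_le_nonZeroDivisors_of_noZeroDivisors hf0)).nontrivial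
  haveI : Nontrivial R' := by
    haveI := Module.FaithfullyFlat.rTensor_nontrivial (R := L) R' L
    exact (TensorProduct.lid L R').symm.toEquiv.nontrivial
  letI : Algebra k R' := ((algebraMap L R').comp (algebraMap k L)).toAlgebra
  haveI : IsScalarTower k L R' := IsScalarTower.of_algebraMap_eq fun _ => rfl
  obtain ⟨p, hp⟩ := Ideal.exists_maximal R'
  haveI := hp
  let K := R' ⧸ p
  letI : Field K := Ideal.Quotient.field p
  let g' : R' ⊗[k] B ≃ₐc[R'] MonoidAlgebra R' (ULift.{u} (Multiplicative (Fin n → ℤ))) :=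
    ((Split.cancel (R := k) (S := L) (T := R') (A := B)).symm.trans g).trans
      (MonoidAlgebra.domCongrBialgEquiv R' R' MulEquiv.ulift.symm)
  exact ⟨K, inferInstance, inferInstance, n, ⟨GLLift.extend g' (Ideal.Quotient.mkₐ k p)⟩⟩

/-- a torus over a field is connected -/
theorem connectedSpace_of_torus {k : Type u} [Field k] {B : Type u} [CommRing B] [HopfAlgebra k B]
    (h : SGA3b.IsTorus k B) : ConnectedSpace (PrimeSpectrum B) := by
  obtain ⟨K, _, _, n, ⟨e⟩⟩ := exists_field_torus h
  let e' := e.trans (MonoidAlgebra.domCongrBialgEquiv K K MulEquiv.ulift)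
  haveI : IsDomain (MonoidAlgebra K (Multiplicative (Fin n → ℤ))) := inferInstance
  haveI : IsDomain (K ⊗[k] B) := e'.toAlgEquiv.toMulEquiv.isDomain
  haveI : IsDomain B := Function.Injective.isDomain
    (Algebra.TensorProduct.includeRight (R := k) (A := K) (B := B))
    (Algebra.TensorProduct.includeRight_injective (algebraMap k K).injective)
  infer_instance

/-- a trivial group over the zero ring -/
def subsingletonEquiv {R : Type u} [CommRing R] [Subsingleton R] (A A' : Type u) [CommRing A] [HopfAlgebra R A]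
    [CommRing A'] [HopfAlgebra R A'] : A ≃ₐc[R] A' :=
  haveI : Subsingleton A := Module.subsingleton R A
  haveI : Subsingleton A' := Module.subsingleton R A'
  haveI : Subsingleton (A' ⊗[R] A') := Module.subsingleton R _
  BialgEquiv.ofAlgEquiv
    { toFun := fun _ => 0
      invFun := fun _ => 0
      left_inv := fun _ => Subsingleton.elim _ _
      right_inv := fun _ => Subsingleton.elim _ _
      map_mul' := fun _ _ => Subsingleton.elim _ _
      map_add' := fun _ _ => Subsingleton.elim _ _
      commutes' := fun _ => Subsingleton.elim _ _ }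
    (AlgHom.ext fun _ => Subsingleton.elim _ _) (AlgHom.ext fun _ => Subsingleton.elim _ _)

/-- flat fp groups with tori as fibres are tori -/
theorem isTorus_of_fibres {R : Type u} [CommRing R] {A : Type u} [CommRing A] [HopfAlgebra R A]
    [Module.Flat R A] (hfp : Algebra.FinitePresentation R A)
    (hfib : ∀ (p : Ideal R) [p.IsPrime], SGA3b.IsTorus p.ResidueField (p.ResidueField ⊗[R] A)) :
    SGA3b.IsTorus R A := by
  have hm : ∀ (p : Ideal R) [p.IsPrime], SGA3b.IsMultType p.ResidueField (p.ResidueField ⊗[R] A) := fun p _ => by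
    obtain ⟨s, hs, hloc⟩ := hfib p
    refine ⟨s, hs, fun f hf => ?_⟩
    obtain ⟨R', _, _, hff, n, ⟨g⟩⟩ := hloc f hf
    exact ⟨R', inferInstance, inferInstance, hff, _, inferInstance,
      ⟨g.trans (MonoidAlgebra.domCongrBialgEquiv R' R' MulEquiv.ulift.symm)⟩⟩
  obtain ⟨s, hs, hloc⟩ := Fibres.isMultType_of_fibres_connected hfp hm
    (fun p _ => connectedSpace_of_torus (hfib p))
  refine ⟨s, hs, fun f hf => ?_⟩
  obtain ⟨R', _, _, hff, M, _, ⟨e⟩⟩ := hloc f hf
  rcases subsingleton_or_nontrivial R' with hR' | hR'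
  · exact ⟨R', inferInstance, inferInstance, hff, 0, ⟨subsingletonEquiv _ _⟩⟩
  let L := Localization.Away f
  letI : Algebra R R' := ((algebraMap L R').comp (algebraMap R L)).toAlgebra
  haveI : IsScalarTower R L R' := IsScalarTower.of_algebraMap_eq fun _ => rfl
  obtain ⟨m, hm'⟩ := Ideal.exists_maximal R'
  haveI := hm'
  let K₁ := R' ⧸ m
  letI : Field K₁ := Ideal.Quotient.field m
  obtain ⟨q, _, _, _⟩ := Fibres.exists_residueField_hom (R := R) K₁
  obtain ⟨K₂, _, _, n, ⟨g⟩⟩ := exists_field_torus (hfib q)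
  let κ := q.ResidueField
  letI : Algebra R K₂ := ((algebraMap κ K₂).comp (algebraMap R κ)).toAlgebra
  haveI : IsScalarTower R κ K₂ := IsScalarTower.of_algebraMap_eq fun _ => rfl
  obtain ⟨P, hP⟩ := Ideal.exists_maximal (K₁ ⊗[κ] K₂)
  haveI := hP
  let K := (K₁ ⊗[κ] K₂) ⧸ P
  letI : Field K := Ideal.Quotient.field P
  let g₁ : R' →ₐ[R] K := ((Ideal.Quotient.mkₐ R P).comp
    ((Algebra.TensorProduct.includeLeft (R := κ) (S := κ) (A := K₁) (B := K₂)).restrictScalars R)).comp
      (Ideal.Quotient.mkₐ R m)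
  let g₂ : K₂ →ₐ[R] K := (Ideal.Quotient.mkₐ R P).comp
    ((Algebra.TensorProduct.includeRight (R := κ) (A := K₁) (B := K₂)).restrictScalars R)
  obtain ⟨σ⟩ := TorusType.nonempty_mulEquiv (K := K)
    ((GLLift.extend ((Split.cancel (R := R) (S := L) (T := R') (A := A)).symm.trans e) g₁).symm.trans
      (GLLift.extend ((Split.cancel (R := R) (S := κ) (T := K₂) (A := A)).symm.trans g) g₂))
  exact ⟨R', inferInstance, inferInstance, hff, n,
    ⟨e.trans (MonoidAlgebra.domCongrBialgEquiv R' R' (σ.trans MulEquiv.ulift))⟩⟩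

end

end Groth.Agent.MultType.Tori
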