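import Groth.Agent.MultType.Fibres
import Groth.Agent.MultType.TorsionHopf
import Groth.Agent.MultType.QIGlobal
import Groth.Agent.MultType.OpenSub

/-!
# Multiplicative type from constant orders of torsion
-/

universe u

open TensorProduct

namespace Groth.Agent.MultType.TorsionOrder

/-- The order of the torsion of a group split over a field extension. -/
theorem finrank_torsion {k : Type u} [Field k] {A : Type u} [CommRing A] [HopfAlgebra k A] [Coalgebra.IsCocomm k A]
    {K : Type u} [Field K] [Algebra k K] {M : Type u} [CommGroup M] (e : K ⊗[k] A ≃ₐc[K] MonoidAlgebra K M)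
    (n : ℕ) :
    Module.finrank k (A ⧸ SGA3b.torsionIdeal k A n) = Nat.card (M ⧸ TorsionHopf.powSub M n) := by
  obtain ⟨ψ, -⟩ := TorsionHopf.exists_torsion_split e n
  rw [← Module.finrank_baseChange (R := K) (S := k) (M' := A ⧸ SGA3b.torsionIdeal k A n),
    ψ.toLinearEquiv.finrank_eq,
    Module.finrank_eq_nat_card_basis (MonoidAlgebra.basis (M ⧸ TorsionHopf.powSub M n) K)]

/-- At an algebraically closed point the order of the torsion is that of the residue field. -/
theorem exists_split_point {R C : Type u} [CommRing R] [CommRing C] [HopfAlgebra R C] [Algebra.FiniteType R C]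
    (hm : ∀ (p : Ideal R) [p.IsPrime], SGA3b.IsMultType p.ResidueField (p.ResidueField ⊗[R] C))
    (K : Type u) [Field K] [IsAlgClosed K] [Algebra R K] :
    ∃ (q : PrimeSpectrum R), q.asIdeal = RingHom.ker (algebraMap R K) ∧
      ∃ (M : Type u) (_ : CommGroup M), Nonempty (K ⊗[R] C ≃ₐc[K] MonoidAlgebra K M) ∧
        ∀ n, Module.finrank q.asIdeal.ResidueField
          ((q.asIdeal.ResidueField ⊗[R] C) ⧸ SGA3b.torsionIdeal q.asIdeal.ResidueField (q.asIdeal.ResidueField ⊗[R] C) n) =
          Nat.card (M ⧸ TorsionHopf.powSub M n) := by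
  obtain ⟨q, hq, _, _⟩ := Fibres.exists_residueField_hom (R := R) K
  obtain ⟨M, _, ⟨e⟩⟩ := QIGlobal.isDiag_of_isSepClosed (Fibres.fibre_field hm K) inferInstance
  have hker : q = RingHom.ker (algebraMap R K) := by
    rw [IsScalarTower.algebraMap_eq R q.ResidueField K,
      RingHom.ker_comp_of_injective _ (RingHom.injective _), Ideal.ker_algebraMap_residueField]
  haveI := Isotrivial.isCocomm_of_isMultType (hm q)
  exact ⟨⟨q, hq⟩, hker, M, inferInstance, ⟨e⟩, fun n =>
    finrank_torsion ((Split.cancel (R := R) (S := q.ResidueField) (T := K) (A := C)).trans e) n⟩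

/-- An algebra over a field as its own base change. -/
noncomputable def selfBC (k : Type u) [Field k] (A : Type u) [CommRing A] [HopfAlgebra k A] :
    k ⊗[k] A ≃ₐc[k] A :=
  BialgEquiv.ofAlgEquiv (Algebra.TensorProduct.lid k A)
    (Algebra.TensorProduct.ext (by ext) (by ext a; simp))
    (Algebra.TensorProduct.ext (by ext) (by
      ext a
      simp only [AlgHom.coe_comp, Function.comp_apply, AlgHom.coe_restrictScalars', AlgEquiv.coe_toAlgHom,
        Algebra.TensorProduct.includeRight_apply, Algebra.TensorProduct.lid_tmul, one_smul,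
        Bialgebra.comulAlgHom_apply, TensorProduct.comul_tmul]
      rw [← (Coalgebra.Repr.arbitrary k a).eq]
      simp [TensorProduct.tmul_sum]))

/-- Torsion of a subgroup of a diagonalisable group over a field. -/
theorem torsion_compare {L : Type u} [Field L] {A B : Type u} [CommRing A] [HopfAlgebra L A]
    [Algebra.FiniteType L A] [CommRing B] [HopfAlgebra L B] (Φ : A →ₐc[L] B) (hΦ : Function.Surjective Φ) (e : A)
    (hker : RingHom.ker (Φ : A →ₐ[L] B) = Ideal.span {e})
    {N M : Type u} [CommGroup N] [CommGroup M] (eA : A ≃ₐc[L] MonoidAlgebra L N) (eB : B ≃ₐc[L] MonoidAlgebra L M) :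
    (∀ n, 0 < n → Nat.card (N ⧸ TorsionHopf.powSub N n) = Nat.card (M ⧸ TorsionHopf.powSub M n) →
      e ∈ SGA3b.torsionIdeal L A n) ∧
    (e = 0 → ∀ n, Nat.card (N ⧸ TorsionHopf.powSub N n) = Nat.card (M ⧸ TorsionHopf.powSub M n)) := by
  have hA : SGA3b.IsMultType L A := Diag.isMultType_of_diag L ⟨N, inferInstance, ⟨(selfBC L A).trans eA⟩⟩
  have hB : SGA3b.IsMultType L B := Diag.isMultType_of_diag L ⟨M, inferInstance, ⟨(selfBC L B).trans eB⟩⟩
  haveI := Isotrivial.isCocomm_of_isMultType hA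
  haveI := Isotrivial.isCocomm_of_isMultType hB
  have hpow : ∀ n x, SGA3b.powConv L B n (Φ x) = Φ (SGA3b.powConv L A n x) := fun n x => by
    have h2 := OpenSub.pow_comp (WithConv.toConv (AlgHom.id L B)) Φ n
    have h3 := OpenSub.apply_powConv (WithConv.toConv ((AlgHom.id L B).comp (Φ : A →ₐ[L] B))) x n
    rw [h2] at h3
    exact h3.symm
  have hmap : ∀ n, SGA3b.torsionIdeal L B n = (SGA3b.torsionIdeal L A n).map (Φ : A →ₐ[L] B) := fun n => by
    refine le_antisymm (Ideal.map_le_iff_le_comap.mpr fun y hy => ?_)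
      (Ideal.map_le_iff_le_comap.mpr (Ideal.map_le_iff_le_comap.mpr fun x hx => ?_))
    · obtain ⟨x, rfl⟩ := hΦ y
      refine Ideal.mem_comap.mpr ?_
      rw [hpow]
      refine Ideal.mem_map_of_mem _ (Ideal.mem_map_of_mem _ ?_)
      rw [RingHom.mem_ker] at hy ⊢
      rw [← hy]
      exact (CoalgHomClass.counit_comp_apply Φ x).symm
    · show Φ (SGA3b.powConv L A n x) ∈ SGA3b.torsionIdeal L B n
      rw [← hpow]
      refine Ideal.mem_map_of_mem _ ?_
      rw [RingHom.mem_ker] at hx ⊢
      rw [← hx]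
      exact CoalgHomClass.counit_comp_apply Φ x
  constructor
  · intro n hn hcard
    haveI := TorsionMult.finite_torsion (R := L) hA hn
    let I := SGA3b.torsionIdeal L A n
    let J := SGA3b.torsionIdeal L B n
    let g : A ⧸ I →ₐ[L] B ⧸ J := Ideal.quotientMapₐ J (Φ : A →ₐ[L] B) (Ideal.map_le_iff_le_comap.mp (hmap n).ge)
    have hg : Function.Surjective g := fun y => by
      obtain ⟨b, rfl⟩ := Ideal.Quotient.mk_surjective y
      obtain ⟨a, rfl⟩ := hΦ b
      exact ⟨Ideal.Quotient.mk I a, rfl⟩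
    haveI : FiniteDimensional L (B ⧸ J) := Module.Finite.of_surjective g.toLinearMap hg
    have hdim : Module.finrank L (A ⧸ I) = Module.finrank L (B ⧸ J) := by
      rw [finrank_torsion ((selfBC L A).trans eA) n, finrank_torsion ((selfBC L B).trans eB) n, hcard]
    have hinj : Function.Injective g :=
      (LinearMap.injective_iff_surjective_of_finrank_eq_finrank (f := g.toLinearMap) hdim).mpr hg
    rw [← Ideal.Quotient.eq_zero_iff_mem]
    refine hinj ?_
    rw [map_zero]
    show Ideal.Quotient.mk J (Φ e) = 0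
    rw [show Φ e = 0 from hker.ge (Ideal.subset_span rfl), map_zero]
  · intro h0 n
    have hinjΦ : Function.Injective Φ := (injective_iff_map_eq_zero Φ).mpr fun z hz => by
      have : z ∈ RingHom.ker (Φ : A →ₐ[L] B) := hz
      rwa [hker, h0, Ideal.span_singleton_eq_bot.mpr rfl, Ideal.mem_bot] at this
    rw [← finrank_torsion ((selfBC L A).trans eA) n, ← finrank_torsion ((selfBC L B).trans eB) n]
    exact (Ideal.quotientEquivAlg _ _ (BialgEquiv.ofBijective Φ ⟨hinjΦ, hΦ⟩).toAlgEquiv (hmap n)).toLinearEquiv.finrank_eq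

/-- An isotrivial clopen subgroup containing the closed fibre and with the same torsion orders is everything. -/
theorem eq_zero_of_orders {U : Type u} [CommRing U] [IsLocalRing U] {Z D : Type u} [CommRing Z] [HopfAlgebra U Z]
    [Algebra.FiniteType U Z] [CommRing D] [HopfAlgebra U D] (φ : Z →ₐc[U] D) (hφ : Function.Surjective φ) {f : Z}
    (hf : IsIdempotentElem f) (hker : RingHom.ker (φ : Z →ₐ[U] D) = Ideal.span {f})
    (hfm : f ∈ (IsLocalRing.maximalIdeal U).map (algebraMap U Z)) (hD : SGA3b.IsIsotrivial U D)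
    (c : ℕ → ℕ)
    (hsplit : ∀ (K : Type u) [Field K] [IsAlgClosed K] [Algebra U K], ∃ (N : Type u) (_ : CommGroup N),
      Nonempty (K ⊗[U] Z ≃ₐc[K] MonoidAlgebra K N) ∧
        ∀ n, 0 < n → Nat.card (N ⧸ TorsionHopf.powSub N n) = c n) : f = 0 := by
  have hD' := hD
  obtain ⟨T, _, _, _, hTfin, hTff, M, _, ⟨eT⟩⟩ := hD'
  haveI : Module.Finite U T := hTfin
  haveI : Module.FaithfullyFlat U T := hTff
  have key : ∀ (K : Type u) [Field K] [IsAlgClosed K] [Algebra U K], ∃ (N : Type u) (_ : CommGroup N),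
      (∀ n, 0 < n → Nat.card (N ⧸ TorsionHopf.powSub N n) = c n) ∧
      (∀ n, 0 < n → Nat.card (N ⧸ TorsionHopf.powSub N n) = Nat.card (M ⧸ TorsionHopf.powSub M n) →
        (1 : K) ⊗ₜ[U] f ∈ SGA3b.torsionIdeal K (K ⊗[U] Z) n) ∧
      ((1 : K) ⊗ₜ[U] f = 0 → ∀ n, Nat.card (N ⧸ TorsionHopf.powSub N n) = Nat.card (M ⧸ TorsionHopf.powSub M n)) ∧
      ((∀ n, 0 < n → (1 : K) ⊗ₜ[U] f ∈ SGA3b.torsionIdeal K (K ⊗[U] Z) n) → (1 : K) ⊗ₜ[U] f = 0) := by
    intro K _ _ _
    obtain ⟨N, _, ⟨eN⟩, hN⟩ := hsplit K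
    haveI : Nontrivial (K ⊗[U] T) := Module.FaithfullyFlat.rTensor_nontrivial (R := U) T K
    obtain ⟨m, hm'⟩ := Ideal.exists_maximal (K ⊗[U] T)
    haveI := hm'
    letI : Field ((K ⊗[U] T) ⧸ m) := Ideal.Quotient.field m
    let ι₀ : K ≃ₐ[K] (K ⊗[U] T) ⧸ m := AlgEquiv.ofBijective (Algebra.ofId K _)
      (IsAlgClosed.algebraMap_bijective_of_isIntegral (k := K) (K := (K ⊗[U] T) ⧸ m))
    let gT : T →ₐ[U] K := ((ι₀.symm : _ →ₐ[K] K).restrictScalars U).comp
      ((Ideal.Quotient.mkₐ U m).comp Algebra.TensorProduct.includeRight)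
    let Φ := Bialgebra.TensorProduct.map (BialgHom.id K K) φ
    have hΦ : Function.Surjective Φ := by
      intro z
      induction z using TensorProduct.induction_on with
      | zero => exact ⟨0, map_zero _⟩
      | add a b ha hb =>
        obtain ⟨x, rfl⟩ := ha
        obtain ⟨y, rfl⟩ := hb
        exact ⟨x + y, map_add _ _ _⟩
      | tmul t d =>
        obtain ⟨y, rfl⟩ := hφ d
        exact ⟨t ⊗ₜ y, rfl⟩
    have hkerΦ := LocalMult.ker_map_mkBialgHom (U := K) φ hφ hker
    haveI := Isotrivial.isCocomm_of_isMultType (R := K) (B := K ⊗[U] Z)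
      (Diag.isMultType_of_diag K ⟨N, inferInstance, ⟨(selfBC K _).trans eN⟩⟩)
    obtain ⟨h1, h2⟩ := torsion_compare Φ hΦ ((1 : K) ⊗ₜ[U] f) hkerΦ eN (GLLift.extend eT gT)
    exact ⟨N, inferInstance, hN, h1, h2, fun h => TorsionFinite.eq_zero_of_points Φ hΦ
      (hf.map (Algebra.TensorProduct.includeRight : Z →ₐ[U] K ⊗[U] Z)) hkerΦ (LocalMult.isIsotrivial_bc K hD) h⟩
  let κ₀ := IsLocalRing.ResidueField U
  let K₀ := AlgebraicClosure κ₀
  obtain ⟨N₀, _, hc₀, -, h₀, -⟩ := key K₀
  have hz₀ : (1 : K₀) ⊗ₜ[U] f = 0 := by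
    have hmap : f ∈ RingHom.ker (Algebra.TensorProduct.includeRight : Z →ₐ[U] K₀ ⊗[U] Z) := by
      refine Ideal.map_le_iff_le_comap.mpr (fun x hx => ?_) hfm
      show Algebra.TensorProduct.includeRight (algebraMap U _ x) = (0 : K₀ ⊗[U] Z)
      rw [AlgHom.commutes, IsScalarTower.algebraMap_apply U K₀, IsScalarTower.algebraMap_apply U κ₀ K₀,
        show algebraMap U κ₀ x = 0 from Ideal.Quotient.eq_zero_iff_mem.mpr hx, map_zero, map_zero]
    exact hmap
  refine hf.eq_zero_of_isNilpotent ?_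
  rw [nilpotent_iff_mem_prime]
  intro P hP
  let K := AlgebraicClosure P.ResidueField
  obtain ⟨N, _, hcN, htors, -, hzero⟩ := key K
  have hz : (1 : K) ⊗ₜ[U] f = 0 := hzero fun n hn => htors n hn (by rw [hcN n hn, ← hc₀ n hn, h₀ hz₀ n])
  let ev : K ⊗[U] Z →ₐ[U] K := Algebra.TensorProduct.lift (AlgHom.id U K)
    (IsScalarTower.toAlgHom U Z K) fun _ _ => Commute.all _ _
  have h1 := congrArg ev hz
  rw [map_zero] at h1
  have h2 : algebraMap Z K f = 0 := by simpa [ev] using h1
  rw [IsScalarTower.algebraMap_apply Z P.ResidueField K, map_eq_zero_iff _ (RingHom.injective _)] at h2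
  exact Ideal.algebraMap_residueField_eq_zero.mp h2

/-- Flat finitely presented with fibres of multiplicative type and torsion of constant order along
specialisations: multiplicative type. -/
theorem isMultType_of_orders {R : Type u} [CommRing R] {C : Type u} [CommRing C] [HopfAlgebra R C]
    [Module.Flat R C] (hfp : Algebra.FinitePresentation R C)
    (hm : ∀ (p : Ideal R) [p.IsPrime], SGA3b.IsMultType p.ResidueField (p.ResidueField ⊗[R] C))
    (hord : ∀ (p q : PrimeSpectrum R), p ≤ q → ∀ n : ℕ, 0 < n →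
      Module.finrank p.asIdeal.ResidueField
          ((p.asIdeal.ResidueField ⊗[R] C) ⧸ SGA3b.torsionIdeal p.asIdeal.ResidueField (p.asIdeal.ResidueField ⊗[R] C) n) =
        Module.finrank q.asIdeal.ResidueField
          ((q.asIdeal.ResidueField ⊗[R] C) ⧸ SGA3b.torsionIdeal q.asIdeal.ResidueField (q.asIdeal.ResidueField ⊗[R] C) n)) :
    SGA3b.IsMultType R C := by
  haveI := hfp
  refine Fibres.isMultType_of_local hfp fun p hp => ?_
  let W := Localization.AtPrime p
  obtain ⟨U, _, _, _, D, _, _, φ, f, hff, hφ, hf, hker, hfm, hD⟩ :=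
    LocalMult.exists_clopen_split W (W ⊗[R] C) inferInstance (Fibres.flatOn_bc W _)
      (Fibres.isMultType_congr (Split.cancel (R := R) (S := W) (T := IsLocalRing.ResidueField W) (A := C)).symm
        (Fibres.fibre_field hm _))
  refine LocalMult.isMultType_of_eq_zero φ hφ hker hD ?_
  letI : Algebra R U := ((algebraMap W U).comp (algebraMap R W)).toAlgebra
  haveI : IsScalarTower R W U := IsScalarTower.of_algebraMap_eq' rfl
  haveI : Algebra.FiniteType W (W ⊗[R] C) := inferInstance
  haveI : Algebra.FiniteType U (U ⊗[W] (W ⊗[R] C)) := inferInstance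
  let κ₀ := IsLocalRing.ResidueField U
  let q₀ : PrimeSpectrum R := ⟨(IsLocalRing.maximalIdeal U).comap (algebraMap R U), Ideal.IsPrime.comap _⟩
  refine eq_zero_of_orders φ hφ hf hker hfm hD (fun n => Module.finrank q₀.asIdeal.ResidueField
    ((q₀.asIdeal.ResidueField ⊗[R] C) ⧸ SGA3b.torsionIdeal q₀.asIdeal.ResidueField (q₀.asIdeal.ResidueField ⊗[R] C) n))
    fun K _ _ _ => ?_
  letI : Algebra R K := ((algebraMap U K).comp (algebraMap R U)).toAlgebra
  haveI : IsScalarTower R U K := IsScalarTower.of_algebraMap_eq' rfl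
  obtain ⟨q, hq, N, _, ⟨eN⟩, hN⟩ := exists_split_point hm K
  have hle : q ≤ q₀ := by
    show q.asIdeal ≤ q₀.asIdeal
    rw [hq, IsScalarTower.algebraMap_eq R U K, ← RingHom.comap_ker]
    exact Ideal.comap_mono (IsLocalRing.le_maximalIdeal (RingHom.ker_ne_top _))
  exact ⟨N, inferInstance,
    ⟨(LocalMult.congrBC K (Split.cancel (R := R) (S := W) (T := U) (A := C))).trans
      ((Split.cancel (R := R) (S := U) (T := K) (A := C)).trans eN)⟩,
    fun n hn => (hN n).symm.trans (hord q q₀ hle n hn)⟩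

end Groth.Agent.MultType.TorsionOrder
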